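import Mathlib
import Cfsg.Prelude.Def_GeometricClasses

/-! Transvections over a field subalgebra of a matrix algebra, and intermediate subfields. -/

set_option autoImplicit false

namespace CfsgLib.Geo.FieldTransvection

open Cfsg Cfsg.Geo

variable {F : Type*} [Field F]

/-- A field subalgebra, as a field. -/
theorem isField_of_isFieldSubalgebra {ι : Type} [Fintype ι] [DecidableEq ι] [Nonempty ι] {r : ℕ}
    {K : Subalgebra F (Matrix ι ι F)} (hK : IsFieldSubalgebra r K) : IsField K where
  exists_pair_ne := ⟨0, 1, fun h => by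
    have := congrArg (fun x : K => (x : Matrix ι ι F)) h
    exact zero_ne_one (α := Matrix ι ι F) (by simpa using this)⟩
  mul_comm x y := Subtype.ext (hK.comm _ x.2 _ y.2)
  mul_inv_cancel {x} hx := by
    obtain ⟨y, hy, h⟩ := hK.inv _ x.2 (fun h => hx (Subtype.ext h))
    exact ⟨⟨y, hy⟩, Subtype.ext h⟩

/-- The field structure of a field subalgebra (reducible, so that it agrees with the subalgebra's ring structure). -/
noncomputable abbrev fieldOf {ι : Type} [Fintype ι] [DecidableEq ι] [Nonempty ι] {r : ℕ}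
    {K : Subalgebra F (Matrix ι ι F)} (hK : IsFieldSubalgebra r K) : Field K :=
  letI : CommRing K := { (inferInstance : Ring K) with mul_comm := (isField_of_isFieldSubalgebra hK).mul_comm }
  haveI : Nontrivial K := ⟨(isField_of_isFieldSubalgebra hK).exists_pair_ne⟩
  Field.ofIsUnitOrEqZero fun a => by
    by_cases h : a = 0
    · exact Or.inr h
    · obtain ⟨b, hb⟩ := (isField_of_isFieldSubalgebra hK).mul_inv_cancel h
      exact Or.inl (IsUnit.of_mul_eq_one b hb)

theorem bot_isFieldSubalgebra {ι : Type} [Fintype ι] [DecidableEq ι] [Nonempty ι] :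
    IsFieldSubalgebra 1 (⊥ : Subalgebra F (Matrix ι ι F)) where
  comm x hx y _ := by
    obtain ⟨a, rfl⟩ := Algebra.mem_bot.1 hx
    exact Algebra.commutes a y
  inv x hx h0 := by
    obtain ⟨a, rfl⟩ := Algebra.mem_bot.1 hx
    have ha : a ≠ 0 := fun h => h0 (by rw [h, map_zero])
    exact ⟨algebraMap F _ a⁻¹, Algebra.mem_bot.2 ⟨_, rfl⟩, by rw [← map_mul, mul_inv_cancel₀ ha, map_one]⟩
  finrank_eq := Subalgebra.finrank_bot

/-- An element of determinant one centralising the field subalgebra `S` and not normalising `K`, when `K` is a field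
subalgebra with an element outside `S` and `2 dim S < n`. -/
theorem exists_not_normalizing [Fintype F] {n s r : ℕ} (hn : 0 < n) {S K : Subalgebra F (Matrix (Fin n) (Fin n) F)}
    (hS : IsFieldSubalgebra s S) (hK : IsFieldSubalgebra r K) (hSK : S ≤ K) (h2 : 2 * s < n)
    {k : Matrix (Fin n) (Fin n) F} (hkK : k ∈ K) (hkS : k ∉ S) :
    ∃ t : Matrix.GeneralLinearGroup (Fin n) F, t ∈ subalgebraNormalizer S ⊓ specialLinear (Fin n) F ∧
      t ∉ subalgebraNormalizer K := by
  classical
  have hne : Nonempty (Fin n) := ⟨⟨0, hn⟩⟩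
  letI : Field S := fieldOf hS
  have hsmul : ∀ (a : S) (w : Fin n → F), a • w = (a : Matrix (Fin n) (Fin n) F).mulVec w := fun a w => rfl
  obtain ⟨v, hv⟩ := exists_ne (0 : Fin n → F)
  have hnot : k.mulVec v ∉ Submodule.span S ({v} : Set (Fin n → F)) := by
    intro h
    obtain ⟨a, ha⟩ := Submodule.mem_span_singleton.1 h
    refine hkS ?_
    by_cases h0 : k - (a : Matrix (Fin n) (Fin n) F) = 0
    · rw [sub_eq_zero.1 h0]; exact a.2
    · exfalso
      obtain ⟨y, hy, hky⟩ := hK.inv _ (K.sub_mem hkK (hSK a.2)) h0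
      rw [hK.comm _ (K.sub_mem hkK (hSK a.2)) _ hy] at hky
      apply hv
      rw [← Matrix.one_mulVec v, ← hky, ← Matrix.mulVec_mulVec, Matrix.sub_mulVec]
      rw [hsmul] at ha
      rw [ha, sub_self, Matrix.mulVec_zero]
  obtain ⟨φ, hφ1, hφ0⟩ := Submodule.exists_dual_map_eq_bot_of_notMem hnot inferInstance
  have hφv : φ v = 0 := by
    have : φ v ∈ Submodule.map φ (Submodule.span S ({v} : Set (Fin n → F))) :=
      Submodule.mem_map_of_mem (Submodule.mem_span_singleton_self v)
    rw [hφ0] at this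
    exact this
  let x : (Fin n → F) →ₗ[S] (Fin n → F) := ((φ (k.mulVec v))⁻¹ • φ).smulRight v
  have hxv : x v = 0 := by simp [x, hφv]
  have hxkv : x (k.mulVec v) = v := by simp [x, inv_mul_cancel₀ hφ1]
  have hxx : ∀ w, x (x w) = 0 := by
    intro w
    have : x w = ((φ (k.mulVec v))⁻¹ • φ) w • v := rfl
    rw [this, map_smul, hxv, smul_zero]
  let xF : (Fin n → F) →ₗ[F] (Fin n → F) :=
    { toFun := x
      map_add' := x.map_add
      map_smul' := fun c w => by
        simp only [RingHom.id_apply]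
        rw [← algebraMap_smul S c w, map_smul, algebraMap_smul] }
  set X : Matrix (Fin n) (Fin n) F := LinearMap.toMatrix' xF with hX
  have hXv : ∀ w, X.mulVec w = x w := fun w => LinearMap.toMatrix'_mulVec xF w
  have hXX : X * X = 0 := by
    refine Matrix.ext_of_mulVec_single fun i => ?_
    rw [← Matrix.mulVec_mulVec, hXv, hXv, hxx, Matrix.zero_mulVec]
  have hXc : ∀ a ∈ S, X * a = a * X := by
    intro a ha
    refine Matrix.ext_of_mulVec_single fun i => ?_
    rw [← Matrix.mulVec_mulVec, ← Matrix.mulVec_mulVec, hXv, hXv]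
    exact x.map_smul ⟨a, ha⟩ _
  let t : Matrix.GeneralLinearGroup (Fin n) F :=
    ⟨1 + X, 1 - X, by rw [add_mul, one_mul, mul_sub, mul_one, hXX]; abel,
      by rw [mul_add, mul_one, sub_mul, one_mul, hXX]; abel⟩
  have htc : ∀ a ∈ S, (t : Matrix (Fin n) (Fin n) F) * a * ((t⁻¹ : Matrix.GeneralLinearGroup (Fin n) F) : Matrix _ _ F) = a := by
    intro a ha
    show (1 + X) * a * (1 - X) = a
    rw [show (1 + X) * a = a * (1 + X) by rw [add_mul, mul_add, one_mul, mul_one, hXc a ha], mul_assoc,
      show (1 + X) * (1 - X) = 1 by rw [add_mul, one_mul, mul_sub, mul_one, hXX]; abel, mul_one]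
  refine ⟨t, ⟨fun a => ⟨fun ha => by rw [htc a ha]; exact ha, fun ha => ?_⟩, ?_⟩, fun htN => ?_⟩
  · set b := (t : Matrix (Fin n) (Fin n) F) * a * ((t⁻¹ : Matrix.GeneralLinearGroup (Fin n) F) : Matrix _ _ F) with hb
    have h1 := htc b ha
    have h2 : b = a := by
      have e : (t : Matrix (Fin n) (Fin n) F) * b * ((t⁻¹ : Matrix.GeneralLinearGroup (Fin n) F) : Matrix _ _ F) =
          (t : Matrix (Fin n) (Fin n) F) * a * ((t⁻¹ : Matrix.GeneralLinearGroup (Fin n) F) : Matrix _ _ F) := h1.trans hb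
      exact t.isUnit.mul_left_cancel (t⁻¹.isUnit.mul_right_cancel e)
    rwa [h2] at ha
  · -- determinant one: unipotent in characteristic p
    obtain ⟨p, hp⟩ := CharP.exists F
    haveI hpp : Fact p.Prime := ⟨CharP.char_is_prime F p⟩
    show Matrix.GeneralLinearGroup.det t = 1
    ext
    show (1 + X).det = 1
    have h1 : (1 + X) ^ p = 1 := by
      have hcomm : Commute (1 : Matrix (Fin n) (Fin n) F) X := Commute.one_left X
      rw [add_pow_char_of_commute hcomm (p := p), one_pow]
      have : X ^ p = 0 := pow_eq_zero_of_le hpp.1.two_le (by rw [pow_two, hXX])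
      rw [this, add_zero]
    have h2 : (1 + X).det ^ p = 1 ^ p := by rw [← Matrix.det_pow, h1, Matrix.det_one, one_pow]
    exact frobenius_inj F p h2
  · have hD := K.sub_mem ((htN k).1 hkK) hkK
    set D := (t : Matrix (Fin n) (Fin n) F) * k * ((t⁻¹ : Matrix.GeneralLinearGroup (Fin n) F) : Matrix _ _ F) - k
    have hDeq : D = X * (k - k * X) - k * X := by
      show (1 + X) * k * (1 - X) - k = _
      rw [add_mul, one_mul, mul_sub, mul_one, mul_sub, add_mul, mul_assoc X k X]
      abel
    have hkX : (k * X).mulVec v = 0 := by rw [← Matrix.mulVec_mulVec, hXv, hxv, Matrix.mulVec_zero]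
    have hDv : D.mulVec v = v := by
      rw [hDeq, Matrix.sub_mulVec, ← Matrix.mulVec_mulVec, Matrix.sub_mulVec, hkX, sub_zero, sub_zero,
        hXv, hxkv]
    have hD0 : D ≠ 0 := fun h => hv (by rw [← hDv, h, Matrix.zero_mulVec])
    obtain ⟨y, -, hy⟩ := hK.inv _ hD hD0
    -- range bound
    set W : Submodule F (Fin n → F) := (LinearMap.toSpanSingleton S (Fin n → F) v).restrictScalars F |>.range with hW
    have hWdim : Module.finrank F W ≤ s := by
      rw [hW]
      exact (LinearMap.finrank_range_le _).trans (le_of_eq hS.finrank_eq)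
    have hxW : ∀ w, X.mulVec w ∈ W := by
      intro w
      rw [hXv]
      exact ⟨((φ (k.mulVec v))⁻¹ • φ) w, rfl⟩
    have hle : (⊤ : Submodule F (Fin n → F)) ≤ W ⊔ W.map (Matrix.toLin' k) := by
      intro w _
      rw [← Matrix.one_mulVec w, ← hy, ← Matrix.mulVec_mulVec, hDeq, Matrix.sub_mulVec, ← Matrix.mulVec_mulVec,
        sub_eq_add_neg]
      refine Submodule.add_mem_sup (hxW _) (Submodule.neg_mem _ ?_)
      refine Submodule.mem_map.2 ⟨X.mulVec (y.mulVec w), hxW _, ?_⟩
      rw [Matrix.toLin'_apply, Matrix.mulVec_mulVec]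
    have h3 := Submodule.finrank_mono hle
    rw [finrank_top, Module.finrank_fin_fun] at h3
    have h4 := h3.trans (Submodule.finrank_add_le_finrank_add_finrank _ _)
    have h5 := Submodule.finrank_map_le (Matrix.toLin' k) W
    omega

/-- An intermediate field invariant under the normaliser. -/
theorem exists_invariant_intermediate [Fintype F] {n r : ℕ} (hn : 0 < n) (hr1 : 1 < r) (hrp : ¬ r.Prime)
    {K : Subalgebra F (Matrix (Fin n) (Fin n) F)} (hK : IsFieldSubalgebra r K) :
    ∃ (s : ℕ) (S : Subalgebra F (Matrix (Fin n) (Fin n) F)), 1 < s ∧ s < r ∧ 2 * s ≤ r ∧ S ≤ K ∧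
      IsFieldSubalgebra s S ∧ subalgebraNormalizer K ≤ subalgebraNormalizer S := by
  classical
  have hne : Nonempty (Fin n) := ⟨⟨0, hn⟩⟩
  letI : Field K := fieldOf hK
  haveI : FiniteDimensional F K := Module.finite_of_finrank_pos (by rw [hK.finrank_eq]; omega)
  haveI : Finite K := Module.finite_of_finite F
  haveI : IsGalois F K := GaloisField.instIsGaloisOfFinite
  have hG : Nat.card (K ≃ₐ[F] K) = r := by rw [IsGalois.card_aut_eq_finrank, hK.finrank_eq]
  obtain ⟨q, hqr, hq2, hqr'⟩ := Nat.exists_dvd_of_not_prime2 hr1 hrp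
  haveI : Fact (Nat.minFac r).Prime := ⟨Nat.minFac_prime (by omega)⟩
  obtain ⟨σ, hσ⟩ := exists_prime_orderOf_dvd_card' (G := K ≃ₐ[F] K) (Nat.minFac r)
    (by rw [hG]; exact Nat.minFac_dvd r)
  set E : IntermediateField F K := IntermediateField.fixedField (Subgroup.zpowers σ) with hE
  have hEK : Module.finrank E K = Nat.minFac r := by
    rw [hE, IntermediateField.finrank_fixedField_eq_card, Nat.card_zpowers, hσ]
  have hmul := Module.finrank_mul_finrank F E K
  rw [hEK, hK.finrank_eq] at hmul
  have hmf : Nat.minFac r < r := (Nat.not_prime_iff_minFac_lt hr1).1 hrp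
  have hmf2 := (Nat.minFac_prime (show r ≠ 1 by omega)).two_le
  set S : Subalgebra F (Matrix (Fin n) (Fin n) F) := E.toSubalgebra.map K.val with hSdef
  have hmemS : ∀ {a}, a ∈ S ↔ ∃ e : K, e ∈ E ∧ (e : Matrix (Fin n) (Fin n) F) = a := by
    intro a; simp [hSdef, Subalgebra.mem_map]
  have hfix : ∀ e : K, e ∈ E ↔ σ e = e := by
    intro e
    rw [hE, IntermediateField.mem_fixedField_iff]
    refine ⟨fun h => h σ (Subgroup.mem_zpowers σ), fun h f hf => ?_⟩
    obtain ⟨i, rfl⟩ := Subgroup.mem_zpowers_iff.1 hf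
    have : σ ∈ MulAction.stabilizer (K ≃ₐ[F] K) e := h
    exact Subgroup.zpow_mem _ this i
  have hSfin : Module.finrank F S = Module.finrank F E := by
    refine ((E.toSubalgebra.equivMapOfInjective K.val ?_).toLinearEquiv.finrank_eq).symm
    exact Subtype.val_injective
  refine ⟨Module.finrank F E, S, ?_, ?_, ?_, ?_, ⟨?_, ?_, hSfin⟩, ?_⟩
  · nlinarith
  · nlinarith
  · nlinarith
  · rintro a ha
    obtain ⟨e, -, rfl⟩ := hmemS.1 ha
    exact e.2
  · intro a ha b hb
    obtain ⟨e, -, rfl⟩ := hmemS.1 ha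
    obtain ⟨f, -, rfl⟩ := hmemS.1 hb
    exact hK.comm _ e.2 _ f.2
  · intro a ha h0
    obtain ⟨e, he, rfl⟩ := hmemS.1 ha
    obtain ⟨y, hy, hey⟩ := hK.inv _ e.2 h0
    refine ⟨y, hmemS.2 ⟨⟨y, hy⟩, ?_, rfl⟩, hey⟩
    have h1 : e * ⟨y, hy⟩ = 1 := Subtype.ext hey
    rw [eq_inv_of_mul_eq_one_right h1]
    exact E.inv_mem he
  · intro g hg
    have key : ∀ g ∈ subalgebraNormalizer K, ∀ a ∈ S,
        (g : Matrix (Fin n) (Fin n) F) * a * ((g⁻¹ : Matrix.GeneralLinearGroup (Fin n) F) : Matrix _ _ F) ∈ S := by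
      intro g hg a ha
      obtain ⟨e, he, rfl⟩ := hmemS.1 ha
      let c : K → K := fun z => ⟨_, (hg z).1 z.2⟩
      let cA : K →ₐ[F] K :=
        { toFun := c
          map_one' := Subtype.ext (by simp [c])
          map_mul' := fun u w => Subtype.ext (by
            show _ = (_ : Matrix (Fin n) (Fin n) F) * _
            simp [c, mul_assoc])
          map_zero' := Subtype.ext (by simp [c])
          map_add' := fun u w => Subtype.ext (by simp [c, mul_add, add_mul])
          commutes' := fun z => Subtype.ext (by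
            show (g : Matrix (Fin n) (Fin n) F) * algebraMap F _ z *
              ((g⁻¹ : Matrix.GeneralLinearGroup (Fin n) F) : Matrix _ _ F) = algebraMap F _ z
            rw [← Algebra.commutes, mul_assoc, Units.mul_inv, mul_one]) }
      have hbij : Function.Bijective cA := by
        have hinj : Function.Injective cA := RingHom.injective (cA : K →+* K)
        exact ⟨hinj, Finite.injective_iff_surjective.1 hinj⟩
      let τ : K ≃ₐ[F] K := AlgEquiv.ofBijective cA hbij
      haveI : IsCyclic (K ≃ₐ[F] K) := inferInstance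
      have hcomm : σ * τ = τ * σ := IsCyclic.commGroup.mul_comm σ τ
      refine hmemS.2 ⟨τ e, (hfix _).2 ?_, rfl⟩
      have := congrArg (fun f : K ≃ₐ[F] K => f e) hcomm
      simp only [AlgEquiv.mul_apply] at this
      rw [this, (hfix e).1 he]
    intro a
    refine ⟨key g hg a, fun ha => ?_⟩
    have := key g⁻¹ (inv_mem hg) _ ha
    simpa [mul_assoc, ← Units.val_mul] using this

end CfsgLib.Geo.FieldTransvection
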