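import Mathlib
import Cfsg.Prelude.Def_GeometricClasses
import Cfsg.Agent.Lib.Geo.FieldTransvection

/-!
The algebra generated by a normal subgroup of an irreducible matrix group over a finite field:
it is a full matrix algebra tensor scalars, unless the group is imprimitive or normalises an extension field.
-/

set_option autoImplicit false

namespace CfsgLib.Geo.Asch

open Cfsg Cfsg.Geo Matrix
open scoped Kronecker MatrixGroups

variable {ι : Type} [Fintype ι] [DecidableEq ι] {F : Type*} [Field F]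

/-- Conjugation by an invertible matrix, as an algebra map. -/
noncomputable def conjHom (g : GL ι F) : Matrix ι ι F →ₐ[F] Matrix ι ι F :=
  AlgHom.ofLinearMap
    { toFun := fun a => (g : Matrix ι ι F) * a * ((g⁻¹ : GL ι F) : Matrix ι ι F)
      map_add' := fun a b => by rw [mul_add, add_mul]
      map_smul' := fun c a => by rw [RingHom.id_apply, Matrix.mul_smul, Matrix.smul_mul] }
    (by simp)
    (fun a b => by simp [mul_assoc])

theorem conjHom_apply (g : GL ι F) (a : Matrix ι ι F) :
    conjHom g a = (g : Matrix ι ι F) * a * ((g⁻¹ : GL ι F) : Matrix ι ι F) := rfl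

theorem conjHom_mul (g h : GL ι F) (a : Matrix ι ι F) : conjHom (g * h) a = conjHom g (conjHom h a) := by
  simp [conjHom_apply, mul_assoc]

theorem conjHom_inv_cancel (g : GL ι F) (a : Matrix ι ι F) : conjHom g⁻¹ (conjHom g a) = a := by
  simp [conjHom_apply, mul_assoc]

theorem conjHom_cancel (g : GL ι F) (a : Matrix ι ι F) : conjHom g (conjHom g⁻¹ a) = a := by
  simp [conjHom_apply, mul_assoc]

/-- `G` normalises the subalgebra `A`. -/
def Normalized (G : Subgroup (GL ι F)) (A : Subalgebra F (Matrix ι ι F)) : Prop :=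
  ∀ g ∈ G, ∀ x ∈ A, conjHom g x ∈ A

theorem le_subalgebraNormalizer {G : Subgroup (GL ι F)} {A : Subalgebra F (Matrix ι ι F)}
    (h : Normalized G A) : G ≤ subalgebraNormalizer A := by
  intro g hg k
  refine ⟨fun hk => h g hg k hk, fun hk => ?_⟩
  have h1 := h g⁻¹ (inv_mem hg) _ hk
  rwa [← conjHom_apply, conjHom_inv_cancel] at h1

/-- `G` preserves no decomposition into at least two subspaces of equal dimension. -/
def Prim (G : Subgroup (GL ι F)) : Prop :=
  ∀ (m t : ℕ) (D : Fin t → Submodule F (ι → F)), 2 ≤ t → IsMDecomposition m D → ¬ G ≤ decompositionStabilizer D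

/-- `G` normalises no field subalgebra of prime degree. -/
def NoField (G : Subgroup (GL ι F)) : Prop :=
  ∀ (r : ℕ) (K : Subalgebra F (Matrix ι ι F)), r.Prime → IsFieldSubalgebra r K → ¬ G ≤ subalgebraNormalizer K

/-- `G` stabilises no non-trivial tensor decomposition. -/
def NoTensor (G : Subgroup (GL ι F)) : Prop :=
  ∀ (a b : ℕ) (e : ι ≃ Fin a × Fin b) (P : GL ι F), 2 ≤ a → 2 ≤ b → ¬ G ≤ tensorProductSubgroup a b e P

theorem toLin'_unit_injective (g : GL ι F) : Function.Injective (Matrix.toLin' (g : Matrix ι ι F)) := by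
  intro a b hab
  simp only [Matrix.toLin'_apply] at hab
  have := congrArg (fun u => ((g⁻¹ : GL ι F) : Matrix ι ι F) *ᵥ u) hab
  simpa [Matrix.mulVec_mulVec] using this

theorem eq_top_of_invariant {G : Subgroup (GL ι F)} (hirr : ActsIrreducibly (matrixSet G))
    (W : Submodule F (ι → F)) (h : ∀ g ∈ G, W.map (Matrix.toLin' (g : Matrix ι ι F)) ≤ W) (hW : W ≠ ⊥) : W = ⊤ := by
  refine (hirr W ?_).resolve_left hW
  rintro _ ⟨g, hg, rfl⟩
  exact h g hg

/-- A normalised subalgebra of an irreducible group has zero Jacobson radical. -/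
theorem jacobson_eq_bot [Finite F] [Nonempty ι] {G : Subgroup (GL ι F)} (hirr : ActsIrreducibly (matrixSet G))
    {A : Subalgebra F (Matrix ι ι F)} (hA : Normalized G A) : Ring.jacobson A = ⊥ := by
  haveI : Finite A := inferInstance
  haveI : IsArtinianRing A := inferInstance
  have hnil : IsNilpotent (Ring.jacobson A) := IsSemiprimaryRing.isNilpotent
  obtain ⟨k, hk⟩ := hnil
  classical
  let J := Ring.jacobson A
  let W : Submodule F (ι → F) := ⨅ (x : A) (_ : x ∈ J), LinearMap.ker (Matrix.toLin' (x : Matrix ι ι F))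
  have hmem : ∀ v, v ∈ W ↔ ∀ x ∈ J, (x : Matrix ι ι F) *ᵥ v = 0 := by
    intro v; simp [W, Submodule.mem_iInf, Matrix.toLin'_apply]
  have hW : W ≠ ⊥ := by
    obtain ⟨v, hv⟩ := exists_ne (0 : ι → F)
    have hP : ∃ j, ∀ x ∈ J ^ j, (x : Matrix ι ι F) *ᵥ v = 0 := by
      refine ⟨k, fun x hx => ?_⟩
      have : x ∈ (⊥ : Ideal A) := by rw [← Ideal.zero_eq_bot, ← hk]; exact hx
      rw [(Submodule.mem_bot A).1 this]
      simp
    obtain ⟨j, hj⟩ : ∃ j, Nat.find hP = j + 1 := by
      rcases h : Nat.find hP with _ | j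
      · have h0 := Nat.find_spec hP
        rw [h] at h0
        have h1 := h0 1 (by rw [Submodule.pow_zero, Ideal.one_eq_top]; exact Submodule.mem_top)
        rw [OneMemClass.coe_one, Matrix.one_mulVec] at h1
        exact absurd h1 hv
      · exact ⟨j, rfl⟩
    obtain ⟨y, hy, hyv⟩ : ∃ y ∈ J ^ j, (y : Matrix ι ι F) *ᵥ v ≠ 0 := by
      have := Nat.find_min hP (show j < Nat.find hP by omega)
      push Not at this
      exact this
    intro hb
    refine hyv ((Submodule.eq_bot_iff W).1 hb _ ((hmem _).2 fun x hx => ?_))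
    have h0 := Nat.find_spec hP
    rw [hj] at h0
    rw [Matrix.mulVec_mulVec, ← MulMemClass.coe_mul]
    refine h0 (x * y) ?_
    rw [Ideal.IsTwoSided.pow_succ]
    exact Ideal.mul_mem_mul hx hy
  have htop := eq_top_of_invariant hirr W (fun g hg => by
    rintro _ ⟨w, hw, rfl⟩
    rw [hmem]
    intro x hx
    let τ : A →+* A :=
      { toFun := fun z => ⟨conjHom g⁻¹ z, hA _ (inv_mem hg) _ z.2⟩
        map_one' := Subtype.ext (map_one _)
        map_mul' := fun a b => Subtype.ext (map_mul _ _ _)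
        map_zero' := Subtype.ext (map_zero _)
        map_add' := fun a b => Subtype.ext (map_add _ _ _) }
    haveI : RingHomSurjective τ := ⟨fun z => ⟨⟨conjHom g z, hA g hg _ z.2⟩, Subtype.ext (conjHom_inv_cancel g _)⟩⟩
    have h1 : τ x ∈ Ring.jacobson A := Ring.le_comap_jacobson (f := τ) hx
    have h2 := (hmem w).1 hw _ h1
    change (conjHom g⁻¹ (x : Matrix ι ι F)) *ᵥ w = 0 at h2
    rw [conjHom_apply, inv_inv, ← Matrix.mulVec_mulVec, ← Matrix.mulVec_mulVec] at h2
    have h3 := congrArg (fun u => (g : Matrix ι ι F) *ᵥ u) h2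
    simpa [Matrix.mulVec_mulVec, ← mul_assoc, Matrix.toLin'_apply] using h3) hW
  rw [Submodule.eq_bot_iff]
  intro x hx
  apply Subtype.ext
  refine Matrix.ext_of_mulVec_single fun i => ?_
  rw [ZeroMemClass.coe_zero, Matrix.zero_mulVec]
  exact (hmem _).1 (htop ▸ Submodule.mem_top) x hx

/-- A commutative normalised subalgebra is a field, unless the group is imprimitive. -/
theorem isFieldSubalgebra_of_comm [Fintype F] [Nonempty ι] {G : Subgroup (GL ι F)}
    (hirr : ActsIrreducibly (matrixSet G)) (hprim : Prim G)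
    {R : Subalgebra F (Matrix ι ι F)} (hR : Normalized G R) (hc : ∀ x ∈ R, ∀ y ∈ R, x * y = y * x) :
    IsFieldSubalgebra (Module.finrank F R) R := by
  classical
  refine ⟨hc, ?_, rfl⟩
  letI : CommRing R := { (inferInstance : Ring R) with mul_comm := fun x y => Subtype.ext (hc _ x.2 _ y.2) }
  haveI : IsArtinianRing R := inferInstance
  have hidem : ∀ f : R, f * f = f → f = 0 ∨ f = 1 := by
    intro f hff
    by_contra h0
    push Not at h0
    let rk : R → ℕ := fun e => Module.finrank F (LinearMap.range (Matrix.toLin' (e : Matrix ι ι F)))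
    haveI : Fintype R := Fintype.ofFinite _
    let S : Finset R := Finset.univ.filter (fun e => e * e = e ∧ e ≠ 0)
    obtain ⟨e, he, hmin⟩ := S.exists_min_image rk ⟨f, by simp [S, hff, h0.1]⟩
    simp only [S, Finset.mem_filter, Finset.mem_univ, true_and] at he
    obtain ⟨hee, he0⟩ := he
    have hatom : ∀ y : R, y * y = y → e * y = 0 ∨ e * y = e := by
      intro y hyy
      by_cases h : e * y = 0
      · exact Or.inl h
      refine Or.inr ?_
      have hidem' : (e * y) * (e * y) = e * y := by rw [mul_mul_mul_comm, hee, hyy]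
      have hle : LinearMap.range (Matrix.toLin' ((e * y : R) : Matrix ι ι F)) ≤
          LinearMap.range (Matrix.toLin' (e : Matrix ι ι F)) := by
        rw [MulMemClass.coe_mul, Matrix.toLin'_mul]; exact LinearMap.range_comp_le_range _ _
      have heq := Submodule.eq_of_le_of_finrank_le hle (hmin _ (by simp [S, hidem', h]))
      apply Subtype.ext
      refine Matrix.ext_of_mulVec_single fun i => ?_
      have : (e : Matrix ι ι F) *ᵥ Pi.single i 1 ∈ LinearMap.range (Matrix.toLin' ((e * y : R) : Matrix ι ι F)) :=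
        heq ▸ ⟨Pi.single i 1, by rw [Matrix.toLin'_apply]⟩
      obtain ⟨w, hw⟩ := this
      rw [Matrix.toLin'_apply] at hw
      have h2 := congrArg (fun u => (y : Matrix ι ι F) *ᵥ u) hw
      simp only [Matrix.mulVec_mulVec, ← MulMemClass.coe_mul] at h2
      rw [show y * (e * y) = e * y by rw [mul_left_comm, hyy], hw, mul_comm y e] at h2
      exact h2.symm
    let cj : ∀ g, g ∈ G → R → R := fun g hg z => ⟨conjHom g z, hR g hg _ z.2⟩
    have hcj_mul : ∀ g (hg : g ∈ G) a b, cj g hg (a * b) = cj g hg a * cj g hg b :=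
      fun g hg a b => Subtype.ext (map_mul _ _ _)
    have hcj_cancel : ∀ g (hg : g ∈ G) a, cj g hg (cj g⁻¹ (inv_mem hg) a) = a :=
      fun g hg a => Subtype.ext (conjHom_cancel _ _)
    let O : Finset R := Finset.univ.filter (fun e' => ∃ g, ∃ hg : g ∈ G, cj g hg e = e')
    have hO : ∀ e' ∈ O, ∃ g, ∃ hg : g ∈ G, cj g hg e = e' := fun e' h => (Finset.mem_filter.1 h).2
    have hOidem : ∀ e' ∈ O, e' * e' = e' := by
      intro e' h
      obtain ⟨g, hg, rfl⟩ := hO e' h
      rw [← hcj_mul g hg, hee]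
    have hatom' : ∀ e' ∈ O, ∀ y : R, y * y = y → e' * y = 0 ∨ e' * y = e' := by
      intro e' h y hyy
      obtain ⟨g, hg, rfl⟩ := hO e' h
      rcases hatom (cj g⁻¹ (inv_mem hg) y) (by rw [← hcj_mul g⁻¹ (inv_mem hg), hyy]) with h | h
      · left
        have := congrArg (cj g hg) h
        rw [hcj_mul g hg, hcj_cancel g hg] at this
        rw [this]; exact Subtype.ext (map_zero _)
      · right
        have := congrArg (cj g hg) h
        rwa [hcj_mul g hg, hcj_cancel g hg] at this
    have horth : ∀ a ∈ O, ∀ b ∈ O, a ≠ b → a * b = 0 := by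
      intro a ha b hb hne
      rcases hatom' a ha b (hOidem b hb) with h | h
      · exact h
      rcases hatom' b hb a (hOidem a ha) with h' | h'
      · rwa [mul_comm] at h'
      · rw [mul_comm] at h'; exact absurd (h.symm.trans h') hne
    let t := O.card
    let enum : Fin t ≃ O := O.equivFin.symm
    let D : Fin t → Submodule F (ι → F) := fun i => LinearMap.range (Matrix.toLin' ((enum i : R) : Matrix ι ι F))
    have hmap : ∀ g (hg : g ∈ G) (e' : R),
        (LinearMap.range (Matrix.toLin' (e' : Matrix ι ι F))).map (Matrix.toLin' (g : Matrix ι ι F)) =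
        LinearMap.range (Matrix.toLin' ((cj g hg e' : R) : Matrix ι ι F)) := by
      intro g hg e'
      apply le_antisymm
      · rintro _ ⟨_, ⟨w, rfl⟩, rfl⟩
        exact ⟨(g : Matrix ι ι F) *ᵥ w,
          by simp [cj, conjHom_apply, Matrix.toLin'_apply, Matrix.mulVec_mulVec, mul_assoc]⟩
      · rintro _ ⟨w, rfl⟩
        exact ⟨_, ⟨((g⁻¹ : GL ι F) : Matrix ι ι F) *ᵥ w, rfl⟩,
          by simp [cj, conjHom_apply, Matrix.toLin'_apply, Matrix.mulVec_mulVec, mul_assoc]⟩
    have hconjO : ∀ g (hg : g ∈ G), ∀ e' ∈ O, cj g hg e' ∈ O := by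
      intro g hg e' h
      obtain ⟨k, hk, rfl⟩ := hO e' h
      exact Finset.mem_filter.2 ⟨Finset.mem_univ _, g * k, mul_mem hg hk, Subtype.ext (conjHom_mul _ _ _)⟩
    have heO : e ∈ O := Finset.mem_filter.2 ⟨Finset.mem_univ _, 1, one_mem _, Subtype.ext (by simp [cj, conjHom_apply])⟩
    have hind : iSupIndep D := by
      rw [iSupIndep_def]
      intro i
      rw [Submodule.disjoint_def]
      intro v hv hv'
      have hk : (⨆ j, ⨆ (_ : j ≠ i), D j) ≤ LinearMap.ker (Matrix.toLin' ((enum i : R) : Matrix ι ι F)) := by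
        refine iSup₂_le fun j hj => ?_
        rintro _ ⟨w, rfl⟩
        rw [LinearMap.mem_ker, Matrix.toLin'_apply, Matrix.toLin'_apply, Matrix.mulVec_mulVec, ← MulMemClass.coe_mul,
          horth _ (enum i).2 _ (enum j).2 (fun h => hj (enum.injective (Subtype.ext h.symm))), ZeroMemClass.coe_zero,
          Matrix.zero_mulVec]
      have h1 := hk hv'
      obtain ⟨w, rfl⟩ := hv
      rw [LinearMap.mem_ker, Matrix.toLin'_apply, Matrix.toLin'_apply, Matrix.mulVec_mulVec, ← MulMemClass.coe_mul,
        hOidem _ (enum i).2] at h1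
      rw [Matrix.toLin'_apply]
      exact h1
    have hge : ∀ g (hg : g ∈ G) i, ∃ j, (enum j : R) = cj g hg (enum i : R) := fun g hg i =>
      ⟨enum.symm ⟨_, hconjO g hg _ (enum i).2⟩, by rw [Equiv.apply_symm_apply]⟩
    have hne0 : ∃ v, (e : Matrix ι ι F) *ᵥ v ≠ 0 := by
      by_contra hall
      push Not at hall
      exact he0 (Subtype.ext (Matrix.ext_of_mulVec_single fun i => by rw [hall, ZeroMemClass.coe_zero, Matrix.zero_mulVec]))
    have htop : iSup D = ⊤ := by
      refine eq_top_of_invariant hirr _ (fun g hg => ?_) ?_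
      · rw [Submodule.map_iSup]
        refine iSup_le fun i => ?_
        obtain ⟨j, hj⟩ := hge g hg i
        rw [show (D i).map (Matrix.toLin' (g : Matrix ι ι F)) = D j by
          show _ = LinearMap.range _; rw [hj]; exact hmap g hg _]
        exact le_iSup D j
      · obtain ⟨v, hv⟩ := hne0
        intro hb
        have : (e : Matrix ι ι F) *ᵥ v ∈ iSup D := by
          refine Submodule.mem_iSup_of_mem (enum.symm ⟨e, heO⟩) ?_
          show _ ∈ LinearMap.range _
          rw [Equiv.apply_symm_apply]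
          exact ⟨v, Matrix.toLin'_apply _ v⟩
        rw [hb, Submodule.mem_bot] at this
        exact hv this
    have hrk : ∀ i, Module.finrank F (D i) = rk e := by
      intro i
      obtain ⟨g, hg, hge'⟩ := hO _ (enum i).2
      show Module.finrank F (LinearMap.range (Matrix.toLin' ((enum i : R) : Matrix ι ι F))) = _
      rw [← hge', ← hmap g hg e]
      exact (LinearEquiv.finrank_eq (Submodule.equivMapOfInjective _ (toLin'_unit_injective g) _)).symm
    by_cases ht : 2 ≤ t
    · refine hprim (rk e) t D ht ⟨ht, ?_, hrk, hind, htop⟩ (fun g hg => ?_)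
      · obtain ⟨v, hv⟩ := hne0
        refine Module.finrank_pos_iff_exists_ne_zero.2 ⟨⟨(e : Matrix ι ι F) *ᵥ v, v, Matrix.toLin'_apply _ v⟩, ?_⟩
        exact fun h => hv (congrArg Subtype.val h)
      · let σ : Fin t → Fin t := fun i => (hge g hg i).choose
        have hσ : ∀ i, (enum (σ i) : R) = cj g hg (enum i : R) := fun i => (hge g hg i).choose_spec
        have hinj : Function.Injective σ := by
          intro a b hab
          have h := (hσ a).symm.trans ((congrArg (fun z => (enum z : R)) hab).trans (hσ b))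
          have h2 := congrArg (fun z : R => conjHom g⁻¹ (z : Matrix ι ι F)) h
          simp only [cj, conjHom_inv_cancel] at h2
          exact enum.injective (Subtype.ext (Subtype.ext h2))
        refine ⟨Equiv.ofBijective σ ⟨hinj, Finite.injective_iff_surjective.1 hinj⟩, fun i => ?_⟩
        show _ = LinearMap.range (Matrix.toLin' ((enum (σ i) : R) : Matrix ι ι F))
        rw [hσ i]
        exact hmap g hg _
    · have ht1 : ∀ i, (enum i : R) = e := fun i =>
        Finset.card_le_one.1 (show O.card ≤ 1 by omega) _ (enum i).2 _ heO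
      have hr : LinearMap.range (Matrix.toLin' (e : Matrix ι ι F)) = ⊤ := by
        refine top_le_iff.1 (htop ▸ iSup_le fun i => ?_)
        show LinearMap.range _ ≤ _
        rw [ht1 i]
      have hrkf := hmin f (by simp [S, hff, h0.1])
      simp only [rk] at hrkf
      rw [hr, finrank_top] at hrkf
      have : LinearMap.range (Matrix.toLin' (f : Matrix ι ι F)) = ⊤ :=
        Submodule.eq_top_of_finrank_eq (le_antisymm (Submodule.finrank_le _) hrkf)
      apply h0.2
      apply Subtype.ext
      refine Matrix.ext_of_mulVec_single fun i => ?_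
      obtain ⟨w, hw⟩ : Pi.single i 1 ∈ LinearMap.range (Matrix.toLin' (f : Matrix ι ι F)) := this ▸ Submodule.mem_top
      rw [Matrix.toLin'_apply] at hw
      rw [OneMemClass.coe_one, Matrix.one_mulVec, ← hw, Matrix.mulVec_mulVec, ← MulMemClass.coe_mul, hff]
  have hJ : Ring.jacobson R = ⊥ := jacobson_eq_bot hirr hR
  haveI : IsSemisimpleRing R := IsArtinianRing.isSemisimpleRing_iff_jacobson.2 hJ
  haveI : Nontrivial R := ⟨⟨0, 1, fun h => zero_ne_one (α := Matrix ι ι F) (congrArg Subtype.val h)⟩⟩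
  have hf : IsField R := by
    haveI : IsLocalRing R := by
      refine IsLocalRing.of_isUnit_or_isUnit_one_sub_self fun x => ?_
      obtain ⟨k, hk, hkk⟩ : ∃ k, 0 < k ∧ x ^ k * x ^ k = x ^ k := by
        obtain ⟨i, j, hij, h⟩ := Finite.exists_ne_map_eq_of_infinite (fun m : ℕ => x ^ m)
        wlog hlt : i < j generalizing i j
        · exact this j i hij.symm h.symm (lt_of_le_of_ne (not_lt.1 hlt) hij.symm)
        obtain ⟨d, rfl⟩ : ∃ d, j = i + d := ⟨j - i, by omega⟩
        have he : x ^ i = x ^ (i + d) := h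
        have hper : ∀ k, i ≤ k → ∀ m, x ^ (k + d * m) = x ^ k := by
          intro k hk m
          induction m with
          | zero => simp
          | succ m ih =>
            rw [show k + d * (m + 1) = (i + d) + (k - i + d * m) by rw [Nat.mul_succ]; omega, pow_add, ← he, ← pow_add,
              show i + (k - i + d * m) = k + d * m by omega, ih]
        refine ⟨d * (i + 1), Nat.mul_pos (by omega) (Nat.succ_pos i), ?_⟩
        rw [← pow_add]
        exact hper _ (le_trans (Nat.le_succ i) (Nat.le_mul_of_pos_left _ (by omega))) _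
      rcases hidem (x ^ k) hkk with h | h
      · exact Or.inr (IsNilpotent.isUnit_one_sub ⟨k, h⟩)
      · exact Or.inl (IsUnit.of_pow_eq_one h (by omega))
    haveI : IsReduced R := by
      refine ⟨fun x hx => ?_⟩
      have hxm : x ∈ (⊥ : Ideal R).jacobson := by
        rw [IsArtinianRing.jacobson_eq_radical]
        exact hx
      rw [Ideal.jacobson_bot, hJ] at hxm
      exact (Submodule.mem_bot R).1 hxm
    exact IsArtinianRing.isField_of_isReduced_of_isLocalRing R
  intro x hx hx0
  obtain ⟨y, hy⟩ := hf.mul_inv_cancel (a := (⟨x, hx⟩ : R)) (fun h => hx0 (congrArg Subtype.val h))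
  exact ⟨y, y.2, congrArg Subtype.val hy⟩

/-- A normalised field subalgebra contains a normalised one of prime degree. -/
theorem exists_prime_field [Fintype F] [Nonempty ι] {G : Subgroup (GL ι F)} {r : ℕ} (hr1 : 1 < r)
    {K : Subalgebra F (Matrix ι ι F)} (hK : IsFieldSubalgebra r K) (hG : Normalized G K) :
    ∃ (s : ℕ) (S : Subalgebra F (Matrix ι ι F)), s.Prime ∧ IsFieldSubalgebra s S ∧ Normalized G S := by
  classical
  letI : Field K := FieldTransvection.fieldOf hK
  haveI : Finite K := inferInstance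
  haveI : FiniteDimensional F K := inferInstance
  haveI : IsGalois F K := GaloisField.instIsGaloisOfFinite
  have hGc : Nat.card (K ≃ₐ[F] K) = r := by rw [IsGalois.card_aut_eq_finrank, hK.finrank_eq]
  obtain ⟨φ, hφ⟩ := IsCyclic.exists_generator (α := K ≃ₐ[F] K)
  have hord : orderOf φ = r := by rw [orderOf_eq_card_of_forall_mem_zpowers hφ, hGc]
  have hp := Nat.minFac_prime (show r ≠ 1 by omega)
  have hdvd := Nat.minFac_dvd r
  set σ := φ ^ Nat.minFac r with hσdef
  have hσ : orderOf σ = r / Nat.minFac r := by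
    rw [hσdef, orderOf_pow_of_dvd hp.ne_zero (hord.symm ▸ hdvd), hord]
  set E : IntermediateField F K := IntermediateField.fixedField (Subgroup.zpowers σ) with hE
  have hmul := Module.finrank_mul_finrank F E K
  rw [show Module.finrank E K = r / Nat.minFac r by
    rw [hE, IntermediateField.finrank_fixedField_eq_card, Nat.card_zpowers, hσ], hK.finrank_eq] at hmul
  have hEs : Module.finrank F E = Nat.minFac r := by
    have hpos : 0 < r / Nat.minFac r := Nat.div_pos (Nat.le_of_dvd (by omega) hdvd) hp.pos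
    have h2 : Nat.minFac r * (r / Nat.minFac r) = r := Nat.mul_div_cancel' hdvd
    exact Nat.eq_of_mul_eq_mul_right hpos (hmul.trans h2.symm)
  set S : Subalgebra F (Matrix ι ι F) := E.toSubalgebra.map K.val with hSdef
  have hmemS : ∀ {a}, a ∈ S ↔ ∃ e : K, e ∈ E ∧ (e : Matrix ι ι F) = a := by
    intro a; simp [hSdef, Subalgebra.mem_map]
  have hfix : ∀ e : K, e ∈ E ↔ σ e = e := by
    intro e
    rw [hE, IntermediateField.mem_fixedField_iff]
    refine ⟨fun h => h σ (Subgroup.mem_zpowers σ), fun h f hf => ?_⟩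
    obtain ⟨i, rfl⟩ := Subgroup.mem_zpowers_iff.1 hf
    have : σ ∈ MulAction.stabilizer (K ≃ₐ[F] K) e := h
    exact Subgroup.zpow_mem _ this i
  have hSfin : Module.finrank F S = Nat.minFac r :=
    ((E.toSubalgebra.equivMapOfInjective K.val Subtype.val_injective).toLinearEquiv.finrank_eq).symm.trans hEs
  refine ⟨_, S, hp, ⟨?_, ?_, hSfin⟩, ?_⟩
  · intro a ha b hb
    obtain ⟨e, -, rfl⟩ := hmemS.1 ha
    obtain ⟨f, -, rfl⟩ := hmemS.1 hb
    exact hK.comm _ e.2 _ f.2
  · intro a ha h0
    obtain ⟨e, he, rfl⟩ := hmemS.1 ha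
    obtain ⟨y, hy, hey⟩ := hK.inv _ e.2 h0
    refine ⟨y, hmemS.2 ⟨⟨y, hy⟩, ?_, rfl⟩, hey⟩
    have h1 : e * ⟨y, hy⟩ = 1 := Subtype.ext hey
    rw [eq_inv_of_mul_eq_one_right h1]
    exact E.inv_mem he
  · intro g hg a ha
    obtain ⟨e, he, rfl⟩ := hmemS.1 ha
    let cA : K →ₐ[F] K :=
      { toFun := fun z => ⟨conjHom g z, hG g hg _ z.2⟩
        map_one' := Subtype.ext (map_one _)
        map_mul' := fun u w => Subtype.ext (map_mul _ _ _)
        map_zero' := Subtype.ext (map_zero _)
        map_add' := fun u w => Subtype.ext (map_add _ _ _)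
        commutes' := fun z => Subtype.ext ((conjHom g).commutes z) }
    have hinj : Function.Injective cA := RingHom.injective (cA : K →+* K)
    let τ : K ≃ₐ[F] K := AlgEquiv.ofBijective cA ⟨hinj, Finite.injective_iff_surjective.1 hinj⟩
    have hcomm : σ * τ = τ * σ := IsCyclic.commGroup.mul_comm σ τ
    refine hmemS.2 ⟨τ e, (hfix _).2 ?_, rfl⟩
    have := congrArg (fun f : K ≃ₐ[F] K => f e) hcomm
    simp only [AlgEquiv.mul_apply] at this
    rw [this, (hfix e).1 he]

theorem NoField.finrank_le_one [Fintype F] [Nonempty ι] {G : Subgroup (GL ι F)} (hnf : NoField G) {r : ℕ}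
    {K : Subalgebra F (Matrix ι ι F)} (hK : IsFieldSubalgebra r K) (hG : Normalized G K) : r ≤ 1 := by
  by_contra h
  obtain ⟨s, S, hs, hS, hSG⟩ := exists_prime_field (show 1 < r by omega) hK hG
  exact hnf s S hs hS (le_subalgebraNormalizer hSG)

/-- A commutative normalised subalgebra of a primitive group normalising no field is scalar. -/
theorem comm_eq_bot [Fintype F] [Nonempty ι] {G : Subgroup (GL ι F)}
    (hirr : ActsIrreducibly (matrixSet G)) (hprim : Prim G) (hnf : NoField G)
    {R : Subalgebra F (Matrix ι ι F)} (hR : Normalized G R) (hc : ∀ x ∈ R, ∀ y ∈ R, x * y = y * x) : R = ⊥ := by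
  have hK := isFieldSubalgebra_of_comm hirr hprim hR hc
  have h1 := hnf.finrank_le_one hK hR
  refine (Subalgebra.eq_bot_of_finrank_one (le_antisymm h1 ?_))
  haveI : Nontrivial R := ⟨⟨0, 1, fun h => zero_ne_one (α := Matrix ι ι F) (congrArg Subtype.val h)⟩⟩
  exact Module.finrank_pos

/-- A normalised subalgebra with scalar centre is isomorphic to a matrix algebra over F. -/
theorem exists_matrix_hom [Fintype F] [Nonempty ι] {G : Subgroup (GL ι F)}
    (hirr : ActsIrreducibly (matrixSet G)) {A : Subalgebra F (Matrix ι ι F)} (hA : Normalized G A)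
    (hcentre : ∀ z ∈ A, (∀ x ∈ A, z * x = x * z) → z ∈ (⊥ : Subalgebra F (Matrix ι ι F))) :
    ∃ (a : ℕ) (_ : NeZero a) (φ : Matrix (Fin a) (Fin a) F →ₐ[F] Matrix ι ι F),
      Function.Injective φ ∧ φ.range = A := by
  classical
  haveI : Finite A := inferInstance
  haveI : IsArtinianRing A := inferInstance
  haveI : IsSemisimpleRing A := IsArtinianRing.isSemisimpleRing_iff_jacobson.2 (jacobson_eq_bot hirr hA)
  haveI : Module.Finite F A := inferInstance
  obtain ⟨k, D, d, iD, iA, iF, hd, ⟨e⟩⟩ := IsSemisimpleRing.exists_algEquiv_pi_matrix_divisionRing_finite F A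
  have hcen : ∀ z : Π i, Matrix (Fin (d i)) (Fin (d i)) (D i), (∀ x, z * x = x * z) →
      ∃ c : F, z = algebraMap F _ c := by
    intro z hz
    have h1 : ∀ x ∈ A, (e.symm z : Matrix ι ι F) * x = x * (e.symm z : Matrix ι ι F) := by
      intro x hx
      have h2 : e.symm z * ⟨x, hx⟩ = ⟨x, hx⟩ * e.symm z := by
        apply e.injective
        rw [map_mul, map_mul, AlgEquiv.apply_symm_apply, hz]
      exact congrArg Subtype.val h2
    obtain ⟨c, hc⟩ := Algebra.mem_bot.1 (hcentre _ (e.symm z).2 h1)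
    refine ⟨c, ?_⟩
    rw [← e.apply_symm_apply z, ← e.commutes c]
    exact congrArg e (Subtype.ext hc.symm)
  have hk : k ≠ 0 := by
    rintro rfl
    have h01 : (0 : Π i, Matrix (Fin (d i)) (Fin (d i)) (D i)) = 1 := funext fun i => i.elim0
    have : (0 : A) = 1 := e.injective (by rw [map_zero, map_one]; exact h01)
    exact zero_ne_one (α := Matrix ι ι F) (congrArg Subtype.val this)
  have huniq : ∀ i j : Fin k, i = j := by
    intro i j
    by_contra hij
    haveI := hd i
    haveI := hd j
    obtain ⟨c, hc⟩ := hcen (Pi.single i 1) (fun x => by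
      funext l
      by_cases h : l = i
      · subst h; simp
      · simp [h])
    have h1 := congrFun hc i
    have h2 := congrFun hc j
    rw [Pi.algebraMap_apply, Pi.single_eq_same] at h1
    rw [Pi.algebraMap_apply, Pi.single_eq_of_ne (Ne.symm hij)] at h2
    have hc0 : c = 0 := by
      by_contra hc0
      exact (map_ne_zero (algebraMap F (Matrix (Fin (d j)) (Fin (d j)) (D j)))).2 hc0 h2.symm
    rw [hc0, map_zero] at h1
    exact one_ne_zero h1
  obtain ⟨i₀⟩ : Nonempty (Fin k) := ⟨⟨0, Nat.pos_of_ne_zero hk⟩⟩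
  haveI := hd i₀
  haveI : Module.Finite F (D i₀) := iF i₀
  haveI : Finite (D i₀) := Module.finite_of_finite F
  have hcommD : ∀ x y : D i₀, x * y = y * x := fun x y => (littleWedderburn (D i₀)).mul_comm x y
  have hsurj : Function.Surjective (algebraMap F (D i₀)) := by
    intro x
    obtain ⟨c, hc⟩ := hcen (Pi.single i₀ (Matrix.scalar _ x)) (fun z => by
      funext l
      obtain rfl := huniq i₀ l
      simp only [Pi.mul_apply, Pi.single_eq_same]
      exact Matrix.scalar_commute x (fun r => hcommD x r) (z i₀))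
    have h1 := congrFun hc i₀
    rw [Pi.algebraMap_apply, Pi.single_eq_same, Matrix.algebraMap_eq_diagonal] at h1
    refine ⟨c, ?_⟩
    have h2 := congrFun (congrFun h1 0) 0
    simpa using h2.symm
  let eD : F ≃ₐ[F] D i₀ := AlgEquiv.ofBijective (Algebra.ofId F (D i₀)) ⟨RingHom.injective _, hsurj⟩
  let pr : (Π i, Matrix (Fin (d i)) (Fin (d i)) (D i)) →ₐ[F] Matrix (Fin (d i₀)) (Fin (d i₀)) (D i₀) :=
    Pi.evalAlgHom F _ i₀
  have hpr : Function.Bijective pr := by
    refine ⟨fun x y h => funext fun l => ?_, fun x => ⟨Pi.single i₀ x, by simp [pr]⟩⟩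
    obtain rfl := huniq i₀ l
    exact h
  let E : Matrix (Fin (d i₀)) (Fin (d i₀)) F ≃ₐ[F] A :=
    (eD.mapMatrix.trans (AlgEquiv.ofBijective pr hpr).symm).trans e.symm
  refine ⟨d i₀, hd i₀, A.val.comp E.toAlgHom, Subtype.val_injective.comp E.injective, ?_⟩
  ext x
  constructor
  · rintro ⟨y, rfl⟩; exact (E y).2
  · intro hx; exact ⟨E.symm ⟨x, hx⟩, by show ((E (E.symm _) : A) : Matrix ι ι F) = x; rw [E.apply_symm_apply]⟩

/-- X ↦ X ⊗ 1. -/
noncomputable def kroneckerHom (a b : ℕ) :
    Matrix (Fin a) (Fin a) F →ₐ[F] Matrix (Fin a × Fin b) (Fin a × Fin b) F :=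
  AlgHom.ofLinearMap
    { toFun := fun X => X ⊗ₖ (1 : Matrix (Fin b) (Fin b) F)
      map_add' := fun X Y => Matrix.add_kronecker X Y 1
      map_smul' := fun c X => Matrix.smul_kronecker c X 1 }
    Matrix.one_kronecker_one
    (fun X Y => by
      show (X * Y) ⊗ₖ (1 : Matrix (Fin b) (Fin b) F) = _
      rw [← one_mul (1 : Matrix (Fin b) (Fin b) F), Matrix.mul_kronecker_mul, one_mul]
      rfl)

theorem kroneckerHom_apply (a b : ℕ) (X : Matrix (Fin a) (Fin a) F) :
    kroneckerHom a b X = X ⊗ₖ (1 : Matrix (Fin b) (Fin b) F) := rfl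

/-- The embedding of the a × a matrices attached to a tensor decomposition. -/
noncomputable def tensorEmb (a b : ℕ) (e : ι ≃ Fin a × Fin b) (P : GL ι F) :
    Matrix (Fin a) (Fin a) F →ₐ[F] Matrix ι ι F :=
  (conjHom P).comp ((Matrix.reindexAlgEquiv F F e.symm).toAlgHom.comp (kroneckerHom a b))

/-- Every representation of a full matrix algebra is a tensor embedding. -/
theorem exists_tensorEmb [Nonempty ι] {a : ℕ} [NeZero a]
    (φ : Matrix (Fin a) (Fin a) F →ₐ[F] Matrix ι ι F) :
    ∃ (b : ℕ) (e : ι ≃ Fin a × Fin b) (P : GL ι F), 0 < b ∧ φ = tensorEmb a b e P := by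
  classical
  set W : Submodule F (ι → F) := LinearMap.range (Matrix.toLin' (φ (Matrix.single 0 0 1))) with hW
  let b := Module.finrank F W
  let w : Module.Basis (Fin b) F W := Module.finBasis F W
  have hmul : ∀ i j k l : Fin a, φ (Matrix.single i j 1) * φ (Matrix.single k l 1) =
      if j = k then φ (Matrix.single i l 1) else 0 := by
    intro i j k l
    rw [← map_mul]
    by_cases h : j = k
    · subst h; simp
    · rw [Matrix.single_mul_single_of_ne _ _ _ _ h, map_zero, if_neg h]
  have hfixW : ∀ x ∈ W, φ (Matrix.single 0 0 1) *ᵥ x = x := by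
    rintro _ ⟨y, rfl⟩
    rw [Matrix.toLin'_apply, Matrix.mulVec_mulVec, hmul, if_pos rfl]
  let u : Fin a × Fin b → (ι → F) := fun p => φ (Matrix.single p.1 0 1) *ᵥ (w p.2 : ι → F)
  have hli : LinearIndependent F u := by
    rw [Fintype.linearIndependent_iff]
    intro c hc p
    obtain ⟨j, k⟩ := p
    have h1 := congrArg (fun v => φ (Matrix.single 0 j 1) *ᵥ v) hc
    simp only [Matrix.mulVec_sum, Matrix.mulVec_smul, u, Matrix.mulVec_mulVec, hmul, Matrix.mulVec_zero] at h1
    rw [Fintype.sum_prod_type, Finset.sum_eq_single j] at h1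
    · simp only [if_true] at h1
      have h2 : ∑ x, c (j, x) • w x = 0 := by
        apply Subtype.ext
        rw [Submodule.coe_sum, ZeroMemClass.coe_zero, ← h1]
        refine Finset.sum_congr rfl fun x _ => ?_
        rw [Submodule.coe_smul, hfixW _ (w x).2]
      exact Fintype.linearIndependent_iff.1 w.linearIndependent _ h2 k
    · intro i _ hi
      refine Finset.sum_eq_zero fun x _ => ?_
      rw [if_neg (Ne.symm hi), Matrix.zero_mulVec, smul_zero]
    · simp
  have hspan : ⊤ ≤ Submodule.span F (Set.range u) := by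
    intro v _
    have h1 : v = ∑ i, φ (Matrix.single i i 1) *ᵥ v := by
      rw [← Matrix.sum_mulVec, ← map_sum]
      have : (∑ i : Fin a, Matrix.single i i (1 : F)) = 1 := by
        ext i j
        rw [Matrix.sum_apply, Matrix.one_apply]
        by_cases h : i = j
        · subst h; simp [Matrix.single_apply]
        · rw [if_neg h]
          refine Finset.sum_eq_zero fun x _ => ?_
          rw [Matrix.single_apply, if_neg]
          rintro ⟨rfl, rfl⟩; exact h rfl
      rw [this, map_one, Matrix.one_mulVec]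
    rw [h1]
    refine Submodule.sum_mem _ fun i _ => ?_
    have hxW : φ (Matrix.single 0 i 1) *ᵥ v ∈ W :=
      ⟨φ (Matrix.single 0 i 1) *ᵥ v, by rw [Matrix.toLin'_apply, Matrix.mulVec_mulVec, hmul, if_pos rfl]⟩
    have h2 : φ (Matrix.single i i 1) *ᵥ v = φ (Matrix.single i 0 1) *ᵥ (φ (Matrix.single 0 i 1) *ᵥ v) := by
      rw [Matrix.mulVec_mulVec, hmul, if_pos rfl]
    have h3 : φ (Matrix.single 0 i 1) *ᵥ v = ((∑ k, w.repr ⟨_, hxW⟩ k • w k : W) : ι → F) :=
      (congrArg Subtype.val (w.sum_repr ⟨_, hxW⟩)).symm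
    rw [h2, h3, Submodule.coe_sum, Matrix.mulVec_sum]
    refine Submodule.sum_mem _ fun k _ => ?_
    rw [Submodule.coe_smul, Matrix.mulVec_smul]
    exact Submodule.smul_mem _ _ (Submodule.subset_span ⟨(i, k), rfl⟩)
  let B : Module.Basis (Fin a × Fin b) F (ι → F) := Module.Basis.mk hli hspan
  let e : ι ≃ Fin a × Fin b := (Pi.basisFun F ι).indexEquiv B
  have hb : 0 < b := by
    obtain ⟨i⟩ := (inferInstance : Nonempty ι)
    exact lt_of_le_of_lt (Nat.zero_le _) (e i).2.2
  let Pm : Matrix ι ι F := Matrix.of fun r c => u (e c) r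
  have hPunit : IsUnit Pm := by
    rw [← Matrix.linearIndependent_cols_iff_isUnit]
    exact hli.comp e e.injective
  refine ⟨b, e, hPunit.unit, hb, AlgHom.ext fun X => ?_⟩
  have key : φ X * Pm = Pm * ((Matrix.reindexAlgEquiv F F e.symm) (kroneckerHom a b X)) := by
    ext r c
    have h1 : (φ X * Pm) r c = (φ X *ᵥ u (e c)) r := rfl
    have h2 : φ X *ᵥ u (e c) = ∑ i, X i (e c).1 • u (i, (e c).2) := by
      show φ X *ᵥ (φ (Matrix.single (e c).1 0 1) *ᵥ (w (e c).2 : ι → F)) = _
      rw [Matrix.mulVec_mulVec, ← map_mul]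
      have : X * Matrix.single (e c).1 0 1 = ∑ i, X i (e c).1 • Matrix.single i 0 (1 : F) := by
        ext x y
        rw [Matrix.sum_apply]
        by_cases hy : y = 0
        · subst hy; simp [Matrix.single_apply, Matrix.mul_apply]
        · simp [Matrix.single_apply, Matrix.mul_apply, Ne.symm hy]
      rw [this, map_sum, Matrix.sum_mulVec]
      refine Finset.sum_congr rfl fun i _ => ?_
      rw [map_smul, Matrix.smul_mulVec]
    rw [h1, h2, Matrix.mul_apply, Finset.sum_apply, ← e.symm.sum_comp, Fintype.sum_prod_type]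
    refine Finset.sum_congr rfl fun i _ => ?_
    rw [Finset.sum_eq_single (e c).2]
    · rw [Matrix.reindexAlgEquiv_apply]
      simp only [Pm, kroneckerHom_apply, Matrix.of_apply, Equiv.apply_symm_apply, Matrix.reindex_apply,
        Matrix.submatrix_apply, Equiv.symm_symm, Matrix.kroneckerMap_apply, Pi.smul_apply, smul_eq_mul,
        Matrix.one_apply_eq, mul_one]
      exact mul_comm _ _
    · intro k _ hk
      rw [Matrix.reindexAlgEquiv_apply]
      simp only [Pm, kroneckerHom_apply, Matrix.of_apply, Equiv.apply_symm_apply, Matrix.reindex_apply,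
        Matrix.submatrix_apply, Equiv.symm_symm, Matrix.kroneckerMap_apply, Matrix.one_apply_ne hk, mul_zero]
    · exact fun h => absurd (Finset.mem_univ _) h
  show φ X = (hPunit.unit : Matrix ι ι F) * _ * ((hPunit.unit⁻¹ : GL ι F) : Matrix ι ι F)
  rw [Units.eq_mul_inv_iff_mul_eq]
  exact key

/-- Automorphisms of full matrix algebras are inner. -/
theorem exists_conj_eq {a : ℕ} [NeZero a] (ψ : Matrix (Fin a) (Fin a) F →ₐ[F] Matrix (Fin a) (Fin a) F) :
    ∃ c : GL (Fin a) F, ∀ X, ψ X = conjHom c X := by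
  obtain ⟨b, e, P, hb, h⟩ := exists_tensorEmb ψ
  have hcard := Fintype.card_congr e
  simp only [Fintype.card_fin, Fintype.card_prod] at hcard
  have hb1 : b = 1 := by
    have : a * 1 = a * b := by rw [mul_one]; exact hcard
    exact (Nat.eq_of_mul_eq_mul_left (Nat.pos_of_ne_zero (NeZero.ne a)) this).symm
  subst hb1
  let σ : Fin a ≃ Fin a := e.trans (Equiv.prodUnique _ _)
  let S : GL (Fin a) F :=
    ⟨(σ.toPEquiv.toMatrix : Matrix (Fin a) (Fin a) F), σ.symm.toPEquiv.toMatrix,
      by rw [← PEquiv.toMatrix_trans, ← Equiv.toPEquiv_trans]; simp,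
      by rw [← PEquiv.toMatrix_trans, ← Equiv.toPEquiv_trans]; simp⟩
  refine ⟨P * S, fun X => ?_⟩
  rw [conjHom_mul, h]
  show conjHom P ((Matrix.reindexAlgEquiv F F e.symm) (kroneckerHom a 1 X)) = _
  congr 1
  ext r c
  simp [conjHom_apply, S, PEquiv.toMatrix_toPEquiv_mul, PEquiv.mul_toMatrix_toPEquiv, σ, kroneckerHom_apply]
  rw [Subsingleton.elim (e r).2 (e c).2, Matrix.one_apply_eq, mul_one]

/-- The normaliser of a tensor embedding stabilises the tensor decomposition. -/
theorem mem_tensorProductSubgroup {a b : ℕ} [NeZero a] [NeZero b] (e : ι ≃ Fin a × Fin b) (P g : GL ι F)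
    (hg : ∀ X, ∃ Y, conjHom g (tensorEmb a b e P X) = tensorEmb a b e P Y) :
    g ∈ tensorProductSubgroup a b e P := by
  classical
  let R := glReindex (F := F) e
  let h : GL (Fin a × Fin b) F := R (P⁻¹ * g * P)
  have hh : ∀ X, ∃ Y, conjHom h (kroneckerHom a b X) = kroneckerHom a b Y := by
    intro X
    obtain ⟨Y, hY⟩ := hg X
    refine ⟨Y, (Matrix.reindexAlgEquiv F F e.symm).injective ?_⟩
    have h1 := congrArg (conjHom P⁻¹) hY
    simp only [tensorEmb, AlgHom.comp_apply, AlgEquiv.toAlgHom_eq_coe, AlgHom.coe_coe, conjHom_inv_cancel] at h1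
    rw [← conjHom_mul, ← conjHom_mul] at h1
    have h2 : (Matrix.reindexAlgEquiv F F e.symm) (kroneckerHom a b Y) =
        conjHom (P⁻¹ * g * P) ((Matrix.reindexAlgEquiv F F e.symm) (kroneckerHom a b X)) := h1.symm
    rw [h2]
    have hsymm : ∀ u : GL ι F, (Matrix.reindexAlgEquiv F F e.symm) ((R u : GL (Fin a × Fin b) F) :
        Matrix (Fin a × Fin b) (Fin a × Fin b) F) = (u : Matrix ι ι F) := fun u => by
      ext i j; simp [R, glReindex]
    simp only [conjHom_apply, h]
    rw [map_mul (Matrix.reindexAlgEquiv F F e.symm), map_mul (Matrix.reindexAlgEquiv F F e.symm), hsymm, ← map_inv R, hsymm]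
  choose ψ hψ using hh
  have kinj : Function.Injective (kroneckerHom (F := F) a b) := by
    intro X Y hXY
    ext i j
    have := congrFun (congrFun hXY (i, 0)) (j, 0)
    simpa [kroneckerHom_apply] using this
  let ψA : Matrix (Fin a) (Fin a) F →ₐ[F] Matrix (Fin a) (Fin a) F :=
    AlgHom.ofLinearMap
      { toFun := ψ
        map_add' := fun X Y => kinj (by rw [map_add (kroneckerHom a b), ← hψ, ← hψ, ← hψ, map_add, map_add])
        map_smul' := fun c X => kinj (by rw [map_smul (kroneckerHom a b), RingHom.id_apply, ← hψ, ← hψ, map_smul, map_smul]) }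
      (kinj (by show kroneckerHom a b (ψ 1) = _; rw [← hψ]; simp))
      (fun X Y => kinj (by
        show kroneckerHom a b (ψ (X * Y)) = kroneckerHom a b (ψ X * ψ Y)
        rw [map_mul, ← hψ, ← hψ, ← hψ, ← map_mul, ← map_mul]))
  obtain ⟨c, hc⟩ := exists_conj_eq ψA
  let C : GL (Fin a × Fin b) F :=
    ⟨(c : Matrix (Fin a) (Fin a) F) ⊗ₖ (1 : Matrix (Fin b) (Fin b) F), ((c⁻¹ : GL (Fin a) F) : Matrix (Fin a) (Fin a) F) ⊗ₖ 1,
      by rw [← Matrix.mul_kronecker_mul, Units.mul_inv, mul_one, Matrix.one_kronecker_one],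
      by rw [← Matrix.mul_kronecker_mul, Units.inv_mul, mul_one, Matrix.one_kronecker_one]⟩
  let k := C⁻¹ * h
  have hk : ∀ X, conjHom k (kroneckerHom a b X) = kroneckerHom a b X := by
    intro X
    rw [conjHom_mul, hψ, show ψ X = conjHom c X from hc X]
    show (((c⁻¹ : GL (Fin a) F) : Matrix (Fin a) (Fin a) F) ⊗ₖ (1 : Matrix (Fin b) (Fin b) F)) * _ *
      ((c : Matrix (Fin a) (Fin a) F) ⊗ₖ (1 : Matrix (Fin b) (Fin b) F)) = _
    rw [kroneckerHom_apply, kroneckerHom_apply, ← Matrix.mul_kronecker_mul, ← Matrix.mul_kronecker_mul, mul_one,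
      conjHom_apply]
    simp [mul_assoc]
  have hform : ∀ u : GL (Fin a × Fin b) F, (∀ X, conjHom u (kroneckerHom a b X) = kroneckerHom a b X) →
      (u : Matrix (Fin a × Fin b) (Fin a × Fin b) F) = (1 : Matrix (Fin a) (Fin a) F) ⊗ₖ Matrix.of fun s t => (u : Matrix (Fin a × Fin b) (Fin a × Fin b) F) (0, s) (0, t) := by
    intro u hu
    have hcom : ∀ X, (u : Matrix (Fin a × Fin b) (Fin a × Fin b) F) * kroneckerHom a b X = kroneckerHom a b X * (u : Matrix (Fin a × Fin b) (Fin a × Fin b) F) := by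
      intro X
      have := congrArg (fun M => M * (u : Matrix (Fin a × Fin b) (Fin a × Fin b) F)) (hu X)
      simpa [conjHom_apply, mul_assoc] using this
    ext ⟨i, s⟩ ⟨j, t⟩
    have h1 := congrFun (congrFun (hcom (Matrix.single j 0 1)) (i, s)) (0, t)
    simp [kroneckerHom_apply, Matrix.mul_apply, Fintype.sum_prod_type, Matrix.single_apply, Matrix.one_apply] at h1
    simp only [Matrix.kroneckerMap_apply, Matrix.of_apply, Matrix.one_apply]
    by_cases hij : i = j
    · subst hij; simpa using h1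
    · rw [if_neg hij, zero_mul]
      simpa [Ne.symm hij] using h1
  have hk' : ∀ X, conjHom k⁻¹ (kroneckerHom a b X) = kroneckerHom a b X := by
    intro X
    conv_lhs => rw [← hk X]
    rw [conjHom_inv_cancel]
  set dm : Matrix (Fin b) (Fin b) F := Matrix.of fun s t => (k : Matrix (Fin a × Fin b) (Fin a × Fin b) F) (0, s) (0, t) with hdm
  set dm' : Matrix (Fin b) (Fin b) F := Matrix.of fun s t => ((k⁻¹ : GL (Fin a × Fin b) F) : Matrix (Fin a × Fin b) (Fin a × Fin b) F) (0, s) (0, t) with hdm'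
  have hinvert : ∀ A B : Matrix (Fin b) (Fin b) F,
      ((1 : Matrix (Fin a) (Fin a) F) ⊗ₖ A) * ((1 : Matrix (Fin a) (Fin a) F) ⊗ₖ B) = 1 → A * B = 1 := by
    intro A B hAB
    rw [← Matrix.mul_kronecker_mul, mul_one] at hAB
    ext s t
    have := congrFun (congrFun hAB (0, s)) (0, t)
    simpa [Matrix.one_apply] using this
  let d : GL (Fin b) F := ⟨dm, dm', hinvert _ _ (by rw [← hform k hk, ← hform k⁻¹ hk', Units.mul_inv]),
    hinvert _ _ (by rw [← hform k hk, ← hform k⁻¹ hk', Units.inv_mul])⟩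
  refine ⟨(glReindex e.symm h), ⟨h, ⟨c, d, ?_⟩, rfl⟩, ?_⟩
  · have h1 : h = C * k := by simp [k]
    rw [h1, Units.val_mul, hform k hk]
    show ((c : Matrix (Fin a) (Fin a) F) ⊗ₖ (1 : Matrix (Fin b) (Fin b) F)) * _ = _
    rw [← Matrix.mul_kronecker_mul, mul_one, one_mul]
  · have h2 : glReindex e.symm h = P⁻¹ * g * P := by
      apply Units.ext; ext i j; simp [h, R, glReindex]
    show P * glReindex e.symm h * P⁻¹ = g
    rw [h2]; group

/-- The subalgebra generated by the matrices of a subgroup. -/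
noncomputable def algOf (N : Subgroup (GL ι F)) : Subalgebra F (Matrix ι ι F) := Algebra.adjoin F (matrixSet N)

theorem mem_algOf {N : Subgroup (GL ι F)} {g : GL ι F} (hg : g ∈ N) : (g : Matrix ι ι F) ∈ algOf N :=
  Algebra.subset_adjoin ⟨g, hg, rfl⟩

theorem normalized_algOf {G N : Subgroup (GL ι F)} (h : ∀ g ∈ G, ∀ x ∈ N, g * x * g⁻¹ ∈ N) :
    Normalized G (algOf N) := by
  intro g hg
  have : (algOf N).map (conjHom g) ≤ algOf N := by
    rw [algOf, AlgHom.map_adjoin]
    refine Algebra.adjoin_mono ?_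
    rintro _ ⟨_, ⟨b, hb, rfl⟩, rfl⟩
    exact ⟨g * b * g⁻¹, h g hg b hb, by simp [conjHom_apply]⟩
  intro x hx
  exact this ⟨x, hx, rfl⟩

theorem mem_scalars_of_mem_bot {g : GL ι F} (h : (g : Matrix ι ι F) ∈ (⊥ : Subalgebra F (Matrix ι ι F))) :
    g ∈ scalars ι F := by
  rcases isEmpty_or_nonempty ι with hι | hι
  · rw [Subsingleton.elim g 1]; exact one_mem _
  obtain ⟨c, hc⟩ := Algebra.mem_bot.1 h
  have hc0 : c ≠ 0 := by
    rintro rfl
    rw [map_zero] at hc
    exact (Units.ne_zero g) hc.symm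
  exact (mem_scalars_iff g).2 ⟨Units.mk0 c hc0, by rw [← hc, Algebra.algebraMap_eq_smul_one]; rfl⟩

/-- In a primitive irreducible group normalising no field and no tensor decomposition, a non-scalar normalised
subgroup spans the whole matrix algebra. -/
theorem algOf_eq_top [Fintype F] [Nonempty ι] {G N : Subgroup (GL ι F)}
    (hirr : ActsIrreducibly (matrixSet G)) (hprim : Prim G) (hnf : NoField G) (hnt : NoTensor G)
    (hN : ∀ g ∈ G, ∀ x ∈ N, g * x * g⁻¹ ∈ N) (hns : ¬ N ≤ scalars ι F) : algOf N = ⊤ := by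
  have hA : Normalized G (algOf N) := normalized_algOf hN
  let Z : Subalgebra F (Matrix ι ι F) := algOf N ⊓ Subalgebra.centralizer F (algOf N : Set (Matrix ι ι F))
  have hZnorm : Normalized G Z := by
    intro g hg z hz
    refine ⟨hA g hg z hz.1, ?_⟩
    rw [SetLike.mem_coe, Subalgebra.mem_centralizer_iff]
    intro x hx
    have h1 := (Subalgebra.mem_centralizer_iff F).1 hz.2 _ (hA g⁻¹ (inv_mem hg) x hx)
    have h2 := congrArg (conjHom g) h1
    rwa [map_mul, map_mul, conjHom_cancel] at h2
  have hZ : Z = ⊥ := comm_eq_bot hirr hprim hnf hZnorm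
    (fun x hx y hy => (Subalgebra.mem_centralizer_iff F).1 hy.2 x hx.1)
  obtain ⟨a, ha, φ, hφi, hφr⟩ := exists_matrix_hom hirr hA (fun z hz hc => hZ.le
    ⟨hz, (Subalgebra.mem_centralizer_iff F).2 fun x hx => (hc x hx).symm⟩)
  obtain ⟨b, e, P, hb, rfl⟩ := exists_tensorEmb φ
  haveI : NeZero b := ⟨by omega⟩
  by_cases hb2 : 2 ≤ b
  · exfalso
    by_cases ha2 : 2 ≤ a
    · refine hnt a b e P ha2 hb2 fun g hg => mem_tensorProductSubgroup e P g fun X => ?_
      have h1 := hA g hg (tensorEmb a b e P X) (hφr ▸ ⟨X, rfl⟩)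
      rw [← hφr] at h1
      obtain ⟨Y, hY⟩ := h1
      exact ⟨Y, hY.symm⟩
    · have ha1 : a = 1 := by have := NeZero.ne a; omega
      subst ha1
      refine hns fun x hx => mem_scalars_of_mem_bot ?_
      have h1 := mem_algOf hx
      rw [← hφr] at h1
      obtain ⟨X, hX⟩ := h1
      rw [← hX, show X = algebraMap F _ (X 0 0) by
        ext i j; rw [Subsingleton.elim i 0, Subsingleton.elim j 0]; simp [Matrix.algebraMap_eq_diagonal]]
      show tensorEmb 1 b e P (algebraMap F _ (X 0 0)) ∈ (⊥ : Subalgebra F (Matrix ι ι F))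
      rw [AlgHom.commutes]
      exact Algebra.mem_bot.2 ⟨_, rfl⟩
  · have hb1 : b = 1 := by omega
    subst hb1
    have hcard := Fintype.card_congr e
    simp only [Fintype.card_prod, Fintype.card_fin, mul_one] at hcard
    rw [← Algebra.toSubmodule_eq_top, ← hφr]
    apply Submodule.eq_top_of_finrank_eq
    show Module.finrank F (LinearMap.range (tensorEmb a 1 e P).toLinearMap) = _
    rw [LinearMap.finrank_range_of_inj hφi, Module.finrank_matrix, Module.finrank_matrix]
    simp [hcard]

end CfsgLib.Geo.Asch
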