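import Mathlib
import Cfsg.Prelude.Def_GeometricClasses
import Cfsg.Agent.Lib.Geo.AschAlgebra

/-!
Group-theoretic half of the structure theorem for irreducible linear groups:
a minimal normal non-scalar subgroup is of symplectic type, a central product of equal factors, or simple modulo scalars.
-/

set_option autoImplicit false

namespace CfsgLib.Geo.Asch

open Cfsg Cfsg.Geo Matrix
open scoped MatrixGroups commutatorElement

variable {ι : Type} [Fintype ι] [DecidableEq ι] {F : Type*} [Field F]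

theorem scalars_comm {s : GL ι F} (hs : s ∈ scalars ι F) (g : GL ι F) : s * g = g * s := by
  obtain ⟨c, hc⟩ := (mem_scalars_iff s).1 hs
  apply Units.ext
  rw [Units.val_mul, Units.val_mul, hc, Matrix.smul_mul, Matrix.mul_smul, one_mul, mul_one]

theorem mulVec_mem_of_algOf {N : Subgroup (GL ι F)} {W : Submodule F (ι → F)}
    (hW : ∀ s ∈ matrixSet N, W.map (Matrix.toLin' s) ≤ W) {M : Matrix ι ι F} (hM : M ∈ algOf N) :
    ∀ v ∈ W, M *ᵥ v ∈ W := by
  induction hM using Algebra.adjoin_induction with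
  | mem s hs => exact fun v hv => hW s hs ⟨v, hv, Matrix.toLin'_apply s v⟩
  | algebraMap r =>
    intro v hv
    rw [Algebra.algebraMap_eq_smul_one, Matrix.smul_mulVec, Matrix.one_mulVec]
    exact W.smul_mem r hv
  | add x y _ _ hx hy =>
    intro v hv
    rw [Matrix.add_mulVec]
    exact W.add_mem (hx v hv) (hy v hv)
  | mul x y _ _ hx hy =>
    intro v hv
    rw [← Matrix.mulVec_mulVec]
    exact hx _ (hy v hv)

theorem irreducible_of_algOf_eq_top {N : Subgroup (GL ι F)} (h : algOf N = ⊤) :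
    ActsIrreducibly (matrixSet N) := by
  intro W hW
  by_contra hne
  push Not at hne
  obtain ⟨v, hv, hv0⟩ := (Submodule.ne_bot_iff W).1 hne.1
  obtain ⟨j, hj⟩ : ∃ j, v j ≠ 0 := by
    by_contra hall
    push Not at hall
    exact hv0 (funext hall)
  refine hne.2 (eq_top_iff.2 fun w _ => ?_)
  have hmem : Matrix.vecMulVec w (Pi.single j (v j)⁻¹) ∈ algOf N := h ▸ Algebra.mem_top
  have := mulVec_mem_of_algOf hW hmem v hv
  rwa [Matrix.vecMulVec_mulVec, single_dotProduct, inv_mul_cancel₀ hj, MulOpposite.op_one, one_smul] at this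

theorem commute_algOf {N : Subgroup (GL ι F)} {M : Matrix ι ι F}
    (h : ∀ s ∈ matrixSet N, M * s = s * M) {X : Matrix ι ι F} (hX : X ∈ algOf N) : M * X = X * M := by
  induction hX using Algebra.adjoin_induction with
  | mem s hs => exact h s hs
  | algebraMap r => exact (Algebra.commutes r M).symm
  | add x y _ _ hx hy => rw [mul_add, add_mul, hx, hy]
  | mul x y _ _ hx hy => rw [← mul_assoc, hx, mul_assoc, hy, mul_assoc]

theorem scalar_of_commute {N : Subgroup (GL ι F)} (hN : algOf N = ⊤) {M : Matrix ι ι F}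
    (h : ∀ s ∈ matrixSet N, M * s = s * M) : ∃ c : F, M = c • (1 : Matrix ι ι F) := by
  have hall : ∀ X, M * X = X * M := fun X => commute_algOf h (hN ▸ Algebra.mem_top)
  rcases isEmpty_or_nonempty ι with hι | ⟨⟨i⟩⟩
  · exact ⟨0, Subsingleton.elim _ _⟩
  obtain ⟨c, hc⟩ := Matrix.mem_range_scalar_of_commute_single (M := M) (fun a b _ => (hall (Matrix.single a b 1)).symm)
  exact ⟨c, by rw [← hc, Matrix.scalar_apply, Matrix.smul_one_eq_diagonal]⟩

theorem absIrred_of_algOf_eq_top {N : Subgroup (GL ι F)} (h : algOf N = ⊤) :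
    ActsAbsolutelyIrreducibly (matrixSet N) :=
  ⟨irreducible_of_algOf_eq_top h, fun _ hM => scalar_of_commute h hM⟩

theorem mem_scalars_of_commute {N : Subgroup (GL ι F)} (hN : algOf N = ⊤) {g : GL ι F}
    (h : ∀ x ∈ N, g * x = x * g) : g ∈ scalars ι F := by
  rcases isEmpty_or_nonempty ι with hι | hι
  · rw [Subsingleton.elim g 1]; exact one_mem _
  obtain ⟨c, hc⟩ := scalar_of_commute hN (M := (g : Matrix ι ι F)) (by
    rintro _ ⟨x, hx, rfl⟩
    show (g : Matrix ι ι F) * x = x * g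
    rw [← Units.val_mul, h x hx, Units.val_mul])
  refine mem_scalars_of_mem_bot (Algebra.mem_bot.2 ⟨c, ?_⟩)
  rw [hc, Algebra.algebraMap_eq_smul_one]

/-- An irreducible group in dimension at least two is not scalar. -/
theorem not_le_scalars_of_irreducible {G : Subgroup (GL ι F)} (hirr : ActsIrreducibly (matrixSet G))
    (hn : 2 ≤ Fintype.card ι) : ¬ G ≤ scalars ι F := by
  intro h
  obtain ⟨i⟩ : Nonempty ι := Fintype.card_pos_iff.1 (by omega)
  have := hirr (Submodule.span F {Pi.single i (1 : F)}) (by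
    rintro _ ⟨g, hg, rfl⟩
    rintro _ ⟨v, hv, rfl⟩
    obtain ⟨c, hc⟩ := (mem_scalars_iff g).1 (h hg)
    show Matrix.toLin' (g : Matrix ι ι F) v ∈ _
    rw [Matrix.toLin'_apply, hc, Matrix.smul_mulVec, Matrix.one_mulVec]
    exact Submodule.smul_mem _ _ hv)
  rcases this with h1 | h1
  · rw [Submodule.span_singleton_eq_bot] at h1
    exact one_ne_zero (Pi.single_eq_zero_iff.1 h1)
  · have h2 := congrArg (fun W : Submodule F (ι → F) => Module.finrank F W) h1
    simp only [finrank_top, Module.finrank_fintype_fun_eq_card] at h2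
    have hne : (Pi.single i (1 : F) : ι → F) ≠ 0 := fun h0 => one_ne_zero (Pi.single_eq_zero_iff.1 h0)
    have := finrank_span_singleton (K := F) hne
    omega

/-- A class two subgroup spanning everything has index n² over its scalars. -/
theorem card_quotient_eq_sq [Fintype F] [Nonempty ι] {N : Subgroup (GL ι F)} (hN : algOf N = ⊤)
    (hcl : ∀ x ∈ N, ∀ y ∈ N, x * y * x⁻¹ * y⁻¹ ∈ scalars ι F) :
    Nat.card (N ⧸ (scalars ι F).subgroupOf N) = Fintype.card ι ^ 2 := by
  classical
  haveI := scalars_normal (ι := ι) (F := F)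
  let Q := N ⧸ (scalars ι F).subgroupOf N
  haveI : Fintype Q := Fintype.ofFinite Q
  let rep : Q → N := fun a => Quotient.out a
  let v : Q → Matrix ι ι F := fun a => ((rep a : GL ι F) : Matrix ι ι F)
  have hchar : ∀ x ∈ N, ∀ a : Q, ∃ c : F, conjHom x (v a) = c • v a := by
    intro x hx a
    obtain ⟨c, hc⟩ := (mem_scalars_iff _).1 (hcl x hx _ (rep a).2)
    refine ⟨(c : F), ?_⟩
    have h1 : x * (rep a : GL ι F) * x⁻¹ = (x * (rep a : GL ι F) * x⁻¹ * (rep a : GL ι F)⁻¹) * (rep a : GL ι F) := by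
      group
    show _ = (c : F) • ((rep a : GL ι F) : Matrix ι ι F)
    rw [conjHom_apply, ← Units.val_mul, ← Units.val_mul, h1, Units.val_mul, hc, Matrix.smul_mul, one_mul]
  choose χ hχ using hchar
  have hdist : ∀ a b : Q, (∀ x (hx : x ∈ N), χ x hx a = χ x hx b) → a = b := by
    intro a b h
    have hmem : (rep a : GL ι F)⁻¹ * rep b ∈ scalars ι F := by
      refine mem_scalars_of_commute hN fun x hx => ?_
      obtain ⟨z, hzs, hz⟩ : ∃ z : GL ι F, z ∈ scalars ι F ∧ z = x * rep a * x⁻¹ * (rep a : GL ι F)⁻¹ :=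
        ⟨_, hcl x hx _ (rep a).2, rfl⟩
      have ha : x * rep a * x⁻¹ = z * rep a := by rw [hz]; group
      have hb : x * rep b * x⁻¹ = z * rep b := by
        apply Units.ext
        have e1 := hχ x hx b
        have e2 := hχ x hx a
        rw [conjHom_apply, ← Units.val_mul, ← Units.val_mul] at e1 e2
        rw [e1, Units.val_mul z]
        rw [ha, Units.val_mul] at e2
        have h3 := congrArg (fun M => M * (((rep a : GL ι F)⁻¹ : GL ι F) : Matrix ι ι F)) e2
        simp only [mul_assoc, Units.mul_inv, mul_one, Matrix.smul_mul] at h3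
        rw [h3, Matrix.smul_mul, h x hx]
        congr 1
        simp [v]
      have h2 : x * ((rep a : GL ι F)⁻¹ * rep b) * x⁻¹ = (rep a : GL ι F)⁻¹ * rep b := by
        calc x * ((rep a : GL ι F)⁻¹ * rep b) * x⁻¹ = (x * rep a * x⁻¹)⁻¹ * (x * rep b * x⁻¹) := by group
          _ = _ := by rw [ha, hb]; group
      have h3 := congrArg (fun u => u * x) h2
      simp only [mul_assoc, inv_mul_cancel, mul_one] at h3
      simp only [mul_assoc]
      exact h3.symm
    rw [← QuotientGroup.out_eq' a, ← QuotientGroup.out_eq' b, QuotientGroup.eq, Subgroup.mem_subgroupOf]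
    simpa [rep] using hmem
  have hli : LinearIndependent F v := by
    rw [linearIndependent_iff']
    intro T
    induction T using Finset.induction with
    | empty => simp
    | insert a T ha ih =>
      intro c hc i hi
      rw [Finset.sum_insert ha] at hc
      have hkey : ∀ b ∈ T, c b = 0 := by
        intro b hb
        obtain ⟨x, hx, hne⟩ : ∃ x, ∃ hx : x ∈ N, χ x hx a ≠ χ x hx b := by
          by_contra hall
          push Not at hall
          exact ha (hdist a b (fun x hx => hall x hx) ▸ hb)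
        have h1 := congrArg (conjHom x) hc
        rw [map_add, map_smul, map_sum, map_zero, hχ x hx a] at h1
        simp only [map_smul, hχ x hx] at h1
        have h2 := congrArg (fun M => χ x hx a • M) hc
        simp only [smul_add, smul_zero, Finset.smul_sum] at h2
        have h3 : ∑ b ∈ T, (c b * (χ x hx b - χ x hx a)) • v b = 0 := by
          have h4 := sub_eq_zero.2 (h1.trans h2.symm)
          rw [smul_comm (χ x hx a) (c a) (v a), add_sub_add_left_eq_sub, ← Finset.sum_sub_distrib] at h4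
          rw [← h4]
          refine Finset.sum_congr rfl fun b _ => ?_
          rw [mul_sub, sub_smul, mul_smul, mul_comm (c b) (χ x hx a), mul_smul]
        exact (mul_eq_zero.1 (ih _ h3 b hb)).resolve_right (sub_ne_zero.2 (Ne.symm hne))
      rcases Finset.mem_insert.1 hi with rfl | hi
      · rw [Finset.sum_eq_zero (fun b hb => by rw [hkey b hb, zero_smul]), add_zero] at hc
        exact (smul_eq_zero.1 hc).resolve_right (Units.ne_zero _)
      · exact hkey i hi
  have hspan : Submodule.span F (Set.range v) = ⊤ := by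
    have hgen : matrixSet N ⊆ (Submodule.span F (Set.range v) : Set (Matrix ι ι F)) := by
      rintro _ ⟨x, hx, rfl⟩
      set a : Q := QuotientGroup.mk ⟨x, hx⟩ with ha
      have h1 : (rep a)⁻¹ * ⟨x, hx⟩ ∈ (scalars ι F).subgroupOf N := by
        rw [← QuotientGroup.eq]
        exact QuotientGroup.out_eq' a
      rw [Subgroup.mem_subgroupOf] at h1
      obtain ⟨c, hc⟩ := (mem_scalars_iff _).1 h1
      have h2 : (x : Matrix ι ι F) = (c : F) • v a := by
        have e : x = (rep a : GL ι F) * ((rep a : GL ι F)⁻¹ * x) := by group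
        rw [e, Units.val_mul]
        simp only [Subgroup.coe_mul, Subgroup.coe_inv] at hc
        rw [hc, Matrix.mul_smul, mul_one]
      rw [SetLike.mem_coe]
      show (x : Matrix ι ι F) ∈ _
      rw [h2]
      exact Submodule.smul_mem _ _ (Submodule.subset_span ⟨a, rfl⟩)
    have h1 : (algOf N).toSubmodule = Submodule.span F (Submonoid.closure (matrixSet N) : Set (Matrix ι ι F)) :=
      Algebra.adjoin_eq_span _ _
    rw [hN, Algebra.top_toSubmodule] at h1
    rw [eq_top_iff, h1, Submodule.span_le]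
    refine subset_trans ?_ hgen
    intro M hM
    induction hM using Submonoid.closure_induction with
    | mem M h => exact h
    | one => exact ⟨1, N.one_mem, rfl⟩
    | mul A B _ _ hA hB =>
      obtain ⟨a, ha, rfl⟩ := hA
      obtain ⟨b, hb, rfl⟩ := hB
      exact ⟨a * b, N.mul_mem ha hb, rfl⟩
  have h := linearIndependent_iff_card_eq_finrank_span.1 hli
  rw [Set.finrank, hspan, finrank_top, Module.finrank_matrix, Module.finrank_self, mul_one] at h
  rw [Nat.card_eq_fintype_card, h, sq]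

/-- In the class two case the degree is a prime power. -/
theorem isPrimePow_of_minimal [Fintype F] [Nonempty ι] (hn : 2 ≤ Fintype.card ι) {H N : Subgroup (GL ι F)}
    (hNinv : ∀ g ∈ H, ∀ x ∈ N, g * x * g⁻¹ ∈ N) (hspan : algOf N = ⊤)
    (hcl : ∀ x ∈ N, ∀ y ∈ N, x * y * x⁻¹ * y⁻¹ ∈ scalars ι F)
    (hmin : ∀ K : Subgroup (GL ι F), K ≤ N → (∀ g ∈ H, ∀ x ∈ K, g * x * g⁻¹ ∈ K) → ¬ K ≤ scalars ι F → K = N) :
    IsPrimePow (Fintype.card ι) := by
  classical
  haveI := scalars_normal (ι := ι) (F := F)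
  have hcard := card_quotient_eq_sq hspan hcl
  let Q := N ⧸ (scalars ι F).subgroupOf N
  have hQcomm : ∀ a b : Q, a * b = b * a := by
    intro a b
    induction a using QuotientGroup.induction_on with
    | _ a =>
    induction b using QuotientGroup.induction_on with
    | _ b =>
    rw [← QuotientGroup.mk_mul, ← QuotientGroup.mk_mul, QuotientGroup.eq, Subgroup.mem_subgroupOf]
    have h1 := hcl _ (N.inv_mem b.2) _ (N.inv_mem a.2)
    simp only [inv_inv] at h1
    simpa [mul_assoc] using h1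
  set n := Fintype.card ι with hn'
  have hp := Nat.minFac_prime (show n ≠ 1 by omega)
  set r := n.minFac with hr
  haveI : Fact r.Prime := ⟨hp⟩
  let π : N →* Q := QuotientGroup.mk' _
  have hπ : ∀ x : N, π x = 1 ↔ (x : GL ι F) ∈ scalars ι F := fun x => by
    rw [QuotientGroup.mk'_apply, QuotientGroup.eq_one_iff, Subgroup.mem_subgroupOf]
  let K : Subgroup N :=
    { carrier := {x | π x ^ r = 1}
      one_mem' := by simp
      mul_mem' := fun {a b} ha hb => by
        simp only [Set.mem_setOf_eq] at ha hb ⊢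
        rw [map_mul, (show Commute (π a) (π b) from hQcomm _ _).mul_pow, ha, hb, one_mul]
      inv_mem' := fun {a} ha => by
        simp only [Set.mem_setOf_eq] at ha ⊢
        rw [map_inv, inv_pow, ha, inv_one] }
  have hKmem : ∀ x : N, x ∈ K ↔ ((x : GL ι F)) ^ r ∈ scalars ι F := fun x => by
    show π x ^ r = 1 ↔ _
    rw [← map_pow, hπ, Subgroup.coe_pow]
  have hKN : K.map N.subtype = N := by
    refine hmin _ (Subgroup.map_subtype_le K) ?_ ?_
    · rintro g hg _ ⟨x, hx, rfl⟩
      refine ⟨⟨g * x * g⁻¹, hNinv g hg _ x.2⟩, (hKmem _).2 ?_, rfl⟩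
      show (g * (x : GL ι F) * g⁻¹) ^ r ∈ _
      rw [conj_pow]
      exact (scalars_normal (ι := ι) (F := F)).conj_mem _ ((hKmem x).1 hx) g
    · obtain ⟨a, ha⟩ := exists_prime_orderOf_dvd_card' (G := Q) r (by
        rw [hcard, sq]; exact dvd_mul_of_dvd_left (Nat.minFac_dvd n) n)
      obtain ⟨x, rfl⟩ := QuotientGroup.mk'_surjective _ a
      intro hle
      have h1 : (x : GL ι F) ∈ scalars ι F := hle ⟨x, by
        show π x ^ r = 1
        rw [← ha]; exact pow_orderOf_eq_one _, rfl⟩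
      rw [show (QuotientGroup.mk' _) x = π x from rfl, (hπ x).2 h1, orderOf_one] at ha
      exact hp.one_lt.ne ha
  have hQr : IsPGroup r Q := by
    intro a
    obtain ⟨x, rfl⟩ := QuotientGroup.mk'_surjective _ a
    refine ⟨1, ?_⟩
    rw [pow_one]
    have : (x : GL ι F) ∈ K.map N.subtype := by rw [hKN]; exact x.2
    obtain ⟨y, hy, hxy⟩ := this
    rw [← Subtype.ext hxy]
    exact hy
  obtain ⟨k, hk⟩ := IsPGroup.iff_card.1 hQr
  rw [hcard] at hk
  have hdvd : n ∣ r ^ k := hk ▸ dvd_pow_self n two_ne_zero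
  obtain ⟨m, -, hm⟩ := (Nat.dvd_prime_pow hp).1 hdvd
  refine (isPrimePow_nat_iff n).2 ⟨r, m, hp, Nat.pos_of_ne_zero ?_, hm.symm⟩
  rintro rfl
  rw [pow_zero] at hm
  omega

/-- The dimension spanned by a commuting family of matrix algebras of size a is a^(2t). -/
theorem finrank_algOf_sup [Fintype F] [Nonempty ι] {a : ℕ} [NeZero a]
    (φ : Matrix (Fin a) (Fin a) F →ₐ[F] Matrix ι ι F) {M L : Subgroup (GL ι F)}
    (hφ : φ.range = algOf M) (hcomm : ∀ x ∈ M, ∀ y ∈ L, x * y = y * x) :
    Module.finrank F (algOf (M ⊔ L)) = a * a * Module.finrank F (algOf L) := by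
  classical
  have hcomm' : ∀ X, ∀ Y ∈ algOf L, φ X * Y = Y * φ X := by
    intro X Y hY
    have hX : φ X ∈ algOf M := hφ ▸ ⟨X, rfl⟩
    refine commute_algOf (N := L) (fun s hs => ?_) hY
    obtain ⟨y, hy, rfl⟩ := hs
    refine (commute_algOf (N := M) (fun s hs => ?_) hX).symm
    obtain ⟨x, hx, rfl⟩ := hs
    show (y : Matrix ι ι F) * x = x * y
    rw [← Units.val_mul, ← hcomm x hx y hy, Units.val_mul]
  let Ψ : (Fin a × Fin a → algOf L) →ₗ[F] Matrix ι ι F :=
    { toFun := fun c => ∑ p, φ (Matrix.single p.1 p.2 1) * (c p : Matrix ι ι F)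
      map_add' := fun c d => by simp [mul_add, Finset.sum_add_distrib]
      map_smul' := fun s c => by simp [Finset.smul_sum] }
  have hΨ : ∀ c, Ψ c = ∑ p, φ (Matrix.single p.1 p.2 1) * (c p : Matrix ι ι F) := fun c => rfl
  have hinj : Function.Injective Ψ := by
    rw [← LinearMap.ker_eq_bot, LinearMap.ker_eq_bot']
    intro c hc
    funext ⟨l, m⟩
    apply Subtype.ext
    have hk : ∀ k, φ (Matrix.single k k 1) * (c (l, m) : Matrix ι ι F) = 0 := by
      intro k
      have h1 := congrArg (fun X => φ (Matrix.single k l 1) * X * φ (Matrix.single m k 1)) hc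
      simp only [hΨ, Finset.mul_sum, Finset.sum_mul, mul_zero, zero_mul] at h1
      rw [Finset.sum_eq_single (l, m)] at h1
      · rw [mul_assoc, mul_assoc, ← hcomm' _ _ (c (l, m)).2, ← mul_assoc, ← mul_assoc, ← map_mul, ← map_mul,
          Matrix.single_mul_single_same, Matrix.single_mul_single_same, one_mul, one_mul] at h1
        exact h1
      · rintro ⟨i, j⟩ - hne
        rw [mul_assoc, mul_assoc, ← hcomm' _ _ (c (i, j)).2, ← mul_assoc, ← mul_assoc, ← map_mul, ← map_mul]
        by_cases hi : l = i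
        · subst hi
          rw [Matrix.single_mul_single_same, one_mul,
            Matrix.single_mul_single_of_ne (h := fun h => hne (Prod.ext rfl h)), map_zero, zero_mul]
        · rw [Matrix.single_mul_single_of_ne (h := hi), zero_mul, map_zero, zero_mul]
      · exact fun h => absurd (Finset.mem_univ _) h
    have h2 : (∑ k : Fin a, φ (Matrix.single k k 1)) * (c (l, m) : Matrix ι ι F) = 0 := by
      rw [Finset.sum_mul]; exact Finset.sum_eq_zero fun k _ => hk k
    rw [← map_sum] at h2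
    have h3 : (∑ i : Fin a, Matrix.single i i (1 : F)) = 1 := by
      ext i j
      rw [Matrix.sum_apply, Matrix.one_apply]
      by_cases h : i = j
      · subst h; simp [Matrix.single_apply]
      · rw [if_neg h]
        refine Finset.sum_eq_zero fun x _ => ?_
        rw [Matrix.single_apply, if_neg]
        rintro ⟨rfl, rfl⟩; exact h rfl
    rw [h3, map_one, one_mul] at h2
    exact h2
  have hrange : LinearMap.range Ψ = (algOf (M ⊔ L)).toSubmodule := by
    have hML : algOf M ≤ algOf (M ⊔ L) := Algebra.adjoin_mono (Set.image_mono (le_sup_left : M ≤ M ⊔ L))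
    have hLL : algOf L ≤ algOf (M ⊔ L) := Algebra.adjoin_mono (Set.image_mono (le_sup_right : L ≤ M ⊔ L))
    have hsingle : ∀ X, ∀ Y ∈ algOf L, φ X * Y ∈ LinearMap.range Ψ := by
      intro X Y hY
      refine ⟨fun p => X p.1 p.2 • ⟨Y, hY⟩, ?_⟩
      rw [hΨ]
      conv_rhs => rw [Matrix.matrix_eq_sum_single X, map_sum, Finset.sum_mul]
      rw [Fintype.sum_prod_type]
      refine Finset.sum_congr rfl fun i _ => ?_
      rw [map_sum, Finset.sum_mul]
      refine Finset.sum_congr rfl fun j _ => ?_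
      rw [SetLike.val_smul, Matrix.mul_smul, ← Matrix.smul_mul, ← map_smul, Matrix.smul_single, smul_eq_mul, mul_one]
    apply le_antisymm
    · rintro _ ⟨c, rfl⟩
      rw [hΨ]
      refine Submodule.sum_mem _ fun p _ => ?_
      show _ ∈ algOf (M ⊔ L)
      exact mul_mem (hML (hφ ▸ ⟨_, rfl⟩)) (hLL (c p).2)
    · have hone : (1 : Matrix ι ι F) ∈ LinearMap.range Ψ := by
        have := hsingle 1 1 (one_mem _)
        rwa [map_one, one_mul] at this
      have hmul : ∀ x y, x ∈ LinearMap.range Ψ → y ∈ LinearMap.range Ψ → x * y ∈ LinearMap.range Ψ := by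
        rintro _ _ ⟨c, rfl⟩ ⟨d, rfl⟩
        rw [hΨ, hΨ, Finset.sum_mul]
        refine Submodule.sum_mem _ fun p _ => ?_
        rw [Finset.mul_sum]
        refine Submodule.sum_mem _ fun p' _ => ?_
        rw [mul_assoc, ← mul_assoc (c p : Matrix ι ι F), ← hcomm' _ _ (c p).2, mul_assoc, ← mul_assoc, ← map_mul]
        exact hsingle _ _ (mul_mem (c p).2 (d p').2)
      have : algOf (M ⊔ L) ≤ (LinearMap.range Ψ).toSubalgebra hone hmul := by
        refine Algebra.adjoin_le ?_
        rintro _ ⟨g, hg, rfl⟩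
        have hsub : M ⊔ L ≤
            { carrier := {g : GL ι F | (g : Matrix ι ι F) ∈ LinearMap.range Ψ ∧ ((g⁻¹ : GL ι F) : Matrix ι ι F) ∈ LinearMap.range Ψ}
              mul_mem' := fun {a b} ha hb => ⟨hmul _ _ ha.1 hb.1, by rw [_root_.mul_inv_rev]; exact hmul _ _ hb.2 ha.2⟩
              one_mem' := ⟨hone, by rw [inv_one]; exact hone⟩
              inv_mem' := fun {a} ha => ⟨ha.2, by rw [inv_inv]; exact ha.1⟩ } := by
          refine sup_le (fun x hx => ⟨?_, ?_⟩) (fun x hx => ⟨?_, ?_⟩)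
          · obtain ⟨X, hX⟩ : (x : Matrix ι ι F) ∈ φ.range := hφ ▸ mem_algOf hx
            have := hsingle X 1 (one_mem _); rw [mul_one, show φ X = (x : Matrix ι ι F) from hX] at this; exact this
          · obtain ⟨X, hX⟩ : ((x⁻¹ : GL ι F) : Matrix ι ι F) ∈ φ.range := hφ ▸ mem_algOf (inv_mem hx)
            have := hsingle X 1 (one_mem _); rw [mul_one, show φ X = _ from hX] at this; exact this
          · have := hsingle 1 _ (mem_algOf hx); rwa [map_one, one_mul] at this
          · have := hsingle 1 _ (mem_algOf (inv_mem hx)); rwa [map_one, one_mul] at this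
        exact (hsub hg).1
      exact this
  have h := LinearMap.finrank_range_of_inj hinj
  rw [hrange, Module.finrank_pi_fintype] at h
  simp only [Finset.sum_const, Finset.card_univ, Fintype.card_prod, Fintype.card_fin, smul_eq_mul] at h
  exact h

theorem conj_map_mem_iff {g : GL ι F} {K : Subgroup (GL ι F)} {y : GL ι F} :
    y ∈ K.map (MulAut.conj g).toMonoidHom ↔ g⁻¹ * y * g ∈ K := by
  rw [Subgroup.mem_map]
  constructor
  · rintro ⟨x, hx, rfl⟩; simpa [mul_assoc] using hx
  · intro h; exact ⟨_, h, by simp [mul_assoc]⟩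

/-- The perfect case: either there are no proper non-scalar subgroups normalised by `N`, or the degree is a proper power. -/
theorem simple_or_power [Fintype F] [Nonempty ι] {H N : Subgroup (GL ι F)} (hNH : N ≤ H)
    (hNinv : ∀ g ∈ H, ∀ x ∈ N, g * x * g⁻¹ ∈ N) (hspan : algOf N = ⊤)
    (hperf : ¬ ∀ x ∈ N, ∀ y ∈ N, x * y * x⁻¹ * y⁻¹ ∈ scalars ι F)
    (hmin : ∀ K : Subgroup (GL ι F), K ≤ N → (∀ g ∈ H, ∀ x ∈ K, g * x * g⁻¹ ∈ K) → ¬ K ≤ scalars ι F → K = N) :
    (∀ K : Subgroup (GL ι F), K ≤ N → (∀ g ∈ N, ∀ x ∈ K, g * x * g⁻¹ ∈ K) → ¬ K ≤ scalars ι F → K = N) ∨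
      ∃ a t : ℕ, 2 ≤ a ∧ 2 ≤ t ∧ Fintype.card ι = a ^ t := by
  classical
  haveI := scalars_normal (ι := ι) (F := F)
  by_cases hall : ∀ K : Subgroup (GL ι F), K ≤ N → (∀ g ∈ N, ∀ x ∈ K, g * x * g⁻¹ ∈ K) → ¬ K ≤ scalars ι F → K = N
  · exact Or.inl hall
  right
  push Not at hall
  obtain ⟨K0, hK0N, hK0inv, hK0ns, hK0ne⟩ := hall
  let P : Subgroup (GL ι F) → Prop :=
    fun K => K ≤ K0 ∧ (∀ g ∈ N, ∀ x ∈ K, g * x * g⁻¹ ∈ K) ∧ ¬ K ≤ scalars ι F
  obtain ⟨M, ⟨hMK0, hMinv, hMns⟩, hMmin⟩ := (Set.toFinite {K | P K}).exists_minimal ⟨K0, le_rfl, hK0inv, hK0ns⟩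
  have hMN : M ≤ N := hMK0.trans hK0N
  have hMne : M ≠ N := fun h => hK0ne (le_antisymm hK0N (h ▸ hMK0))
  -- minimality among all normalised subgroups of N
  have hMmin' : ∀ K, K ≤ M → (∀ g ∈ N, ∀ x ∈ K, g * x * g⁻¹ ∈ K) → ¬ K ≤ scalars ι F → K = M :=
    fun K h1 h2 h3 => le_antisymm h1 (hMmin ⟨h1.trans hMK0, h2, h3⟩ h1)
  let cj : GL ι F → Subgroup (GL ι F) → Subgroup (GL ι F) := fun g K => K.map (MulAut.conj g).toMonoidHom
  let C : Finset (Subgroup (GL ι F)) := (Set.toFinite {K | ∃ h ∈ H, K = cj h M}).toFinset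
  have hC : ∀ {K}, K ∈ C ↔ ∃ h ∈ H, K = cj h M := fun {K} => by simp [C]
  have hMC : M ∈ C := hC.2 ⟨1, one_mem _, by ext; simp [cj]⟩
  have hCN : ∀ K ∈ C, K ≤ N := by
    intro K hK
    obtain ⟨h, hh, rfl⟩ := hC.1 hK
    rintro _ ⟨x, hx, rfl⟩
    exact hNinv h hh x (hMN hx)
  have hCinv : ∀ K ∈ C, ∀ g ∈ N, ∀ x ∈ K, g * x * g⁻¹ ∈ K := by
    intro K hK g hg x hx
    obtain ⟨h, hh, rfl⟩ := hC.1 hK
    rw [conj_map_mem_iff] at hx ⊢
    have h1 := hMinv (h⁻¹ * g * h) (by
      have := hNinv h⁻¹ (inv_mem hh) g hg; rwa [inv_inv] at this) _ hx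
    simpa [mul_assoc] using h1
  have hCns : ∀ K ∈ C, ¬ K ≤ scalars ι F := by
    intro K hK hle
    obtain ⟨h, hh, rfl⟩ := hC.1 hK
    refine hMns fun x hx => ?_
    have h1 := (scalars_normal (ι := ι) (F := F)).conj_mem _ (hle ⟨x, hx, rfl⟩) h⁻¹
    simpa [mul_assoc] using h1
  have hCmin : ∀ K ∈ C, ∀ L, L ≤ K → (∀ g ∈ N, ∀ x ∈ L, g * x * g⁻¹ ∈ L) → ¬ L ≤ scalars ι F → L = K := by
    intro K hK L hL hLinv hLns
    obtain ⟨h, hh, rfl⟩ := hC.1 hK
    have h1 : cj h⁻¹ L = M := by
      refine hMmin' _ ?_ ?_ ?_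
      · rintro _ ⟨x, hx, rfl⟩
        have := conj_map_mem_iff.1 (hL hx)
        simpa using this
      · intro g hg x hx
        rw [conj_map_mem_iff] at hx ⊢
        have h2 := hLinv (h * g * h⁻¹) (hNinv h hh g hg) _ hx
        simpa [mul_assoc] using h2
      · intro hle
        refine hLns fun x hx => ?_
        have h1 := (scalars_normal (ι := ι) (F := F)).conj_mem _ (hle ⟨x, hx, rfl⟩) h
        simpa [mul_assoc] using h1
    refine le_antisymm hL ?_
    rw [← h1]
    rintro _ ⟨_, ⟨x, hx, rfl⟩, rfl⟩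
    simpa [mul_assoc] using hx
  have hpair : ∀ K ∈ C, ∀ L ∈ C, K ≠ L → ∀ x ∈ K, ∀ y ∈ L, x * y * x⁻¹ * y⁻¹ ∈ scalars ι F := by
    intro K hK L hL hne x hx y hy
    by_contra hns
    have h1 : x * y * x⁻¹ * y⁻¹ ∈ K ⊓ L := by
      refine ⟨?_, ?_⟩
      · rw [show x * y * x⁻¹ * y⁻¹ = x * (y * x⁻¹ * y⁻¹) by group]
        exact K.mul_mem hx (hCinv K hK y (hCN L hL hy) _ (inv_mem hx))
      · exact L.mul_mem (hCinv L hL x (hCN K hK hx) y hy) (inv_mem hy)
    have hinvKL : ∀ g ∈ N, ∀ z ∈ K ⊓ L, g * z * g⁻¹ ∈ K ⊓ L := fun g hg z hz =>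
      ⟨hCinv K hK g hg z hz.1, hCinv L hL g hg z hz.2⟩
    have hns' : ¬ K ⊓ L ≤ scalars ι F := fun h => hns (h h1)
    exact hne ((hCmin K hK _ inf_le_left hinvKL hns').symm.trans (hCmin L hL _ inf_le_right hinvKL hns'))
  have hsup : C.sup id = N := by
    refine hmin _ (Finset.sup_le hCN) ?_ ?_
    · intro g hg x hx
      have hmap : (C.sup id).map (MulAut.conj g).toMonoidHom ≤ C.sup id := by
        rw [Subgroup.map_le_iff_le_comap]
        refine Finset.sup_le fun K hK => ?_
        rw [← Subgroup.map_le_iff_le_comap]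
        obtain ⟨h, hh, rfl⟩ := hC.1 hK
        have : cj g (cj h M) = cj (g * h) M := by
          ext y; simp only [cj, conj_map_mem_iff, _root_.mul_inv_rev]; simp [mul_assoc]
        show cj g (cj h M) ≤ _
        rw [this]
        exact Finset.le_sup (f := id) (hC.2 ⟨g * h, mul_mem hg hh, rfl⟩)
      exact hmap ⟨x, hx, rfl⟩
    · exact fun h => hMns (le_trans (Finset.le_sup (f := id) hMC) h)
  -- M is perfect
  have hMperf : ⁅M, M⁆ = M := by
    refine hMmin' _ (Subgroup.commutator_le_self M) ?_ ?_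
    · intro g hg x hx
      have hmap : (⁅M, M⁆).map (MulAut.conj g).toMonoidHom ≤ ⁅M, M⁆ := by
        rw [Subgroup.map_commutator]
        apply Subgroup.commutator_mono <;>
        · rintro _ ⟨a, ha, rfl⟩; exact hMinv g hg a ha
      exact hmap ⟨x, hx, rfl⟩
    · intro hle
      apply hperf
      let π : GL ι F →* GL ι F ⧸ scalars ι F := QuotientGroup.mk' _
      have hπ : ∀ a b : GL ι F, Commute (π a) (π b) ↔ a * b * a⁻¹ * b⁻¹ ∈ scalars ι F := by
        intro a b
        rw [← QuotientGroup.eq_one_iff (N := scalars ι F), Commute, SemiconjBy]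
        change _ ↔ π (a * b * a⁻¹ * b⁻¹) = 1
        rw [map_mul, map_mul, map_mul, map_inv, map_inv, mul_inv_eq_one, mul_inv_eq_iff_eq_mul]
      have hKK : ∀ K ∈ C, ∀ x ∈ K, ∀ y ∈ K, x * y * x⁻¹ * y⁻¹ ∈ scalars ι F := by
        intro K hK x hx y hy
        obtain ⟨h, hh, rfl⟩ := hC.1 hK
        obtain ⟨a, ha, rfl⟩ := hx
        obtain ⟨b, hb, rfl⟩ := hy
        have h1 := (scalars_normal (ι := ι) (F := F)).conj_mem _ (hle (Subgroup.commutator_mem_commutator ha hb)) h
        simpa [mul_assoc, commutatorElement_def] using h1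
      have hall : ∀ K ∈ C, ∀ L ∈ C, ∀ x ∈ K, ∀ y ∈ L, Commute (π x) (π y) := by
        intro K hK L hL x hx y hy
        rw [hπ]
        by_cases h : K = L
        · subst h; exact hKK K hK x hx y hy
        · exact hpair K hK L hL h x hx y hy
      intro x hx y hy
      rw [← hπ]
      have h1 : N ≤ (Subgroup.centralizer (π '' (N : Set (GL ι F)))).comap π := by
        have h2 : ∀ K ∈ C, N ≤ (Subgroup.centralizer (π '' (K : Set (GL ι F)))).comap π := by
          intro K hK
          conv_lhs => rw [← hsup]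
          refine Finset.sup_le fun L hL => fun z hz => ?_
          rw [Subgroup.mem_comap, Subgroup.mem_centralizer_iff]
          rintro _ ⟨w, hw, rfl⟩
          exact hall K hK L hL w hw z hz
        intro z hz
        rw [Subgroup.mem_comap, Subgroup.mem_centralizer_iff]
        rintro _ ⟨w, hw, rfl⟩
        have h3 : N ≤ (Subgroup.centralizer {π z}).comap π := by
          conv_lhs => rw [← hsup]
          refine Finset.sup_le fun K hK => fun v hv => ?_
          rw [Subgroup.mem_comap, Subgroup.mem_centralizer_iff]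
          rintro _ rfl
          exact (Subgroup.mem_centralizer_iff.1 (h2 K hK hz) (π v) ⟨v, hv, rfl⟩).symm
        exact (Subgroup.mem_centralizer_iff.1 (h3 hw) (π z) rfl).symm
      exact (Subgroup.mem_centralizer_iff.1 (h1 hy) (π x) ⟨x, hx, rfl⟩)
  have hcommM : ∀ K ∈ C, K ≠ M → ∀ x ∈ M, ∀ y ∈ K, x * y = y * x := by
    intro K hK hne x hx y hy
    have h1 : ⁅M, K⁆ ≤ scalars ι F := Subgroup.commutator_le.2 fun a ha b hb => hpair M hMC K hK (Ne.symm hne) a ha b hb
    have hcen : ∀ X : Subgroup (GL ι F), X ≤ scalars ι F → ⁅X, M⁆ = ⊥ := by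
      intro X hX
      rw [Subgroup.commutator_eq_bot_iff_le_centralizer]
      exact fun a ha => Subgroup.mem_centralizer_iff.2 fun b _ => (scalars_comm (hX ha) b).symm
    have h2 : ⁅⁅M, M⁆, K⁆ = ⊥ := Subgroup.commutator_commutator_eq_bot_of_rotate
      (hcen _ h1) (hcen _ (by rw [Subgroup.commutator_comm]; exact h1))
    rw [hMperf, Subgroup.commutator_eq_bot_iff_le_centralizer] at h2
    exact (Subgroup.mem_centralizer_iff.1 (h2 hx) y hy).symm
  have hMnorm : Normalized N (algOf M) := normalized_algOf hMinv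
  have hNirr : ActsIrreducibly (matrixSet N) := irreducible_of_algOf_eq_top hspan
  obtain ⟨a, ha, φ, hφi, hφr⟩ := exists_matrix_hom hNirr hMnorm (fun z hz hc => by
    have hNc : N ≤ { carrier := {g : GL ι F | z * g = g * z}
                     mul_mem' := fun {g h} hg hh => by
                       simp only [Set.mem_setOf_eq, Units.val_mul] at hg hh ⊢
                       rw [← mul_assoc, hg, mul_assoc, hh, mul_assoc]
                     one_mem' := by simp
                     inv_mem' := fun {g} hg => by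
                       simp only [Set.mem_setOf_eq] at hg ⊢
                       calc z * ((g⁻¹ : GL ι F) : Matrix ι ι F)
                           = ((g⁻¹ : GL ι F) : Matrix ι ι F) * ((g : Matrix ι ι F) * z) * ((g⁻¹ : GL ι F) : Matrix ι ι F) := by
                             rw [← mul_assoc ((g⁻¹ : GL ι F) : Matrix ι ι F), Units.inv_mul, one_mul]
                         _ = ((g⁻¹ : GL ι F) : Matrix ι ι F) * z := by
                             rw [← hg, mul_assoc, mul_assoc, Units.mul_inv, mul_one] } := by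
      conv_lhs => rw [← hsup]
      refine Finset.sup_le fun K hK => fun y hy => ?_
      show z * (y : Matrix ι ι F) = y * z
      by_cases hKM : K = M
      · subst hKM; exact hc _ (mem_algOf hy)
      · refine (commute_algOf (N := M) (M := (y : Matrix ι ι F)) ?_ hz).symm
        rintro _ ⟨x, hx, rfl⟩
        show (y : Matrix ι ι F) * x = x * y
        rw [← Units.val_mul, ← hcommM K hK hKM x hx y hy, Units.val_mul]
    obtain ⟨c, hc'⟩ := scalar_of_commute hspan (M := z) (by rintro _ ⟨g, hg, rfl⟩; exact hNc hg)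
    exact Algebra.mem_bot.2 ⟨c, by rw [hc', Algebra.algebraMap_eq_smul_one]⟩)
  haveI := ha
  -- conjugate embeddings
  have hconj : ∀ K ∈ C, ∃ ψ : Matrix (Fin a) (Fin a) F →ₐ[F] Matrix ι ι F, ψ.range = algOf K := by
    intro K hK
    obtain ⟨h, hh, rfl⟩ := hC.1 hK
    refine ⟨(conjHom h).comp φ, ?_⟩
    rw [AlgHom.range_comp, hφr, algOf, AlgHom.map_adjoin]
    congr 1
    ext X
    constructor
    · rintro ⟨_, ⟨x, hx, rfl⟩, rfl⟩; exact ⟨h * x * h⁻¹, ⟨x, hx, rfl⟩, by simp [conjHom_apply]⟩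
    · rintro ⟨_, ⟨x, hx, rfl⟩, rfl⟩; exact ⟨_, ⟨x, hx, rfl⟩, by simp [conjHom_apply]⟩
  have hcommC : ∀ K ∈ C, ∀ L ∈ C, K ≠ L → ∀ x ∈ K, ∀ y ∈ L, x * y = y * x := by
    intro K hK L hL hne
    obtain ⟨h, hh, rfl⟩ := hC.1 hK
    obtain ⟨k, hk, rfl⟩ := hC.1 hL
    intro x hx y hy
    have hL' : cj (h⁻¹ * k) M ∈ C := hC.2 ⟨_, mul_mem (inv_mem hh) hk, rfl⟩
    have hne' : cj (h⁻¹ * k) M ≠ M := by
      intro e
      apply hne
      have e2 : cj h (cj (h⁻¹ * k) M) = cj k M := by
        ext z; simp only [cj, conj_map_mem_iff, _root_.mul_inv_rev]; simp [mul_assoc]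
      rw [e] at e2
      exact e2
    have h1 := hcommM _ hL' hne' (h⁻¹ * x * h) (conj_map_mem_iff.1 hx) (h⁻¹ * y * h)
      (conj_map_mem_iff.2 (by simpa [mul_assoc] using conj_map_mem_iff.1 hy))
    have h2 := congrArg (fun u => h * u * h⁻¹) h1
    simpa [mul_assoc] using h2
  have hdim : ∀ T ⊆ C, Module.finrank F (algOf (T.sup id)) = (a * a) ^ T.card := by
    intro T
    induction T using Finset.induction with
    | empty =>
      intro _
      have : algOf ((∅ : Finset (Subgroup (GL ι F))).sup id) = ⊥ := by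
        rw [Finset.sup_empty, algOf, eq_bot_iff]
        refine Algebra.adjoin_le ?_
        rintro _ ⟨g, hg, rfl⟩
        rw [SetLike.mem_coe, Subgroup.mem_bot] at hg
        rw [hg]; exact one_mem _
      rw [this, Subalgebra.finrank_bot, Finset.card_empty, pow_zero]
    | insert K T hK ih =>
      intro hT
      obtain ⟨ψ, hψ⟩ := hconj K (hT (Finset.mem_insert_self K T))
      have hcomm : ∀ x ∈ K, ∀ y ∈ T.sup id, x * y = y * x := by
        intro x hx
        have : T.sup id ≤ Subgroup.centralizer {x} := Finset.sup_le fun L hL y hy => by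
          rw [Subgroup.mem_centralizer_iff]
          rintro _ rfl
          exact hcommC K (hT (Finset.mem_insert_self K T)) L (hT (Finset.mem_insert_of_mem hL))
            (fun e => hK (e ▸ hL)) _ hx y hy
        exact fun y hy => Subgroup.mem_centralizer_iff.1 (this hy) x rfl
      rw [Finset.sup_insert, id, finrank_algOf_sup ψ hψ hcomm, ih (fun L hL => hT (Finset.mem_insert_of_mem hL)),
        Finset.card_insert_of_notMem hK, pow_succ']
  have h := hdim C subset_rfl
  rw [hsup, hspan] at h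
  have htop : Module.finrank F (⊤ : Subalgebra F (Matrix ι ι F)) = Fintype.card ι * Fintype.card ι := by
    rw [show Module.finrank F (⊤ : Subalgebra F (Matrix ι ι F)) = Module.finrank F (Matrix ι ι F) from
      LinearEquiv.finrank_eq Subalgebra.topEquiv.toLinearEquiv, Module.finrank_matrix, Module.finrank_self, mul_one]
  rw [htop] at h
  refine ⟨a, C.card, ?_, ?_, ?_⟩
  · by_contra h2
    have ha1 : a = 1 := by have := NeZero.ne a; omega
    subst ha1
    refine hMns fun x hx => mem_scalars_of_mem_bot ?_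
    obtain ⟨X, hX⟩ : (x : Matrix ι ι F) ∈ φ.range := hφr ▸ mem_algOf hx
    rw [← hX, show X = algebraMap F _ (X 0 0) by
      ext i j; rw [Subsingleton.elim i 0, Subsingleton.elim j 0]; simp [Matrix.algebraMap_eq_diagonal]]
    show φ (algebraMap F _ (X 0 0)) ∈ (⊥ : Subalgebra F (Matrix ι ι F))
    rw [AlgHom.commutes]
    exact Algebra.mem_bot.2 ⟨_, rfl⟩
  · by_contra h2
    have hC1 : C.card ≤ 1 := by omega
    refine hMne (le_antisymm hMN ?_)
    rw [← hsup]
    exact Finset.sup_le fun K hK => le_of_eq (Finset.card_le_one.1 hC1 K hK M hMC)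
  · rw [mul_pow] at h
    exact Nat.mul_self_inj.1 h

/-- A perfect spanning normal subgroup with no intermediate normal subgroup gives the residual core. -/
theorem residualCore_of_simple [Fintype F] [Nonempty ι] {H N : Subgroup (GL ι F)} (hNH : N ≤ H)
    (hNinv : ∀ g ∈ H, ∀ x ∈ N, g * x * g⁻¹ ∈ N) (hspan : algOf N = ⊤) (hperf : ⁅N, N⁆ = N)
    (hns : ¬ N ≤ scalars ι F)
    (hsimple : ∀ K : Subgroup (GL ι F), K ≤ N → (∀ g ∈ N, ∀ x ∈ K, g * x * g⁻¹ ∈ K) → ¬ K ≤ scalars ι F → K = N)
    (hsub : ∀ F₀ : Subfield F, F₀ ≠ ⊤ → ¬ RealisableOver F₀ (matrixSet N)) : IsResidualCore H N := by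
  classical
  haveI := scalars_normal (ι := ι) (F := F)
  haveI hnt : Nontrivial (N ⧸ (scalars ι F).subgroupOf N) := by
    rw [QuotientGroup.nontrivial_iff, ne_eq, Subgroup.subgroupOf_eq_top]
    exact hns
  refine ⟨hNH, hNinv, hperf, ?_, ?_, ?_, absIrred_of_algOf_eq_top hspan, hsub⟩
  · refine { eq_bot_or_eq_top_of_normal := fun K hK => ?_ }
    let π := QuotientGroup.mk' ((scalars ι F).subgroupOf N)
    let L := (K.comap π).map N.subtype
    have hLN : L ≤ N := Subgroup.map_subtype_le _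
    have hLinv : ∀ g ∈ N, ∀ x ∈ L, g * x * g⁻¹ ∈ L := by
      rintro g hg _ ⟨x, hx, rfl⟩
      refine ⟨⟨g, hg⟩ * x * ⟨g, hg⟩⁻¹, ?_, rfl⟩
      have := hK.conj_mem _ hx (π ⟨g, hg⟩)
      simpa [Subgroup.mem_comap, map_mul, map_inv] using this
    by_cases hLs : L ≤ scalars ι F
    · left
      rw [Subgroup.eq_bot_iff_forall]
      intro q hq
      obtain ⟨x, rfl⟩ := QuotientGroup.mk'_surjective _ q
      rw [QuotientGroup.mk'_apply, QuotientGroup.eq_one_iff, Subgroup.mem_subgroupOf]
      exact hLs ⟨x, hq, rfl⟩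
    · right
      have hLeq := hsimple L hLN hLinv hLs
      rw [Subgroup.eq_top_iff']
      intro q
      obtain ⟨x, rfl⟩ := QuotientGroup.mk'_surjective _ q
      have : (x : GL ι F) ∈ L := by rw [hLeq]; exact x.2
      obtain ⟨y, hy, e⟩ := this
      rw [← Subtype.ext e]
      exact hy
  · intro hc
    apply hns
    rw [← hperf, Subgroup.commutator_le]
    intro x hx y hy
    have h1 := hc.is_comm.comm (QuotientGroup.mk' ((scalars ι F).subgroupOf N) ⟨x⁻¹, inv_mem hx⟩)
      (QuotientGroup.mk' ((scalars ι F).subgroupOf N) ⟨y⁻¹, inv_mem hy⟩)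
    rw [← map_mul, ← map_mul, QuotientGroup.mk'_eq_mk'] at h1
    obtain ⟨z, hz, h2⟩ := h1
    have h4 : x⁻¹ * y⁻¹ * (z : GL ι F) = y⁻¹ * x⁻¹ := congrArg Subtype.val h2
    have h5 : (z : GL ι F) = y * x * y⁻¹ * x⁻¹ := by
      calc (z : GL ι F) = y * x * (x⁻¹ * y⁻¹ * (z : GL ι F)) := by group
        _ = y * x * (y⁻¹ * x⁻¹) := by rw [h4]
        _ = _ := by group
    have h6 := (scalars ι F).inv_mem (Subgroup.mem_subgroupOf.1 hz)
    rw [h5] at h6
    simpa [commutatorElement_def, mul_assoc] using h6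
  · intro h hh hc
    refine mem_scalars_of_commute hspan fun x hx => ?_
    have hle : ⁅N, N⁆ ≤ Subgroup.centralizer {h} := by
      rw [Subgroup.commutator_le]
      intro a ha b hb
      rw [Subgroup.mem_centralizer_iff]
      intro h₀ h₀h
      rw [show h₀ = h from h₀h]
      have e1 : h * a * h⁻¹ = (h * a * h⁻¹ * a⁻¹) * a := by group
      have e2 : h * b * h⁻¹ = (h * b * h⁻¹ * b⁻¹) * b := by group
      have key : h * ⁅a, b⁆ * h⁻¹ = ⁅a, b⁆ := by
        have e3 : h * ⁅a, b⁆ * h⁻¹ = ⁅h * a * h⁻¹, h * b * h⁻¹⁆ := by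
          simp [commutatorElement_def, mul_assoc]
        rw [e3, e1, e2]
        have hs := scalars_comm (hc a ha)
        have ht := scalars_comm (hc b hb)
        generalize h * a * h⁻¹ * a⁻¹ = s at hs
        generalize h * b * h⁻¹ * b⁻¹ = t at ht
        rw [commutatorElement_def, commutatorElement_def, _root_.mul_inv_rev, _root_.mul_inv_rev]
        calc s * a * (t * b) * (a⁻¹ * s⁻¹) * (b⁻¹ * t⁻¹)
            = s * (a * t) * b * a⁻¹ * s⁻¹ * b⁻¹ * t⁻¹ := by group
          _ = s * (t * a) * b * a⁻¹ * s⁻¹ * b⁻¹ * t⁻¹ := by rw [← ht a]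
          _ = (s * (t * a * b * a⁻¹)) * s⁻¹ * b⁻¹ * t⁻¹ := by group
          _ = ((t * a * b * a⁻¹) * s) * s⁻¹ * b⁻¹ * t⁻¹ := by rw [hs]
          _ = (t * (a * b * a⁻¹ * b⁻¹)) * t⁻¹ := by group
          _ = ((a * b * a⁻¹ * b⁻¹) * t) * t⁻¹ := by rw [ht]
          _ = a * b * a⁻¹ * b⁻¹ := by group
      exact mul_inv_eq_iff_eq_mul.1 key
    rw [hperf] at hle
    exact Subgroup.mem_centralizer_iff.1 (hle hx) h rfl

/-- Structure of an irreducible group with all non-scalar normal subgroups absolutely irreducible. -/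
theorem exists_structure [Fintype F] [Nonempty ι] (hn : 2 ≤ Fintype.card ι) {H : Subgroup (GL ι F)}
    (hirr : ActsIrreducibly (matrixSet H)) (hprim : Prim H) (hnf : NoField H) (hnt : NoTensor H) :
    ∃ N : Subgroup (GL ι F), N ≤ H ∧ (∀ g ∈ H, ∀ x ∈ N, g * x * g⁻¹ ∈ N) ∧ ¬ N ≤ scalars ι F ∧ algOf N = ⊤ ∧
      (∀ K : Subgroup (GL ι F), K ≤ N → (∀ g ∈ H, ∀ x ∈ K, g * x * g⁻¹ ∈ K) → ¬ K ≤ scalars ι F → K = N) ∧
      (((∀ x ∈ N, ∀ y ∈ N, x * y * x⁻¹ * y⁻¹ ∈ scalars ι F) ∧ IsPrimePow (Fintype.card ι)) ∨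
       (⁅N, N⁆ = N ∧
         (∀ K : Subgroup (GL ι F), K ≤ N → (∀ g ∈ N, ∀ x ∈ K, g * x * g⁻¹ ∈ K) → ¬ K ≤ scalars ι F → K = N)) ∨
       (⁅N, N⁆ = N ∧ ∃ a t : ℕ, 2 ≤ a ∧ 2 ≤ t ∧ Fintype.card ι = a ^ t)) := by
  classical
  let P : Subgroup (GL ι F) → Prop :=
    fun K => K ≤ H ∧ (∀ g ∈ H, ∀ x ∈ K, g * x * g⁻¹ ∈ K) ∧ ¬ K ≤ scalars ι F
  obtain ⟨N, ⟨hNH, hNinv, hNns⟩, hNmin⟩ := (Set.toFinite {K | P K}).exists_minimal
    ⟨H, le_rfl, fun g hg x hx => H.mul_mem (H.mul_mem hg hx) (H.inv_mem hg), not_le_scalars_of_irreducible hirr hn⟩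
  have hspan := algOf_eq_top hirr hprim hnf hnt hNinv hNns
  have hmin : ∀ K : Subgroup (GL ι F), K ≤ N → (∀ g ∈ H, ∀ x ∈ K, g * x * g⁻¹ ∈ K) → ¬ K ≤ scalars ι F → K = N :=
    fun K h1 h2 h3 => le_antisymm h1 (hNmin ⟨h1.trans hNH, h2, h3⟩ h1)
  refine ⟨N, hNH, hNinv, hNns, hspan, hmin, ?_⟩
  by_cases hcl : ∀ x ∈ N, ∀ y ∈ N, x * y * x⁻¹ * y⁻¹ ∈ scalars ι F
  · exact Or.inl ⟨hcl, isPrimePow_of_minimal hn hNinv hspan hcl hmin⟩
  right
  have hperf : ⁅N, N⁆ = N := by
    refine hmin _ (Subgroup.commutator_le_self N) ?_ ?_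
    · intro g hg x hx
      have hmap : (⁅N, N⁆).map (MulAut.conj g).toMonoidHom ≤ ⁅N, N⁆ := by
        rw [Subgroup.map_commutator]
        apply Subgroup.commutator_mono <;>
        · rintro _ ⟨a, ha, rfl⟩; exact hNinv g hg a ha
      exact hmap ⟨x, hx, rfl⟩
    · intro hle
      apply hcl
      intro x hx y hy
      exact hle (Subgroup.commutator_mem_commutator hx hy)
  rcases simple_or_power hNH hNinv hspan hcl hmin with h | h
  · exact Or.inl ⟨hperf, h⟩
  · exact Or.inr ⟨hperf, h⟩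

end CfsgLib.Geo.Asch
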