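import Mathlib
import Cfsg.Prelude.Def_GeometricClasses
import Cfsg.Agent.Lib.Geo.AschGroup
import Cfsg.Agent.Lib.GeomClasses.Forms

/-! Forms fixed by a spanning normal subgroup and realisations over subfields. -/

set_option autoImplicit false

namespace CfsgLib.Geo.Asch

open Cfsg Cfsg.Geo Matrix
open scoped MatrixGroups

variable {ι : Type} [Fintype ι] [DecidableEq ι] {F : Type*} [Field F]

theorem symplectic_isSesq {f : (ι → F) → (ι → F) → F} (hf : IsSymplecticForm f) :
    GeomClasses.IsSesq (RingHom.id F) f :=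
  ⟨hf.bilinear.add_left, hf.bilinear.smul_left, hf.bilinear.add_right, hf.bilinear.smul_right⟩

theorem polar_isSesq {Q : (ι → F) → F} (hQ : IsNondegenerateQuadraticForm Q) :
    GeomClasses.IsSesq (RingHom.id F) (QuadraticMap.polar Q) :=
  ⟨hQ.polar_bilinear.add_left, hQ.polar_bilinear.smul_left, hQ.polar_bilinear.add_right,
    hQ.polar_bilinear.smul_right⟩

theorem unitary_isSesq {σ : F ≃+* F} {f : (ι → F) → (ι → F) → F} (hf : IsUnitaryForm σ f) :
    GeomClasses.IsSesq (σ : F →+* F) f := by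
  refine ⟨hf.add_left, hf.smul_left, fun v x y => ?_, fun c v x => ?_⟩
  · rw [hf.herm v (x + y), hf.add_left, map_add, ← hf.herm, ← hf.herm]
  · rw [hf.herm v (c • x), hf.smul_left, map_mul, ← hf.herm]
    rfl

theorem polar_mulVec {Q : (ι → F) → F} (g : Matrix ι ι F) (u v : ι → F) :
    QuadraticMap.polar Q (g *ᵥ u) (g *ᵥ v) = Q (g *ᵥ (u + v)) - Q (g *ᵥ u) - Q (g *ᵥ v) := by
  rw [QuadraticMap.polar, Matrix.mulVec_add]

theorem quad_polar_self {Q : (ι → F) → F} (hQ : IsNondegenerateQuadraticForm Q) (v : ι → F) :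
    QuadraticMap.polar Q v v = 2 * Q v := by
  rw [QuadraticMap.polar, show v + v = (2 : F) • v by rw [two_smul], hQ.smul]
  ring

/-- A nondegenerate sesquilinear form is determined up to a scalar by a spanning group of isometries. -/
theorem form_unique [Fintype F] [Nonempty ι] {N : Subgroup (GL ι F)} (hN : algOf N = ⊤) (σ : F ≃+* F)
    {f g : (ι → F) → (ι → F) → F} (hf : GeomClasses.IsSesq (σ : F →+* F) f) (hg : GeomClasses.IsSesq (σ : F →+* F) g)
    (hfn : IsNondegenerateForm f) (hgn : IsNondegenerateForm g)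
    (hfN : FixesForm (matrixSet N) f) (hgN : FixesForm (matrixSet N) g) :
    ∃ c : Fˣ, ∀ u v, g u v = (c : F) * f u v := by
  classical
  have hinj : Function.Injective (GeomClasses.fVec f) := by
    intro v w hvw
    by_contra hne
    obtain ⟨⟨x, hx⟩, -⟩ := hfn (v - w) (sub_ne_zero.2 hne)
    apply hx
    have h1 : f x v = f x w := by rw [← hf.fVec_dot, hvw, hf.fVec_dot]
    rw [show v - w = v + (-1 : F) • w by rw [neg_one_smul, sub_eq_add_neg], hf.add_right, hf.smul_right, h1,
      map_neg, map_one]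
    ring
  have hsurj := Finite.injective_iff_surjective.1 hinj
  choose T hT using fun v => hsurj (GeomClasses.fVec g v)
  have hT' : ∀ u v, f u (T v) = g u v := fun u v => by rw [← hf.fVec_dot, hT, hg.fVec_dot]
  have huniq : ∀ w w', (∀ u, f u w = f u w') → w = w' := fun w w' h =>
    hinj (GeomClasses.dot_right_cancel fun x => by rw [hf.fVec_dot, hf.fVec_dot, h])
  let TL : (ι → F) →ₗ[F] (ι → F) :=
    { toFun := T
      map_add' := fun a b => huniq _ _ fun u => by rw [hT', hg.add_right, hf.add_right, hT', hT']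
      map_smul' := fun c a => huniq _ _ fun u => by
        rw [hT', hg.smul_right, RingHom.id_apply, hf.smul_right, hT'] }
  let M : Matrix ι ι F := LinearMap.toMatrix' TL
  have hM : ∀ v, M *ᵥ v = T v := fun v => LinearMap.toMatrix'_mulVec TL v
  obtain ⟨d, hd⟩ := scalar_of_commute hN (M := M) (by
    rintro _ ⟨s, hs, rfl⟩
    refine Matrix.ext_of_mulVec_single fun i => ?_
    rw [← Matrix.mulVec_mulVec, ← Matrix.mulVec_mulVec, hM, hM]
    refine huniq _ _ fun u => ?_
    obtain ⟨u', rfl⟩ : ∃ u', (s : Matrix ι ι F) *ᵥ u' = u :=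
      ⟨((s⁻¹ : GL ι F) : Matrix ι ι F) *ᵥ u, by rw [Matrix.mulVec_mulVec, Units.mul_inv, Matrix.one_mulVec]⟩
    rw [hT', hgN _ ⟨s, hs, rfl⟩, hfN _ ⟨s, hs, rfl⟩, hT'])
  have hd0 : σ d ≠ 0 := by
    intro h0
    obtain ⟨v, hv⟩ := exists_ne (0 : ι → F)
    obtain ⟨⟨x, hx⟩, -⟩ := hgn v hv
    apply hx
    rw [← hT', ← hM, hd, Matrix.smul_mulVec, Matrix.one_mulVec, hf.smul_right]
    rw [show ((σ : F →+* F) d) = σ d from rfl, h0, zero_mul]
  refine ⟨Units.mk0 (σ d) hd0, fun u v => ?_⟩
  rw [← hT', ← hM, hd, Matrix.smul_mulVec, Matrix.one_mulVec, hf.smul_right]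
  rfl

/-- The normaliser of a spanning group of isometries consists of similarities. -/
theorem le_similarityGroup [Fintype F] [Nonempty ι] {H N : Subgroup (GL ι F)} (hN : algOf N = ⊤)
    (hinv : ∀ g ∈ H, ∀ x ∈ N, g * x * g⁻¹ ∈ N) (σ : F ≃+* F) {f : (ι → F) → (ι → F) → F}
    (hf : GeomClasses.IsSesq (σ : F →+* F) f) (hfn : IsNondegenerateForm f) (hfN : FixesForm (matrixSet N) f) :
    H ≤ similarityGroup f := by
  intro h hh
  refine form_unique hN σ hf (g := fun u v => f ((h : Matrix ι ι F) *ᵥ u) ((h : Matrix ι ι F) *ᵥ v)) ?_ hfn ?_ hfN ?_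
  · refine ⟨?_, ?_, ?_, ?_⟩
    · intro x y v; show f _ _ = _; rw [Matrix.mulVec_add, hf.add_left]
    · intro c x v; show f _ _ = _; rw [Matrix.mulVec_smul, hf.smul_left]
    · intro v x y; show f _ _ = _; rw [Matrix.mulVec_add, hf.add_right]
    · intro c v x; show f _ _ = _; rw [Matrix.mulVec_smul, hf.smul_right]
  · intro v hv
    have hv' : (h : Matrix ι ι F) *ᵥ v ≠ 0 := GeomClasses.gl_mulVec_ne_zero h hv
    obtain ⟨⟨x, hx⟩, ⟨y, hy⟩⟩ := hfn _ hv'
    refine ⟨⟨((h⁻¹ : GL ι F) : Matrix ι ι F) *ᵥ x, ?_⟩, ⟨((h⁻¹ : GL ι F) : Matrix ι ι F) *ᵥ y, ?_⟩⟩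
    · show f _ _ ≠ 0; rw [GeomClasses.gl_mulVec_inv_mulVec]; exact hx
    · show f _ _ ≠ 0; rw [GeomClasses.gl_mulVec_inv_mulVec]; exact hy
  · rintro _ ⟨s, hs, rfl⟩ u v
    have h1 : ∀ w, (h : Matrix ι ι F) *ᵥ ((s : Matrix ι ι F) *ᵥ w) =
        ((h * s * h⁻¹ : GL ι F) : Matrix ι ι F) *ᵥ ((h : Matrix ι ι F) *ᵥ w) := by
      intro w; rw [Matrix.mulVec_mulVec, Matrix.mulVec_mulVec, ← Units.val_mul, ← Units.val_mul, inv_mul_cancel_right]
    show f _ _ = f _ _
    rw [h1, h1, hfN _ ⟨_, hinv h hh s hs, rfl⟩]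

theorem polar_similarity {Q : (ι → F) → F} (hQ : IsNondegenerateQuadraticForm Q) (hodd : (2 : F) ≠ 0) :
    similarityGroup (QuadraticMap.polar Q) ≤ quadSimilarityGroup Q := by
  rintro g ⟨c, hc⟩
  refine ⟨c, fun v => mul_left_cancel₀ hodd ?_⟩
  rw [← quad_polar_self hQ, hc, quad_polar_self hQ]
  ring

theorem two_ne_zero_of_odd [Fintype F] (h : Odd (Fintype.card F)) : (2 : F) ≠ 0 := by
  intro h2
  obtain ⟨k, hk⟩ := h
  have := FiniteField.cast_card_eq_zero F
  rw [hk, Nat.cast_add, Nat.cast_mul, Nat.cast_ofNat, Nat.cast_one, h2, zero_mul, zero_add] at this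
  exact one_ne_zero this

theorem two_eq_zero_of_not_odd [Fintype F] (h : ¬ Odd (Fintype.card F)) : (2 : F) = 0 := by
  obtain ⟨p, hp⟩ := CharP.exists F
  haveI := hp
  obtain ⟨e, hpp, hc⟩ := FiniteField.card F p
  have hp2 : p = 2 := by
    by_contra hne
    exact h (hc ▸ (hpp.odd_of_ne_two hne).pow)
  subst hp2
  exact_mod_cast CharP.cast_eq_zero F 2

theorem polar_symplectic {Q : (ι → F) → F} (hQ : IsNondegenerateQuadraticForm Q) (h2 : (2 : F) = 0) :
    IsSymplecticForm (QuadraticMap.polar Q) := by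
  refine ⟨hQ.polar_bilinear, fun v w => ?_, fun v => by rw [quad_polar_self hQ, h2, zero_mul], hQ.nondegenerate⟩
  rw [QuadraticMap.polar_comm]
  have : QuadraticMap.polar Q w v + QuadraticMap.polar Q w v = 0 := by rw [← two_mul, h2, zero_mul]
  exact eq_neg_of_add_eq_zero_left this

theorem fixesForm_polar {Q : (ι → F) → F} {S : Set (Matrix ι ι F)} (h : FixesQuadForm S Q) :
    FixesForm S (QuadraticMap.polar Q) := by
  intro s hs u v
  rw [polar_mulVec, h s hs, h s hs, h s hs]
  rfl

theorem not_symplectic_of_odd {f : (ι → F) → (ι → F) → F} (hodd : Odd (Fintype.card ι)) : ¬ IsSymplecticForm f := by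
  intro hf
  let B : LinearMap.BilinForm F (ι → F) :=
    LinearMap.mk₂ F f hf.bilinear.add_left (fun c x v => hf.bilinear.smul_left c x v)
      hf.bilinear.add_right (fun c v x => hf.bilinear.smul_right c v x)
  have hB : B.Nondegenerate := by
    constructor
    · intro v hv
      by_contra h0
      obtain ⟨-, ⟨x, hx⟩⟩ := hf.nondegenerate v h0
      exact hx (hv x)
    · intro v hv
      by_contra h0
      obtain ⟨⟨x, hx⟩, -⟩ := hf.nondegenerate v h0
      exact hx (hv x)
  obtain ⟨U, hU, hmax⟩ := wellFounded_gt.has_min (α := Submodule F (ι → F))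
    {U | ∀ u ∈ U, ∀ w ∈ U, f u w = 0} ⟨⊥, fun u hu w _ => by rw [(Submodule.mem_bot F).1 hu]; exact (symplectic_isSesq hf).zero_left w⟩
  have hperp : B.orthogonal U = U := by
    refine le_antisymm (fun v hv => ?_) (fun u hu w hw => hU w hw u hu)
    by_contra hvU
    refine hmax (U ⊔ Submodule.span F {v}) ?_ (lt_of_le_of_ne le_sup_left ?_)
    · intro a ha b hb
      obtain ⟨u, hu, x, hx, rfl⟩ := Submodule.mem_sup.1 ha
      obtain ⟨w, hw, y, hy, rfl⟩ := Submodule.mem_sup.1 hb
      obtain ⟨c, rfl⟩ := Submodule.mem_span_singleton.1 hx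
      obtain ⟨d, rfl⟩ := Submodule.mem_span_singleton.1 hy
      have h1 : f u v = 0 := hv u hu
      have h2 : f w v = 0 := hv w hw
      rw [hf.bilinear.add_left, hf.bilinear.add_right, hf.bilinear.add_right, hf.bilinear.smul_left,
        hf.bilinear.smul_left, hf.bilinear.smul_right, hf.bilinear.smul_right, hU u hu w hw, h1,
        hf.skew v w, h2, hf.alternating]
      ring
    · intro h
      exact hvU (h.symm ▸ Submodule.mem_sup_right (Submodule.mem_span_singleton_self v))
  have := LinearMap.BilinForm.finrank_orthogonal hB U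
  rw [hperp, Module.finrank_fintype_fun_eq_card] at this
  have hle := Submodule.finrank_le U
  rw [Module.finrank_fintype_fun_eq_card] at hle
  obtain ⟨k, hk⟩ := hodd
  omega

theorem rat_range_mem_iff {F₁ : Subfield F} {M : Matrix ι ι F} :
    (∀ i j, M i j ∈ F₁) ↔ ∃ X : Matrix ι ι F₁, (F₁.subtype : F₁ →+* F).mapMatrix X = M := by
  constructor
  · intro h
    exact ⟨Matrix.of fun i j => ⟨M i j, h i j⟩, by ext i j; rfl⟩
  · rintro ⟨X, rfl⟩ i j
    exact (X i j).2

/-- Automorphisms of matrix algebras are inner, for any index type. -/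
theorem exists_conj_eq' [Nonempty ι] (ψ : Matrix ι ι F →ₐ[F] Matrix ι ι F) :
    ∃ c : GL ι F, ∀ X, ψ X = conjHom c X := by
  classical
  haveI : NeZero (Fintype.card ι) := ⟨Fintype.card_ne_zero⟩
  let e := Fintype.equivFin ι
  let E := Matrix.reindexAlgEquiv F F e
  obtain ⟨c, hc⟩ := exists_conj_eq ((E.toAlgHom.comp ψ).comp E.symm.toAlgHom)
  refine ⟨glReindex e.symm c, fun X => ?_⟩
  have h := congrArg E.symm (hc (E X))
  simp only [AlgHom.comp_apply, AlgEquiv.coe_toAlgHom, AlgEquiv.symm_apply_apply] at h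
  rw [h, conjHom_apply, conjHom_apply, map_mul, map_mul, AlgEquiv.symm_apply_apply]
  rfl

/-- A group normalising a spanning subgroup realisable over a proper subfield lies in a subfield group of prime index. -/
theorem exists_rational_subfield [Fintype F] [Nonempty ι] {H N : Subgroup (GL ι F)} (hN : algOf N = ⊤)
    (hinv : ∀ g ∈ H, ∀ x ∈ N, g * x * g⁻¹ ∈ N) {F₀ : Subfield F} (h0 : F₀ ≠ ⊤)
    (hreal : RealisableOver F₀ (matrixSet N)) :
    ∃ (F₁ : Subfield F) (r : ℕ) (P : GL ι F),
      r.Prime ∧ Fintype.card F = Nat.card F₁ ^ r ∧ H ≤ subfieldSubgroup F₁ P ∧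
        ∀ s ∈ N, ∀ i j, ((P⁻¹ * s * P : GL ι F) : Matrix ι ι F) i j ∈ F₁ := by
  classical
  obtain ⟨B, hB⟩ := hreal
  haveI : FiniteDimensional F₀ F := Module.Finite.of_finite
  haveI : IsGalois F₀ F := GaloisField.instIsGaloisOfFinite
  have hk : 1 < Module.finrank F₀ F := by
    by_contra hle
    apply h0
    have h1 : Module.finrank F₀ F = 1 := by
      have := Module.finrank_pos (R := F₀) (M := F); omega
    have h2 : Nat.card F = Nat.card F₀ := by
      rw [Module.natCard_eq_pow_finrank (K := F₀) (V := F), h1, pow_one]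
    apply SetLike.ext'
    rw [Subfield.coe_top]
    exact Set.eq_of_subset_of_ncard_le (Set.subset_univ _)
      (le_of_eq (by rw [Set.ncard_univ, ← Nat.card_coe_set_eq]; exact h2)) (Set.toFinite _)
  set r := Nat.minFac (Module.finrank F₀ F) with hr
  have hp : r.Prime := Nat.minFac_prime (by omega)
  haveI : Fact r.Prime := ⟨hp⟩
  obtain ⟨σ, hσ⟩ := exists_prime_orderOf_dvd_card' (G := F ≃ₐ[F₀] F) r
    (by rw [IsGalois.card_aut_eq_finrank]; exact Nat.minFac_dvd _)
  set E : IntermediateField F₀ F := IntermediateField.fixedField (Subgroup.zpowers σ) with hE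
  have hEr : Module.finrank E F = r := by
    rw [hE, IntermediateField.finrank_fixedField_eq_card, Nat.card_zpowers, hσ]
  let F₁ : Subfield F := E.toSubfield
  have hcard : Fintype.card F = Nat.card F₁ ^ r := by
    rw [← Nat.card_eq_fintype_card, Module.natCard_eq_pow_finrank (K := E) (V := F), hEr]
    rfl
  have hF : ∀ s ∈ N, ∀ i j, ((B * s * B⁻¹ : GL ι F) : Matrix ι ι F) i j ∈ F₁ := by
    intro s hs i j
    exact E.algebraMap_mem (⟨_, hB _ ⟨s, hs, rfl⟩ i j⟩ : F₀)
  refine ⟨F₁, r, B⁻¹, hp, hcard, fun h hh => ?_, fun s hs => by rw [inv_inv]; exact hF s hs⟩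
  set k := B * h * B⁻¹ with hkdef
  let sub := (F₁.subtype : F₁ →+* F)
  have hsubinj : Function.Injective (sub.mapMatrix : Matrix ι ι F₁ →+* Matrix ι ι F) := by
    intro X Y hXY
    ext i j
    exact congrFun (congrFun hXY i) j
  -- the matrices over F₁ that k conjugates to matrices over F₁
  let T : Submodule F₁ (Matrix ι ι F₁) :=
    { carrier := {X | ∀ i j, conjHom k (sub.mapMatrix X) i j ∈ F₁}
      add_mem' := fun {X Y} hX hY i j => by rw [map_add, map_add]; exact F₁.add_mem (hX i j) (hY i j)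
      zero_mem' := fun i j => by rw [map_zero, map_zero]; exact F₁.zero_mem
      smul_mem' := fun c X hX i j => by
        have : sub.mapMatrix (c • X) = (c : F) • sub.mapMatrix X := by ext a b; rfl
        rw [this, map_smul]
        exact F₁.mul_mem c.2 (hX i j) }
  have hspanmem : ∀ s ∈ N, ∃ X ∈ T, sub.mapMatrix X = ((B * s * B⁻¹ : GL ι F) : Matrix ι ι F) := by
    intro s hs
    obtain ⟨X, hX⟩ := rat_range_mem_iff.1 (hF s hs)
    refine ⟨X, fun i j => ?_, hX⟩
    rw [hX, conjHom_apply, ← Units.val_mul, ← Units.val_mul]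
    have : k * (B * s * B⁻¹) * k⁻¹ = B * (h * s * h⁻¹) * B⁻¹ := by rw [hkdef]; group
    rw [this]
    exact hF _ (hinv h hh s hs) i j
  have hTtop : T = ⊤ := by
    by_contra hne
    obtain ⟨ψ, hψ0, hψT⟩ := Submodule.exists_dual_map_eq_bot_of_lt_top (lt_top_iff_ne_top.2 hne) inferInstance
    apply hψ0
    let Ψ : Matrix ι ι F →ₗ[F] F :=
      ∑ i, ∑ j, (ψ (Matrix.single i j 1) : F) • Matrix.entryLinearMap F F i j
    have hΨ : ∀ X, Ψ (sub.mapMatrix X) = (ψ X : F) := by
      intro X
      conv_rhs => rw [Matrix.matrix_eq_sum_single X, map_sum]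
      rw [AddSubmonoidClass.coe_finsetSum]
      simp only [Ψ, LinearMap.sum_apply, LinearMap.smul_apply, Matrix.entryLinearMap_apply, smul_eq_mul]
      refine Finset.sum_congr rfl fun i _ => ?_
      rw [map_sum, AddSubmonoidClass.coe_finsetSum]
      refine Finset.sum_congr rfl fun j _ => ?_
      rw [show Matrix.single i j (X i j) = X i j • Matrix.single i j (1 : F₁) by
        rw [Matrix.smul_single, smul_eq_mul, mul_one], map_smul]
      exact mul_comm _ _
    have hΨN : ∀ M ∈ algOf N, Ψ (conjHom B M) = 0 := by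
      intro M hM
      have h1 : (algOf N).toSubmodule = Submodule.span F (Submonoid.closure (matrixSet N) : Set (Matrix ι ι F)) :=
        Algebra.adjoin_eq_span _ _
      have hM' : M ∈ (algOf N).toSubmodule := hM
      rw [h1] at hM'
      clear hM
      induction hM' using Submodule.span_induction with
      | mem M hM =>
        obtain ⟨s, hs, rfl⟩ : ∃ s ∈ N, (s : Matrix ι ι F) = M := by
          induction hM using Submonoid.closure_induction with
          | mem M h => exact h
          | one => exact ⟨1, N.one_mem, rfl⟩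
          | mul A C _ _ hA hC =>
            obtain ⟨a, ha, rfl⟩ := hA
            obtain ⟨c, hc, rfl⟩ := hC
            exact ⟨a * c, N.mul_mem ha hc, rfl⟩
        obtain ⟨X, hX, hX'⟩ := hspanmem s hs
        rw [conjHom_apply, ← Units.val_mul, ← Units.val_mul, ← hX', hΨ]
        have : ψ X ∈ Submodule.map ψ T := Submodule.mem_map_of_mem hX
        rw [hψT] at this
        rw [(Submodule.mem_bot F₁).1 this]
        rfl
      | zero => simp
      | add x y _ _ hx hy => rw [map_add, map_add, hx, hy, add_zero]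
      | smul c x _ hx => rw [map_smul, map_smul, hx, smul_zero]
    refine LinearMap.ext fun X => Subtype.ext ?_
    rw [← hΨ X, ← conjHom_cancel B (sub.mapMatrix X)]
    exact hΨN _ (by simp [hN])
  have hall : ∀ X, ∃ Y, sub.mapMatrix Y = conjHom k (sub.mapMatrix X) := fun X =>
    rat_range_mem_iff.1 ((hTtop ▸ Submodule.mem_top : X ∈ T))
  choose Y hY using hall
  let ψA : Matrix ι ι F₁ →ₐ[F₁] Matrix ι ι F₁ :=
    AlgHom.ofLinearMap
      { toFun := Y
        map_add' := fun a b => hsubinj (by rw [hY, map_add, map_add, map_add, hY, hY])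
        map_smul' := fun c a => hsubinj (by
          rw [hY, RingHom.id_apply]
          have e : ∀ Z : Matrix ι ι F₁, sub.mapMatrix (c • Z) = (c : F) • sub.mapMatrix Z := fun Z => by ext a b; rfl
          rw [e, e, map_smul, hY]) }
      (hsubinj (by show sub.mapMatrix (Y 1) = _; rw [hY, map_one, map_one]))
      (fun a b => hsubinj (by
        show sub.mapMatrix (Y (a * b)) = sub.mapMatrix (Y a * Y b)
        rw [hY, map_mul, map_mul, map_mul, hY, hY]))
  obtain ⟨c, hc⟩ := exists_conj_eq' ψA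
  let C : GL ι F := Matrix.GeneralLinearGroup.map sub c
  have hC : ∀ X, conjHom C (sub.mapMatrix X) = conjHom k (sub.mapMatrix X) := by
    intro X
    rw [← hY, show Y X = conjHom c X from hc X, conjHom_apply, conjHom_apply, map_mul, map_mul]
    rfl
  have hscal : C⁻¹ * k ∈ scalars ι F := by
    obtain ⟨d, hd⟩ := Matrix.mem_range_scalar_of_commute_single (M := ((C⁻¹ * k : GL ι F) : Matrix ι ι F))
      (fun i j _ => by
        have e : Matrix.single i j (1 : F) = sub.mapMatrix (Matrix.single i j (1 : F₁)) := by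
          ext a b; simp [Matrix.single_apply, sub, apply_ite]
        have h1 : conjHom (C⁻¹ * k) (Matrix.single i j (1 : F)) = Matrix.single i j (1 : F) := by
          rw [conjHom_mul, e, ← hC, conjHom_inv_cancel]
        have h2 := congrArg (fun M => M * ((C⁻¹ * k : GL ι F) : Matrix ι ι F)) h1
        simp only [conjHom_apply, mul_assoc, Units.inv_mul, mul_one] at h2
        exact h2.symm)
    refine mem_scalars_of_mem_bot (Algebra.mem_bot.2 ⟨d, ?_⟩)
    rw [← hd]; rfl
  refine ⟨k, ?_, by rw [hkdef]; simp [mul_assoc]⟩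
  rw [show k = C * (C⁻¹ * k) by group]
  exact Subgroup.mul_mem_sup ⟨c, rfl⟩ hscal

/-- A group normalising a spanning subgroup realisable over a proper subfield lies in a subfield group of prime index. -/
theorem le_subfieldSubgroup [Fintype F] [Nonempty ι] {H N : Subgroup (GL ι F)} (hN : algOf N = ⊤)
    (hinv : ∀ g ∈ H, ∀ x ∈ N, g * x * g⁻¹ ∈ N) {F₀ : Subfield F} (h0 : F₀ ≠ ⊤)
    (hreal : RealisableOver F₀ (matrixSet N)) :
    ∃ (F₁ : Subfield F) (r : ℕ) (P : GL ι F),
      r.Prime ∧ Fintype.card F = Nat.card F₁ ^ r ∧ H ≤ subfieldSubgroup F₁ P := by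
  obtain ⟨F₁, r, P, hr, hc, hle, -⟩ := exists_rational_subfield hN hinv h0 hreal
  exact ⟨F₁, r, P, hr, hc, hle⟩

end CfsgLib.Geo.Asch
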