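import Mathlib
import Cfsg.Prelude.Def_GeometricClasses
import Cfsg.Agent.Lib.Geo.AschForms
import Cfsg.Agent.Lib.Geo.FieldTransvection

/-! The members of the geometric classes do not contain the special linear group. -/

set_option autoImplicit false

namespace CfsgLib.Geo.Asch

open Cfsg Cfsg.Geo Matrix
open scoped MatrixGroups Kronecker

variable {ι : Type} [Fintype ι] [DecidableEq ι] {F : Type*} [Field F]

theorem eq_inf_of_le {G : Type*} [Group G] {K H M : Subgroup G} (hH : IsMaximalIn K H) (hle : H ≤ M)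
    (hM : ¬ K ≤ M) : H = M ⊓ K := by
  rcases hH.2 (M ⊓ K) (le_inf hle hH.1.le) inf_le_right with h | h
  · exact h.symm
  · exact absurd (h ▸ inf_le_left : K ≤ M) hM

theorem specialLinear_eq_ker : specialLinear ι F = (Matrix.GeneralLinearGroup.det : GL ι F →* Fˣ).ker := rfl

theorem le_of_le_conj {K : Subgroup (GL ι F)} (P : GL ι F)
    (h : specialLinear ι F ≤ K.map (MulAut.conj P).toMonoidHom) : specialLinear ι F ≤ K := by
  intro x hx
  have hn : (specialLinear ι F).Normal := by rw [specialLinear_eq_ker]; infer_instance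
  obtain ⟨y, hy, hyx⟩ := h (hn.conj_mem x hx P)
  rw [← (MulAut.conj P).injective hyx]
  exact hy

theorem exists_dot {p : Submodule F (ι → F)} {v : ι → F} (hv : v ∉ p) :
    ∃ φ : ι → F, φ ⬝ᵥ v = 1 ∧ ∀ x ∈ p, φ ⬝ᵥ x = 0 := by
  classical
  obtain ⟨ψ, hψ1, hψ0⟩ := Submodule.exists_dual_map_eq_bot_of_notMem hv inferInstance
  refine ⟨fun i => (ψ v)⁻¹ * ψ (Pi.single i 1), ?_, fun x hx => ?_⟩
  · have : ∀ x, (fun i => (ψ v)⁻¹ * ψ (Pi.single i 1)) ⬝ᵥ x = (ψ v)⁻¹ * ψ x := by
      intro x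
      conv_rhs => rw [pi_eq_sum_univ' x, map_sum, Finset.mul_sum]
      refine Finset.sum_congr rfl fun i _ => ?_
      rw [map_smul, smul_eq_mul]; ring
    rw [this, inv_mul_cancel₀ hψ1]
  · have : ∀ x, (fun i => (ψ v)⁻¹ * ψ (Pi.single i 1)) ⬝ᵥ x = (ψ v)⁻¹ * ψ x := by
      intro x
      conv_rhs => rw [pi_eq_sum_univ' x, map_sum, Finset.mul_sum]
      refine Finset.sum_congr rfl fun i _ => ?_
      rw [map_smul, smul_eq_mul]; ring
    have h0 : ψ x ∈ Submodule.map ψ p := Submodule.mem_map_of_mem hx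
    rw [hψ0, Submodule.mem_bot] at h0
    rw [this, h0, mul_zero]

theorem not_specialLinear_le_subspace {W : Submodule F (ι → F)} (h1 : W ≠ ⊥) (h2 : W ≠ ⊤) :
    ¬ specialLinear ι F ≤ subspaceStabilizer W := by
  intro h
  obtain ⟨v, hv, hv0⟩ := (Submodule.ne_bot_iff W).1 h1
  obtain ⟨u, -, hu⟩ := SetLike.exists_of_lt (lt_top_iff_ne_top.2 h2)
  have hvu : v ∉ Submodule.span F {u} := by
    intro hvu
    obtain ⟨c, rfl⟩ := Submodule.mem_span_singleton.1 hvu
    have hc : c ≠ 0 := fun h0 => hv0 (by rw [h0, zero_smul])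
    have := W.smul_mem c⁻¹ hv
    rw [smul_smul, inv_mul_cancel₀ hc, one_smul] at this
    exact hu this
  obtain ⟨φ, hφv, hφu⟩ := exists_dot hvu
  have hu0 := hφu u (Submodule.mem_span_singleton_self u)
  have := GeomClasses.mem_subspaceStabilizer.1 (h (GeomClasses.tv_mem_specialLinear u φ)) v hv
  rw [GeomClasses.tv_mulVec hu0, hφv, one_smul] at this
  exact hu ((W.add_mem_iff_right hv).1 this)

theorem not_specialLinear_le_decomposition {t m : ℕ} {D : Fin t → Submodule F (ι → F)} (hD : IsMDecomposition m D) :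
    ¬ specialLinear ι F ≤ decompositionStabilizer D := by
  intro h
  have ht := hD.two_le
  let i₀ : Fin t := ⟨0, by omega⟩
  let i₁ : Fin t := ⟨1, by omega⟩
  have hne : i₁ ≠ i₀ := by simp [i₀, i₁]
  have hnb : ∀ i, D i ≠ ⊥ := fun i hb => by
    have := hD.finrank_eq i
    rw [hb, finrank_bot] at this
    exact absurd this (Nat.ne_of_lt hD.pos)
  obtain ⟨v, hv, hv0⟩ := (Submodule.ne_bot_iff _).1 (hnb i₀)
  obtain ⟨u, hu, hu0'⟩ := (Submodule.ne_bot_iff _).1 (hnb i₁)
  have hdisj : Disjoint (D i₀) (D i₁) := hD.indep.pairwiseDisjoint hne.symm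
  have hvu : v ∉ Submodule.span F {u} := fun hvu => hv0 (Submodule.disjoint_def.1 hdisj v hv
    ((Submodule.span_singleton_le_iff_mem u _).2 hu hvu))
  obtain ⟨φ, hφv, hφu⟩ := exists_dot hvu
  obtain ⟨σ, hσ⟩ := h (GeomClasses.tv_mem_specialLinear u φ)
  have hmem : v + u ∈ D (σ i₀) := by
    rw [← hσ i₀]
    refine ⟨v, hv, ?_⟩
    rw [Matrix.toLin'_apply, GeomClasses.tv_mulVec (hφu u (Submodule.mem_span_singleton_self u)), hφv, one_smul]
  by_cases e0 : σ i₀ = i₀
  · rw [e0] at hmem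
    exact hu0' (Submodule.disjoint_def.1 hdisj u (((D i₀).add_mem_iff_right hv).1 hmem) hu)
  by_cases e1 : σ i₀ = i₁
  · rw [e1] at hmem
    exact hv0 (Submodule.disjoint_def.1 hdisj v hv (((D i₁).add_mem_iff_left hu).1 hmem))
  have h2 := hD.indep (σ i₀)
  have h3 : v + u ∈ ⨆ (j) (_ : j ≠ σ i₀), D j := by
    refine Submodule.add_mem _ ?_ ?_
    · exact Submodule.mem_iSup_of_mem i₀ (Submodule.mem_iSup_of_mem (Ne.symm e0) hv)
    · exact Submodule.mem_iSup_of_mem i₁ (Submodule.mem_iSup_of_mem (Ne.symm e1) hu)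
  have h4 := Submodule.disjoint_def.1 h2 _ hmem h3
  exact hu0' (Submodule.disjoint_def.1 hdisj u (by
    rw [show u = -v by exact eq_neg_of_add_eq_zero_right h4]; exact (D i₀).neg_mem hv) hu)

theorem not_specialLinear_le_field [Fintype F] {n r : ℕ} (hn : 3 ≤ n) (hr : 1 < r)
    {K : Subalgebra F (Matrix (Fin n) (Fin n) F)} (hK : IsFieldSubalgebra r K) :
    ¬ specialLinear (Fin n) F ≤ subalgebraNormalizer K := by
  intro h
  haveI : Nonempty (Fin n) := ⟨⟨0, by omega⟩⟩
  obtain ⟨k, hk, hk0⟩ : ∃ k ∈ K, k ∉ (⊥ : Subalgebra F (Matrix (Fin n) (Fin n) F)) := by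
    by_contra hall
    push Not at hall
    have := hK.finrank_eq
    rw [le_antisymm (a := K) hall bot_le, Subalgebra.finrank_bot] at this
    omega
  obtain ⟨t, ⟨-, ht⟩, htK⟩ := FieldTransvection.exists_not_normalizing (by omega)
    FieldTransvection.bot_isFieldSubalgebra hK bot_le (by omega) hk hk0
  exact htK (h ht)

theorem not_specialLinear_le_tensor {a b : ℕ} (ha : 2 ≤ a) (hb : 2 ≤ b) (e : ι ≃ Fin a × Fin b) (P : GL ι F) :
    ¬ specialLinear ι F ≤ tensorProductSubgroup a b e P := by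
  intro h
  have h1 := le_of_le_conj P h
  let p : Fin a × Fin b := (⟨0, by omega⟩, ⟨0, by omega⟩)
  let q : Fin a × Fin b := (⟨1, by omega⟩, ⟨1, by omega⟩)
  have hpq : p ≠ q := by simp [p, q]
  have hdot : (Pi.single (e.symm q) (1 : F) : ι → F) ⬝ᵥ Pi.single (e.symm p) (1 : F) = 0 := by
    simp [single_dotProduct, Pi.single_apply, hpq.symm]
  obtain ⟨y, ⟨A, B, hy⟩, hyx⟩ := h1 (GeomClasses.tv_mem_specialLinear (Pi.single (e.symm p) (1 : F)) (Pi.single (e.symm q) (1 : F)))
  have hent : ∀ u v, (A : Matrix (Fin a) (Fin a) F) u.1 v.1 * (B : Matrix (Fin b) (Fin b) F) u.2 v.2 =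
      (1 : Matrix ι ι F) (e.symm u) (e.symm v) +
        (if u = p ∧ v = q then (1 : F) else 0) := by
    intro u v
    have h2 := congrArg (fun g : GL ι F => (g : Matrix ι ι F) (e.symm u) (e.symm v)) hyx
    simp only [GeomClasses.tv_val hdot] at h2
    rw [Matrix.add_apply, Matrix.vecMulVec_apply] at h2
    have h3 : (Pi.single (e.symm p) (1 : F) : ι → F) (e.symm u) * (Pi.single (e.symm q) (1 : F) : ι → F) (e.symm v) =
        if u = p ∧ v = q then (1 : F) else 0 := by
      simp only [Pi.single_apply, EmbeddingLike.apply_eq_iff_eq]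
      by_cases hu : u = p <;> by_cases hv : v = q <;> simp [hu, hv]
    rw [h3] at h2
    rw [← h2]
    have h4 : ((glReindex (F := F) e.symm).toMonoidHom y : Matrix ι ι F) (e.symm u) (e.symm v) =
        (y : Matrix _ _ F) u v := by simp [glReindex]
    rw [h4, hy, Matrix.kroneckerMap_apply]
  have e1 := hent p q
  rw [if_pos ⟨rfl, rfl⟩, Matrix.one_apply_ne (by simpa using hpq), zero_add] at e1
  have hA : (A : Matrix (Fin a) (Fin a) F) p.1 q.1 ≠ 0 := fun h0 => one_ne_zero (α := F) (by rw [← e1, h0, zero_mul])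
  have e2 := hent p (q.1, p.2)
  rw [if_neg (by simp [p, q]), Matrix.one_apply_ne (by simp [p, q]), add_zero] at e2
  have e3 := hent p p
  rw [if_neg (by simp [p, q]), Matrix.one_apply_eq, add_zero, (mul_eq_zero.1 e2).resolve_left hA, mul_zero] at e3
  exact zero_ne_one e3

theorem not_specialLinear_le_subfield (h2 : 2 ≤ Fintype.card ι) {F₀ : Subfield F} (h0 : F₀ ≠ ⊤) (P : GL ι F) :
    ¬ specialLinear ι F ≤ subfieldSubgroup F₀ P := by
  intro h
  have h1 := le_of_le_conj P h
  obtain ⟨i, j, hij⟩ := Fintype.exists_pair_of_one_lt_card (show 1 < Fintype.card ι by omega)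
  obtain ⟨c, -, hc⟩ := SetLike.exists_of_lt (lt_top_iff_ne_top.2 h0)
  have hdot : (Pi.single j (1 : F) : ι → F) ⬝ᵥ (c • Pi.single i (1 : F)) = 0 := by
    simp [single_dotProduct, hij, Ne.symm hij]
  have hmem := h1 (GeomClasses.tv_mem_specialLinear (c • Pi.single i (1 : F)) (Pi.single j (1 : F)))
  haveI := scalars_normal (ι := ι) (F := F)
  obtain ⟨y, ⟨X, rfl⟩, s, hs, hys⟩ := Subgroup.mem_sup_of_normal_right.1 hmem
  obtain ⟨l, hl⟩ := (mem_scalars_iff s).1 hs
  have hent : ∀ a b, (((X : Matrix ι ι F₀) a b : F₀) : F) * (l : F) =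
      (1 : Matrix ι ι F) a b + (if a = i ∧ b = j then c else 0) := by
    intro a b
    have e := congrArg (fun g : GL ι F => (g : Matrix ι ι F) a b) hys
    simp only [GeomClasses.tv_val hdot, Units.val_mul, hl, Matrix.mul_smul, mul_one] at e
    rw [Matrix.smul_apply, Matrix.add_apply, Matrix.vecMulVec_apply, smul_eq_mul] at e
    rw [mul_comm]
    refine Eq.trans ?_ (e.trans ?_)
    · rfl
    · congr 1
      by_cases ha : a = i <;> by_cases hb : b = j <;> simp [ha, hb]
  have e0 := hent i i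
  rw [if_neg (by simp [hij]), Matrix.one_apply_eq, add_zero] at e0
  have hlF : (l : F) ∈ F₀ := by
    rw [eq_inv_of_mul_eq_one_right e0]
    exact F₀.inv_mem (SetLike.coe_mem _)
  have e1 := hent i j
  rw [if_pos ⟨rfl, rfl⟩, Matrix.one_apply_ne hij, zero_add] at e1
  exact hc (e1 ▸ F₀.mul_mem (SetLike.coe_mem _) hlF)

theorem not_specialLinear_le_similarity (hn : 3 ≤ Fintype.card ι) {σ : F →+* F} {f : (ι → F) → (ι → F) → F}
    (hf : GeomClasses.IsSesq σ f) (hfn : IsNondegenerateForm f) : ¬ specialLinear ι F ≤ similarityGroup f := by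
  intro h
  obtain ⟨i⟩ : Nonempty ι := Fintype.card_pos_iff.1 (by omega)
  have hw0 : (Pi.single i (1 : F) : ι → F) ≠ 0 := fun h0 => one_ne_zero (Pi.single_eq_zero_iff.1 h0)
  set w : ι → F := Pi.single i (1 : F)
  obtain ⟨⟨u, hu⟩, -⟩ := hfn w hw0
  obtain ⟨v, -, hv⟩ := SetLike.exists_of_lt (lt_top_iff_ne_top.2 (show Submodule.span F ({u, w} : Set (ι → F)) ≠ ⊤ by
    intro htop
    classical
    have h1 := finrank_span_le_card (R := F) ({u, w} : Set (ι → F))
    rw [htop, finrank_top, Module.finrank_fintype_fun_eq_card] at h1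
    have h2 : ({u, w} : Set (ι → F)).toFinset.card ≤ 2 := by
      rw [Set.toFinset_insert, Set.toFinset_singleton]; exact Finset.card_le_two
    omega))
  obtain ⟨φ, hφv, hφ⟩ := exists_dot hv
  have hφu := hφ u (Submodule.subset_span (by simp))
  have hφw := hφ w (Submodule.subset_span (by simp))
  obtain ⟨c, hc⟩ := h (GeomClasses.tv_mem_specialLinear w φ)
  have h1 := hc u w
  rw [GeomClasses.tv_mulVec hφw, GeomClasses.tv_mulVec hφw, hφu, hφw, zero_smul, add_zero, add_zero] at h1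
  have hc1 : (c : F) = 1 := (mul_eq_right₀ hu).1 h1.symm
  have h2 := hc u v
  rw [GeomClasses.tv_mulVec hφw, GeomClasses.tv_mulVec hφw, hφu, hφv, zero_smul, add_zero, one_smul, hf.add_right,
    hc1, one_mul] at h2
  exact hu (by simpa using h2)

theorem quadSimilarity_le {Q : (ι → F) → F} : quadSimilarityGroup Q ≤ similarityGroup (QuadraticMap.polar Q) := by
  rintro g ⟨c, hc⟩
  refine ⟨c, fun u v => ?_⟩
  rw [polar_mulVec, hc, hc, hc, QuadraticMap.polar]
  ring

theorem not_specialLinear_le_quad (hn : 3 ≤ Fintype.card ι) {Q : (ι → F) → F} (hQ : IsNondegenerateQuadraticForm Q) :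
    ¬ specialLinear ι F ≤ quadSimilarityGroup Q := fun h =>
  not_specialLinear_le_similarity hn (polar_isSesq hQ) hQ.nondegenerate (h.trans quadSimilarity_le)

theorem isFieldSubalgebra_dvd [Nonempty ι] {r : ℕ} {K : Subalgebra F (Matrix ι ι F)} (hK : IsFieldSubalgebra r K) :
    r ∣ Fintype.card ι := by
  letI : Field K := FieldTransvection.fieldOf hK
  have h := Module.finrank_mul_finrank F K (ι → F)
  rw [hK.finrank_eq, Module.finrank_fintype_fun_eq_card] at h
  exact ⟨_, h.symm⟩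

theorem subfield_ne_top [Fintype F] {F₀ : Subfield F} {r : ℕ} (hr : r.Prime) (hc : Fintype.card F = Nat.card F₀ ^ r) :
    F₀ ≠ ⊤ := by
  rintro rfl
  have h1 : Nat.card (⊤ : Subfield F) = Fintype.card F := by
    rw [← Nat.card_eq_fintype_card]; exact Nat.card_congr (Equiv.Set.univ F)
  rw [h1] at hc
  have h2 : Fintype.card F ^ 1 < Fintype.card F ^ r := Nat.pow_lt_pow_right Fintype.one_lt_card hr.one_lt
  rw [pow_one] at h2
  exact absurd hc (Nat.ne_of_lt h2)

theorem mdecomposition_card [Nonempty ι] {t m : ℕ} {D : Fin t → Submodule F (ι → F)} (hD : IsMDecomposition m D) :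
    t * m = Fintype.card ι := by
  classical
  have hint : DirectSum.IsInternal D :=
    (DirectSum.isInternal_submodule_iff_iSupIndep_and_iSup_eq_top _).2 ⟨hD.indep, hD.iSup_eq_top⟩
  let b := hint.collectedBasis fun i => Module.finBasis F (D i)
  have h := Module.finrank_eq_card_basis b
  rw [Module.finrank_fintype_fun_eq_card, Fintype.card_sigma] at h
  simp only [Fintype.card_fin, hD.finrank_eq, Finset.sum_const, Finset.card_univ, smul_eq_mul] at h
  exact h.symm

end CfsgLib.Geo.Asch
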