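import Mathlib
import Cfsg.Prelude.Def_GeometricClasses
import Cfsg.Agent.Lib.Geo.AschForms
import Cfsg.Agent.Lib.Geo.AschProper

/-! The structure theorem for maximal subgroups of SL_n. -/

set_option autoImplicit false

namespace CfsgLib.Geo.Asch

open Cfsg Cfsg.Geo Matrix
open scoped MatrixGroups commutatorElement

variable {F : Type*} [Field F]

/-- Trichotomy for a subgroup outside the first five classes and the classes of forms. -/
theorem linear_trichotomy [Fintype F] {n : ℕ} (hn : 2 ≤ n) {H : Subgroup (GL (Fin n) F)}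
    (hirr : ActsIrreducibly (matrixSet H)) (hprim : Prim H) (hnf : NoField H) (hnt : NoTensor H)
    (hsub : ∀ (F₀ : Subfield F) (r : ℕ) (P : GL (Fin n) F), r.Prime → Fintype.card F = Nat.card F₀ ^ r →
      ¬ H ≤ subfieldSubgroup F₀ P)
    (hQ : ∀ Q : (Fin n → F) → F, Odd (Fintype.card F) → IsNondegenerateQuadraticForm Q → ¬ H ≤ quadSimilarityGroup Q)
    (hS : ∀ f : (Fin n → F) → (Fin n → F) → F, IsSymplecticForm f → ¬ H ≤ similarityGroup f)
    (hU : ∀ (σ : F ≃+* F) (f : (Fin n → F) → (Fin n → F) → F), IsUnitaryForm σ f → ¬ H ≤ similarityGroup f) :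
    InLinearResidualClass H ∨
      ∃ N : Subgroup (GL (Fin n) F), N ≤ H ∧ (∀ g ∈ H, ∀ x ∈ N, g * x * g⁻¹ ∈ N) ∧ ¬ N ≤ scalars (Fin n) F ∧
        algOf N = ⊤ ∧
        (∀ K : Subgroup (GL (Fin n) F), K ≤ N → (∀ g ∈ H, ∀ x ∈ K, g * x * g⁻¹ ∈ K) →
          ¬ K ≤ scalars (Fin n) F → K = N) ∧
        (((∀ x ∈ N, ∀ y ∈ N, x * y * x⁻¹ * y⁻¹ ∈ scalars (Fin n) F) ∧ IsPrimePow n) ∨
         (⁅N, N⁆ = N ∧ ∃ a t : ℕ, 2 ≤ a ∧ 2 ≤ t ∧ n = a ^ t)) := by
  haveI : Nonempty (Fin n) := ⟨⟨0, by omega⟩⟩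
  obtain ⟨N, hNH, hinv, hns, hspan, hmin, hcase⟩ := exists_structure (by simpa using hn) hirr hprim hnf hnt
  rw [Fintype.card_fin] at hcase
  rcases hcase with h | ⟨hperf, hsimple⟩ | h
  · exact Or.inr ⟨N, hNH, hinv, hns, hspan, hmin, Or.inl h⟩
  · left
    refine ⟨N, residualCore_of_simple hNH hinv hspan hperf hns hsimple ?_, ?_, ?_, ?_⟩
    · intro F₀ h0 hr
      obtain ⟨F₁, r, P, hp, hc, hle⟩ := le_subfieldSubgroup hspan hinv h0 hr
      exact hsub F₁ r P hp hc hle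
    · rintro ⟨Q, hq, hfix⟩
      by_cases hodd : Odd (Fintype.card F)
      · exact hQ Q hodd hq ((le_similarityGroup hspan hinv (RingEquiv.refl F) (polar_isSesq hq) hq.nondegenerate
          (fixesForm_polar hfix)).trans (polar_similarity hq (two_ne_zero_of_odd hodd)))
      · have hs := polar_symplectic hq (two_eq_zero_of_not_odd hodd)
        exact hS _ hs (le_similarityGroup hspan hinv (RingEquiv.refl F) (symplectic_isSesq hs) hs.nondegenerate
          (fixesForm_polar hfix))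
    · rintro ⟨f, hf, hfix⟩
      exact hS f hf (le_similarityGroup hspan hinv (RingEquiv.refl F) (symplectic_isSesq hf) hf.nondegenerate hfix)
    · rintro ⟨σ, f, hf, hfix⟩
      exact hU σ f hf (le_similarityGroup hspan hinv σ (unitary_isSesq hf) hf.nondegenerate hfix)
  · exact Or.inr ⟨N, hNH, hinv, hns, hspan, hmin, Or.inr h⟩

/-- A maximal subgroup of SL_n is a class member, residual, or of symplectic or tensor-power type. -/
theorem linear_cases [Fintype F] {n : ℕ} (hn : 3 ≤ n) {H : Subgroup (GL (Fin n) F)}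
    (hH : IsMaximalIn (specialLinear (Fin n) F) H) :
    (∃ W : Submodule F (Fin n → F), W ≠ ⊥ ∧ W ≠ ⊤ ∧ H = subspaceStabilizer W ⊓ specialLinear (Fin n) F) ∨
    (∃ (t m : ℕ) (D : Fin t → Submodule F (Fin n → F)), IsMDecomposition m D ∧ t * m = n ∧
      H = decompositionStabilizer D ⊓ specialLinear (Fin n) F) ∨
    (∃ (r : ℕ) (K : Subalgebra F (Matrix (Fin n) (Fin n) F)), r.Prime ∧ r ∣ n ∧ IsFieldSubalgebra r K ∧
      H = subalgebraNormalizer K ⊓ specialLinear (Fin n) F) ∨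
    (∃ (a b : ℕ) (e : Fin n ≃ Fin a × Fin b) (P : GL (Fin n) F), 2 ≤ a ∧ 2 ≤ b ∧ a * b = n ∧
      H = tensorProductSubgroup a b e P ⊓ specialLinear (Fin n) F) ∨
    (∃ (F₀ : Subfield F) (r : ℕ) (P : GL (Fin n) F), r.Prime ∧ Fintype.card F = Nat.card F₀ ^ r ∧
      H = subfieldSubgroup F₀ P ⊓ specialLinear (Fin n) F) ∨
    (Odd (Fintype.card F) ∧ ∃ Q : (Fin n → F) → F, IsNondegenerateQuadraticForm Q ∧
      H = quadSimilarityGroup Q ⊓ specialLinear (Fin n) F) ∨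
    (∃ f : (Fin n → F) → (Fin n → F) → F, IsSymplecticForm f ∧
      H = similarityGroup f ⊓ specialLinear (Fin n) F) ∨
    (∃ (σ : F ≃+* F) (f : (Fin n → F) → (Fin n → F) → F), IsUnitaryForm σ f ∧
      H = similarityGroup f ⊓ specialLinear (Fin n) F) ∨
    InLinearResidualClass H ∨
    (∃ N : Subgroup (GL (Fin n) F), N ≤ H ∧ (∀ g ∈ H, ∀ x ∈ N, g * x * g⁻¹ ∈ N) ∧ ¬ N ≤ scalars (Fin n) F ∧
        algOf N = ⊤ ∧
        (∀ K : Subgroup (GL (Fin n) F), K ≤ N → (∀ g ∈ H, ∀ x ∈ K, g * x * g⁻¹ ∈ K) →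
          ¬ K ≤ scalars (Fin n) F → K = N) ∧
        (((∀ x ∈ N, ∀ y ∈ N, x * y * x⁻¹ * y⁻¹ ∈ scalars (Fin n) F) ∧ IsPrimePow n) ∨
         (⁅N, N⁆ = N ∧ ∃ a t : ℕ, 2 ≤ a ∧ 2 ≤ t ∧ n = a ^ t))) := by
  haveI : Nonempty (Fin n) := ⟨⟨0, by omega⟩⟩
  have hn3 : 3 ≤ Fintype.card (Fin n) := by simpa using hn
  by_cases hirr : ActsIrreducibly (matrixSet H)
  swap
  · obtain ⟨W, hW, hW1, hW2⟩ : ∃ W : Submodule F (Fin n → F),
        (∀ s ∈ matrixSet H, W.map (Matrix.toLin' s) ≤ W) ∧ W ≠ ⊥ ∧ W ≠ ⊤ := by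
      unfold ActsIrreducibly at hirr
      push Not at hirr
      exact hirr
    refine Or.inl ⟨W, hW1, hW2, eq_inf_of_le hH ?_ (not_specialLinear_le_subspace hW1 hW2)⟩
    intro g hg
    exact GeomClasses.mem_subspaceStabilizer.2 fun v hv => hW _ ⟨g, hg, rfl⟩ ⟨v, hv, Matrix.toLin'_apply _ v⟩
  by_cases hprim : Prim H
  swap
  · obtain ⟨m, t, D, -, hD, hle⟩ : ∃ (m t : ℕ) (D : Fin t → Submodule F (Fin n → F)),
        2 ≤ t ∧ IsMDecomposition m D ∧ H ≤ decompositionStabilizer D := by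
      unfold Prim at hprim
      push Not at hprim
      exact hprim
    refine Or.inr (Or.inl ⟨t, m, D, hD, ?_, eq_inf_of_le hH hle (not_specialLinear_le_decomposition hD)⟩)
    simpa using mdecomposition_card hD
  refine Or.inr (Or.inr ?_)
  by_cases hnf : NoField H
  swap
  · obtain ⟨r, K, hr, hK, hle⟩ : ∃ (r : ℕ) (K : Subalgebra F (Matrix (Fin n) (Fin n) F)),
        r.Prime ∧ IsFieldSubalgebra r K ∧ H ≤ subalgebraNormalizer K := by
      unfold NoField at hnf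
      push Not at hnf
      exact hnf
    exact Or.inl ⟨r, K, hr, by simpa using isFieldSubalgebra_dvd hK, hK,
      eq_inf_of_le hH hle (not_specialLinear_le_field hn hr.one_lt hK)⟩
  refine Or.inr ?_
  by_cases hnt : NoTensor H
  swap
  · obtain ⟨a, b, e, P, ha, hb, hle⟩ : ∃ (a b : ℕ) (e : Fin n ≃ Fin a × Fin b) (P : GL (Fin n) F),
        2 ≤ a ∧ 2 ≤ b ∧ H ≤ tensorProductSubgroup a b e P := by
      unfold NoTensor at hnt
      push Not at hnt
      exact hnt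
    have hc := Fintype.card_congr e
    simp only [Fintype.card_fin, Fintype.card_prod] at hc
    exact Or.inl ⟨a, b, e, P, ha, hb, hc.symm, eq_inf_of_le hH hle (not_specialLinear_le_tensor ha hb e P)⟩
  refine Or.inr ?_
  by_cases hsub : ∃ (F₀ : Subfield F) (r : ℕ) (P : GL (Fin n) F),
      r.Prime ∧ Fintype.card F = Nat.card F₀ ^ r ∧ H ≤ subfieldSubgroup F₀ P
  · obtain ⟨F₀, r, P, hr, hc, hle⟩ := hsub
    exact Or.inl ⟨F₀, r, P, hr, hc, eq_inf_of_le hH hle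
      (not_specialLinear_le_subfield (by omega) (subfield_ne_top hr hc) P)⟩
  refine Or.inr ?_
  by_cases hQ : ∃ Q : (Fin n → F) → F, Odd (Fintype.card F) ∧ IsNondegenerateQuadraticForm Q ∧ H ≤ quadSimilarityGroup Q
  · obtain ⟨Q, ho, hq, hle⟩ := hQ
    exact Or.inl ⟨ho, Q, hq, eq_inf_of_le hH hle (not_specialLinear_le_quad hn3 hq)⟩
  refine Or.inr ?_
  by_cases hS : ∃ f : (Fin n → F) → (Fin n → F) → F, IsSymplecticForm f ∧ H ≤ similarityGroup f
  · obtain ⟨f, hf, hle⟩ := hS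
    exact Or.inl ⟨f, hf, eq_inf_of_le hH hle
      (not_specialLinear_le_similarity hn3 (symplectic_isSesq hf) hf.nondegenerate)⟩
  refine Or.inr ?_
  by_cases hU : ∃ (σ : F ≃+* F) (f : (Fin n → F) → (Fin n → F) → F), IsUnitaryForm σ f ∧ H ≤ similarityGroup f
  · obtain ⟨σ, f, hf, hle⟩ := hU
    exact Or.inl ⟨σ, f, hf, eq_inf_of_le hH hle
      (not_specialLinear_le_similarity hn3 (unitary_isSesq hf) hf.nondegenerate)⟩
  refine Or.inr ?_
  push Not at hsub hQ hS hU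
  exact linear_trichotomy (by omega) hirr hprim hnf hnt hsub hQ hS hU

end CfsgLib.Geo.Asch
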