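import Mathlib
import Cfsg.Prelude.Def_GeometricClasses
import Cfsg.Agent.Lib.Geo.AschProper

/-! Groups of symplectic type in odd prime degree ℓ: exponent, order, monomial basis. -/

set_option autoImplicit false

namespace CfsgLib.Geo.Asch

open Cfsg Cfsg.Geo Matrix
open scoped MatrixGroups

variable {F : Type*} [Field F] {ℓ : ℕ}

theorem charpoly_coeff_smul {ι : Type} [Fintype ι] [DecidableEq ι] (s : F) (hs : s ≠ 0) (M : Matrix ι ι F) (k : ℕ) :
    (s • M).charpoly.coeff k * s ^ k = s ^ Fintype.card ι * M.charpoly.coeff k := by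
  classical
  have h : (s • M).charpoly.comp (Polynomial.C s * Polynomial.X) =
      Polynomial.C (s ^ Fintype.card ι) * M.charpoly := by
    have h1 : (s • M).charpoly.comp (Polynomial.C s * Polynomial.X) =
        Polynomial.compRingHom (Polynomial.C s * Polynomial.X) (s • M).charmatrix.det := rfl
    rw [h1, RingHom.map_det]
    have h2 : (Polynomial.compRingHom (Polynomial.C s * Polynomial.X)).mapMatrix (s • M).charmatrix =
        Polynomial.C s • M.charmatrix := by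
      ext a b : 1
      by_cases hab : a = b
      · subst hab; simp [mul_sub]
      · simp [hab]
    rw [h2, Matrix.det_smul, map_pow, Matrix.charpoly]
  have h3 := congrArg (fun P => Polynomial.coeff P k) h
  simp only [Polynomial.comp_C_mul_X_coeff, Polynomial.coeff_C_mul] at h3
  exact h3

/-- The data of the symplectic-type case in odd prime degree. -/
structure PrimeType (N : Subgroup (GL (Fin ℓ) F)) : Prop where
  le_sl : N ≤ specialLinear (Fin ℓ) F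
  span : algOf N = ⊤
  cls : ∀ x ∈ N, ∀ y ∈ N, x * y * x⁻¹ * y⁻¹ ∈ scalars (Fin ℓ) F

variable {N : Subgroup (GL (Fin ℓ) F)}

theorem pow_eq_one_of_scalar {z : GL (Fin ℓ) F} (hz : z ∈ specialLinear (Fin ℓ) F) {c : Fˣ}
    (hc : (z : Matrix (Fin ℓ) (Fin ℓ) F) = (c : F) • 1) : (c : F) ^ ℓ = 1 := by
  have h := GeomClasses.mem_specialLinear.1 hz
  rw [hc, Matrix.det_smul, Matrix.det_one, mul_one, Fintype.card_fin] at h
  exact h

theorem PrimeType.exists_comm (hN : PrimeType N) {x : GL (Fin ℓ) F} (hx : x ∈ N)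
    (hxs : x ∉ scalars (Fin ℓ) F) :
    ∃ y ∈ N, ∃ s : F, s ≠ 1 ∧ s ≠ 0 ∧ s ^ ℓ = 1 ∧
      ((y * x * y⁻¹ : GL (Fin ℓ) F) : Matrix (Fin ℓ) (Fin ℓ) F) = s • (x : Matrix (Fin ℓ) (Fin ℓ) F) := by
  by_contra hall
  push Not at hall
  refine hxs (mem_scalars_of_commute hN.span fun y hy => ?_)
  obtain ⟨c, hc⟩ := (mem_scalars_iff _).1 (hN.cls y hy x hx)
  have hc1 := pow_eq_one_of_scalar (hN.le_sl (N.mul_mem (N.mul_mem (N.mul_mem hy hx) (N.inv_mem hy)) (N.inv_mem hx))) hc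
  have he : ((y * x * y⁻¹ : GL (Fin ℓ) F) : Matrix (Fin ℓ) (Fin ℓ) F) = (c : F) • (x : Matrix (Fin ℓ) (Fin ℓ) F) := by
    rw [show y * x * y⁻¹ = (y * x * y⁻¹ * x⁻¹) * x by group, Units.val_mul, hc, Matrix.smul_mul, one_mul]
  have hcone : (c : F) = 1 := by
    by_contra hne
    exact hall y hy c hne c.ne_zero hc1 he
  rw [hcone, one_smul] at he
  exact (mul_inv_eq_iff_eq_mul.1 (Units.ext he)).symm

theorem PrimeType.exists_comm' (hN : PrimeType N) {x y : GL (Fin ℓ) F} (hx : x ∈ N) (hy : y ∈ N) :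
    ∃ s : F, s ≠ 0 ∧ s ^ ℓ = 1 ∧
      ((y * x * y⁻¹ : GL (Fin ℓ) F) : Matrix (Fin ℓ) (Fin ℓ) F) = s • (x : Matrix (Fin ℓ) (Fin ℓ) F) := by
  obtain ⟨c, hc⟩ := (mem_scalars_iff _).1 (hN.cls y hy x hx)
  refine ⟨c, c.ne_zero,
    pow_eq_one_of_scalar (hN.le_sl (N.mul_mem (N.mul_mem (N.mul_mem hy hx) (N.inv_mem hy)) (N.inv_mem hx))) hc, ?_⟩
  rw [show y * x * y⁻¹ = (y * x * y⁻¹ * x⁻¹) * x by group, Units.val_mul, hc, Matrix.smul_mul, one_mul]

theorem PrimeType.charpoly_eq (hN : PrimeType N) (hℓ : ℓ.Prime) (hodd : Odd ℓ) {x : GL (Fin ℓ) F} (hx : x ∈ N)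
    (hxs : x ∉ scalars (Fin ℓ) F) :
    (x : Matrix (Fin ℓ) (Fin ℓ) F).charpoly = Polynomial.X ^ ℓ - 1 := by
  obtain ⟨y, hy, s, hs1, hs0, hsl, he⟩ := hN.exists_comm hx hxs
  set M := (x : Matrix (Fin ℓ) (Fin ℓ) F)
  have heq : (s • M).charpoly = M.charpoly := by
    rw [← he]
    simp only [Units.val_mul]
    rw [Matrix.coe_units_inv]
    exact Matrix.charpoly_units_conj y M
  have hprim : orderOf s = ℓ := by
    haveI := Fact.mk hℓ
    exact orderOf_eq_prime hsl hs1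
  ext k
  rw [Polynomial.coeff_sub, Polynomial.coeff_X_pow, Polynomial.coeff_one]
  rcases lt_trichotomy k ℓ with hk | hk | hk
  · by_cases hk0 : k = 0
    · subst hk0
      rw [if_neg hℓ.ne_zero.symm, if_pos rfl, zero_sub]
      have hdet := Matrix.det_eq_sign_charpoly_coeff M
      rw [GeomClasses.mem_specialLinear.1 (hN.le_sl hx), Fintype.card_fin, hodd.neg_one_pow, neg_one_mul] at hdet
      rw [hdet, neg_neg]
    · rw [if_neg hk.ne, if_neg hk0, sub_zero]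
      have h := charpoly_coeff_smul s hs0 M k
      rw [heq, Fintype.card_fin, hsl, one_mul] at h
      have hne : s ^ k ≠ 1 := by
        intro h1
        have h2 := Nat.le_of_dvd (Nat.pos_of_ne_zero hk0) (orderOf_dvd_of_pow_eq_one h1)
        omega
      by_contra hc
      exact hne ((mul_eq_left₀ hc).1 h)
  · subst hk
    rw [if_pos rfl, if_neg hℓ.ne_zero, sub_zero]
    have := (Matrix.charpoly_monic M).coeff_natDegree
    rwa [Matrix.charpoly_natDegree_eq_dim, Fintype.card_fin] at this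
  · rw [if_neg hk.ne', if_neg (by omega), sub_zero]
    exact Polynomial.coeff_eq_zero_of_natDegree_lt (by rw [Matrix.charpoly_natDegree_eq_dim, Fintype.card_fin]; exact hk)

theorem PrimeType.pow_eq_one (hN : PrimeType N) (hℓ : ℓ.Prime) (hodd : Odd ℓ) {x : GL (Fin ℓ) F} (hx : x ∈ N) :
    x ^ ℓ = 1 := by
  by_cases hxs : x ∈ scalars (Fin ℓ) F
  · obtain ⟨c, hc⟩ := (mem_scalars_iff x).1 hxs
    apply Units.ext
    rw [Units.val_pow_eq_pow_val, hc, smul_pow, one_pow, pow_eq_one_of_scalar (hN.le_sl hx) hc, one_smul]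
    rfl
  · have h := Matrix.aeval_self_charpoly (x : Matrix (Fin ℓ) (Fin ℓ) F)
    rw [hN.charpoly_eq hℓ hodd hx hxs, map_sub, map_pow, Polynomial.aeval_X, map_one, sub_eq_zero] at h
    exact Units.ext (by rw [Units.val_pow_eq_pow_val, h]; rfl)

theorem PrimeType.two_fix (hN : PrimeType N) {x : GL (Fin ℓ) F} (hx : x ∈ N) (hxs : x ∉ scalars (Fin ℓ) F) :
    2 * Module.finrank F (LinearMap.ker (Matrix.toLin' (x : Matrix (Fin ℓ) (Fin ℓ) F) - LinearMap.id)) ≤ ℓ := by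
  obtain ⟨y, hy, s, hs1, hs0, -, he⟩ := hN.exists_comm hx hxs
  set K := LinearMap.ker (Matrix.toLin' (x : Matrix (Fin ℓ) (Fin ℓ) F) - LinearMap.id) with hK
  have hmem : ∀ v, v ∈ K ↔ (x : Matrix (Fin ℓ) (Fin ℓ) F) *ᵥ v = v := by
    intro v; simp [hK, LinearMap.mem_ker, sub_eq_zero]
  set L := K.map (Matrix.toLin' (y : Matrix (Fin ℓ) (Fin ℓ) F)) with hL
  have hinter : K ⊓ L = ⊥ := by
    rw [Submodule.eq_bot_iff]
    rintro v ⟨hv, u, hu, huv⟩
    rw [Matrix.toLin'_apply] at huv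
    have h1 : s • ((x : Matrix (Fin ℓ) (Fin ℓ) F) *ᵥ v) = v := by
      rw [← Matrix.smul_mulVec, ← he, ← huv, Matrix.mulVec_mulVec, ← Units.val_mul, inv_mul_cancel_right,
        Units.val_mul, ← Matrix.mulVec_mulVec, (hmem u).1 hu]
    rw [(hmem v).1 hv] at h1
    have h2 : (s - 1) • v = 0 := by rw [sub_smul, one_smul, h1, sub_self]
    exact (smul_eq_zero.1 h2).resolve_left (sub_ne_zero.2 hs1)
  have hdim : Module.finrank F L = Module.finrank F K :=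
    (LinearEquiv.finrank_eq (Submodule.equivMapOfInjective _ (toLin'_unit_injective y) _)).symm
  have h1 := Submodule.finrank_sup_add_finrank_inf_eq K L
  have h2 := Submodule.finrank_le (K ⊔ L)
  rw [hinter, finrank_bot] at h1
  rw [Module.finrank_fin_fun] at h2
  omega

theorem PrimeType.exists_nonscalar (hN : PrimeType N) (hℓ : ℓ.Prime) : ∃ x ∈ N, x ∉ scalars (Fin ℓ) F := by
  by_contra hall
  push Not at hall
  refine not_le_scalars_of_irreducible (irreducible_of_algOf_eq_top hN.span) ?_ hall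
  simpa using hℓ.two_le

/-- An adapted basis on which the group is monomial with ℓ-th roots of unity as coefficients. -/
theorem PrimeType.exists_basis (hN : PrimeType N) (hℓ : ℓ.Prime) (hodd : Odd ℓ) :
    ∃ b : Module.Basis (Fin ℓ) F (Fin ℓ → F), ∀ g ∈ N, ∃ (π : Equiv.Perm (Fin ℓ)) (c : Fin ℓ → F),
      (∀ i, c i ^ ℓ = 1) ∧ ∀ i, (g : Matrix (Fin ℓ) (Fin ℓ) F) *ᵥ b i = c i • b (π i) := by
  haveI : NeZero ℓ := ⟨hℓ.ne_zero⟩
  haveI : Nonempty (Fin ℓ) := ⟨⟨0, hℓ.pos⟩⟩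
  obtain ⟨x, hx, hxs⟩ := hN.exists_nonscalar hℓ
  obtain ⟨y, hy, s, hs1, hs0, hsl, he⟩ := hN.exists_comm hx hxs
  obtain ⟨v, hv0, hv⟩ : ∃ v : Fin ℓ → F, v ≠ 0 ∧ (x : Matrix (Fin ℓ) (Fin ℓ) F) *ᵥ v = v := by
    have h : (Matrix.scalar (Fin ℓ) (1 : F) - (x : Matrix (Fin ℓ) (Fin ℓ) F)).det = 0 := by
      rw [← Matrix.eval_charpoly, hN.charpoly_eq hℓ hodd hx hxs]; simp [hℓ.ne_zero]
    obtain ⟨v, hv0, hv⟩ := Matrix.exists_mulVec_eq_zero_iff.2 h
    rw [Matrix.sub_mulVec, map_one, Matrix.one_mulVec, sub_eq_zero] at hv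
    exact ⟨v, hv0, hv.symm⟩
  have hxy : ∀ u, (x : Matrix (Fin ℓ) (Fin ℓ) F) *ᵥ ((y : Matrix (Fin ℓ) (Fin ℓ) F) *ᵥ u) =
      s⁻¹ • ((y : Matrix (Fin ℓ) (Fin ℓ) F) *ᵥ ((x : Matrix (Fin ℓ) (Fin ℓ) F) *ᵥ u)) := by
    intro u
    have h1 : (y : Matrix (Fin ℓ) (Fin ℓ) F) *ᵥ ((x : Matrix (Fin ℓ) (Fin ℓ) F) *ᵥ u) =
        s • ((x : Matrix (Fin ℓ) (Fin ℓ) F) *ᵥ ((y : Matrix (Fin ℓ) (Fin ℓ) F) *ᵥ u)) := by
      rw [← Matrix.smul_mulVec, ← he, Matrix.mulVec_mulVec, Matrix.mulVec_mulVec, ← Units.val_mul, ← Units.val_mul,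
        inv_mul_cancel_right]
    rw [h1, smul_smul, inv_mul_cancel₀ hs0, one_smul]
  let w : ℕ → Fin ℓ → F := fun m => ((y ^ m : GL (Fin ℓ) F) : Matrix (Fin ℓ) (Fin ℓ) F) *ᵥ v
  have hw1 : ∀ m, w (m + 1) = (y : Matrix (Fin ℓ) (Fin ℓ) F) *ᵥ w m := fun m => by
    simp [w, pow_succ', Matrix.mulVec_mulVec]
  have hwx : ∀ m, (x : Matrix (Fin ℓ) (Fin ℓ) F) *ᵥ w m = s⁻¹ ^ m • w m := by
    intro m
    induction m with
    | zero => simp [w, hv]
    | succ m ih => rw [hw1, hxy, ih, Matrix.mulVec_smul, smul_smul, pow_succ, mul_comm]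
  have hwmod : ∀ m, w m = w (m % ℓ) := by
    intro m
    simp only [w]
    conv_lhs => rw [← Nat.mod_add_div m ℓ, pow_add, pow_mul, hN.pow_eq_one hℓ hodd hy, one_pow, mul_one]
  have hw0 : ∀ m, w m ≠ 0 := fun m => GeomClasses.gl_mulVec_ne_zero _ hv0
  have hsinv : s⁻¹ ^ ℓ = 1 := by rw [inv_pow, hsl, inv_one]
  have hord : orderOf s⁻¹ = ℓ := by
    haveI := Fact.mk hℓ
    exact orderOf_eq_prime hsinv (fun h => hs1 (inv_eq_one.1 h))
  have hinjpow : Function.Injective (fun i : Fin ℓ => s⁻¹ ^ (i : ℕ)) := fun i j hij => Fin.ext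
    (pow_injOn_Iio_orderOf (by rw [Set.mem_Iio, hord]; exact i.2) (by rw [Set.mem_Iio, hord]; exact j.2) hij)
  have hli : LinearIndependent F (fun i : Fin ℓ => w i) :=
    Module.End.eigenvectors_linearIndependent' (Matrix.toLin' (x : Matrix (Fin ℓ) (Fin ℓ) F))
      (fun i : Fin ℓ => s⁻¹ ^ (i : ℕ)) hinjpow _ (fun i =>
        ⟨Module.End.mem_eigenspace_iff.2 (by rw [Matrix.toLin'_apply, hwx]), hw0 _⟩)
  let b := basisOfLinearIndependentOfCardEqFinrank hli (by simp)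
  have hbi : ∀ i, b i = w i := fun i => by simp [b]
  have hline : ∀ (z : Fin ℓ → F) (j : Fin ℓ), (x : Matrix (Fin ℓ) (Fin ℓ) F) *ᵥ z = s⁻¹ ^ (j : ℕ) • z →
      ∃ c : F, z = c • w j := by
    intro z j hz
    refine ⟨b.repr z j, ?_⟩
    have h1 := congrArg (fun u => (x : Matrix (Fin ℓ) (Fin ℓ) F) *ᵥ u - s⁻¹ ^ (j : ℕ) • u) (b.sum_repr z)
    simp only [hz, sub_self, Matrix.mulVec_sum, Matrix.mulVec_smul, hbi, hwx, Finset.smul_sum, smul_smul,
      ← Finset.sum_sub_distrib, ← sub_smul] at h1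
    have h2 : ∀ i, b.repr z i * s⁻¹ ^ (i : ℕ) - s⁻¹ ^ (j : ℕ) * b.repr z i = 0 :=
      Fintype.linearIndependent_iff.1 hli _ h1
    conv_lhs => rw [← b.sum_repr z]
    rw [Finset.sum_eq_single j (fun i _ hi => ?_) (fun h => absurd (Finset.mem_univ j) h), hbi]
    have h3 := h2 i
    rw [mul_comm, ← sub_mul, mul_eq_zero] at h3
    rw [h3.resolve_left (sub_ne_zero.2 fun h => hi (hinjpow h)), zero_smul]
  refine ⟨b, fun g hg => ?_⟩
  obtain ⟨t, ht0, htl, hgy⟩ := hN.exists_comm' hy hg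
  obtain ⟨u, hu0, hul, hgx⟩ := hN.exists_comm' hx hg
  obtain ⟨a, ha, hau⟩ := IsPrimitiveRoot.eq_pow_of_pow_eq_one (ζ := s⁻¹) (k := ℓ) (ξ := u⁻¹)
    (by rw [← hord]; exact IsPrimitiveRoot.orderOf _) (by rw [inv_pow, hul, inv_one])
  have hgv : (x : Matrix (Fin ℓ) (Fin ℓ) F) *ᵥ ((g : Matrix (Fin ℓ) (Fin ℓ) F) *ᵥ v) =
      s⁻¹ ^ a • ((g : Matrix (Fin ℓ) (Fin ℓ) F) *ᵥ v) := by
    have h1 : (g : Matrix (Fin ℓ) (Fin ℓ) F) *ᵥ ((x : Matrix (Fin ℓ) (Fin ℓ) F) *ᵥ v) =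
        u • ((x : Matrix (Fin ℓ) (Fin ℓ) F) *ᵥ ((g : Matrix (Fin ℓ) (Fin ℓ) F) *ᵥ v)) := by
      rw [← Matrix.smul_mulVec, ← hgx, Matrix.mulVec_mulVec, Matrix.mulVec_mulVec, ← Units.val_mul, ← Units.val_mul,
        inv_mul_cancel_right]
    rw [hv] at h1
    rw [hau]
    conv_rhs => rw [h1, smul_smul, inv_mul_cancel₀ hu0, one_smul]
  obtain ⟨c, hc⟩ := hline _ ⟨a, ha⟩ hgv
  have hcl : c ^ ℓ = 1 := by
    set g' := (y ^ a)⁻¹ * g
    have hg' : g' ∈ N := N.mul_mem (N.inv_mem (N.pow_mem hy a)) hg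
    have h1 : (g' : Matrix (Fin ℓ) (Fin ℓ) F) *ᵥ v = c • v := by
      rw [Units.val_mul, ← Matrix.mulVec_mulVec, hc, Matrix.mulVec_smul]
      congr 1
      exact GeomClasses.gl_inv_mulVec_mulVec _ _
    have h2 : ∀ m : ℕ, ((g' ^ m : GL (Fin ℓ) F) : Matrix (Fin ℓ) (Fin ℓ) F) *ᵥ v = c ^ m • v := by
      intro m
      induction m with
      | zero => simp
      | succ m ih =>
        rw [pow_succ, Units.val_mul, ← Matrix.mulVec_mulVec, h1, Matrix.mulVec_smul, ih, smul_smul, pow_succ,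
          mul_comm]
    have h3 := h2 ℓ
    rw [hN.pow_eq_one hℓ hodd hg', Units.val_one, Matrix.one_mulVec] at h3
    have h4 : (c ^ ℓ - 1) • v = 0 := by rw [sub_smul, one_smul, ← h3, sub_self]
    exact sub_eq_zero.1 ((smul_eq_zero.1 h4).resolve_right hv0)
  have hgw : ∀ m, (g : Matrix (Fin ℓ) (Fin ℓ) F) *ᵥ w m = (c * t ^ m) • w (a + m) := by
    intro m
    induction m with
    | zero =>
      rw [pow_zero, mul_one, add_zero, show w 0 = v by simp [w]]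
      exact hc
    | succ m ih =>
      have h1 : (g : Matrix (Fin ℓ) (Fin ℓ) F) *ᵥ ((y : Matrix (Fin ℓ) (Fin ℓ) F) *ᵥ w m) =
          t • ((y : Matrix (Fin ℓ) (Fin ℓ) F) *ᵥ ((g : Matrix (Fin ℓ) (Fin ℓ) F) *ᵥ w m)) := by
        rw [← Matrix.smul_mulVec, ← hgy, Units.val_mul, Units.val_mul, ← Matrix.mulVec_mulVec, ← Matrix.mulVec_mulVec,
          GeomClasses.gl_inv_mulVec_mulVec]
      rw [hw1, h1, ih, Matrix.mulVec_smul, smul_smul, ← add_assoc, hw1, pow_succ]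
      congr 1
      ring
  refine ⟨Equiv.addLeft (⟨a, ha⟩ : Fin ℓ), fun i => c * t ^ (i : ℕ), fun i => ?_, fun i => ?_⟩
  · rw [mul_pow, hcl, one_mul, ← pow_mul, mul_comm, pow_mul, htl, one_pow]
  · rw [hbi, hbi, hgw, hwmod (a + i)]
    congr 1

end CfsgLib.Geo.Asch
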