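import Mathlib
import Cfsg.Prelude.Def_GeometricClasses
import Cfsg.Agent.Lib.Geo.AschPrimeData
import Cfsg.Agent.Lib.Geo.AschLinear

/-! Symplectic type in odd prime degree: the class 6 data and properness. -/

set_option autoImplicit false

namespace CfsgLib.Geo.Asch

open Cfsg Cfsg.Geo Matrix
open scoped MatrixGroups

variable {F : Type*} [Field F] {ℓ : ℕ} {N : Subgroup (GL (Fin ℓ) F)}

theorem PrimeType.exists_root (hN : PrimeType N) (hℓ : ℓ.Prime) :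
    ∃ z ∈ N, ∃ s : F, IsPrimitiveRoot s ℓ ∧ (z : Matrix (Fin ℓ) (Fin ℓ) F) = s • 1 := by
  obtain ⟨x, hx, hxs⟩ := hN.exists_nonscalar hℓ
  obtain ⟨y, hy, s, hs1, hs0, hsl, he⟩ := hN.exists_comm hx hxs
  refine ⟨y * x * y⁻¹ * x⁻¹, N.mul_mem (N.mul_mem (N.mul_mem hy hx) (N.inv_mem hy)) (N.inv_mem hx), s, ?_, ?_⟩
  · haveI := Fact.mk hℓ
    rw [← orderOf_eq_prime hsl hs1]
    exact IsPrimitiveRoot.orderOf _
  · rw [Units.val_mul, he, Matrix.smul_mul, ← Units.val_mul, mul_inv_cancel, Units.val_one]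

theorem PrimeType.scalars_inf_eq (hN : PrimeType N) (hℓ : ℓ.Prime) :
    ∃ z ∈ N, orderOf z = ℓ ∧ scalars (Fin ℓ) F ⊓ N = Subgroup.zpowers z := by
  haveI : NeZero ℓ := ⟨hℓ.ne_zero⟩
  haveI : Nonempty (Fin ℓ) := ⟨⟨0, hℓ.pos⟩⟩
  obtain ⟨z, hz, s, hs, hzs⟩ := hN.exists_root hℓ
  have hzpow : ∀ k : ℕ, ((z ^ k : GL (Fin ℓ) F) : Matrix (Fin ℓ) (Fin ℓ) F) = s ^ k • 1 := fun k => by
    rw [Units.val_pow_eq_pow_val, hzs, smul_pow, one_pow]
  refine ⟨z, hz, ?_, le_antisymm ?_ ?_⟩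
  · haveI := Fact.mk hℓ
    refine orderOf_eq_prime (Units.ext (by rw [hzpow, hs.pow_eq_one, one_smul, Units.val_one])) fun h1 => ?_
    have h2 := congrArg (fun g : GL (Fin ℓ) F => (g : Matrix (Fin ℓ) (Fin ℓ) F) ⟨0, hℓ.pos⟩ ⟨0, hℓ.pos⟩) h1
    simp only [hzs, Units.val_one, Matrix.smul_apply, Matrix.one_apply_eq, smul_eq_mul, mul_one] at h2
    exact hs.ne_one hℓ.one_lt h2
  · rintro g ⟨hgs, hgN⟩
    obtain ⟨c, hc⟩ := (mem_scalars_iff g).1 hgs
    obtain ⟨i, -, hi⟩ := hs.eq_pow_of_pow_eq_one (pow_eq_one_of_scalar (hN.le_sl hgN) hc)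
    have : g = z ^ i := Units.ext (by rw [hc, hzpow, hi])
    rw [this]
    exact Subgroup.pow_mem _ (Subgroup.mem_zpowers z) i
  · rw [Subgroup.zpowers_le]
    refine ⟨(mem_scalars_iff z).2 ⟨Units.mk0 s (hs.ne_zero hℓ.ne_zero), hzs⟩, hz⟩

theorem PrimeType.card_scalars (hN : PrimeType N) (hℓ : ℓ.Prime) :
    Nat.card ((scalars (Fin ℓ) F).subgroupOf N) = ℓ := by
  obtain ⟨z, -, hz, heq⟩ := hN.scalars_inf_eq hℓ
  rw [← Subgroup.inf_subgroupOf_right, heq]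
  rw [Nat.card_congr (Subgroup.subgroupOfEquivOfLe (heq ▸ inf_le_right : Subgroup.zpowers z ≤ N)).toEquiv,
    Nat.card_zpowers, hz]

theorem PrimeType.card_eq [Fintype F] (hN : PrimeType N) (hℓ : ℓ.Prime) : Nat.card N = ℓ ^ 3 := by
  haveI : Nonempty (Fin ℓ) := ⟨⟨0, hℓ.pos⟩⟩
  rw [Subgroup.card_eq_card_quotient_mul_card_subgroup ((scalars (Fin ℓ) F).subgroupOf N), hN.card_scalars hℓ,
    card_quotient_eq_sq hN.span hN.cls, Fintype.card_fin]
  ring

theorem PrimeType.center_eq (hN : PrimeType N) (hℓ : ℓ.Prime) :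
    Subgroup.center N = (scalars (Fin ℓ) F).subgroupOf N := by
  haveI : Nonempty (Fin ℓ) := ⟨⟨0, hℓ.pos⟩⟩
  ext x
  rw [Subgroup.mem_center_iff, Subgroup.mem_subgroupOf]
  constructor
  · intro h
    exact mem_scalars_of_commute hN.span fun y hy => congrArg Subtype.val (h ⟨y, hy⟩).symm
  · intro h y
    exact Subtype.ext (scalars_comm h y).symm

theorem PrimeType.isSymplecticTypeGroup [Fintype F] (hN : PrimeType N) (hℓ : ℓ.Prime) (hodd : Odd ℓ)
    {H : Subgroup (GL (Fin ℓ) F)} (hinv : ∀ g ∈ H, ∀ x ∈ N, g * x * g⁻¹ ∈ N)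
    (hmin : ∀ K : Subgroup (GL (Fin ℓ) F), K ≤ N → (∀ g ∈ H, ∀ x ∈ K, g * x * g⁻¹ ∈ K) →
      ¬ K ≤ scalars (Fin ℓ) F → K = N) :
    IsSymplecticTypeGroup ℓ N where
  prime := hℓ
  pGroup := IsPGroup.of_card (hN.card_eq hℓ)
  cyclic_of_characteristic := by
    intro A hA hAc
    obtain ⟨z, hz, -, heq⟩ := hN.scalars_inf_eq hℓ
    have hle : A.map N.subtype ≤ scalars (Fin ℓ) F := by
      by_contra hns
      have hKN : A.map N.subtype ≤ N := Subgroup.map_subtype_le A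
      have hAN := hmin _ hKN ?_ hns
      · obtain ⟨x, hx, hxs⟩ := hN.exists_nonscalar hℓ
        refine hxs (mem_scalars_of_commute hN.span fun y hy => ?_)
        rw [← hAN] at hx hy
        obtain ⟨a, ha, rfl⟩ := hx
        obtain ⟨c, hc, rfl⟩ := hy
        rw [← map_mul, ← map_mul]
        exact congrArg (fun q : A => N.subtype q.1) (hAc.is_comm.comm ⟨a, ha⟩ ⟨c, hc⟩)
      · intro g hg x hx
        obtain ⟨a, ha, rfl⟩ := hx
        let φ : N ≃* N :=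
          { toFun := fun x => ⟨g * x * g⁻¹, hinv g hg x x.2⟩
            invFun := fun x => ⟨g⁻¹ * x * g, by simpa using hinv g⁻¹ (H.inv_mem hg) x x.2⟩
            left_inv := fun x => Subtype.ext (by simp [mul_assoc])
            right_inv := fun x => Subtype.ext (by simp [mul_assoc])
            map_mul' := fun x y => Subtype.ext (by simp [mul_assoc]) }
        refine ⟨φ a, ?_, rfl⟩
        have h1 := hA.fixed φ
        rw [← h1] at ha
        exact ha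
    have hle' : A ≤ (Subgroup.zpowers z).subgroupOf N := by
      rw [← heq, Subgroup.inf_subgroupOf_right]
      exact fun a ha => hle ⟨a, ha, rfl⟩
    haveI : IsCyclic ((Subgroup.zpowers z).subgroupOf N) :=
      isCyclic_of_surjective (Subgroup.subgroupOfEquivOfLe (heq ▸ inf_le_right : Subgroup.zpowers z ≤ N)).symm.toMonoidHom
        (MulEquiv.surjective _)
    exact isCyclic_of_surjective (Subgroup.subgroupOfEquivOfLe hle').toMonoidHom (MulEquiv.surjective _)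
  exponent_eq := by
    have hg : Nat.gcd 2 ℓ = 1 := (Nat.coprime_two_left.2 hodd)
    rw [hg, mul_one]
    refine (hℓ.eq_one_or_self_of_dvd _ (Monoid.exponent_dvd_of_forall_pow_eq_one
      fun x => Subtype.ext (hN.pow_eq_one hℓ hodd x.2))).resolve_left fun h1 => ?_
    obtain ⟨x, hx, hxs⟩ := hN.exists_nonscalar hℓ
    have := Monoid.exp_eq_one_iff.1 h1
    have hx1 : x = 1 := congrArg Subtype.val (Subsingleton.elim (⟨x, hx⟩ : N) 1)
    exact hxs (hx1 ▸ Subgroup.one_mem _)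

theorem PrimeType.realisable (hN : PrimeType N) (hℓ : ℓ.Prime) (hodd : Odd ℓ) (F₀ : Subfield F)
    (hroot : ∀ c : F, c ^ ℓ = 1 → c ∈ F₀) : RealisableOver F₀ (matrixSet N) := by
  classical
  obtain ⟨b, hb⟩ := hN.exists_basis hℓ hodd
  let std := Pi.basisFun F (Fin ℓ)
  let P : GL (Fin ℓ) F := ⟨std.toMatrix b, b.toMatrix std, std.toMatrix_mul_toMatrix_flip b,
    b.toMatrix_mul_toMatrix_flip std⟩
  refine ⟨P⁻¹, ?_⟩
  rintro _ ⟨g, hg, rfl⟩ i j
  obtain ⟨π, c, hc, hgb⟩ := hb g hg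
  let M : Matrix (Fin ℓ) (Fin ℓ) F := Matrix.of fun i j => if i = π j then c j else 0
  have hgP : (g : Matrix (Fin ℓ) (Fin ℓ) F) * (P : Matrix (Fin ℓ) (Fin ℓ) F) = (P : Matrix (Fin ℓ) (Fin ℓ) F) * M := by
    ext a k
    have h1 : ((g : Matrix (Fin ℓ) (Fin ℓ) F) * (P : Matrix (Fin ℓ) (Fin ℓ) F)) a k =
        ((g : Matrix (Fin ℓ) (Fin ℓ) F) *ᵥ b k) a := rfl
    have h2 : ((P : Matrix (Fin ℓ) (Fin ℓ) F) * M) a k = ∑ q, b q a * (if q = π k then c k else 0) := rfl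
    rw [h1, h2, hgb, Pi.smul_apply, smul_eq_mul]
    simp [mul_comm]
  rw [inv_inv, Matrix.mul_assoc, hgP, ← Matrix.mul_assoc, ← Units.val_mul, inv_mul_cancel, Units.val_one, one_mul]
  show (if i = π j then c j else 0) ∈ F₀
  split
  · exact hroot _ (hc j)
  · exact F₀.zero_mem

theorem PrimeType.exists_unitary (hN : PrimeType N) (hℓ : ℓ.Prime) (hodd : Odd ℓ) (σ : F ≃+* F)
    (hne : σ ≠ RingEquiv.refl F) (hinv : ∀ a, σ (σ a) = a) (hroot : ∀ c : F, c ^ ℓ = 1 → c * σ c = 1) :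
    ∃ f : (Fin ℓ → F) → (Fin ℓ → F) → F, IsUnitaryForm σ f ∧ FixesForm (matrixSet N) f := by
  classical
  obtain ⟨b, hb⟩ := hN.exists_basis hℓ hodd
  refine ⟨fun u v => ∑ i, b.repr u i * σ (b.repr v i), ⟨hne, hinv, ?_, ?_, ?_, ?_⟩, ?_⟩
  · intro x y v
    simp [add_mul, Finset.sum_add_distrib]
  · intro a x v
    simp [Finset.mul_sum, mul_assoc]
  · intro v w
    simp [map_sum, hinv, mul_comm]
  · intro v hv
    obtain ⟨i, hi⟩ : ∃ i, b.repr v i ≠ 0 := by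
      by_contra h
      push Not at h
      exact hv (b.repr.injective (by ext i; simp [h i]))
    refine ⟨⟨b i, ?_⟩, ⟨b i, ?_⟩⟩ <;> simp [Finsupp.single_apply, hi, apply_ite σ]
  · rintro _ ⟨g, hg, rfl⟩ u v
    obtain ⟨π, c, hc, hgb⟩ := hb g hg
    have hrep : ∀ u i, b.repr ((g : Matrix (Fin ℓ) (Fin ℓ) F) *ᵥ u) (π i) = c i * b.repr u i := by
      intro u i
      have h1 : (g : Matrix (Fin ℓ) (Fin ℓ) F) *ᵥ u = ∑ q, (b.repr u q * c q) • b (π q) := by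
        conv_lhs => rw [← b.sum_repr u]
        simp only [Matrix.mulVec_sum, Matrix.mulVec_smul, hgb, smul_smul]
      rw [h1]
      simp [Finsupp.single_apply, π.injective.eq_iff, mul_comm]
    show ∑ i, _ = ∑ i, _
    rw [← Equiv.sum_comp π]
    refine Finset.sum_congr rfl fun i _ => ?_
    rw [hrep, hrep, map_mul]
    linear_combination (b.repr u i * σ (b.repr v i)) * hroot _ (hc i)

/-- Symplectic type in odd prime degree gives the class 6 data. -/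
theorem symplecticType_data [Fintype F] (hℓ : ℓ.Prime) (hodd : Odd ℓ) {H : Subgroup (GL (Fin ℓ) F)}
    (hN : PrimeType N) (hinv : ∀ g ∈ H, ∀ x ∈ N, g * x * g⁻¹ ∈ N)
    (hmin : ∀ K : Subgroup (GL (Fin ℓ) F), K ≤ N → (∀ g ∈ H, ∀ x ∈ K, g * x * g⁻¹ ∈ K) →
      ¬ K ≤ scalars (Fin ℓ) F → K = N)
    (hsub : ∀ (F₀ : Subfield F) (r : ℕ) (P : GL (Fin ℓ) F), r.Prime → Fintype.card F = Nat.card F₀ ^ r →
      ¬ H ≤ subfieldSubgroup F₀ P)
    (hU : ∀ (σ : F ≃+* F) (f : (Fin ℓ → F) → (Fin ℓ → F) → F), IsUnitaryForm σ f → ¬ H ≤ similarityGroup f) :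
    IsLinearSymplecticTypeData ℓ N ∧ ∃ p e : ℕ, p.Prime ∧ CharP F p ∧ Fintype.card F = p ^ e ∧ Odd e ∧
      e ∣ ℓ - 1 ∧ p ^ e % ℓ = 1 ∧ ∀ d, 0 < d → d < e → p ^ d % ℓ ≠ 1 := by
  classical
  haveI : Nonempty (Fin ℓ) := ⟨⟨0, hℓ.pos⟩⟩
  haveI := Fact.mk hℓ
  obtain ⟨z, -, s, hs, -⟩ := hN.exists_root hℓ
  obtain ⟨p, hchar⟩ := CharP.exists F
  haveI := hchar
  obtain ⟨⟨e, he0⟩, hp, hq⟩ := FiniteField.card F p
  simp only [PNat.mk_coe] at hq
  haveI := Fact.mk hp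
  have h1q : 1 ≤ p ^ e := Nat.one_le_pow _ _ hp.pos
  have hdvd : ℓ ∣ p ^ e - 1 := by
    rw [hs.eq_orderOf]
    refine orderOf_dvd_of_pow_eq_one ?_
    rw [← hq]
    exact FiniteField.pow_card_sub_one_eq_one s (hs.ne_zero hℓ.ne_zero)
  have hne : ℓ ≠ p := by
    rintro rfl
    have h2 : ℓ ∣ ℓ ^ e := dvd_pow_self ℓ (by omega)
    have h3 := Nat.dvd_sub h2 hdvd
    rw [show ℓ ^ e - (ℓ ^ e - 1) = 1 by omega] at h3
    exact hℓ.not_dvd_one h3
  have hfix : ∀ d, ℓ ∣ p ^ d - 1 → ∀ c : F, c ^ ℓ = 1 → c ^ p ^ d = c := by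
    intro d ⟨k, hk⟩ c hc
    have := Nat.one_le_pow d p hp.pos
    rw [show p ^ d = ℓ * k + 1 by omega, pow_succ, pow_mul, hc, one_pow, one_mul]
  have hnfix : ∀ d, 0 < d → d < e → ¬ ∀ x : F, x ^ p ^ d = x := by
    intro d hd0 hde hall
    have hlt : p ^ d < p ^ e := Nat.pow_lt_pow_right hp.one_lt hde
    have hXne := FiniteField.X_pow_card_pow_sub_X_ne_zero (K' := F) hd0.ne' hp.one_lt
    have hroots : (Finset.univ : Finset F) ⊆
        (Polynomial.X ^ p ^ d - Polynomial.X : Polynomial F).roots.toFinset := by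
      intro x _
      simp [Multiset.mem_toFinset, Polynomial.mem_roots hXne, Polynomial.IsRoot, hall x]
    have := (Finset.card_le_card hroots).trans ((Multiset.toFinset_card_le _).trans (Polynomial.card_roots' _))
    rw [Finset.card_univ, hq, FiniteField.X_pow_card_pow_sub_X_natDegree_eq F hd0.ne' hp.one_lt] at this
    omega
  have hminf : ∀ d, 0 < d → d < e → ¬ ℓ ∣ p ^ d - 1 := by
    intro d hd0 hde hd
    let φ : F →+* F := iterateFrobenius F p d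
    let F₀ : Subfield F := RingHom.eqLocusField φ (RingHom.id F)
    have hmem : ∀ x, x ∈ F₀ ↔ x ^ p ^ d = x := fun x => by
      show φ x = x ↔ _
      rw [show φ x = x ^ p ^ d from iterateFrobenius_def p d x]
    have h0 : F₀ ≠ ⊤ := fun htop => hnfix d hd0 hde fun x => (hmem x).1 (htop ▸ Subfield.mem_top x)
    obtain ⟨F₁, r, P, hr, hc, hle⟩ := le_subfieldSubgroup hN.span hinv h0
      (hN.realisable hℓ hodd F₀ fun c hc => (hmem c).2 (hfix d hd c hc))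
    exact hsub F₁ r P hr hc hle
  have hoe : Odd e := by
    rw [← Nat.not_even_iff_odd]
    rintro ⟨k, hk⟩
    have hk0 : 0 < k := by omega
    have hcard : ∀ x : F, x ^ p ^ e = x := fun x => by rw [← hq]; exact FiniteField.pow_card x
    let σ : F ≃+* F := iterateFrobeniusEquiv F p k
    have hσ : ∀ x, σ x = x ^ p ^ k := fun x => iterateFrobeniusEquiv_def F p k x
    have hσσ : ∀ a, σ (σ a) = a := fun a => by rw [hσ, hσ, ← pow_mul, ← pow_add, ← hk, hcard]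
    have hσne : σ ≠ RingEquiv.refl F := fun h => hnfix k hk0 (by omega) fun x => by rw [← hσ, h]; rfl
    have hroot : ∀ c : F, c ^ ℓ = 1 → c * σ c = 1 := by
      intro c hc
      have h1 : ℓ ∣ (p ^ k + 1) * (p ^ k - 1) := by
        rw [← Nat.sq_sub_sq, one_pow, ← pow_mul, show k * 2 = e by omega]
        exact hdvd
      obtain ⟨m, hm⟩ := ((Nat.Prime.dvd_mul hℓ).1 h1).resolve_right (hminf k hk0 (by omega))
      rw [hσ, ← pow_succ', hm, pow_mul, hc, one_pow]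
    obtain ⟨f, hf, hfix'⟩ := hN.exists_unitary hℓ hodd σ hσne hσσ hroot
    exact hU σ f hf (le_similarityGroup hN.span hinv σ (unitary_isSesq hf) hf.nondegenerate hfix')
  have hcen : Nat.card (Subgroup.center N) = ℓ := by rw [hN.center_eq hℓ, hN.card_scalars hℓ]
  have hmod : ∀ d, ℓ ∣ p ^ d - 1 ↔ p ^ d % ℓ = 1 := by
    intro d
    have := Nat.one_le_pow d p hp.pos
    rw [← Nat.modEq_iff_dvd' this, Nat.ModEq, Nat.mod_eq_of_lt hℓ.one_lt, eq_comm]
  refine ⟨⟨hN.isSymplecticTypeGroup hℓ hodd hinv hmin, absIrred_of_algOf_eq_top hN.span, p, e, hne, ?_,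
    Or.inl ⟨hodd, hoe, hcen, 1, le_rfl, by rw [hN.card_eq hℓ]⟩⟩,
    p, e, hp, hchar, hq, hoe, ?_, (hmod e).1 hdvd, fun d h0 h1 h => hminf d h0 h1 ((hmod d).2 h)⟩
  · rw [hcen]
    exact ⟨hp, hchar, hq, hdvd, hminf⟩
  · have hcop : ¬ ℓ ∣ p := fun h => hne ((Nat.prime_dvd_prime_iff_eq hℓ hp).1 h)
    have hp0 : (p : ZMod ℓ) ≠ 0 := by rwa [Ne, ZMod.natCast_eq_zero_iff]
    have hpe : ∀ d, (p : ZMod ℓ) ^ d = 1 ↔ ℓ ∣ p ^ d - 1 := fun d => by
      rw [← Nat.cast_pow, ← ZMod.natCast_eq_zero_iff, Nat.cast_sub (Nat.one_le_pow _ _ hp.pos), Nat.cast_one,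
        sub_eq_zero]
    have hord : orderOf (p : ZMod ℓ) = e := by
      rw [orderOf_eq_iff he0]
      exact ⟨(hpe e).2 hdvd, fun d hd hd0 h => hminf d hd0 hd ((hpe d).1 h)⟩
    rw [← hord]
    exact orderOf_dvd_of_pow_eq_one (ZMod.pow_card_sub_one_eq_one hp0)

theorem le_normalizer_of_normalized {ι : Type} [Fintype ι] [DecidableEq ι] {H K : Subgroup (GL ι F)}
    (hinv : ∀ g ∈ H, ∀ x ∈ K, g * x * g⁻¹ ∈ K) : H ≤ subgroupNormalizer K := fun g hg =>
  Subgroup.mem_normalizer_iff.2 fun x => ⟨fun hx => hinv g hg x hx, fun hx => by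
    have := hinv g⁻¹ (H.inv_mem hg) _ hx
    simpa [mul_assoc] using this⟩

/-- The normaliser of a group of prime symplectic type does not contain SL. -/
theorem PrimeType.not_specialLinear_le_normalizer (hN : PrimeType N) (hℓ : ℓ.Prime) (hodd : Odd ℓ) :
    ¬ specialLinear (Fin ℓ) F ≤ subgroupNormalizer N := by
  intro hle
  haveI : Nonempty (Fin ℓ) := ⟨⟨0, hℓ.pos⟩⟩
  have h3 : 3 ≤ ℓ := by
    have := hℓ.two_le
    rcases hodd with ⟨k, rfl⟩
    omega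
  obtain ⟨x, hx, hxs⟩ := hN.exists_nonscalar hℓ
  obtain ⟨v, hv0, hv⟩ : ∃ v : Fin ℓ → F, v ≠ 0 ∧ (x : Matrix (Fin ℓ) (Fin ℓ) F) *ᵥ v = v := by
    have h : (Matrix.scalar (Fin ℓ) (1 : F) - (x : Matrix (Fin ℓ) (Fin ℓ) F)).det = 0 := by
      rw [← Matrix.eval_charpoly, hN.charpoly_eq hℓ hodd hx hxs]; simp [hℓ.ne_zero]
    obtain ⟨v, hv0, hv⟩ := Matrix.exists_mulVec_eq_zero_iff.2 h
    rw [Matrix.sub_mulVec, map_one, Matrix.one_mulVec, sub_eq_zero] at hv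
    exact ⟨v, hv0, hv.symm⟩
  set L := Matrix.toLin' (x : Matrix (Fin ℓ) (Fin ℓ) F) - LinearMap.id with hL
  obtain ⟨w, hw⟩ : ∃ w, L w ∉ Submodule.span F {v} := by
    by_contra h
    push Not at h
    have h1 : Module.finrank F (LinearMap.range L) ≤ 1 := by
      refine (Submodule.finrank_mono (t := Submodule.span F {v}) ?_).trans (finrank_span_singleton hv0).le
      rintro _ ⟨w, rfl⟩
      exact h w
    have h2 := L.finrank_range_add_finrank_ker
    have h4 := hN.two_fix hx hxs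
    rw [← hL] at h4
    rw [Module.finrank_fin_fun] at h2
    omega
  obtain ⟨φ, hφw, hφv'⟩ := exists_dot hw
  have hφv : φ ⬝ᵥ v = 0 := hφv' v (Submodule.mem_span_singleton_self v)
  set t := GeomClasses.tv v φ with ht
  set D := t * x * t⁻¹ * x⁻¹ with hD
  have hDN : D ∈ N := by
    have htn := hle (GeomClasses.tv_mem_specialLinear v φ)
    exact N.mul_mem ((Subgroup.mem_normalizer_iff.1 htn x).1 hx) (N.inv_mem hx)
  have hDz : ∀ z, (D : Matrix (Fin ℓ) (Fin ℓ) F) *ᵥ z =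
      z + (φ ⬝ᵥ z - φ ⬝ᵥ (((x⁻¹ : GL (Fin ℓ) F) : Matrix (Fin ℓ) (Fin ℓ) F) *ᵥ z)) • v := by
    intro z
    have hnv : φ ⬝ᵥ (-v) = 0 := by rw [dotProduct_neg, hφv, neg_zero]
    simp only [hD, Units.val_mul, ← Matrix.mulVec_mulVec, ht, GeomClasses.tv_inv hφv, GeomClasses.tv_mulVec hnv,
      GeomClasses.tv_mulVec hφv, Matrix.mulVec_add, Matrix.mulVec_smul, Matrix.mulVec_neg, hv,
      GeomClasses.gl_mulVec_inv_mulVec, dotProduct_add, dotProduct_smul, hnv]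
    match_scalars <;> first | ring1 | (rw [hφv]; ring1)
  have hne : D ≠ 1 := by
    intro h1
    have h2 := hDz ((x : Matrix (Fin ℓ) (Fin ℓ) F) *ᵥ w)
    rw [h1, Units.val_one, Matrix.one_mulVec, GeomClasses.gl_inv_mulVec_mulVec, left_eq_add, ← dotProduct_sub] at h2
    have h3 : L w = (x : Matrix (Fin ℓ) (Fin ℓ) F) *ᵥ w - w := by simp [hL]
    rw [← h3, hφw, one_smul] at h2
    exact hv0 h2
  let ψ : (Fin ℓ → F) →ₗ[F] F :=
    { toFun := fun z => φ ⬝ᵥ z - φ ⬝ᵥ (((x⁻¹ : GL (Fin ℓ) F) : Matrix (Fin ℓ) (Fin ℓ) F) *ᵥ z)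
      map_add' := fun a c => by simp only [Matrix.mulVec_add, dotProduct_add]; ring
      map_smul' := fun a c => by simp only [Matrix.mulVec_smul, dotProduct_smul, smul_eq_mul, RingHom.id_apply]; ring }
  have hker : LinearMap.ker ψ ≤ LinearMap.ker (Matrix.toLin' (D : Matrix (Fin ℓ) (Fin ℓ) F) - LinearMap.id) := by
    intro z hz
    have hz' : φ ⬝ᵥ z - φ ⬝ᵥ (((x⁻¹ : GL (Fin ℓ) F) : Matrix (Fin ℓ) (Fin ℓ) F) *ᵥ z) = 0 := hz
    rw [LinearMap.mem_ker, LinearMap.sub_apply, Matrix.toLin'_apply, LinearMap.id_apply, hDz, hz', zero_smul,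
      add_zero, sub_self]
  have h5 := Submodule.finrank_mono hker
  have h6 := ψ.finrank_range_add_finrank_ker
  have h7 : Module.finrank F (LinearMap.range ψ) ≤ 1 := (Submodule.finrank_le _).trans (Module.finrank_self F).le
  rw [Module.finrank_fin_fun] at h6
  by_cases hDs : D ∈ scalars (Fin ℓ) F
  · obtain ⟨c, hc⟩ := (mem_scalars_iff D).1 hDs
    have h8 := hDz v
    rw [hc, Matrix.smul_mulVec, Matrix.one_mulVec, hφv, zero_sub] at h8
    have hxv : ((x⁻¹ : GL (Fin ℓ) F) : Matrix (Fin ℓ) (Fin ℓ) F) *ᵥ v = v := by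
      conv_lhs => rw [← hv, GeomClasses.gl_inv_mulVec_mulVec]
    rw [hxv, hφv, neg_zero, zero_smul, add_zero] at h8
    have h9 : ((c : F) - 1) • v = 0 := by rw [sub_smul, h8, one_smul, sub_self]
    refine hne (Units.ext ?_)
    rw [hc, sub_eq_zero.1 ((smul_eq_zero.1 h9).resolve_right hv0), one_smul, Units.val_one]
  · have := hN.two_fix hDN hDs
    omega

end CfsgLib.Geo.Asch
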