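import Mathlib
import Cfsg.Prelude.Def_GeometricClasses
import Cfsg.Agent.Lib.Geo.AschGroup
import Cfsg.Agent.Lib.Geo.AschProper

/-! Clifford theory in prime degree, without assuming primitivity. -/

set_option autoImplicit false

namespace CfsgLib.Geo.Asch

open Cfsg Cfsg.Geo Matrix
open scoped MatrixGroups

variable {ι : Type} [Fintype ι] [DecidableEq ι] {F : Type*} [Field F]

theorem invariant_map_mem {S : Set (Matrix ι ι F)} {W : Submodule F (ι → F)}
    (h : ∀ s ∈ S, W.map (Matrix.toLin' s) ≤ W) {s : Matrix ι ι F} (hs : s ∈ S) {v : ι → F} (hv : v ∈ W) :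
    s *ᵥ v ∈ W := h s hs ⟨v, hv, Matrix.toLin'_apply _ v⟩

theorem eq_of_map_le {g : GL ι F} {W : Submodule F (ι → F)}
    (h : W.map (Matrix.toLin' (g : Matrix ι ι F)) ≤ W) : W.map (Matrix.toLin' (g : Matrix ι ι F)) = W :=
  Submodule.eq_of_le_of_finrank_eq h
    (Submodule.equivMapOfInjective _ (toLin'_unit_injective g) W).finrank_eq.symm

/-- In prime degree a normalised subgroup of an irreducible group is irreducible or has eigenvectors spanning the space. -/
theorem irreducible_or_eigen {H N : Subgroup (GL ι F)} (hp : (Fintype.card ι).Prime)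
    (hirr : ActsIrreducibly (matrixSet H)) (hinv : ∀ g ∈ H, ∀ x ∈ N, g * x * g⁻¹ ∈ N) :
    ActsIrreducibly (matrixSet N) ∨
      Submodule.span F {v : ι → F | ∀ x ∈ N, ∃ c : F, (x : Matrix ι ι F) *ᵥ v = c • v} = ⊤ := by
  classical
  refine or_iff_not_imp_left.2 fun hN => ?_
  obtain ⟨W₀, hW₀, hW₀1, hW₀2⟩ : ∃ W : Submodule F (ι → F),
      (∀ s ∈ matrixSet N, W.map (Matrix.toLin' s) ≤ W) ∧ W ≠ ⊥ ∧ W ≠ ⊤ := by
    unfold ActsIrreducibly at hN
    push Not at hN
    exact hN
  let Q : ℕ → Prop := fun d => ∃ W : Submodule F (ι → F),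
    (∀ s ∈ matrixSet N, W.map (Matrix.toLin' s) ≤ W) ∧ W ≠ ⊥ ∧ Module.finrank F W = d
  have hQ : ∃ d, Q d := ⟨_, W₀, hW₀, hW₀1, rfl⟩
  obtain ⟨W, hW, hW1, hWd⟩ := Nat.find_spec hQ
  set d := Nat.find hQ with hd
  have hdmin : ∀ U : Submodule F (ι → F), (∀ s ∈ matrixSet N, U.map (Matrix.toLin' s) ≤ U) →
      U ≠ ⊥ → d ≤ Module.finrank F U := fun U h1 h2 => Nat.find_le ⟨U, h1, h2, rfl⟩
  -- the translates
  let T : GL ι F → Submodule F (ι → F) := fun g => W.map (Matrix.toLin' (g : Matrix ι ι F))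
  have hTdim : ∀ g, Module.finrank F (T g) = d := fun g =>
    (Submodule.equivMapOfInjective _ (toLin'_unit_injective g) W).finrank_eq.symm.trans hWd
  have hTinv : ∀ g ∈ H, ∀ s ∈ matrixSet N, (T g).map (Matrix.toLin' s) ≤ T g := by
    rintro g hg _ ⟨x, hx, rfl⟩ _ ⟨_, ⟨w, hw, rfl⟩, rfl⟩
    refine ⟨((g⁻¹ * x * g : GL ι F) : Matrix ι ι F) *ᵥ w, invariant_map_mem hW ⟨_, ?_, rfl⟩ hw, ?_⟩
    · have := hinv g⁻¹ (H.inv_mem hg) x hx
      rwa [inv_inv] at this
    · simp only [Matrix.toLin'_apply, Matrix.mulVec_mulVec, ← Units.val_mul]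
      simp [mul_assoc]
  have hspanT : ∀ U : Submodule F (ι → F), (∀ g ∈ H, T g ≤ U) → U = ⊤ := by
    intro U hU
    let S : Submodule F (ι → F) := ⨆ (g : GL ι F) (_ : g ∈ H), T g
    have hS : S ≤ U := iSup₂_le hU
    refine top_le_iff.1 (le_trans (le_of_eq ?_) hS)
    refine ((hirr S ?_).resolve_left ?_).symm
    · rintro _ ⟨k, hk, rfl⟩
      simp only [S, Submodule.map_iSup]
      refine iSup₂_le fun g hg => le_iSup₂_of_le (k * g) (H.mul_mem hk hg) (le_of_eq ?_)
      simp only [T, ← Submodule.map_comp, Units.val_mul, Matrix.toLin'_mul]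
    · intro h0
      have h1 : T 1 ≤ S := le_iSup₂_of_le 1 H.one_mem le_rfl
      rw [h0] at h1
      simp [T] at h1
      exact hW1 h1
  -- dimensions are multiples of d
  have hdn : d ∣ Fintype.card ι := by
    let P : Submodule F (ι → F) → Prop := fun U =>
      (∀ s ∈ matrixSet N, U.map (Matrix.toLin' s) ≤ U) ∧ d ∣ Module.finrank F U
    obtain ⟨m, hm, hmax⟩ : ∃ m, (∃ U, P U ∧ Module.finrank F U = m) ∧ ∀ U, P U → Module.finrank F U ≤ m := by
      let R : ℕ → Prop := fun m => ∃ U, P U ∧ Module.finrank F U = m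
      refine ⟨Nat.findGreatest R (Fintype.card ι), ?_, fun U hU => ?_⟩
      · exact Nat.findGreatest_spec (P := R) (m := 0) (Nat.zero_le _)
          ⟨⊥, ⟨fun s _ => by simp, by simp⟩, by simp⟩
      · exact Nat.le_findGreatest ((Submodule.finrank_le U).trans (Module.finrank_fintype_fun_eq_card F).le)
          ⟨U, hU, rfl⟩
    obtain ⟨U, ⟨hUi, hUd⟩, rfl⟩ := hm
    suffices hU : U = ⊤ by
      rw [hU, finrank_top, Module.finrank_fintype_fun_eq_card] at hUd
      exact hUd
    refine hspanT U fun g hg => ?_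
    by_contra hle
    have hinf : T g ⊓ U = ⊥ := by
      by_contra hne
      have hinvI : ∀ s ∈ matrixSet N, (T g ⊓ U).map (Matrix.toLin' s) ≤ T g ⊓ U := fun s hs =>
        (Submodule.map_inf_le _).trans (inf_le_inf (hTinv g hg s hs) (hUi s hs))
      have h1 := hdmin _ hinvI hne
      rw [← hTdim g] at h1
      exact hle (inf_eq_left.1 (Submodule.eq_of_le_of_finrank_le inf_le_left h1))
    have h2 := Submodule.finrank_sup_add_finrank_inf_eq (T g) U
    rw [hinf, finrank_bot, add_zero, hTdim] at h2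
    have h3 := hmax (T g ⊔ U) ⟨fun s hs => by
      rw [Submodule.map_sup]; exact sup_le_sup (hTinv g hg s hs) (hUi s hs),
      by rw [h2]; exact dvd_add dvd_rfl hUd⟩
    have hdpos : 0 < d := by
      rw [← hWd]; exact Nat.pos_of_ne_zero fun h => hW1 (Submodule.finrank_eq_zero.1 h)
    omega
  have hd1 : d = 1 := by
    refine (hp.eq_one_or_self_of_dvd d hdn).resolve_right fun h => ?_
    have h1 := hdmin W₀ hW₀ hW₀1
    have h2 := Submodule.finrank_lt hW₀2
    rw [Module.finrank_fintype_fun_eq_card] at h2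
    omega
  refine hspanT _ fun g hg v hv => Submodule.subset_span ?_
  intro x hx
  by_cases hv0 : v = 0
  · exact ⟨0, by simp [hv0]⟩
  obtain ⟨w, -, hw⟩ := finrank_eq_one_iff'.1 ((hTdim g).trans hd1)
  obtain ⟨a, ha⟩ := hw ⟨v, hv⟩
  obtain ⟨b, hb⟩ := hw ⟨_, invariant_map_mem (hTinv g hg) ⟨x, hx, rfl⟩ hv⟩
  have ha' : a • (w : ι → F) = v := congrArg Subtype.val ha
  have hb' : b • (w : ι → F) = (x : Matrix ι ι F) *ᵥ v := congrArg Subtype.val hb
  have ha0 : a ≠ 0 := fun h => hv0 (by rw [← ha', h, zero_smul])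
  exact ⟨b / a, by rw [← hb', ← ha', smul_smul, div_mul_cancel₀ _ ha0]⟩

theorem commute_of_eigen {N : Subgroup (GL ι F)}
    (h : Submodule.span F {v : ι → F | ∀ x ∈ N, ∃ c : F, (x : Matrix ι ι F) *ᵥ v = c • v} = ⊤) :
    ∀ x ∈ N, ∀ y ∈ N, x * y = y * x := by
  intro x hx y hy
  apply Units.ext
  refine Matrix.ext_of_mulVec_single fun i => ?_
  have hmem : (Pi.single i (1 : F) : ι → F) ∈
      Submodule.span F {v : ι → F | ∀ x ∈ N, ∃ c : F, (x : Matrix ι ι F) *ᵥ v = c • v} := h ▸ Submodule.mem_top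
  generalize (Pi.single i (1 : F) : ι → F) = w at hmem ⊢
  induction hmem using Submodule.span_induction with
  | mem v hv =>
    obtain ⟨a, ha⟩ := hv x hx
    obtain ⟨b, hb⟩ := hv y hy
    rw [Units.val_mul, Units.val_mul, ← Matrix.mulVec_mulVec, ← Matrix.mulVec_mulVec, hb, ha, Matrix.mulVec_smul,
      Matrix.mulVec_smul, hb, ha, smul_comm]
  | zero => simp
  | add u v _ _ hu hv => rw [Matrix.mulVec_add, Matrix.mulVec_add, hu, hv]
  | smul c u _ hu => rw [Matrix.mulVec_smul, Matrix.mulVec_smul, hu]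

/-- An irreducible abelian group spans a field of full degree. -/
theorem isFieldSubalgebra_algOf [Nonempty ι] {N : Subgroup (GL ι F)} (hirr : ActsIrreducibly (matrixSet N))
    (hab : ∀ x ∈ N, ∀ y ∈ N, x * y = y * x) : IsFieldSubalgebra (Fintype.card ι) (algOf N) := by
  have hcomm : ∀ x ∈ algOf N, ∀ y ∈ algOf N, x * y = y * x := by
    intro x hx y hy
    refine commute_algOf ?_ hy
    rintro _ ⟨s, hs, rfl⟩
    refine (commute_algOf ?_ hx).symm
    rintro _ ⟨t, ht, rfl⟩
    show (s : Matrix ι ι F) * t = t * s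
    rw [← Units.val_mul, hab s hs t ht, Units.val_mul]
  have hker : ∀ r ∈ algOf N, r ≠ 0 → ∀ v, r *ᵥ v = 0 → v = 0 := by
    intro r hr hr0 v hv
    rcases hirr (LinearMap.ker (Matrix.toLin' r)) (by
      rintro s ⟨g, hg, rfl⟩ _ ⟨u, hu, rfl⟩
      have hu' : r *ᵥ u = 0 := by simpa using hu
      rw [LinearMap.mem_ker, Matrix.toLin'_apply, Matrix.toLin'_apply, Matrix.mulVec_mulVec,
        hcomm r hr _ (mem_algOf hg), ← Matrix.mulVec_mulVec, hu', Matrix.mulVec_zero]) with h | h
    · have : v ∈ LinearMap.ker (Matrix.toLin' r) := by simpa using hv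
      rwa [h, Submodule.mem_bot] at this
    · exact absurd (Matrix.ext_of_mulVec_single fun i => by
        have : (Pi.single i (1 : F) : ι → F) ∈ LinearMap.ker (Matrix.toLin' r) := h ▸ Submodule.mem_top
        rw [Matrix.zero_mulVec]
        simpa using this) hr0
  refine ⟨hcomm, ?_, ?_⟩
  · intro r hr hr0
    let L : algOf N →ₗ[F] algOf N := LinearMap.mulLeft F (⟨r, hr⟩ : algOf N)
    have hL : Function.Injective L := by
      rw [injective_iff_map_eq_zero]
      intro y hy
      apply Subtype.ext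
      refine Matrix.ext_of_mulVec_single fun i => ?_
      rw [ZeroMemClass.coe_zero, Matrix.zero_mulVec]
      refine hker r hr hr0 _ ?_
      rw [Matrix.mulVec_mulVec, show r * (y : Matrix ι ι F) = 0 from congrArg Subtype.val hy, Matrix.zero_mulVec]
    obtain ⟨y, hy⟩ := LinearMap.surjective_of_injective hL 1
    exact ⟨y, y.2, congrArg Subtype.val hy⟩
  · obtain ⟨v, hv⟩ := exists_ne (0 : ι → F)
    let E : algOf N →ₗ[F] (ι → F) :=
      { toFun := fun k => (k : Matrix ι ι F) *ᵥ v
        map_add' := fun a b => by simp [Matrix.add_mulVec]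
        map_smul' := fun c a => by simp [Matrix.smul_mulVec] }
    have hE : Function.Injective E := by
      rw [injective_iff_map_eq_zero]
      intro k hk
      by_contra hk0
      exact hv (hker k k.2 (fun h => hk0 (Subtype.ext h)) v hk)
    have htop : LinearMap.range E = ⊤ := by
      refine (hirr _ ?_).resolve_left fun h => hv ?_
      · rintro _ ⟨g, hg, rfl⟩ _ ⟨_, ⟨k, rfl⟩, rfl⟩
        exact ⟨⟨_, (algOf N).mul_mem (mem_algOf hg) k.2⟩, by simp [E, Matrix.mulVec_mulVec]⟩
      · have : E 1 ∈ LinearMap.range E := ⟨1, rfl⟩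
        rw [h, Submodule.mem_bot] at this
        simpa [E] using this
    rw [← LinearMap.finrank_range_of_inj hE, htop, finrank_top, Module.finrank_fintype_fun_eq_card]

/-- An irreducible non-abelian group in prime degree spans the whole matrix algebra. -/
theorem algOf_eq_top_of_prime [Fintype F] {N : Subgroup (GL ι F)} (hp : (Fintype.card ι).Prime)
    (hirr : ActsIrreducibly (matrixSet N)) (hab : ¬ ∀ x ∈ N, ∀ y ∈ N, x * y = y * x) : algOf N = ⊤ := by
  haveI : Nonempty ι := Fintype.card_pos_iff.1 hp.pos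
  have hA : Normalized N (algOf N) := normalized_algOf fun g hg x hx => N.mul_mem (N.mul_mem hg hx) (N.inv_mem hg)
  let Z : Subalgebra F (Matrix ι ι F) := algOf N ⊓ Subalgebra.centralizer F (algOf N : Set (Matrix ι ι F))
  have hZc : ∀ z ∈ Z, ∀ x ∈ algOf N, x * z = z * x := fun z hz x hx =>
    (Subalgebra.mem_centralizer_iff F).1 hz.2 x hx
  have hZfield : IsFieldSubalgebra (Module.finrank F Z) Z := by
    refine ⟨fun x hx y hy => hZc y hy x hx.1, ?_, rfl⟩
    intro r hr hr0
    have hinj : ∀ v, r *ᵥ v = 0 → v = 0 := by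
      intro v hv
      rcases hirr (LinearMap.ker (Matrix.toLin' r)) (by
        rintro s ⟨g, hg, rfl⟩ _ ⟨u, hu, rfl⟩
        have hu' : r *ᵥ u = 0 := by simpa using hu
        rw [LinearMap.mem_ker, Matrix.toLin'_apply, Matrix.toLin'_apply, Matrix.mulVec_mulVec,
          ← hZc r hr _ (mem_algOf hg), ← Matrix.mulVec_mulVec, hu', Matrix.mulVec_zero]) with h | h
      · have : v ∈ LinearMap.ker (Matrix.toLin' r) := by simpa using hv
        rwa [h, Submodule.mem_bot] at this
      · exact absurd (Matrix.ext_of_mulVec_single fun i => by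
          have : (Pi.single i (1 : F) : ι → F) ∈ LinearMap.ker (Matrix.toLin' r) := h ▸ Submodule.mem_top
          rw [Matrix.zero_mulVec]
          simpa using this) hr0
    let L : Z →ₗ[F] Z := LinearMap.mulLeft F (⟨r, hr⟩ : Z)
    have hL : Function.Injective L := by
      rw [injective_iff_map_eq_zero]
      intro y hy
      apply Subtype.ext
      refine Matrix.ext_of_mulVec_single fun i => ?_
      rw [ZeroMemClass.coe_zero, Matrix.zero_mulVec]
      refine hinj _ ?_
      rw [Matrix.mulVec_mulVec, show r * (y : Matrix ι ι F) = 0 from congrArg Subtype.val hy, Matrix.zero_mulVec]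
    obtain ⟨y, hy⟩ := LinearMap.surjective_of_injective hL 1
    exact ⟨y, y.2, congrArg Subtype.val hy⟩
  have hZ : Z = ⊥ := by
    refine Subalgebra.eq_bot_of_finrank_one ((hp.eq_one_or_self_of_dvd _ (isFieldSubalgebra_dvd hZfield)).resolve_right
      fun hn => hab ?_)
    obtain ⟨v, hv⟩ := exists_ne (0 : ι → F)
    let E : Z →ₗ[F] (ι → F) :=
      { toFun := fun k => (k : Matrix ι ι F) *ᵥ v
        map_add' := fun a b => by simp [Matrix.add_mulVec]
        map_smul' := fun c a => by simp [Matrix.smul_mulVec] }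
    have hE : Function.Injective E := by
      rw [injective_iff_map_eq_zero]
      intro k hk
      by_contra hk0
      obtain ⟨y, hy, hky⟩ := hZfield.inv _ k.2 fun h => hk0 (Subtype.ext h)
      rw [hZfield.comm _ k.2 _ hy] at hky
      apply hv
      rw [← Matrix.one_mulVec v, ← hky, ← Matrix.mulVec_mulVec, show (k : Matrix ι ι F) *ᵥ v = 0 from hk,
        Matrix.mulVec_zero]
    have hsurj : Function.Surjective E :=
      (LinearMap.injective_iff_surjective_of_finrank_eq_finrank (by rw [hn, Module.finrank_fintype_fun_eq_card])).1 hE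
    have hN : ∀ g ∈ N, ∃ k : Z, (g : Matrix ι ι F) = k := by
      intro g hg
      obtain ⟨k, hk⟩ := hsurj ((g : Matrix ι ι F) *ᵥ v)
      refine ⟨k, Matrix.ext_of_mulVec_single fun i => ?_⟩
      obtain ⟨l, hl⟩ := hsurj (Pi.single i 1)
      rw [← hl]
      show (g : Matrix ι ι F) *ᵥ ((l : Matrix ι ι F) *ᵥ v) = (k : Matrix ι ι F) *ᵥ ((l : Matrix ι ι F) *ᵥ v)
      rw [Matrix.mulVec_mulVec, hZc l l.2 _ (mem_algOf hg), ← Matrix.mulVec_mulVec,
        ← show (k : Matrix ι ι F) *ᵥ v = _ from hk, Matrix.mulVec_mulVec, Matrix.mulVec_mulVec,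
        hZfield.comm _ l.2 _ k.2]
    intro x hx y hy
    obtain ⟨k, hk⟩ := hN x hx
    obtain ⟨l, hl⟩ := hN y hy
    exact Units.ext (by rw [Units.val_mul, Units.val_mul, hk, hl, hZfield.comm _ k.2 _ l.2])
  obtain ⟨a, ha, φ, hφi, hφr⟩ := exists_matrix_hom hirr hA (fun z hz hc => hZ.le
    ⟨hz, (Subalgebra.mem_centralizer_iff F).2 fun x hx => (hc x hx).symm⟩)
  obtain ⟨b, e, P, hb, rfl⟩ := exists_tensorEmb φ
  haveI : NeZero b := ⟨by omega⟩
  have hcard := Fintype.card_congr e
  simp only [Fintype.card_prod, Fintype.card_fin] at hcard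
  rcases hp.eq_one_or_self_of_dvd a ⟨b, hcard⟩ with ha1 | ha1
  · exfalso
    subst ha1
    refine hab fun x hx y hy => ?_
    refine scalars_comm (mem_scalars_of_mem_bot ?_) y
    have h1 := mem_algOf hx
    rw [← hφr] at h1
    obtain ⟨X, hX⟩ := h1
    rw [← hX, show X = algebraMap F _ (X 0 0) by
      ext i j; rw [Subsingleton.elim i 0, Subsingleton.elim j 0]; simp [Matrix.algebraMap_eq_diagonal]]
    show tensorEmb 1 b e P (algebraMap F _ (X 0 0)) ∈ (⊥ : Subalgebra F (Matrix ι ι F))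
    rw [AlgHom.commutes]
    exact Algebra.mem_bot.2 ⟨_, rfl⟩
  · rw [← Algebra.toSubmodule_eq_top, ← hφr]
    apply Submodule.eq_top_of_finrank_eq
    show Module.finrank F (LinearMap.range (tensorEmb a b e P).toLinearMap) = _
    rw [LinearMap.finrank_range_of_inj hφi, Module.finrank_matrix, Module.finrank_matrix]
    simp [ha1]

/-- The eigen decomposition of a diagonalisable non-scalar normalised subgroup in prime degree. -/
theorem exists_eigen_lines [Fintype F] {H N : Subgroup (GL ι F)} (hp : (Fintype.card ι).Prime)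
    (hirr : ActsIrreducibly (matrixSet H)) (hinv : ∀ g ∈ H, ∀ x ∈ N, g * x * g⁻¹ ∈ N)
    (hns : ¬ N ≤ scalars ι F)
    (hspan : Submodule.span F {v : ι → F | ∀ x ∈ N, ∃ c : F, (x : Matrix ι ι F) *ᵥ v = c • v} = ⊤) :
    ∃ (t : ℕ) (D : Fin t → Submodule F (ι → F)) (χ : Fin t → N → F), t = Fintype.card ι ∧ IsMDecomposition 1 D ∧
      Function.Injective χ ∧ (∀ i, ∀ v ∈ D i, ∀ x : N, ((x : GL ι F) : Matrix ι ι F) *ᵥ v = χ i x • v) ∧
      H ≤ decompositionStabilizer D := by
  classical
  haveI : Nonempty ι := Fintype.card_pos_iff.1 hp.pos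
  let L : N → Module.End F (ι → F) := fun x => Matrix.toLin' ((x : GL ι F) : Matrix ι ι F)
  let E : (N → F) → Submodule F (ι → F) := fun c => ⨅ x, (L x).eigenspace (c x)
  have hmemE : ∀ c v, v ∈ E c ↔ ∀ x : N, ((x : GL ι F) : Matrix ι ι F) *ᵥ v = c x • v := fun c v => by
    simp [E, L, Submodule.mem_iInf, Module.End.mem_eigenspace_iff]
  have hind : iSupIndep E := by
    refine (Module.End.independent_iInf_maxGenEigenspace_of_forall_mapsTo L ?_).mono
      fun c => iInf_mono fun x => Module.End.eigenspace_le_maxGenEigenspace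
    intro x y φ
    refine Module.End.mapsTo_maxGenEigenspace_of_comm ?_ φ
    show L y * L x = L x * L y
    simp only [L, Module.End.mul_eq_comp, ← Matrix.toLin'_mul]
    rw [← Units.val_mul, commute_of_eigen hspan _ y.2 _ x.2, Units.val_mul]
  -- translation of eigenspaces
  have hcj : ∀ g ∈ H, ∀ x : N, g⁻¹ * (x : GL ι F) * g ∈ N := fun g hg x => by
    have := hinv g⁻¹ (H.inv_mem hg) x x.2
    rwa [inv_inv] at this
  have hmapE : ∀ g (hg : g ∈ H) c,
      (E c).map (Matrix.toLin' (g : Matrix ι ι F)) ≤ E (fun x => c ⟨_, hcj g hg x⟩) := by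
    rintro g hg c _ ⟨v, hv, rfl⟩
    rw [hmemE, Matrix.toLin'_apply]
    intro x
    rw [← Matrix.mulVec_smul, ← (hmemE c v).1 hv ⟨_, hcj g hg x⟩, Matrix.mulVec_mulVec, Matrix.mulVec_mulVec,
      ← Units.val_mul, ← Units.val_mul]
    simp [mul_assoc]
  let C : Finset (N → F) := (Set.toFinite {c | E c ≠ ⊥}).toFinset
  have hC : ∀ {c}, c ∈ C ↔ E c ≠ ⊥ := fun {c} => by simp [C]
  have hmemC : ∀ g (hg : g ∈ H) c, c ∈ C → (fun x => c ⟨_, hcj g hg x⟩) ∈ C := by
    intro g hg c hc
    rw [hC] at hc ⊢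
    intro h0
    have h1 := hmapE g hg c
    rw [h0, le_bot_iff, ← Submodule.map_bot (Matrix.toLin' (g : Matrix ι ι F))] at h1
    exact hc (Submodule.map_injective_of_injective (toLin'_unit_injective g) h1)
  have htopC : (⨆ c ∈ C, E c) = ⊤ := by
    refine top_le_iff.1 (hspan.symm.le.trans (Submodule.span_le.2 fun v hv => ?_))
    by_cases hv0 : v = 0
    · rw [hv0]; exact Submodule.zero_mem _
    choose c hc using fun x : N => hv x x.2
    have hvE : v ∈ E c := (hmemE c v).2 hc
    exact Submodule.mem_iSup_of_mem c (Submodule.mem_iSup_of_mem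
      (hC.2 fun h => hv0 ((Submodule.eq_bot_iff _).1 h v hvE)) hvE)
  obtain ⟨c₀, hc₀⟩ : C.Nonempty := by
    by_contra h
    rw [Finset.not_nonempty_iff_eq_empty] at h
    rw [h] at htopC
    simp at htopC
  -- a single orbit
  have horbit : ∀ c ∈ C, ∃ g, ∃ hg : g ∈ H, c = fun x => c₀ ⟨_, hcj g hg x⟩ := by
    intro c hc
    by_contra hno
    push Not at hno
    let S : Submodule F (ι → F) := ⨆ (g : GL ι F) (_ : g ∈ H), (E c₀).map (Matrix.toLin' (g : Matrix ι ι F))
    have hS : S = ⊤ := by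
      refine (hirr S ?_).resolve_left ?_
      · rintro _ ⟨k, hk, rfl⟩
        simp only [S, Submodule.map_iSup]
        refine iSup₂_le fun g hg => le_iSup₂_of_le (k * g) (H.mul_mem hk hg) (le_of_eq ?_)
        simp only [← Submodule.map_comp, Units.val_mul, Matrix.toLin'_mul]
      · intro h0
        have h1 : (E c₀).map (Matrix.toLin' ((1 : GL ι F) : Matrix ι ι F)) ≤ S := le_iSup₂_of_le 1 H.one_mem le_rfl
        rw [h0] at h1
        simp at h1
        exact hC.1 hc₀ h1
    have hle : S ≤ ⨆ (c' : N → F) (_ : c' ≠ c), E c' := by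
      refine iSup₂_le fun g hg => (hmapE g hg c₀).trans ?_
      exact le_iSup₂_of_le _ (fun h => hno g hg h.symm) le_rfl
    have hd := iSupIndep_def.1 hind c
    rw [hS, top_le_iff] at hle
    rw [hle, disjoint_top] at hd
    exact hC.1 hc hd
  have hdim : ∀ c ∈ C, Module.finrank F (E c) = Module.finrank F (E c₀) := by
    intro c hc
    obtain ⟨g, hg, rfl⟩ := horbit c hc
    refine le_antisymm ?_ ?_
    · have h1 : (E fun x => c₀ ⟨_, hcj g hg x⟩).map (Matrix.toLin' ((g⁻¹ : GL ι F) : Matrix ι ι F)) ≤ E c₀ := by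
        refine (hmapE g⁻¹ (H.inv_mem hg) _).trans (le_of_eq ?_)
        congr 1
        funext x
        exact congrArg c₀ (Subtype.ext (by simp [mul_assoc]))
      have h2 := Submodule.finrank_mono h1
      rwa [← (Submodule.equivMapOfInjective _ (toLin'_unit_injective g⁻¹) _).finrank_eq] at h2
    · have h2 := Submodule.finrank_mono (hmapE g hg c₀)
      rwa [← (Submodule.equivMapOfInjective _ (toLin'_unit_injective g) _).finrank_eq] at h2
  let en : Fin C.card ≃ C := C.equivFin.symm
  let D : Fin C.card → Submodule F (ι → F) := fun i => E (en i)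
  have hDtop : iSup D = ⊤ := by
    refine top_le_iff.1 (htopC.symm.le.trans (iSup₂_le fun c hc => le_iSup_of_le (en.symm ⟨c, hc⟩) (le_of_eq ?_)))
    simp [D]
  have ht2 : 2 ≤ C.card := by
    by_contra hlt
    have hsub : ∀ c ∈ C, c = c₀ := fun c hc => Finset.card_le_one.1 (by omega) c hc c₀ hc₀
    have htop : E c₀ = ⊤ := top_le_iff.1 (htopC.symm.le.trans (iSup₂_le fun c hc => by rw [hsub c hc]))
    refine hns fun x hx => ?_
    have hxv : ∀ v, ((x : GL ι F) : Matrix ι ι F) *ᵥ v = c₀ ⟨x, hx⟩ • v := fun v =>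
      (hmemE c₀ v).1 (htop ▸ Submodule.mem_top) ⟨x, hx⟩
    refine mem_scalars_of_mem_bot (Algebra.mem_bot.2 ⟨c₀ ⟨x, hx⟩, Matrix.ext_of_mulVec_single fun i => ?_⟩)
    rw [hxv, Algebra.algebraMap_eq_smul_one, Matrix.smul_mulVec, Matrix.one_mulVec]
  have hD : IsMDecomposition (Module.finrank F (E c₀)) D :=
    ⟨ht2, Nat.pos_of_ne_zero fun h => hC.1 hc₀ (Submodule.finrank_eq_zero.1 h), fun i => hdim _ (en i).2,
      hind.comp (fun i j h => en.injective (Subtype.ext h)), hDtop⟩
  have hmul := mdecomposition_card hD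
  have hone : Module.finrank F (E c₀) = 1 := by
    refine (hp.eq_one_or_self_of_dvd _ ⟨_, hmul.symm.trans (mul_comm _ _)⟩).resolve_right fun h => ?_
    rw [h] at hmul
    have := hp.pos
    have h3 := Nat.mul_le_mul_right (Fintype.card ι) ht2
    omega
  rw [hone] at hD hmul
  refine ⟨C.card, D, fun i => (en i : N → F), by omega, hD, fun i j h => en.injective (Subtype.ext h),
    fun i v hv => (hmemE _ v).1 hv, fun g hg => ?_⟩
  let π : Fin C.card → Fin C.card := fun i => en.symm ⟨_, hmemC g hg _ (en i).2⟩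
  have hπ : ∀ i, (D i).map (Matrix.toLin' (g : Matrix ι ι F)) = D (π i) := fun i => by
    refine Submodule.eq_of_le_of_finrank_eq ((hmapE g hg _).trans (le_of_eq ?_)) ?_
    · simp [D, π]
    · rw [← (Submodule.equivMapOfInjective _ (toLin'_unit_injective g) _).finrank_eq, hD.finrank_eq, hD.finrank_eq]
  have hinj : Function.Injective π := by
    intro i j hij
    by_contra hne
    have h1 : D i = D j := Submodule.map_injective_of_injective (toLin'_unit_injective g) (by rw [hπ, hπ, hij])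
    have h2 := hD.indep.pairwiseDisjoint hne
    rw [Function.onFun, h1, disjoint_self] at h2
    have := hD.finrank_eq j
    rw [h2, finrank_bot] at this
    omega
  exact ⟨Equiv.ofBijective π (Finite.injective_iff_bijective.1 hinj), hπ⟩

end CfsgLib.Geo.Asch
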