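import Mathlib
import Cfsg.Prelude.Def_GeometricClasses
import Cfsg.Agent.Lib.Geo.AschForms
import Cfsg.Agent.Lib.Geo.AschGroup

/-! An absolutely irreducible finite group is realisable over any subfield containing its traces. -/

set_option autoImplicit false
set_option linter.unusedSectionVars false

namespace CfsgLib.Geo.Asch

open Cfsg Cfsg.Geo Matrix
open scoped MatrixGroups

variable {ι : Type} [Fintype ι] [DecidableEq ι] {F : Type*} [Field F] [Fintype F]

theorem span_matrixSet_eq_top {N : Subgroup (GL ι F)} (hN : algOf N = ⊤) :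
    Submodule.span F (matrixSet N) = ⊤ := by
  have h1 : (algOf N).toSubmodule = Submodule.span F (Submonoid.closure (matrixSet N) : Set (Matrix ι ι F)) :=
    Algebra.adjoin_eq_span _ _
  rw [hN, Algebra.top_toSubmodule] at h1
  rw [eq_top_iff, h1, Submodule.span_le]
  refine subset_trans ?_ Submodule.subset_span
  intro M hM
  induction hM using Submonoid.closure_induction with
  | mem M h => exact h
  | one => exact ⟨1, N.one_mem, rfl⟩
  | mul A B _ _ hA hB =>
    obtain ⟨a, ha, rfl⟩ := hA
    obtain ⟨b, hb, rfl⟩ := hB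
    exact ⟨a * b, N.mul_mem ha hb, rfl⟩

/-- A spanning group whose traces lie in a subfield is realisable over that subfield. -/
theorem realisable_of_traces [Nonempty ι] {N : Subgroup (GL ι F)} (hN : algOf N = ⊤) (F₀ : Subfield F)
    (htr : ∀ x ∈ N, (x : Matrix ι ι F).trace ∈ F₀) : RealisableOver F₀ (matrixSet N) := by
  classical
  obtain ⟨S, hSN, hSspan, hSli⟩ := exists_linearIndependent F (matrixSet N)
  rw [span_matrixSet_eq_top hN] at hSspan
  haveI : Fintype S := Fintype.ofFinite S
  let bs : Module.Basis S F (Matrix ι ι F) := Module.Basis.mk hSli (by rw [Subtype.range_coe, hSspan])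
  have hbs : ∀ i, bs i = (i : Matrix ι ι F) := fun i => Module.Basis.mk_apply _ _ i
  let G : Matrix S S F := Matrix.of fun i j => ((i : Matrix ι ι F) * (j : Matrix ι ι F)).trace
  have hG0 : ∀ i j, G i j ∈ F₀ := fun i j => by
    obtain ⟨x, hx, hxi⟩ := hSN i.2
    obtain ⟨y, hy, hyj⟩ := hSN j.2
    show ((i : Matrix ι ι F) * (j : Matrix ι ι F)).trace ∈ F₀
    rw [← hxi, ← hyj, ← Units.val_mul]
    exact htr _ (N.mul_mem hx hy)
  have hGinj : ∀ c : S → F, G *ᵥ c = 0 → c = 0 := by
    intro c hc
    set X := ∑ j, c j • (j : Matrix ι ι F) with hX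
    have h1 : ∀ i : S, ((i : Matrix ι ι F) * X).trace = 0 := fun i => by
      have := congrFun hc i
      simp only [hX, Matrix.mul_sum, Matrix.trace_sum, Matrix.mul_smul, Matrix.trace_smul, smul_eq_mul]
      simp only [Matrix.mulVec, dotProduct, G, Matrix.of_apply, Pi.zero_apply] at this
      rw [← this]
      exact Finset.sum_congr rfl fun j _ => mul_comm _ _
    have h2 : ∀ M : Matrix ι ι F, (M * X).trace = 0 := fun M => by
      rw [← bs.sum_repr M, Matrix.sum_mul, Matrix.trace_sum]
      exact Finset.sum_eq_zero fun i _ => by rw [Matrix.smul_mul, Matrix.trace_smul, hbs, h1, smul_zero]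
    have hX0 : X = 0 := Matrix.ext fun i j => by
      have h := h2 (Matrix.single j i 1)
      rw [Matrix.trace_single_mul, one_smul] at h
      simpa using h
    exact funext fun i => Fintype.linearIndependent_iff.1 hSli c (by rw [← hX0]) i
  -- coordinates over the subfield
  let G₀ : Matrix S S F₀ := Matrix.of fun i j => ⟨G i j, hG0 i j⟩
  let sub := (F₀.subtype : F₀ →+* F)
  have hsub : ∀ c : S → F₀, G *ᵥ (fun i => (c i : F)) = fun i => ((G₀ *ᵥ c) i : F) := fun c => by
    funext i
    simp [Matrix.mulVec, dotProduct, G₀, AddSubmonoidClass.coe_finsetSum]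
  have hsurj : Function.Surjective (Matrix.toLin' G₀) := LinearMap.injective_iff_surjective.1 (by
    rw [← LinearMap.ker_eq_bot, LinearMap.ker_eq_bot']
    intro c hc
    have h1 := hGinj (fun i => (c i : F)) (by
      rw [hsub, ← Matrix.toLin'_apply, hc]; rfl)
    exact funext fun i => Subtype.ext (congrFun h1 i))
  let Ψ : (S → F₀) →ₗ[F₀] Matrix ι ι F :=
    { toFun := fun c => ∑ j, (c j : F) • (j : Matrix ι ι F)
      map_add' := fun c d => by simp [add_smul, Finset.sum_add_distrib]
      map_smul' := fun a c => by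
        simp only [Pi.smul_apply, smul_eq_mul, Subfield.coe_mul, RingHom.id_apply, Finset.smul_sum]
        exact Finset.sum_congr rfl fun j _ => mul_smul _ _ _ }
  have hΨinj : Function.Injective Ψ := by
    rw [← LinearMap.ker_eq_bot, LinearMap.ker_eq_bot']
    intro c hc
    exact funext fun i => Subtype.ext (Fintype.linearIndependent_iff.1 hSli (fun i => (c i : F)) hc i)
  have hNΨ : ∀ x ∈ N, ∃ c, Ψ c = (x : Matrix ι ι F) := by
    intro x hx
    have ht : ∀ i : S, ((i : Matrix ι ι F) * x).trace ∈ F₀ := fun i => by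
      obtain ⟨y, hy, hyi⟩ := hSN i.2
      rw [← hyi, ← Units.val_mul]
      exact htr _ (N.mul_mem hy hx)
    obtain ⟨c, hc⟩ := hsurj fun i => ⟨_, ht i⟩
    refine ⟨c, ?_⟩
    have hd : (fun i => (c i : F)) = bs.repr (x : Matrix ι ι F) := by
      refine sub_eq_zero.1 (hGinj _ ?_)
      rw [Matrix.mulVec_sub, sub_eq_zero, hsub, ← Matrix.toLin'_apply, hc]
      funext i
      show ((i : Matrix ι ι F) * x).trace = _
      conv_lhs => rw [← bs.sum_repr (x : Matrix ι ι F)]
      simp only [Matrix.mul_sum, Matrix.trace_sum, Matrix.mul_smul, Matrix.trace_smul, hbs, Matrix.mulVec, dotProduct, G,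
        Matrix.of_apply, smul_eq_mul]
      exact Finset.sum_congr rfl fun j _ => mul_comm _ _
    show ∑ j, (c j : F) • (j : Matrix ι ι F) = _
    conv_rhs => rw [← bs.sum_repr (x : Matrix ι ι F)]
    refine Finset.sum_congr rfl fun j _ => ?_
    rw [hbs, ← congrFun hd j]
  let A : Subalgebra F₀ (Matrix ι ι F) := Algebra.adjoin F₀ (matrixSet N)
  have hAΨ : ∀ M ∈ A, ∃ c, Ψ c = M := by
    intro M hM
    have hmem : ∀ M ∈ Submodule.span F₀ (matrixSet N), M ∈ LinearMap.range Ψ := fun M hM => by
      refine Submodule.span_le.2 ?_ hM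
      rintro _ ⟨x, hx, rfl⟩
      exact hNΨ x hx
    refine hmem M ?_
    have h1 : A.toSubmodule = Submodule.span F₀ (Submonoid.closure (matrixSet N) : Set (Matrix ι ι F)) :=
      Algebra.adjoin_eq_span _ _
    have h2 : M ∈ A.toSubmodule := hM
    rw [h1] at h2
    refine Submodule.span_mono ?_ h2
    intro Y hY
    induction hY using Submonoid.closure_induction with
    | mem Y h => exact h
    | one => exact ⟨1, N.one_mem, rfl⟩
    | mul B C _ _ hB hC =>
      obtain ⟨b, hb, rfl⟩ := hB
      obtain ⟨c, hc, rfl⟩ := hC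
      exact ⟨b * c, N.mul_mem hb hc, rfl⟩
  have hSA : ∀ j : S, (j : Matrix ι ι F) ∈ A := fun j => Algebra.subset_adjoin (hSN j.2)
  haveI : Nontrivial A := ⟨⟨0, 1, fun h => zero_ne_one (α := Matrix ι ι F) (congrArg Subtype.val h)⟩⟩
  haveI : Finite A := inferInstance
  haveI : Module.Finite F₀ A := Module.Finite.of_finite
  -- the algebra over the subfield is simple
  haveI : IsSimpleRing A := IsSimpleRing.of_eq_bot_or_eq_top fun I => by
    by_cases hI : ∀ x ∈ I, x = 0
    · left
      ext x
      rw [TwoSidedIdeal.mem_bot]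
      exact ⟨hI x, fun h => h ▸ I.zero_mem⟩
    right
    push Not at hI
    obtain ⟨x, hxI, hx0⟩ := hI
    let J : Submodule F₀ (Matrix ι ι F) :=
      { carrier := {M | ∃ a : A, a ∈ I ∧ (a : Matrix ι ι F) = M}
        add_mem' := by
          rintro _ _ ⟨a, ha, rfl⟩ ⟨b, hb, rfl⟩
          exact ⟨a + b, I.add_mem ha hb, rfl⟩
        zero_mem' := ⟨0, I.zero_mem, rfl⟩
        smul_mem' := by
          rintro c _ ⟨a, ha, rfl⟩
          exact ⟨c • a, by rw [Algebra.smul_def]; exact I.mul_mem_left _ _ ha, rfl⟩ }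
    have hspanJ : Submodule.span F (J : Set (Matrix ι ι F)) = ⊤ := by
      have hleft : ∀ M : Matrix ι ι F, ∀ Z ∈ Submodule.span F (J : Set (Matrix ι ι F)),
          M * Z ∈ Submodule.span F (J : Set (Matrix ι ι F)) ∧ Z * M ∈ Submodule.span F (J : Set (Matrix ι ι F)) := by
        intro M Z hZ
        rw [← bs.sum_repr M, Matrix.sum_mul, Matrix.mul_sum]
        constructor <;> refine Submodule.sum_mem _ fun j _ => ?_ <;>
          simp only [Matrix.smul_mul, Matrix.mul_smul, hbs] <;> refine Submodule.smul_mem _ _ ?_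
        · induction hZ using Submodule.span_induction with
          | mem Z hZ =>
            obtain ⟨a, ha, rfl⟩ := hZ
            exact Submodule.subset_span ⟨⟨j, hSA j⟩ * a, I.mul_mem_left _ _ ha, rfl⟩
          | zero => simp
          | add u v _ _ hu hv => rw [mul_add]; exact Submodule.add_mem _ hu hv
          | smul k u _ hu => rw [Matrix.mul_smul]; exact Submodule.smul_mem _ k hu
        · induction hZ using Submodule.span_induction with
          | mem Z hZ =>
            obtain ⟨a, ha, rfl⟩ := hZ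
            exact Submodule.subset_span ⟨a * ⟨j, hSA j⟩, I.mul_mem_right _ _ ha, rfl⟩
          | zero => simp
          | add u v _ _ hu hv => rw [add_mul]; exact Submodule.add_mem _ hu hv
          | smul k u _ hu => rw [Matrix.smul_mul]; exact Submodule.smul_mem _ k hu
      obtain ⟨p, q, hpq⟩ : ∃ p q, (x : Matrix ι ι F) p q ≠ 0 := by
        by_contra hall
        push Not at hall
        exact hx0 (Subtype.ext (Matrix.ext hall))
      have hx : (x : Matrix ι ι F) ∈ Submodule.span F (J : Set (Matrix ι ι F)) :=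
        Submodule.subset_span ⟨x, hxI, rfl⟩
      rw [eq_top_iff]
      intro M _
      rw [Matrix.matrix_eq_sum_single M]
      refine Submodule.sum_mem _ fun i _ => Submodule.sum_mem _ fun k _ => ?_
      have h1 := (hleft (Matrix.single q k (1 : F)) _ ((hleft (Matrix.single i p (M i k / (x : Matrix ι ι F) p q)) _ hx).1)).2
      rwa [Matrix.single_mul_mul_single, div_mul_cancel₀ _ hpq, mul_one] at h1
    obtain ⟨T, hTJ, hTspan, hTli⟩ := exists_linearIndependent F (J : Set (Matrix ι ι F))
    rw [hspanJ] at hTspan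
    haveI : Fintype T := Fintype.ofFinite T
    let bt : Module.Basis T F (Matrix ι ι F) := Module.Basis.mk hTli (by rw [Subtype.range_coe, hTspan])
    have hT0 : ∀ k : T, ∃ c, Ψ c = (k : Matrix ι ι F) := fun k => by
      obtain ⟨a, -, ha⟩ := hTJ k.2
      exact hAΨ _ (ha ▸ a.2)
    choose Tc hTc using hT0
    have hTcli : LinearIndependent F₀ Tc := by
      rw [Fintype.linearIndependent_iff]
      intro c hc i
      have h1 := congrArg Ψ hc
      rw [map_sum, map_zero] at h1
      simp only [map_smul, hTc] at h1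
      exact Subtype.ext (Fintype.linearIndependent_iff.1 hTli (fun k => (c k : F)) h1 i)
    have hcardTS : Fintype.card T = Module.finrank F₀ (S → F₀) := by
      rw [Module.finrank_pi, ← Module.finrank_eq_card_basis bt, ← Module.finrank_eq_card_basis bs]
    have htop := hTcli.span_eq_top_of_card_eq_finrank' hcardTS
    rw [eq_top_iff]
    intro a _
    obtain ⟨c, hc⟩ := hAΨ (a : Matrix ι ι F) a.2
    have : Ψ c ∈ J := by
      have hcT : c ∈ Submodule.span F₀ (Set.range Tc) := htop ▸ Submodule.mem_top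
      refine (Submodule.span_le (p := J.comap Ψ)).2 ?_ hcT
      rintro _ ⟨k, rfl⟩
      show Ψ (Tc k) ∈ J
      rw [hTc]
      exact hTJ k.2
    obtain ⟨a', ha', haa⟩ := this
    rw [show a = a' from Subtype.ext (by rw [haa, hc])]
    exact ha'
  obtain ⟨d, hd, D, iD, iA, iF, ⟨E⟩⟩ := IsSimpleRing.exists_algEquiv_matrix_divisionRing_finite F₀ A
  haveI := hd
  haveI : Finite D := Module.finite_of_finite F₀
  have hcommD : ∀ x y : D, x * y = y * x := fun x y => (littleWedderburn D).mul_comm x y
  have hsurjD : ∀ z : D, ∃ r : F₀, algebraMap F₀ D r = z := by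
    intro z
    set a := E.symm (Matrix.scalar (Fin d) z) with ha
    obtain ⟨s, hs⟩ := scalar_of_commute hN (M := (a : Matrix ι ι F)) (by
      rintro _ ⟨x, hx, rfl⟩
      have h1 : a * ⟨(x : Matrix ι ι F), Algebra.subset_adjoin ⟨x, hx, rfl⟩⟩ =
          (⟨(x : Matrix ι ι F), Algebra.subset_adjoin ⟨x, hx, rfl⟩⟩ : A) * a := by
        apply E.injective
        rw [map_mul, map_mul, ha, E.apply_symm_apply]
        exact Matrix.scalar_commute z (fun r => hcommD z r) _
      exact congrArg Subtype.val h1)
    obtain ⟨c1, hc1⟩ := hAΨ 1 A.one_mem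
    obtain ⟨ca, hca⟩ := hAΨ _ a.2
    have hz : ∀ i, (ca i : F) = s * (c1 i : F) := fun i => by
      refine sub_eq_zero.1 (Fintype.linearIndependent_iff.1 hSli (fun i => (ca i : F) - s * (c1 i : F)) ?_ i)
      simp only [sub_smul, Finset.sum_sub_distrib, mul_smul, ← Finset.smul_sum]
      show Ψ ca - s • Ψ c1 = 0
      rw [hc1, hca, hs, sub_self]
    obtain ⟨i, hi⟩ : ∃ i, (c1 i : F) ≠ 0 := by
      by_contra hall
      push Not at hall
      refine one_ne_zero (α := Matrix ι ι F) ?_
      rw [← hc1, show c1 = 0 from funext fun i => Subtype.ext (hall i), map_zero]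
    have hs0 : s ∈ F₀ := by
      rw [show s = (ca i : F) / (c1 i : F) by rw [hz i, mul_div_cancel_right₀ _ hi]]
      exact F₀.div_mem (ca i).2 (c1 i).2
    refine ⟨⟨s, hs0⟩, ?_⟩
    have h2 : E.symm (algebraMap F₀ (Matrix (Fin d) (Fin d) D) ⟨s, hs0⟩) = a := by
      rw [E.symm.commutes]
      apply Subtype.ext
      rw [hs]
      show algebraMap F₀ (Matrix ι ι F) ⟨s, hs0⟩ = _
      rw [Algebra.algebraMap_eq_smul_one]
      rfl
    have h3 := congrFun (congrFun (E.symm.injective (h2.trans ha)) 0) 0
    simpa [Matrix.algebraMap_eq_diagonal] using h3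
  -- a basis in which the algebra is rational
  let e : Fin d → Fin d → Matrix ι ι F := fun i j => (E.symm (Matrix.single i j 1) : A)
  have hemul : ∀ i j k l, e i j * e k l = if j = k then e i l else 0 := by
    intro i j k l
    show ((E.symm (Matrix.single i j 1) * E.symm (Matrix.single k l 1) : A) : Matrix ι ι F) = _
    rw [← map_mul]
    by_cases h : j = k
    · subst h; simp [e]
    · rw [Matrix.single_mul_single_of_ne _ _ _ _ h, map_zero, if_neg h]; rfl
  have he0 : e 0 0 ≠ 0 := by
    intro h
    have h1 : Matrix.single (0 : Fin d) (0 : Fin d) (1 : D) = 0 := E.symm.injective (by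
      rw [map_zero]; exact Subtype.ext h)
    simpa using congrFun (congrFun h1 0) 0
  obtain ⟨v, hv⟩ : ∃ v, e 0 0 *ᵥ v ≠ 0 := by
    by_contra hall
    push Not at hall
    exact he0 (Matrix.ext_of_mulVec_single fun i => by rw [hall, Matrix.zero_mulVec])
  let u : Fin d → (ι → F) := fun i => e i 0 *ᵥ v
  have hxu : ∀ x : A, ∀ j, ∃ c : Fin d → F, (∀ i, c i ∈ F₀) ∧ (x : Matrix ι ι F) *ᵥ u j = ∑ i, c i • u i := by
    intro x j
    choose r hr using fun i => hsurjD (E x i j)
    refine ⟨fun i => (r i : F), fun i => (r i).2, ?_⟩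
    have h1 : x * E.symm (Matrix.single j 0 1) = ∑ i, r i • E.symm (Matrix.single i 0 1) := by
      apply E.injective
      rw [map_mul, E.apply_symm_apply, map_sum]
      simp only [map_smul, E.apply_symm_apply]
      ext a b
      rw [Matrix.sum_apply]
      by_cases hb : b = 0
      · subst hb
        rw [Matrix.mul_apply, Finset.sum_eq_single j (fun k _ hk => by simp [Matrix.single_apply, Ne.symm hk]) (by simp)]
        simp [Matrix.single_apply, Algebra.smul_def, hr]
      · rw [Matrix.mul_apply]
        simp [Matrix.single_apply, Ne.symm hb]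
    have h2 := congrArg (fun y : A => (y : Matrix ι ι F) *ᵥ v) h1
    simp only [Subalgebra.coe_mul, AddSubmonoidClass.coe_finsetSum, Matrix.sum_mulVec] at h2
    rw [show (x : Matrix ι ι F) *ᵥ u j = ((x : Matrix ι ι F) * e j 0) *ᵥ v from (Matrix.mulVec_mulVec _ _ _), h2]
    exact Finset.sum_congr rfl fun i _ => Matrix.smul_mulVec _ _ _
  have hli : LinearIndependent F u := by
    rw [Fintype.linearIndependent_iff]
    intro c hc i
    have h1 := congrArg (fun w => e 0 i *ᵥ w) hc
    simp only [Matrix.mulVec_sum, Matrix.mulVec_smul, u, Matrix.mulVec_mulVec, hemul, Matrix.mulVec_zero] at h1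
    rw [Finset.sum_eq_single i (fun k _ hk => by rw [if_neg (Ne.symm hk), Matrix.zero_mulVec, smul_zero])
      (fun h => absurd (Finset.mem_univ i) h), if_pos rfl] at h1
    exact (smul_eq_zero.1 h1).resolve_right hv
  have hspan : ⊤ ≤ Submodule.span F (Set.range u) := by
    rcases irreducible_of_algOf_eq_top hN (Submodule.span F (Set.range u)) (by
      rintro _ ⟨g, hg, rfl⟩
      rw [Submodule.map_span, Submodule.span_le]
      rintro _ ⟨_, ⟨j, rfl⟩, rfl⟩
      obtain ⟨c, -, hc⟩ := hxu ⟨(g : Matrix ι ι F), Algebra.subset_adjoin ⟨g, hg, rfl⟩⟩ j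
      rw [SetLike.mem_coe, Matrix.toLin'_apply, hc]
      exact Submodule.sum_mem _ fun i _ => Submodule.smul_mem _ _ (Submodule.subset_span ⟨i, rfl⟩)) with h | h
    · exact absurd ((Submodule.mem_bot F).1 (h ▸ Submodule.subset_span ⟨0, rfl⟩ : u 0 ∈ (⊥ : Submodule F (ι → F)))) hv
    · exact h.ge
  let B := Module.Basis.mk hli hspan
  let std := Pi.basisFun F ι
  let ε : Fin d ≃ ι := B.indexEquiv std
  let b := B.reindex ε
  let P : GL ι F := ⟨std.toMatrix b, b.toMatrix std, std.toMatrix_mul_toMatrix_flip b, b.toMatrix_mul_toMatrix_flip std⟩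
  refine ⟨P⁻¹, ?_⟩
  rintro _ ⟨g, hg, rfl⟩
  choose c hc hcu using hxu ⟨(g : Matrix ι ι F), Algebra.subset_adjoin ⟨g, hg, rfl⟩⟩
  let M : Matrix ι ι F := Matrix.of fun i k => c (ε.symm k) (ε.symm i)
  have hgP : (g : Matrix ι ι F) * (P : Matrix ι ι F) = (P : Matrix ι ι F) * M := by
    ext a k
    have h1 : ((g : Matrix ι ι F) * (P : Matrix ι ι F)) a k = ((g : Matrix ι ι F) *ᵥ b k) a := rfl
    have h2 : ((P : Matrix ι ι F) * M) a k = ∑ q, b q a * M q k := rfl
    rw [h1, h2]
    simp only [b, B, Module.Basis.reindex_apply, Module.Basis.mk_apply, hcu, Finset.sum_apply, Pi.smul_apply,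
      smul_eq_mul, M, Matrix.of_apply]
    exact Fintype.sum_equiv ε _ _ fun q => by simp [mul_comm]
  intro i j
  rw [inv_inv, Matrix.mul_assoc, hgP, ← Matrix.mul_assoc, ← Units.val_mul, inv_mul_cancel, Units.val_one, one_mul]
  exact hc _ _

end CfsgLib.Geo.Asch
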