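import Mathlib
import Cfsg.Prelude.Def_GeometricClasses
import Cfsg.Agent.Lib.OrthFix.Space
import Cfsg.Agent.Lib.QuadFin.Gram
import Cfsg.Agent.Lib.GeomClasses.OrthTools

/-! Types of orthogonal sums of non-degenerate subspaces. -/

set_option autoImplicit false
set_option linter.unusedSectionVars false

namespace CfsgLib.Geo.AschEven

open Cfsg Cfsg.Geo QuadraticMap

variable {ι : Type} [Fintype ι] [DecidableEq ι] {F : Type*} [Field F]
  {q : QuadraticForm F (ι → F)}

theorem polar_self_two (x : ι → F) : polar q x x = 2 * q x := CfsgLib.Orth.polar_self' x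

/-- A non-degenerate subspace in coordinates. -/
theorem exists_coords {W : Submodule F (ι → F)} (hW : IsNondegenerateOn (polar ⇑q) W) {d : ℕ}
    (hd : Module.finrank F W = d) :
    ∃ (e : (Fin d → F) ≃ₗ[F] W) (R : QuadraticForm F (Fin d → F)),
      R.polarBilin.Nondegenerate ∧ ∀ u, q (e u : ι → F) = R u := by
  let e : (Fin d → F) ≃ₗ[F] W := (Module.finBasisOfFinrankEq F W hd).equivFun.symm
  let R : QuadraticForm F (Fin d → F) := q.comp (W.subtype.comp e.toLinearMap)
  have hR : ∀ u, q (e u : ι → F) = R u := fun u => rfl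
  have hpol : ∀ u v, polar R u v = polar q (e u : ι → F) (e v : ι → F) := fun u v => by
    simp only [QuadraticMap.polar, ← hR, map_add, Submodule.coe_add]
  refine ⟨e, R, ⟨fun u hu => ?_, fun u hu => ?_⟩, hR⟩
  · by_contra h0
    obtain ⟨-, x, hx, hne⟩ := hW _ (e u).2 (fun h => h0 (e.injective (by rw [map_zero]; exact Subtype.ext h)))
    apply hne
    have h1 := hu (e.symm ⟨x, hx⟩)
    rw [QuadraticMap.polarBilin_apply_apply, hpol, e.apply_symm_apply] at h1
    exact h1
  · by_contra h0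
    obtain ⟨⟨x, hx, hne⟩, -⟩ := hW _ (e u).2 (fun h => h0 (e.injective (by rw [map_zero]; exact Subtype.ext h)))
    apply hne
    have h1 := hu (e.symm ⟨x, hx⟩)
    rw [QuadraticMap.polarBilin_apply_apply, hpol, e.apply_symm_apply] at h1
    exact h1

theorem nondegenerateOn_of_right {W : Submodule F (ι → F)}
    (h : ∀ w ∈ W, w ≠ 0 → ∃ x ∈ W, polar q w x ≠ 0) : IsNondegenerateOn (polar ⇑q) W :=
  fun w hw hw0 => ⟨(h w hw hw0).imp fun x hx => ⟨hx.1, by rw [polar_comm]; exact hx.2⟩, h w hw hw0⟩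

/-- Two non-degenerate subspaces are orthogonal. -/
def OrthPair (q : QuadraticForm F (ι → F)) (W W' : Submodule F (ι → F)) : Prop :=
  IsNondegenerateOn (polar ⇑q) W ∧ IsNondegenerateOn (polar ⇑q) W' ∧ AreOrthogonalFor (polar ⇑q) W W'

theorem OrthPair.symm {W W' : Submodule F (ι → F)} (h : OrthPair q W W') : OrthPair q W' W :=
  ⟨h.2.1, h.1, fun u hu v hv => by rw [polar_comm]; exact h.2.2 v hv u hu⟩

theorem OrthPair.disjoint {W W' : Submodule F (ι → F)} (h : OrthPair q W W') : Disjoint W W' := by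
  rw [Submodule.disjoint_def]
  intro x hx hx'
  by_contra h0
  obtain ⟨-, y, hy, hne⟩ := h.1 x hx h0
  exact hne (by rw [polar_comm]; exact h.2.2 y hy x hx')

theorem OrthPair.finrank_sup {W W' : Submodule F (ι → F)} (h : OrthPair q W W') :
    Module.finrank F ↥(W ⊔ W') = Module.finrank F W + Module.finrank F W' := by
  have h1 := Submodule.finrank_sup_add_finrank_inf_eq W W'
  rw [disjoint_iff.1 h.disjoint, finrank_bot] at h1
  omega

theorem OrthPair.q_add {W W' : Submodule F (ι → F)} (h : OrthPair q W W') {u v : ι → F}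
    (hu : u ∈ W) (hv : v ∈ W') : q (u + v) = q u + q v := by
  rw [QuadraticMap.map_add ⇑q, h.2.2 u hu v hv, add_zero]

theorem OrthPair.nondegenerateOn_sup {W W' : Submodule F (ι → F)} (h : OrthPair q W W') :
    IsNondegenerateOn (polar ⇑q) (W ⊔ W') := by
  refine nondegenerateOn_of_right fun w hw hw0 => ?_
  obtain ⟨u, hu, v, hv, rfl⟩ := Submodule.mem_sup.1 hw
  by_cases hu0 : u = 0
  · subst hu0
    have hv0 : v ≠ 0 := fun h0 => hw0 (by rw [h0, add_zero])
    obtain ⟨-, y, hy, hne⟩ := h.2.1 v hv hv0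
    exact ⟨y, Submodule.mem_sup_right hy, by rwa [zero_add]⟩
  · obtain ⟨-, y, hy, hne⟩ := h.1 u hu hu0
    refine ⟨y, Submodule.mem_sup_left hy, ?_⟩
    rw [polar_add_left, polar_comm (f := ⇑q) v y, h.2.2 y hy v hv, add_zero]
    exact hne

/-- A totally singular half is its own perpendicular. -/
theorem mem_half {W U : Submodule F (ι → F)} (hW : IsNondegenerateOn (polar ⇑q) W) (hUW : U ≤ W)
    (hU : ∀ u ∈ U, q u = 0) (hd : 2 * Module.finrank F U = Module.finrank F W) {w : ι → F} (hw : w ∈ W)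
    (hperp : ∀ u ∈ U, polar q u w = 0) : w ∈ U := by
  obtain ⟨e, R, hR, he⟩ := exists_coords hW rfl
  let φ := W.subtype.comp e.toLinearMap
  have hφ : Function.Injective φ := Subtype.val_injective.comp e.injective
  let U' := U.comap φ
  have hUd : Module.finrank F U' = Module.finrank F U := by
    have hmap : U'.map φ = U := by
      rw [Submodule.map_comap_eq, inf_eq_right]
      intro x hx
      exact ⟨e.symm ⟨x, hUW hx⟩, by simp [φ]⟩
    conv_rhs => rw [← hmap]
    exact (Submodule.equivMapOfInjective φ hφ U').finrank_eq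
  have hpol : ∀ u v, polar R u v = polar q (φ u) (φ v) := fun u v => by
    simp only [QuadraticMap.polar, ← he, map_add]; rfl
  have horth : LinearMap.BilinForm.orthogonal R.polarBilin U' = U' := by
    refine (Submodule.eq_of_le_of_finrank_eq (fun x hx y hy => ?_) ?_).symm
    · show polar R y x = 0
      rw [hpol, QuadraticMap.polar, hU _ (U.add_mem hy hx), hU _ hy, hU _ hx]; ring
    · rw [LinearMap.BilinForm.finrank_orthogonal hR, Module.finrank_fin_fun]
      omega
  have hmem : e.symm ⟨w, hw⟩ ∈ U' := by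
    rw [← horth]
    intro y hy
    show polar R y _ = 0
    rw [hpol]
    simpa [φ] using hperp _ hy
  simpa [U', φ] using hmem

theorem plus_sup_of_plus {W W' : Submodule F (ι → F)} (h : OrthPair q W W') (h1 : IsPlusTypeOn ⇑q W)
    (h2 : IsPlusTypeOn ⇑q W') : IsPlusTypeOn ⇑q (W ⊔ W') := by
  obtain ⟨U, hUW, hU, hUd⟩ := h1
  obtain ⟨U', hU'W, hU', hU'd⟩ := h2
  refine ⟨U ⊔ U', sup_le_sup hUW hU'W, fun x hx => ?_, ?_⟩
  · obtain ⟨u, hu, v, hv, rfl⟩ := Submodule.mem_sup.1 hx
    rw [h.q_add (hUW hu) (hU'W hv), hU u hu, hU' v hv, add_zero]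
  · have h3 := Submodule.finrank_sup_add_finrank_inf_eq U U'
    rw [disjoint_iff.1 (h.disjoint.mono hUW hU'W), finrank_bot] at h3
    rw [h.finrank_sup]
    omega

variable [Fintype F]

theorem not_plus_sup {W W' : Submodule F (ι → F)} (h : OrthPair q W W') (h1 : IsPlusTypeOn ⇑q W)
    (h2 : ¬ IsPlusTypeOn ⇑q W') (heven : Even (Module.finrank F W')) : ¬ IsPlusTypeOn ⇑q (W ⊔ W') := by
  classical
  intro hX
  obtain ⟨U, hUW, hU, hUd⟩ := h1
  obtain ⟨L, hLX, hL, hLd⟩ := hX
  set X := W ⊔ W' with hXdef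
  have hX := h.nondegenerateOn_sup
  have hXd := h.finrank_sup
  obtain ⟨k', hk'⟩ := heven
  rw [← hXdef] at hX hXd
  obtain ⟨e, R, hR, he⟩ := exists_coords hX rfl
  let φ := X.subtype.comp e.toLinearMap
  have hφ : Function.Injective φ := Subtype.val_injective.comp e.injective
  have hback : ∀ Y : Submodule F (ι → F), Y ≤ X → Module.finrank F (Y.comap φ) = Module.finrank F Y := by
    intro Y hY
    have hmap : (Y.comap φ).map φ = Y := by
      rw [Submodule.map_comap_eq, inf_eq_right]
      intro x hx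
      exact ⟨e.symm ⟨x, hY hx⟩, by simp [φ]⟩
    conv_rhs => rw [← hmap]
    exact (Submodule.equivMapOfInjective φ hφ _).finrank_eq
  let S : Set (Submodule F (Fin (Module.finrank F X) → F)) :=
    {M | U.comap φ ≤ M ∧ ∀ m ∈ M, R m = 0}
  obtain ⟨M, ⟨hUM, hM⟩, hMmax⟩ := (Set.toFinite S).exists_maximal
    ⟨U.comap φ, le_rfl, fun m hm => (he m).symm.trans (hU _ hm)⟩
  have hwitt := CfsgLib.Forms.quad_witt_index R hR M (L.comap φ) hM
    (fun m hm => (he m).symm.trans (hL _ hm))
    (fun N hMN hN => le_antisymm (hMmax ⟨hUM.trans hMN, hN⟩ hMN) hMN)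
  rw [hback L hLX] at hwitt
  -- `M` splits along the two summands
  let M₀ := M.map φ
  have hM₀d : Module.finrank F M₀ = Module.finrank F M :=
    (Submodule.equivMapOfInjective φ hφ M).finrank_eq.symm
  have hM₀q : ∀ m ∈ M₀, q m = 0 := by
    rintro _ ⟨m, hm, rfl⟩
    exact (he m).trans (hM m hm)
  have hUM₀ : U ≤ M₀ := fun u hu =>
    ⟨e.symm ⟨u, Submodule.mem_sup_left (hUW hu)⟩, hUM (by simpa [φ] using hu), by simp [φ]⟩
  have hM₀le : M₀ ≤ U ⊔ (M₀ ⊓ W') := by
    intro m hm
    have hmX : m ∈ X := by obtain ⟨z, -, rfl⟩ := hm; exact (e z).2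
    obtain ⟨w, hw, w', hw', rfl⟩ := Submodule.mem_sup.1 hmX
    have hwU : w ∈ U := by
      refine mem_half h.1 hUW hU hUd hw fun u hu => ?_
      have h3 : polar q u (w + w') = 0 := by
        rw [QuadraticMap.polar, hM₀q _ (M₀.add_mem (hUM₀ hu) hm), hM₀q _ (hUM₀ hu), hM₀q _ hm]; ring
      rwa [polar_add_right, h.2.2 u (hUW hu) w' hw', add_zero] at h3
    exact Submodule.mem_sup.2 ⟨w, hwU, w', ⟨(M₀.add_mem_iff_right (hUM₀ hwU)).1 hm, hw'⟩, rfl⟩
  have h4 := (Submodule.finrank_mono hM₀le).trans (Submodule.finrank_add_le_finrank_add_finrank _ _)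
  have h5 : Module.finrank F ↥(M₀ ⊓ W') < k' := by
    by_contra hge
    push Not at hge
    obtain ⟨T, hT, hTd⟩ : ∃ T : Submodule F (ι → F), T ≤ M₀ ⊓ W' ∧ Module.finrank F T = k' := by
      obtain ⟨T, hTd⟩ : ∃ T : Submodule F ↥(M₀ ⊓ W'), Module.finrank F T = k' := by
        let b := Module.finBasis F ↥(M₀ ⊓ W')
        refine ⟨Submodule.span F (Set.range (b ∘ Fin.castLE hge)), ?_⟩
        rw [finrank_span_eq_card (b.linearIndependent.comp _ (Fin.castLE_injective _)), Fintype.card_fin]
      exact ⟨T.map (M₀ ⊓ W').subtype, Submodule.map_subtype_le _ _,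
        (Submodule.finrank_map_subtype_eq _ _).trans hTd⟩
    exact h2 ⟨T, hT.trans inf_le_right, fun t ht => hM₀q t (hT ht).1, by omega⟩
  omega

theorem isometric_of_type {W W' : Submodule F (ι → F)} (hW : IsNondegenerateOn (polar ⇑q) W)
    (hW' : IsNondegenerateOn (polar ⇑q) W') {k : ℕ} (hd : Module.finrank F W = 2 * k)
    (hd' : Module.finrank F W' = 2 * k) (hp : IsPlusTypeOn ⇑q W ↔ IsPlusTypeOn ⇑q W') :
    AreIsometricFor ⇑q W W' := by
  obtain ⟨e, R, hR, he⟩ := exists_coords hW hd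
  obtain ⟨e', R', hR', he'⟩ := exists_coords hW' hd'
  obtain ⟨T, hT⟩ := CfsgLib.QuadType.exists_isometry R' R hR' hR (k := k) (by simp) (by
    rw [← CfsgLib.OrthFix.isPlusTypeOn_iff_of_coords e he (by simp),
      ← CfsgLib.OrthFix.isPlusTypeOn_iff_of_coords e' he' (by simp)]
    exact hp.symm)
  let L : (Fin (2 * k) → F) ≃ₗ[F] (Fin (2 * k) → F) := Matrix.toLin'OfInv T.inv_mul T.mul_inv
  refine ⟨(e.symm.trans L).trans e', fun w => ?_⟩
  show q (e' (L (e.symm w)) : ι → F) = _
  rw [he', show L (e.symm w) = (T : Matrix _ _ F).mulVec (e.symm w) from rfl, hT, ← he, e.apply_symm_apply]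

theorem plus_sup_of_same {W W' : Submodule F (ι → F)} (h : OrthPair q W W') {k : ℕ}
    (hd : Module.finrank F W = 2 * k) (hd' : Module.finrank F W' = 2 * k)
    (hp : IsPlusTypeOn ⇑q W ↔ IsPlusTypeOn ⇑q W') : IsPlusTypeOn ⇑q (W ⊔ W') := by
  obtain ⟨e, R, hR, he⟩ := exists_coords h.1 hd
  obtain ⟨e', R', hR', he'⟩ := exists_coords h.2.1 hd'
  have hneg : (-R').polarBilin.Nondegenerate := by
    have hp' : ∀ u v, polar ⇑(-R') u v = -(polar R' u v) := fun u v => by
      simp [QuadraticMap.polar]; ring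
    refine ⟨fun x hx => hR'.1 x fun y => ?_, fun y hy => hR'.2 y fun x => ?_⟩
    · have := hx y
      rw [QuadraticMap.polarBilin_apply_apply, hp', neg_eq_zero] at this
      exact this
    · have := hy x
      rw [QuadraticMap.polarBilin_apply_apply, hp', neg_eq_zero] at this
      exact this
  obtain ⟨T, hT⟩ := CfsgLib.QuadType.exists_isometry (-R') R hneg hR (k := k) (by simp) (by
    have h1 : CfsgLib.QuadType.IsPlus (⇑(-R')) k ↔ CfsgLib.QuadType.IsPlus (⇑R') k := by
      simp [CfsgLib.QuadType.IsPlus, Cfsg.Geo.IsTotallySingularQuad]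
    rw [h1, ← CfsgLib.OrthFix.isPlusTypeOn_iff_of_coords e he (by simp),
      ← CfsgLib.OrthFix.isPlusTypeOn_iff_of_coords e' he' (by simp)]
    exact hp.symm)
  let L := (W.subtype.comp e.toLinearMap) + (W'.subtype.comp e'.toLinearMap).comp (Matrix.toLin' (T : Matrix _ _ F))
  have hL : ∀ u, L u = (e u : ι → F) + (e' ((T : Matrix _ _ F).mulVec u) : ι → F) := fun u => rfl
  refine ⟨LinearMap.range L, ?_, ?_, ?_⟩
  · rintro _ ⟨u, rfl⟩
    rw [hL]; exact Submodule.add_mem_sup (e u).2 (e' _).2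
  · rintro _ ⟨u, rfl⟩
    rw [hL, h.q_add (e u).2 (e' _).2, he, he', ← hT u]
    simp
  · rw [LinearMap.finrank_range_of_inj, Module.finrank_fin_fun, h.finrank_sup, hd, hd']
    · ring
    rw [← LinearMap.ker_eq_bot, Submodule.eq_bot_iff]
    intro u hu
    rw [LinearMap.mem_ker, hL, add_eq_zero_iff_eq_neg] at hu
    have h1 : (e u : ι → F) = 0 := Submodule.disjoint_def.1 h.disjoint _ (e u).2
      (hu ▸ W'.neg_mem (e' _).2)
    exact e.injective (by rw [map_zero]; exact Subtype.ext h1)

/-- Orthogonal non-degenerate blocks of equal even dimension and one type. -/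
theorem finset_blocks {κ : Type} [DecidableEq κ] {D : κ → Submodule F (ι → F)} {k : ℕ} (P : Prop)
    (hnd : ∀ i, IsNondegenerateOn (polar ⇑q) (D i))
    (horth : ∀ i j, i ≠ j → AreOrthogonalFor (polar ⇑q) (D i) (D j))
    (hd : ∀ i, Module.finrank F (D i) = 2 * k) (hp : ∀ i, IsPlusTypeOn ⇑q (D i) ↔ P) :
    ∀ n (s : Finset κ), s.card = n → IsNondegenerateOn (polar ⇑q) (s.sup D) ∧
      Module.finrank F ↥(s.sup D) = n * (2 * k) ∧ (IsPlusTypeOn ⇑q (s.sup D) ↔ (Even n ∨ P)) := by
  intro n
  induction n using Nat.strong_induction_on with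
  | _ n ih =>
  intro s hs
  rcases n with _ | n
  · rw [Finset.card_eq_zero] at hs
    subst hs
    refine ⟨fun w hw hw0 => absurd ((Submodule.mem_bot F).1 hw) hw0, by rw [Finset.sup_empty, finrank_bot, Nat.zero_mul],
      iff_of_true ?_ (Or.inl Even.zero)⟩
    exact ⟨⊥, bot_le, fun w hw => by rw [(Submodule.mem_bot F).1 hw]; exact QuadraticMap.map_zero q, by rw [Finset.sup_empty, finrank_bot]⟩
  obtain ⟨a, ha⟩ := Finset.card_pos.1 (by omega : 0 < s.card)
  obtain ⟨hnd', hd', hp'⟩ := ih n (by omega) (s.erase a) (by rw [Finset.card_erase_of_mem ha, hs]; rfl)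
  have hs' : s.sup D = D a ⊔ (s.erase a).sup D := by
    conv_lhs => rw [← Finset.insert_erase ha]
    rw [Finset.sup_insert]
  have horth' : ∀ (t : Finset κ), a ∉ t → AreOrthogonalFor (polar ⇑q) (D a) (t.sup D) := by
    intro t
    induction t using Finset.induction_on with
    | empty =>
      intro _ u hu v hv
      rw [Finset.sup_empty, Submodule.mem_bot] at hv
      rw [hv, polar_zero_right]
    | insert b t hb iht =>
      intro hat u hu v hv
      rw [Finset.sup_insert] at hv
      obtain ⟨x, hx, y, hy, rfl⟩ := Submodule.mem_sup.1 hv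
      rw [polar_add_right, horth a b (fun e => hat (by simp [e])) u hu x hx,
        iht (fun hm => hat (by simp [hm])) u hu y hy, add_zero]
  have hop : OrthPair q (D a) ((s.erase a).sup D) := ⟨hnd a, hnd', horth' _ (Finset.notMem_erase a s)⟩
  refine ⟨hs' ▸ hop.nondegenerateOn_sup, by rw [hs', hop.finrank_sup, hd, hd']; ring, ?_⟩
  rw [hs']
  have heven : Even (n * (2 * k)) := (even_two_mul k).mul_left n
  by_cases hn : Even n
  · have hn1 : ¬ Even (n + 1) := by simp [Nat.even_add_one, hn]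
    rw [or_iff_right hn1]
    have hE : IsPlusTypeOn ⇑q ((s.erase a).sup D) := hp'.2 (Or.inl hn)
    refine ⟨fun hX => ?_, fun h => plus_sup_of_plus hop ((hp a).2 h) hE⟩
    by_contra hP
    refine not_plus_sup hop.symm hE (fun hh => hP ((hp a).1 hh)) ?_ (sup_comm (D a) _ ▸ hX)
    rw [hd]; exact even_two_mul k
  · have hn1 : Even (n + 1) := by simp [Nat.even_add_one, hn]
    refine iff_of_true ?_ (Or.inl hn1)
    -- split off one further block
    have hne : (s.erase a).Nonempty := by
      rw [← Finset.card_pos, Finset.card_erase_of_mem ha, hs]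
      rcases Nat.eq_zero_or_pos n with h | h
      · exact absurd (h ▸ Even.zero) hn
      · omega
    obtain ⟨b, hb⟩ := hne
    obtain ⟨m, rfl⟩ : ∃ m, n = m + 1 := ⟨n - 1, by
      rcases Nat.eq_zero_or_pos n with h | h
      · exact absurd (h ▸ Even.zero) hn
      · omega⟩
    have hm : Even m := by simpa [Nat.even_add_one] using hn
    have hcard2 : ((s.erase a).erase b).card = m := by
      rw [Finset.card_erase_of_mem hb, Finset.card_erase_of_mem ha, hs]; rfl
    obtain ⟨hnd2, hd2, hp2⟩ := ih m (by omega) _ hcard2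
    have hab : a ≠ b := (Finset.ne_of_mem_erase hb).symm
    have hpair : OrthPair q (D a) (D b) := ⟨hnd a, hnd b, horth a b hab⟩
    have hop2 : OrthPair q (D a ⊔ D b) (((s.erase a).erase b).sup D) := by
      refine ⟨hpair.nondegenerateOn_sup, hnd2, fun u hu v hv => ?_⟩
      obtain ⟨x, hx, y, hy, rfl⟩ := Submodule.mem_sup.1 hu
      rw [polar_add_left, horth' _ (by simp) x hx v hv]
      have : ∀ (t : Finset κ), b ∉ t → ∀ y ∈ D b, ∀ v ∈ t.sup D, polar q y v = 0 := by
        intro t
        induction t using Finset.induction_on with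
        | empty => intro _ y _ v hv; rw [Finset.sup_empty, Submodule.mem_bot] at hv; rw [hv, polar_zero_right]
        | insert c t hc iht =>
          intro hbt y hy v hv
          rw [Finset.sup_insert] at hv
          obtain ⟨x', hx', y', hy', rfl⟩ := Submodule.mem_sup.1 hv
          rw [polar_add_right, horth b c (fun e => hbt (by simp [e])) y hy x' hx',
            iht (fun hm => hbt (by simp [hm])) y hy y' hy', add_zero]
      rw [this _ (by simp) y hy v hv, add_zero]
    have hsb : (s.erase a).sup D = D b ⊔ ((s.erase a).erase b).sup D := by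
      conv_lhs => rw [← Finset.insert_erase hb]
      rw [Finset.sup_insert]
    rw [hsb, ← sup_assoc]
    exact plus_sup_of_plus hop2 (plus_sup_of_same hpair (hd a) (hd b) ((hp a).trans (hp b).symm))
      (hp2.2 (Or.inl hm))

theorem plus_iff_of_blocks {κ : Type} [Fintype κ] {D : κ → Submodule F (ι → F)} {k : ℕ} (P : Prop)
    (hnd : ∀ i, IsNondegenerateOn (polar ⇑q) (D i))
    (horth : ∀ i j, i ≠ j → AreOrthogonalFor (polar ⇑q) (D i) (D j))
    (hd : ∀ i, Module.finrank F (D i) = 2 * k) (hp : ∀ i, IsPlusTypeOn ⇑q (D i) ↔ P) :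
    IsPlusTypeOn ⇑q (iSup D) ↔ (Even (Fintype.card κ) ∨ P) := by
  classical
  obtain ⟨-, -, h⟩ := finset_blocks P hnd horth hd hp _ Finset.univ rfl
  rwa [Finset.sup_univ_eq_iSup] at h

theorem isSquare_mul_of_not {a b : F} (ha : ¬ IsSquare a) (hb : ¬ IsSquare b) : IsSquare (a * b) := by
  classical
  have ha0 : a ≠ 0 := fun e => ha (e ▸ IsSquare.zero)
  have hb0 : b ≠ 0 := fun e => hb (e ▸ IsSquare.zero)
  rw [← quadraticChar_one_iff_isSquare (mul_ne_zero ha0 hb0), map_mul,
    quadraticChar_neg_one_iff_not_isSquare.2 ha, quadraticChar_neg_one_iff_not_isSquare.2 hb]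
  rfl

/-- A subspace of odd or even dimension has an orthogonal basis in odd characteristic. -/
theorem exists_orth_basis (h2 : (2 : F) ≠ 0) {W : Submodule F (ι → F)}
    (hW : IsNondegenerateOn (polar ⇑q) W) {m : ℕ} (hd : Module.finrank F W = m) :
    ∃ b : Module.Basis (Fin m) F W, (∀ i j, i ≠ j → polar q (b i : ι → F) (b j) = 0) ∧
      ∀ i, q (b i : ι → F) ≠ 0 := by
  letI : Invertible (2 : F) := invertibleOfNonzero h2
  let B : LinearMap.BilinForm F W := q.polarBilin.compl₁₂ W.subtype W.subtype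
  obtain ⟨v, hv⟩ := LinearMap.BilinForm.exists_orthogonal_basis (B := B)
    ⟨fun x y => by show polar q x y = polar q y x; rw [polar_comm]⟩
  let b := v.reindex (finCongr hd)
  have ho : ∀ i j, i ≠ j → polar q (b i : ι → F) (b j) = 0 := fun i j hij => by
    simp only [b, Module.Basis.reindex_apply]
    exact hv (fun h => hij ((finCongr _).symm.injective h))
  refine ⟨b, ho, fun i h0 => ?_⟩
  obtain ⟨-, x, hx, hne⟩ := hW (b i) (b i).2 (fun h => b.ne_zero i (Subtype.ext h))
  apply hne
  have hx' : (x : ι → F) = ∑ j, b.repr ⟨x, hx⟩ j • (b j : ι → F) := by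
    have h := congrArg Subtype.val (b.sum_repr ⟨x, hx⟩)
    rw [Submodule.coe_sum] at h
    simpa using h.symm
  rw [hx', ← QuadraticMap.polarBilin_apply_apply, map_sum]
  refine Finset.sum_eq_zero fun j _ => ?_
  rw [map_smul, QuadraticMap.polarBilin_apply_apply]
  by_cases hij : i = j
  · subst hij; rw [polar_self_two, h0, mul_zero, smul_zero]
  · rw [ho i j hij, smul_zero]

/-- Two orthogonal blocks of odd dimension, the second a scaled copy of the first. -/
theorem plus_scaled_pair (h2 : (2 : F) ≠ 0) {W W' : Submodule F (ι → F)} (h : OrthPair q W W') {m : ℕ}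
    (hm : Odd m) (hd : Module.finrank F W = m) (φ : W ≃ₗ[F] W') {ν : F}
    (hφ : ∀ w : W, q (φ w : ι → F) = ν * q (w : ι → F)) :
    IsPlusTypeOn ⇑q (W ⊔ W') ↔ IsSquare (-ν) := by
  classical
  have hd' : Module.finrank F W' = m := φ.finrank_eq.symm.trans hd
  have hν : ν ≠ 0 := by
    intro h0
    obtain ⟨b, -, hb⟩ := exists_orth_basis h2 h.2.1 hd'
    have := hφ (φ.symm (b ⟨0, hm.pos⟩))
    rw [φ.apply_symm_apply, h0, zero_mul] at this
    exact hb _ this
  constructor
  swap
  · rintro ⟨c, hc⟩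
    have hc0 : c ≠ 0 := fun h0 => hν (by simpa [h0] using hc)
    -- the graph of a multiple of the similitude
    let L : W →ₗ[F] (ι → F) := c • W.subtype + W'.subtype.comp φ.toLinearMap
    have hL : ∀ w : W, L w = c • (w : ι → F) + (φ w : ι → F) := fun w => rfl
    refine ⟨LinearMap.range L, ?_, ?_, ?_⟩
    · rintro _ ⟨w, rfl⟩
      rw [hL]; exact Submodule.add_mem_sup (W.smul_mem _ w.2) (φ w).2
    · rintro _ ⟨w, rfl⟩
      rw [hL, h.q_add (W.smul_mem _ w.2) (φ w).2, hφ, QuadraticMap.map_smul, smul_eq_mul]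
      linear_combination - q (w : ι → F) * hc
    · rw [LinearMap.finrank_range_of_inj, h.finrank_sup, hd, hd']
      · omega
      rw [← LinearMap.ker_eq_bot, Submodule.eq_bot_iff]
      intro w hw
      rw [LinearMap.mem_ker, hL, add_eq_zero_iff_eq_neg] at hw
      have h1 := Submodule.disjoint_def.1 h.disjoint _ (W.smul_mem c w.2) (hw ▸ W'.neg_mem (φ w).2)
      exact Subtype.ext ((smul_eq_zero.1 h1).resolve_left hc0)
  intro hplus
  by_contra hns
  obtain ⟨b, hbo, hbq⟩ := exists_orth_basis h2 h.1 hd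
  let P : Fin m → Submodule F (ι → F) := fun i => Submodule.span F {(b i : ι → F), (φ (b i) : ι → F)}
  have hmem : ∀ i, ∀ x ∈ P i, ∃ s t : F, x = s • (b i : ι → F) + t • (φ (b i) : ι → F) := fun i x hx => by
    obtain ⟨s, t, rfl⟩ := Submodule.mem_span_pair.1 hx
    exact ⟨s, t, rfl⟩
  have hval : ∀ i s t, q (s • (b i : ι → F) + t • (φ (b i) : ι → F)) = (s * s + t * t * ν) * q (b i : ι → F) := by
    intro i s t
    rw [h.q_add (W.smul_mem _ (b i).2) (W'.smul_mem _ (φ (b i)).2), QuadraticMap.map_smul, QuadraticMap.map_smul,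
      hφ, smul_eq_mul, smul_eq_mul]
    ring
  have haniso : ∀ i, ∀ x ∈ P i, q x = 0 → x = 0 := by
    intro i x hx hqx
    obtain ⟨s, t, rfl⟩ := hmem i x hx
    rw [hval, mul_eq_zero] at hqx
    have h3 := hqx.resolve_right (hbq i)
    have ht : t = 0 := by
      by_contra ht
      exact hns ⟨s / t, by field_simp; linear_combination -h3⟩
    have hs : s = 0 := by simpa [ht] using h3
    simp [hs, ht]
  have hnd : ∀ i, IsNondegenerateOn (polar ⇑q) (P i) := fun i => nondegenerateOn_of_right fun x hx hx0 =>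
    ⟨x, hx, by rw [polar_self_two]; exact mul_ne_zero h2 fun h0 => hx0 (haniso i x hx h0)⟩
  have hφpol : ∀ u w : W, polar q (φ u : ι → F) (φ w) = ν * polar q (u : ι → F) w := fun u w => by
    simp only [QuadraticMap.polar, ← Submodule.coe_add, ← map_add, hφ]; ring
  have horth : ∀ i j, i ≠ j → AreOrthogonalFor (polar ⇑q) (P i) (P j) := by
    intro i j hij x hx y hy
    obtain ⟨s, t, rfl⟩ := hmem i x hx
    obtain ⟨s', t', rfl⟩ := hmem j y hy
    simp only [polar_add_left, polar_add_right, polar_smul_left, polar_smul_right,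
      h.2.2 _ (b i).2 _ (φ (b j)).2, h.symm.2.2 _ (φ (b i)).2 _ (b j).2, hφpol, hbo i j hij]
    simp
  have hdim : ∀ i, Module.finrank F (P i) = 2 * 1 := by
    intro i
    have hli : LinearIndependent F ![(b i : ι → F), (φ (b i) : ι → F)] := by
      rw [LinearIndependent.pair_iff]
      intro s t hst
      have h1 : (s • (b i : ι → F)) = 0 := Submodule.disjoint_def.1 h.disjoint _ (W.smul_mem _ (b i).2)
        (by rw [add_eq_zero_iff_eq_neg] at hst; rw [hst]; exact W'.neg_mem (W'.smul_mem _ (φ (b i)).2))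
      rw [h1, zero_add] at hst
      refine ⟨(smul_eq_zero.1 h1).resolve_right fun e => b.ne_zero i (Subtype.ext e),
        (smul_eq_zero.1 hst).resolve_right fun e => b.ne_zero i (φ.injective (by rw [map_zero]; exact Subtype.ext e))⟩
    have := finrank_span_eq_card hli
    rw [Fintype.card_fin, Matrix.range_cons, Matrix.range_cons, Matrix.range_empty, Set.union_empty,
      Set.singleton_union] at this
    exact this
  have hno : ∀ i, IsPlusTypeOn ⇑q (P i) ↔ False := fun i => iff_false_intro fun ⟨U, hUP, hU, hUd⟩ => by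
    have hU0 : U = ⊥ := (Submodule.eq_bot_iff _).2 fun u hu => haniso i u (hUP hu) (hU u hu)
    rw [hU0, finrank_bot, hdim] at hUd
    omega
  have hsup : iSup P = W ⊔ W' := by
    refine le_antisymm (iSup_le fun i => Submodule.span_le.2 ?_) (sup_le ?_ ?_)
    · rintro x (rfl | rfl)
      · exact Submodule.mem_sup_left (b i).2
      · exact Submodule.mem_sup_right (φ (b i)).2
    · intro x hx
      have h := congrArg Subtype.val (b.sum_repr ⟨x, hx⟩)
      simp only [Submodule.coe_sum, Submodule.coe_smul] at h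
      rw [← h]
      exact sum_mem fun i _ => Submodule.smul_mem _ _ (Submodule.mem_iSup_of_mem i
        (Submodule.subset_span (Set.mem_insert _ _)))
    · intro x hx
      have h := congrArg (fun w => ((φ w : W') : ι → F)) (b.sum_repr (φ.symm ⟨x, hx⟩))
      simp only [map_sum, map_smul, Submodule.coe_sum, Submodule.coe_smul, φ.apply_symm_apply] at h
      rw [← h]
      exact sum_mem fun i _ => Submodule.smul_mem _ _ (Submodule.mem_iSup_of_mem i
        (Submodule.subset_span (Set.mem_insert_of_mem _ rfl)))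
  have h5 := plus_iff_of_blocks False hnd horth hdim hno
  rw [hsup, Fintype.card_fin, or_false] at h5
  exact Nat.not_even_iff_odd.2 hm (h5.1 hplus)

/-- Subspaces of one odd dimension are isometric or similar by a non-square. -/
theorem scaled_of_odd (h2 : (2 : F) ≠ 0) {W W' : Submodule F (ι → F)} (hW : IsNondegenerateOn (polar ⇑q) W)
    (hW' : IsNondegenerateOn (polar ⇑q) W') {m : ℕ} (hm : Odd m) (hd : Module.finrank F W = m)
    (hd' : Module.finrank F W' = m) (hne : ¬ AreIsometricFor ⇑q W W') :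
    ∃ (ν : F) (φ : W ≃ₗ[F] W'), ¬ IsSquare ν ∧ ∀ w : W, q (φ w : ι → F) = ν * q (w : ι → F) := by
  classical
  obtain ⟨e, R, hR, he⟩ := exists_coords hW hd
  obtain ⟨e', R', hR', he'⟩ := exists_coords hW' hd'
  have hiso : ∀ (ν : F) (g : (Fin m → F) ≃ₗ[F] (Fin m → F)), (∀ v, R' (g v) = ν * R v) →
      ∀ w : W, q (((e.symm.trans g).trans e' w : W') : ι → F) = ν * q (w : ι → F) := by
    intro ν g hg w
    rw [LinearEquiv.trans_apply, LinearEquiv.trans_apply, he', hg, ← he, e.apply_symm_apply]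
  have hns : ¬ IsSquare ((CfsgLib.QuadFin.gram ⇑R).det * (CfsgLib.QuadFin.gram ⇑R').det) := by
    intro hsq
    obtain ⟨g, hg⟩ := (CfsgLib.QuadFin.equiv_iff_isSquare h2 R R' hR hR').2 hsq
    exact hne ⟨(e.symm.trans g).trans e', fun w => by
      simpa using hiso 1 g (fun v => by rw [hg, one_mul]) w⟩
  obtain ⟨ν, hν⟩ := FiniteField.exists_nonsquare (F := F) (fun h => h2 (by
    rw [ringChar.eq_iff] at h
    exact_mod_cast (CharP.cast_eq_zero F 2)))
  have hν0 : ν ≠ 0 := fun h => hν (h ▸ IsSquare.zero)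
  let S : QuadraticForm F (Fin m → F) := ν • R
  have hS : ∀ v, S v = ν * R v := fun v => rfl
  have hSn : S.polarBilin.Nondegenerate := by
    have hp' : ∀ u v, polar ⇑S u v = ν * polar R u v := fun u v => by
      simp only [QuadraticMap.polar, hS]; ring
    refine ⟨fun x hx => hR.1 x fun y => ?_, fun y hy => hR.2 y fun x => ?_⟩
    · have := hx y
      rw [QuadraticMap.polarBilin_apply_apply, hp', mul_eq_zero] at this
      exact this.resolve_left hν0
    · have := hy x
      rw [QuadraticMap.polarBilin_apply_apply, hp', mul_eq_zero] at this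
      exact this.resolve_left hν0
  have hdS : (CfsgLib.QuadFin.gram ⇑S).det = ν ^ m * (CfsgLib.QuadFin.gram ⇑R).det := by
    rw [show (⇑S : (Fin m → F) → F) = fun v => ν * R v from rfl, CfsgLib.QuadFin.gram_det_smul, Fintype.card_fin]
  have hnm : ¬ IsSquare (ν ^ m) := by
    obtain ⟨j, rfl⟩ := hm
    rintro ⟨s, hs⟩
    apply hν
    refine ⟨s / ν ^ j, ?_⟩
    field_simp
    linear_combination hs
  have hR0 := CfsgLib.QuadFin.gram_det_ne_zero R hR
  have hR'0 := CfsgLib.QuadFin.gram_det_ne_zero R' hR'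
  obtain ⟨g, hg⟩ := (CfsgLib.QuadFin.equiv_iff_isSquare h2 S R' hSn hR').2 (by
    rw [hdS, mul_assoc]
    exact isSquare_mul_of_not hnm hns)
  exact ⟨ν, (e.symm.trans g).trans e', hν, hiso ν g fun v => by rw [hg, hS]⟩

end CfsgLib.Geo.AschEven
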