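import Mathlib
import Cfsg.Prelude.Def_GeometricClasses
import Cfsg.Agent.Lib.Geo.AschForms
import Cfsg.Agent.Lib.GeomClasses.Unit
import Cfsg.Agent.Lib.GeomClasses.Symp

/-! Reflexive sesquilinear forms: perpendiculars, adjoints, invariant subspaces. -/

set_option autoImplicit false
set_option linter.unusedSectionVars false

namespace CfsgLib.Geo.Asch

open Cfsg Cfsg.Geo Matrix CfsgLib.GeomClasses
open scoped MatrixGroups

variable {ι : Type} [Fintype ι] [DecidableEq ι] {F : Type*} [Field F]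

/-- A non-degenerate form with `f v u = ε * σ (f u v)`, σ of order at most two. -/
structure Herm (σ : F ≃+* F) (ε : F) (f : (ι → F) → (ι → F) → F) : Prop where
  sesq : GeomClasses.IsSesq (σ : F →+* F) f
  nondeg : IsNondegenerateForm f
  invol : ∀ a, σ (σ a) = a
  symm : ∀ u v, f v u = ε * σ (f u v)

theorem herm_symplectic {f : (ι → F) → (ι → F) → F} (hf : IsSymplecticForm f) :
    Herm (RingEquiv.refl F) (-1) f where
  sesq := symplectic_isSesq hf
  nondeg := hf.nondegenerate
  invol := fun _ => rfl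
  symm := fun u v => by simpa using hf.skew v u

theorem herm_unitary {σ : F ≃+* F} {f : (ι → F) → (ι → F) → F} (hf : IsUnitaryForm σ f) : Herm σ 1 f where
  sesq := unitary_isSesq hf
  nondeg := hf.nondegenerate
  invol := hf.involutive
  symm := fun u v => by rw [one_mul]; exact hf.herm v u

theorem herm_polar {Q : (ι → F) → F} (hQ : IsNondegenerateQuadraticForm Q) :
    Herm (RingEquiv.refl F) 1 (QuadraticMap.polar Q) where
  sesq := polar_isSesq hQ
  nondeg := hQ.nondegenerate
  invol := fun _ => rfl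
  symm := fun u v => by simpa using QuadraticMap.polar_comm Q v u

namespace Herm

variable [Fintype F] {σ : F ≃+* F} {ε : F} {f : (ι → F) → (ι → F) → F}

theorem add_left (hf : Herm σ ε f) (x y v : ι → F) : f (x + y) v = f x v + f y v := hf.sesq.add_left x y v
theorem add_right (hf : Herm σ ε f) (v x y : ι → F) : f v (x + y) = f v x + f v y := hf.sesq.add_right v x y
theorem smul_left (hf : Herm σ ε f) (c : F) (x v : ι → F) : f (c • x) v = c * f x v := hf.sesq.smul_left c x v
theorem smul_right (hf : Herm σ ε f) (c : F) (v x : ι → F) : f v (c • x) = σ c * f v x := hf.sesq.smul_right c v x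
theorem zero_left (hf : Herm σ ε f) (v : ι → F) : f 0 v = 0 := hf.sesq.zero_left v
theorem zero_right (hf : Herm σ ε f) (v : ι → F) : f v 0 = 0 := hf.sesq.zero_right v

theorem neg_right (hf : Herm σ ε f) (v x : ι → F) : f v (-x) = -f v x := by
  rw [← neg_one_smul F x, hf.smul_right, map_neg, map_one, neg_one_mul]

theorem sub_left (hf : Herm σ ε f) (x y v : ι → F) : f (x - y) v = f x v - f y v := hf.sesq.sub_left x y v

theorem sub_right (hf : Herm σ ε f) (v x y : ι → F) : f v (x - y) = f v x - f v y := by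
  rw [sub_eq_add_neg, hf.add_right, hf.neg_right, ← sub_eq_add_neg]

theorem eq_zero_comm (hf : Herm σ ε f) {u v : ι → F} (h : f u v = 0) : f v u = 0 := by
  rw [hf.symm, h, map_zero, mul_zero]

theorem ne_zero_comm (hf : Herm σ ε f) {u v : ι → F} (h : f u v ≠ 0) : f v u ≠ 0 :=
  fun h' => h (hf.eq_zero_comm h')

theorem ext_right (hf : Herm σ ε f) {x y : ι → F} (h : ∀ u, f u x = f u y) : x = y := by
  by_contra hne
  obtain ⟨z, hz⟩ := (hf.nondeg _ (sub_ne_zero.2 hne)).1
  exact hz (by rw [hf.sub_right, h, sub_self])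

theorem eps_mul [Nonempty ι] (hf : Herm σ ε f) : ε * σ ε = 1 := by
  obtain ⟨v, hv⟩ := exists_ne (0 : ι → F)
  obtain ⟨x, hx⟩ := (hf.nondeg v hv).1
  have h1 : f x v = ε * σ (ε * σ (f x v)) := (hf.symm v x).trans (by rw [← hf.symm x v])
  rw [map_mul, hf.invol, ← mul_assoc] at h1
  exact (mul_eq_right₀ hx).1 h1.symm

theorem fVec_injective (hf : Herm σ ε f) : Function.Injective (fVec f) := fun v w h =>
  hf.ext_right fun u => by rw [← hf.sesq.fVec_dot, h, hf.sesq.fVec_dot]

/-- The image of a subspace in the dual space. -/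
def fImage (hf : Herm σ ε f) (W : Submodule F (ι → F)) : Submodule F (ι → F) where
  carrier := fVec f '' (W : Set (ι → F))
  zero_mem' := ⟨0, W.zero_mem, funext fun _ => hf.zero_right _⟩
  add_mem' := by
    rintro _ _ ⟨v, hv, rfl⟩ ⟨w, hw, rfl⟩
    exact ⟨v + w, W.add_mem hv hw, hf.sesq.fVec_add v w⟩
  smul_mem' := by
    rintro c _ ⟨v, hv, rfl⟩
    refine ⟨σ c • v, W.smul_mem _ hv, ?_⟩
    rw [hf.sesq.fVec_smul]
    change σ (σ c) • _ = _
    rw [hf.invol]

/-- The perpendicular of a subspace. -/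
def perp (hf : Herm σ ε f) (W : Submodule F (ι → F)) : Submodule F (ι → F) :=
  Unit.dotAnn (hf.fImage W)

theorem mem_perp (hf : Herm σ ε f) {W : Submodule F (ι → F)} {x : ι → F} :
    x ∈ hf.perp W ↔ ∀ w ∈ W, f x w = 0 := by
  refine ⟨fun h w hw => ?_, fun h => ?_⟩
  · rw [← hf.sesq.fVec_dot]
    exact Unit.mem_dotAnn.1 h _ ⟨w, hw, rfl⟩
  · rw [perp, Unit.mem_dotAnn]
    rintro _ ⟨w, hw, rfl⟩
    rw [hf.sesq.fVec_dot]
    exact h w hw

theorem mem_perp' (hf : Herm σ ε f) {W : Submodule F (ι → F)} {x : ι → F} :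
    x ∈ hf.perp W ↔ ∀ w ∈ W, f w x = 0 :=
  hf.mem_perp.trans ⟨fun h w hw => hf.eq_zero_comm (h w hw), fun h w hw => hf.eq_zero_comm (h w hw)⟩

theorem finrank_perp (hf : Herm σ ε f) (W : Submodule F (ι → F)) :
    Module.finrank F (hf.perp W) + Module.finrank F W = Fintype.card ι := by
  classical
  have h := Unit.finrank_dotAnn (hf.fImage W)
  have h1 := Module.card_eq_pow_finrank (K := F) (V := hf.fImage W)
  have h2 := Module.card_eq_pow_finrank (K := F) (V := W)
  have h3 : Fintype.card (hf.fImage W) = Fintype.card W := by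
    rw [← Nat.card_eq_fintype_card, ← Nat.card_eq_fintype_card]
    exact Nat.card_image_of_injective hf.fVec_injective (W : Set (ι → F))
  rw [Nat.pow_right_injective Fintype.one_lt_card (h1.symm.trans (h3.trans h2))] at h
  exact h

theorem disjoint_perp (hf : Herm σ ε f) {W : Submodule F (ι → F)} (hW : IsNondegenerateOn f W) :
    Disjoint W (hf.perp W) := by
  rw [Submodule.disjoint_def]
  intro x hx hx'
  by_contra hne
  obtain ⟨y, hy, hxy⟩ := (hW x hx hne).2
  exact hxy (hf.mem_perp.1 hx' y hy)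

theorem nondegenerateOn_of_disjoint (hf : Herm σ ε f) {W : Submodule F (ι → F)} (h : W ⊓ hf.perp W = ⊥) :
    IsNondegenerateOn f W := by
  intro w hw hw0
  have hnot : w ∉ hf.perp W := fun h' => hw0 ((Submodule.eq_bot_iff _).1 h w ⟨hw, h'⟩)
  rw [hf.mem_perp] at hnot
  push Not at hnot
  obtain ⟨x, hx, hne⟩ := hnot
  exact ⟨⟨x, hx, hf.ne_zero_comm hne⟩, ⟨x, hx, hne⟩⟩

theorem perp_perp (hf : Herm σ ε f) (W : Submodule F (ι → F)) : hf.perp (hf.perp W) = W := by
  refine (Submodule.eq_of_le_of_finrank_eq (fun x hx => hf.mem_perp.2 fun w hw => hf.mem_perp'.1 hw x hx) ?_).symm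
  have h1 := hf.finrank_perp W
  have h2 := hf.finrank_perp (hf.perp W)
  omega

theorem nondegenerateOn_perp (hf : Herm σ ε f) {W : Submodule F (ι → F)}
    (hW : IsNondegenerateOn f W) : IsNondegenerateOn f (hf.perp W) := by
  refine hf.nondegenerateOn_of_disjoint ?_
  rw [hf.perp_perp, inf_comm]
  exact disjoint_iff.1 (hf.disjoint_perp hW)

end Herm

/-- `H` consists of isometries of `f`. -/
def IsoGrp (f : (ι → F) → (ι → F) → F) (H : Subgroup (GL ι F)) : Prop :=
  ∀ g ∈ H, ∀ u v, f ((g : Matrix ι ι F) *ᵥ u) ((g : Matrix ι ι F) *ᵥ v) = f u v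

/-- The reducible case. -/
theorem reducible_cases [Fintype F] {σ : F ≃+* F} {ε : F} {f : (ι → F) → (ι → F) → F} (hf : Herm σ ε f)
    {H : Subgroup (GL ι F)} (hH : IsoGrp f H) (hirr : ¬ ActsIrreducibly (matrixSet H)) :
    (∃ W : Submodule F (ι → F), W ≠ ⊥ ∧ W ≠ ⊤ ∧ IsTotallySingularFor f W ∧ H ≤ subspaceStabilizer W) ∨
    (∃ W : Submodule F (ι → F), W ≠ ⊥ ∧ W ≠ ⊤ ∧ IsNondegenerateOn f W ∧
      2 * Module.finrank F W < Fintype.card ι ∧ H ≤ subspaceStabilizer W) ∨
    (∃ (m : ℕ) (D : Fin 2 → Submodule F (ι → F)), IsNondegenerateMDecomposition f m D ∧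
      H ≤ decompositionStabilizer D) := by
  classical
  obtain ⟨W, hW, hW1, hW2⟩ : ∃ W : Submodule F (ι → F),
      (∀ s ∈ matrixSet H, W.map (Matrix.toLin' s) ≤ W) ∧ W ≠ ⊥ ∧ W ≠ ⊤ := by
    unfold ActsIrreducibly at hirr
    push Not at hirr
    exact hirr
  have hWinv : ∀ g ∈ H, ∀ v ∈ W, (g : Matrix ι ι F) *ᵥ v ∈ W := fun g hg v hv =>
    hW _ ⟨g, hg, rfl⟩ ⟨v, hv, Matrix.toLin'_apply _ _⟩
  have hperpinv : ∀ g ∈ H, ∀ v ∈ hf.perp W, (g : Matrix ι ι F) *ᵥ v ∈ hf.perp W := by
    intro g hg v hv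
    rw [hf.mem_perp] at hv ⊢
    intro w hw
    rw [← gl_mulVec_inv_mulVec g w, hH g hg]
    exact hv _ (hWinv _ (H.inv_mem hg) w hw)
  have hfin := hf.finrank_perp W
  have hWlt := Submodule.finrank_lt hW2
  rw [Module.finrank_fintype_fun_eq_card] at hWlt
  have hWpos : 0 < Module.finrank F W := Nat.pos_of_ne_zero fun h => hW1 (Submodule.finrank_eq_zero.1 h)
  have hmk : ∀ U : Submodule F (ι → F), (∀ g ∈ H, ∀ v ∈ U, (g : Matrix ι ι F) *ᵥ v ∈ U) →
      H ≤ subspaceStabilizer U := fun U hU g hg => mem_subspaceStabilizer.2 (hU g hg)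
  by_cases hR : W ⊓ hf.perp W = ⊥
  swap
  · have h2 : W ⊓ hf.perp W ≠ ⊤ := fun h => hW2 (top_le_iff.1 (h ▸ inf_le_left))
    exact Or.inl ⟨_, hR, h2, fun u hu v hv => hf.mem_perp.1 hu.2 v hv.1,
      hmk _ fun g hg v hv => ⟨hWinv g hg v hv.1, hperpinv g hg v hv.2⟩⟩
  have hnd := hf.nondegenerateOn_of_disjoint hR
  rcases lt_trichotomy (2 * Module.finrank F W) (Fintype.card ι) with h | h | h
  · exact Or.inr (Or.inl ⟨W, hW1, hW2, hnd, h, hmk W hWinv⟩)
  · right; right
    refine ⟨Module.finrank F W, ![W, hf.perp W], ⟨⟨le_rfl, hWpos, ?_, ?_, ?_⟩, ?_, ?_⟩, ?_⟩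
    · intro i; fin_cases i
      · rfl
      · show Module.finrank F (hf.perp W) = _
        omega
    · rw [iSupIndep_pair (show (0 : Fin 2) ≠ 1 by decide) (fun k => by fin_cases k <;> simp)]
      exact hf.disjoint_perp hnd
    · refine Submodule.eq_top_of_finrank_eq ?_
      have h2 := Submodule.finrank_sup_add_finrank_inf_eq W (hf.perp W)
      rw [hR, finrank_bot] at h2
      have e : iSup ![W, hf.perp W] = W ⊔ hf.perp W := by
        apply le_antisymm
        · refine iSup_le fun i => ?_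
          fin_cases i
          · exact le_sup_left
          · exact le_sup_right
        · exact sup_le (le_iSup ![W, hf.perp W] 0) (le_iSup ![W, hf.perp W] 1)
      rw [e, Module.finrank_fintype_fun_eq_card]
      omega
    · intro i; fin_cases i
      · exact hnd
      · exact hf.nondegenerateOn_perp hnd
    · intro i j hij u hu v hv
      fin_cases i <;> fin_cases j
      · exact absurd rfl hij
      · exact hf.mem_perp'.1 hv u hu
      · exact hf.mem_perp.1 hu v hv
      · exact absurd rfl hij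
    · intro g hg
      refine ⟨1, fun i => ?_⟩
      have key : ∀ U : Submodule F (ι → F), (∀ g ∈ H, ∀ v ∈ U, (g : Matrix ι ι F) *ᵥ v ∈ U) →
          U.map (Matrix.toLin' (g : Matrix ι ι F)) = U := by
        intro U hU
        apply le_antisymm
        · rintro _ ⟨v, hv, rfl⟩
          rw [Matrix.toLin'_apply]; exact hU g hg v hv
        · intro v hv
          exact ⟨_, hU _ (H.inv_mem hg) v hv, by rw [Matrix.toLin'_apply, gl_mulVec_inv_mulVec]⟩
      fin_cases i
      · exact key W hWinv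
      · exact key _ hperpinv
  · refine Or.inr (Or.inl ⟨hf.perp W, ?_, ?_, hf.nondegenerateOn_perp hnd, by omega, hmk _ hperpinv⟩)
    · intro h'; rw [h', finrank_bot] at hfin; omega
    · intro h'; rw [h', finrank_top, Module.finrank_fintype_fun_eq_card] at hfin; omega

/-! ### Adjoints -/

namespace Herm

variable [Fintype F] {σ : F ≃+* F} {ε : F} {f : (ι → F) → (ι → F) → F}

/-- `k'` is an adjoint of `k`. -/
def Adj {ι : Type} [Fintype ι] {F : Type*} [Field F] (f : (ι → F) → (ι → F) → F) (k k' : Matrix ι ι F) : Prop := ∀ u v, f (k *ᵥ u) v = f u (k' *ᵥ v)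

theorem adj_unique (hf : Herm σ ε f) {k a b : Matrix ι ι F} (ha : Adj f k a) (hb : Adj f k b) : a = b := by
  refine Matrix.ext_of_mulVec_single fun i => hf.ext_right fun u => ?_
  rw [← ha, ← hb]

theorem adj_symm [Nonempty ι] (hf : Herm σ ε f) {k k' : Matrix ι ι F} (h : Adj f k k') : Adj f k' k := by
  intro u v
  rw [hf.symm v (k' *ᵥ u), ← h, hf.symm u (k *ᵥ v), map_mul, hf.invol, ← mul_assoc, hf.eps_mul, one_mul]

theorem adj_algebraMap (hf : Herm σ ε f) (a : F) :
    Adj f (algebraMap F (Matrix ι ι F) a) (algebraMap F _ (σ a)) := by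
  intro u v
  rw [Algebra.algebraMap_eq_smul_one, Algebra.algebraMap_eq_smul_one, Matrix.smul_mulVec, Matrix.smul_mulVec,
    Matrix.one_mulVec, Matrix.one_mulVec, hf.smul_left, hf.smul_right, hf.invol]

theorem adj_one (hf : Herm σ ε f) : Adj f (1 : Matrix ι ι F) 1 := fun u v => by simp

theorem adj_zero (hf : Herm σ ε f) : Adj f (0 : Matrix ι ι F) 0 := fun u v => by
  simp [hf.zero_left, hf.zero_right]

theorem adj_add (hf : Herm σ ε f) {a a' b b' : Matrix ι ι F} (ha : Adj f a a') (hb : Adj f b b') :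
    Adj f (a + b) (a' + b') := fun u v => by
  rw [Matrix.add_mulVec, Matrix.add_mulVec, hf.add_left, hf.add_right, ha, hb]

theorem adj_mul (_hf : Herm σ ε f) {a a' b b' : Matrix ι ι F} (ha : Adj f a a') (hb : Adj f b b') :
    Adj f (a * b) (b' * a') := fun u v => by
  rw [← Matrix.mulVec_mulVec, ha, hb, Matrix.mulVec_mulVec]

theorem adjointClosed_algOf (hf : Herm σ ε f) {N : Subgroup (GL ι F)} (hN : IsoGrp f N) :
    IsAdjointClosedFor f (algOf N) := by
  intro k hk
  induction hk using Algebra.adjoin_induction with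
  | mem s hs =>
    obtain ⟨g, hg, rfl⟩ := hs
    refine ⟨((g⁻¹ : GL ι F) : Matrix ι ι F), mem_algOf (N.inv_mem hg), fun u v => ?_⟩
    conv_lhs => rw [← gl_mulVec_inv_mulVec g v]
    exact hN g hg u _
  | algebraMap a => exact ⟨algebraMap F _ (σ a), Subalgebra.algebraMap_mem _ _, hf.adj_algebraMap a⟩
  | add x y _ _ hx hy =>
    obtain ⟨x', hx', ex⟩ := hx
    obtain ⟨y', hy', ey⟩ := hy
    exact ⟨x' + y', add_mem hx' hy', hf.adj_add ex ey⟩
  | mul x y _ _ hx hy =>
    obtain ⟨x', hx', ex⟩ := hx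
    obtain ⟨y', hy', ey⟩ := hy
    exact ⟨y' * x', mul_mem hy' hx', hf.adj_mul ex ey⟩

/-- The centre of an adjoint closed subalgebra is adjoint closed. -/
theorem adjointClosed_centre [Nonempty ι] (hf : Herm σ ε f) {A : Subalgebra F (Matrix ι ι F)}
    (hA : IsAdjointClosedFor f A) :
    IsAdjointClosedFor f (A ⊓ Subalgebra.centralizer F (A : Set (Matrix ι ι F))) := by
  intro z hz
  obtain ⟨z', hz', ez⟩ := hA z hz.1
  refine ⟨z', ⟨hz', (Subalgebra.mem_centralizer_iff F).2 fun x hx => ?_⟩, ez⟩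
  obtain ⟨x', hx', ex⟩ := hA x hx
  have h1 : x' * z = z * x' := (Subalgebra.mem_centralizer_iff F).1 hz.2 x' hx'
  have e1 := hf.adj_mul (hf.adj_symm ex) ez
  have e2 := hf.adj_mul ez (hf.adj_symm ex)
  rw [h1] at e1
  exact hf.adj_unique e2 e1

end Herm

end CfsgLib.Geo.Asch
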