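import Mathlib
import Cfsg.Prelude.Def_GeometricClasses
import Cfsg.Agent.Lib.Geo.AschEvenType
import Cfsg.Agent.Lib.OrthOmega.Classes
import Cfsg.Agent.Lib.Orth.Lagrangian
import Cfsg.Agent.Lib.Geo.AschFormBasic

/-! The classes of maximal totally singular subspaces under Ω; singular kernels in characteristic two. -/

set_option autoImplicit false
set_option linter.unusedSectionVars false

namespace CfsgLib.Geo.AschEven

open Cfsg Cfsg.Geo Matrix QuadraticMap CfsgLib.GeomClasses CfsgLib.Maximal.TensorTools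
open scoped MatrixGroups

variable {ι : Type} [Fintype ι] [DecidableEq ι] {F : Type*} [Field F] [Fintype F] {Q : (ι → F) → F}

theorem omega_quad {g : GL ι F} (hg : g ∈ omegaGL Q) (x : ι → F) : Q ((g : Matrix ι ι F) *ᵥ x) = Q x :=
  isometry_of_omega hg x x

theorem isoGrp_of_le (hQ : IsNondegenerateQuadraticForm Q) {H : Subgroup (GL ι F)} (h : H ≤ omegaGL Q) :
    Asch.IsoGrp (polar Q) H := fun _ hg u v => omega_polar hQ (h hg) u v

/-- Elements of Ω preserve the class of a totally singular half. -/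
theorem omega_parity (hQ : IsNondegenerateQuadraticForm Q) {m : ℕ} (hι : Fintype.card ι = 2 * m)
    (hm : 3 ≤ m) {U : Submodule F (ι → F)} (hUd : Module.finrank F U = m) (hU : ∀ u ∈ U, Q u = 0)
    {g : GL ι F} (hg : g ∈ omegaGL Q) :
    Even (m - Module.finrank F ↥(U ⊓ U.map (Matrix.toLin' (g : Matrix ι ι F)))) := by
  have hq : (quadOf hQ).polarBilin.Nondegenerate := OrthTools.quadOf_nondegenerate hQ
  have hgen : CfsgLib.Orth.reflClosure (quadOf hQ) = ⊤ :=
    CfsgLib.Orth.reflClosure_eq_top hq (Or.inr (by omega))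
  obtain ⟨x, hx, rfl⟩ := hg
  have h1 : CfsgLib.Orth.dicksonHom hq hgen x = 1 := by
    have hle : commutator (CfsgLib.Orth.O (quadOf hQ)) ≤ (CfsgLib.Orth.dicksonHom hq hgen).ker :=
      Abelianization.commutator_subset_ker _
    exact hle hx
  have h2 := CfsgLib.OrthOmega.classSign_app (Q := quadOf hQ) hq hgen hι hUd hU x
  rw [h1, CfsgLib.OrthOmega.classSign_eq_one_iff] at h2
  have happ : CfsgLib.Orth.app (Q := quadOf hQ) x =
      Matrix.toLin' ((x : GL ι F) : Matrix ι ι F) := LinearMap.ext fun v => (Matrix.toLin'_apply _ v).symm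
  rw [happ] at h2
  exact h2

theorem map_eq_of_mem_stab {g : GL ι F} {W : Submodule F (ι → F)} (h : ∀ v ∈ W, (g : Matrix ι ι F) *ᵥ v ∈ W) :
    W.map (Matrix.toLin' (g : Matrix ι ι F)) = W := by
  apply Submodule.eq_of_le_of_finrank_eq
  · rintro _ ⟨w, hw, rfl⟩
    simpa using h w hw
  · exact (Submodule.equivMapOfInjective _ (by
      simpa [Function.Injective] using gl_mulVec_injective g) W).finrank_eq.symm

theorem finrank_map_gl (g : GL ι F) (W : Submodule F (ι → F)) :
    Module.finrank F (W.map (Matrix.toLin' (g : Matrix ι ι F))) = Module.finrank F W :=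
  (Submodule.equivMapOfInjective _ (by simpa [Function.Injective] using gl_mulVec_injective g) W).finrank_eq.symm

/-- A group of Ω fixing a totally singular subspace of dimension one below the maximum fixes a maximal one. -/
theorem exists_fixed_half (hQ : IsNondegenerateQuadraticForm Q) {m : ℕ} (hι : Fintype.card ι = 2 * m)
    (hm : 3 ≤ m) (hplus : IsPlusTypeOn Q ⊤) {H : Subgroup (GL ι F)} (hHΩ : H ≤ omegaGL Q)
    {W : Submodule F (ι → F)} (hW : ∀ w ∈ W, Q w = 0) (hWd : Module.finrank F W + 1 = m)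
    (hle : H ≤ subspaceStabilizer W) :
    ∃ U : Submodule F (ι → F), Module.finrank F U = m ∧ IsTotallySingularQuad Q U ∧ H ≤ subspaceStabilizer U := by
  have hq : (quadOf hQ).polarBilin.Nondegenerate := OrthTools.quadOf_nondegenerate hQ
  have hV : Module.finrank F (ι → F) = 2 * m := by rw [Module.finrank_fintype_fun_eq_card, hι]
  obtain ⟨U₀, -, hU₀, hU₀d⟩ := hplus
  rw [finrank_top, hV] at hU₀d
  have hcard := CfsgLib.Orth.card_lagrangian_over (quadOf hQ) hq hV ⟨U₀, by omega, hU₀⟩ hWd hW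
  obtain ⟨⟨U, hUd, hU, hWU⟩⟩ : Nonempty {U : Submodule F (ι → F) //
      Module.finrank F U = m ∧ (∀ w ∈ U, quadOf hQ w = 0) ∧ W ≤ U} :=
    (Nat.card_pos_iff.1 (by rw [hcard]; norm_num)).1
  refine ⟨U, hUd, hU, fun g hg => mem_subspaceStabilizer.2 fun v hv => ?_⟩
  set U' := U.map (Matrix.toLin' (g : Matrix ι ι F)) with hU'
  have hWU' : W ≤ U' := fun w hw => by
    rw [← map_eq_of_mem_stab (mem_subspaceStabilizer.1 (hle hg))] at hw
    obtain ⟨x, hx, rfl⟩ := hw
    exact ⟨x, hWU hx, rfl⟩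
  have hev := omega_parity hQ hι hm hUd hU (hHΩ hg)
  rw [← hU'] at hev
  have h1 : Module.finrank F W ≤ Module.finrank F ↥(U ⊓ U') := Submodule.finrank_mono (le_inf hWU hWU')
  have h2 : Module.finrank F ↥(U ⊓ U') ≤ m := hUd ▸ Submodule.finrank_mono inf_le_left
  have h3 : Module.finrank F ↥(U ⊓ U') = m := by
    obtain ⟨k, hk⟩ := hev
    omega
  have h4 : U ⊓ U' = U' := Submodule.eq_of_le_of_finrank_eq inf_le_right (by rw [h3, hU', finrank_map_gl, hUd])
  have h5 : (g : Matrix ι ι F) *ᵥ v ∈ U' := ⟨v, hv, Matrix.toLin'_apply _ _⟩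
  rw [← h4] at h5
  exact h5.1

/-- Two complementary totally singular halves of odd dimension are not exchanged. -/
theorem no_swap_of_odd (hQ : IsNondegenerateQuadraticForm Q) {m : ℕ} (hι : Fintype.card ι = 2 * m)
    (hm : 3 ≤ m) (hodd : Odd m) {U U' : Submodule F (ι → F)} (hUd : Module.finrank F U = m)
    (hU : ∀ u ∈ U, Q u = 0) (hdisj : Disjoint U U') {g : GL ι F} (hg : g ∈ omegaGL Q) :
    U.map (Matrix.toLin' (g : Matrix ι ι F)) ≠ U' := by
  intro h
  have hev := omega_parity hQ hι hm hUd hU hg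
  rw [h, disjoint_iff.1 hdisj, finrank_bot, Nat.sub_zero] at hev
  exact Nat.not_even_iff_odd.2 hodd hev

/-- In characteristic two the singular vectors of a polar-isotropic subspace form a subspace of codimension at most one. -/
theorem exists_singular_kernel (hQ : IsNondegenerateQuadraticForm Q) {W : Submodule F (ι → F)}
    (hW : IsTotallySingularFor (polar Q) W) :
    ∃ W₀ : Submodule F (ι → F), W₀ ≤ W ∧ IsTotallySingularQuad Q W₀ ∧
      (∀ x ∈ W, Q x = 0 → x ∈ W₀) ∧ Module.finrank F W ≤ Module.finrank F W₀ + 1 := by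
  have hadd : ∀ x ∈ W, ∀ y ∈ W, Q (x + y) = Q x + Q y := fun x hx y hy => by
    have := hW x hx y hy
    rw [QuadraticMap.polar] at this
    linear_combination this
  let W₀ : Submodule F (ι → F) :=
    { carrier := {x | x ∈ W ∧ Q x = 0}
      zero_mem' := ⟨W.zero_mem, by simpa using hQ.smul 0 0⟩
      add_mem' := fun {x y} hx hy => ⟨W.add_mem hx.1 hy.1, by rw [hadd x hx.1 y hy.1, hx.2, hy.2, add_zero]⟩
      smul_mem' := fun c x hx => ⟨W.smul_mem c hx.1, by rw [hQ.smul, hx.2, mul_zero]⟩ }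
  refine ⟨W₀, fun x hx => hx.1, fun x hx => hx.2, fun x hx h => ⟨hx, h⟩, ?_⟩
  by_cases hall : ∀ x ∈ W, Q x = 0
  · exact (Submodule.finrank_mono (show W ≤ W₀ from fun x hx => ⟨hx, hall x hx⟩)).trans (Nat.le_succ _)
  push Not at hall
  obtain ⟨v, hv, hqv⟩ := hall
  have h2 : (2 : F) = 0 := by
    have h := hW v hv v hv
    rw [Asch.quad_polar_self hQ, mul_eq_zero] at h
    exact h.resolve_right hqv
  haveI : CharP F 2 := CharTwo.of_one_ne_zero_of_two_eq_zero one_ne_zero h2
  have hle : W ≤ W₀ ⊔ Submodule.span F {v} := by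
    intro x hx
    obtain ⟨r, hr⟩ := FiniteField.isSquare_of_char_two (ringChar.eq F 2) (Q x / Q v)
    refine Submodule.mem_sup.2 ⟨x + r • v, ⟨W.add_mem hx (W.smul_mem _ hv), ?_⟩, (-r) • v,
      Submodule.smul_mem _ _ (Submodule.mem_span_singleton_self v), by module⟩
    rw [hadd x hx _ (W.smul_mem _ hv), hQ.smul, _root_.sq, ← hr, div_mul_cancel₀ _ hqv]
    linear_combination Q x * h2
  refine (Submodule.finrank_mono hle).trans ((Submodule.finrank_add_le_finrank_add_finrank _ _).trans ?_)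
  have := finrank_span_singleton (K := F) (show v ≠ 0 from fun h => hqv (by rw [h]; simpa using hQ.smul 0 0))
  omega

end CfsgLib.Geo.AschEven
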