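import Mathlib
import Cfsg.Prelude.Def_GeometricClasses
import Cfsg.Agent.Lib.Geo.AschFormBasic

/-! Decompositions stabilised by an irreducible group of isometries. -/

set_option autoImplicit false
set_option linter.unusedSectionVars false

namespace CfsgLib.Geo.Asch

open Cfsg Cfsg.Geo Matrix CfsgLib.GeomClasses
open scoped MatrixGroups

variable {ι : Type} [Fintype ι] [DecidableEq ι] {F : Type*} [Field F] [Fintype F]
  {σ : F ≃+* F} {ε : F} {f : (ι → F) → (ι → F) → F}

theorem exists_pairing_witness (hf : Herm σ ε f) {t : ℕ} {D : Fin t → Submodule F (ι → F)}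
    (htop : iSup D = ⊤) {w : ι → F} (hw0 : w ≠ 0) : ∃ j, ∃ x ∈ D j, f x w ≠ 0 := by
  by_contra hall
  simp only [not_exists, not_and, not_not] at hall
  obtain ⟨x, hx⟩ := (hf.nondeg w hw0).1
  apply hx
  clear hx
  have hxt : x ∈ iSup D := htop ▸ Submodule.mem_top
  induction hxt using Submodule.iSup_induction' with
  | mem j u hu => exact hall j u hu
  | zero => exact hf.zero_left w
  | add a b _ _ ha hb => rw [hf.add_left, ha, hb, add_zero]

/-- A stabilised decomposition whose pairing is a permutation of the members gives a form-compatible decomposition. -/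
theorem decomposition_cases [Nonempty ι] (hf : Herm σ ε f) {H : Subgroup (GL ι F)}
    (hH : IsoGrp f H) (hirr : ActsIrreducibly (matrixSet H)) {t m : ℕ} {D : Fin t → Submodule F (ι → F)}
    (hD : IsMDecomposition m D) (hle : H ≤ decompositionStabilizer D) (π : Fin t → Fin t)
    (horth : ∀ i k, k ≠ π i → AreOrthogonalFor f (D i) (D k)) :
    (∃ (t' m' : ℕ) (D' : Fin t' → Submodule F (ι → F)), IsNondegenerateMDecomposition f m' D' ∧
      H ≤ decompositionStabilizer D') ∨
    (∃ (m' : ℕ) (D' : Fin 2 → Submodule F (ι → F)), IsMDecomposition m' D' ∧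
      (∀ i, IsTotallySingularFor f (D' i)) ∧ H ≤ decompositionStabilizer D') := by
  classical
  have hne : ∀ i, ∃ v ∈ D i, v ≠ 0 := fun i => (Submodule.ne_bot_iff (D i)).1 fun h => by
    have := hD.finrank_eq i
    rw [h, finrank_bot] at this
    have := hD.pos
    omega
  -- the pairing is symmetric
  have hinv : ∀ i, π (π i) = i := by
    intro i
    obtain ⟨w, hw, hw0⟩ := hne i
    obtain ⟨j, x, hx, hxw⟩ := exists_pairing_witness hf hD.iSup_eq_top hw0
    have h1 : π j = i := by
      by_contra h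
      exact hxw (horth j i (Ne.symm h) x hx w hw)
    have h2 : π i = j := by
      by_contra h
      exact hf.ne_zero_comm hxw (horth i j (Ne.symm h) w hw x hx)
    rw [h2, h1]
  have hpair : ∀ i, ∀ w ∈ D i, w ≠ 0 → ∃ x ∈ D (π i), f x w ≠ 0 := by
    intro i w hw hw0
    obtain ⟨j, x, hx, hxw⟩ := exists_pairing_witness hf hD.iSup_eq_top hw0
    have h2 : π i = j := by
      by_contra h
      exact hf.ne_zero_comm hxw (horth i j (Ne.symm h) w hw x hx)
    exact ⟨x, h2 ▸ hx, hxw⟩
  -- the group commutes with the pairing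
  have hperm : ∀ g ∈ H, ∃ τ : Equiv.Perm (Fin t),
      (∀ i, (D i).map (Matrix.toLin' (g : Matrix ι ι F)) = D (τ i)) ∧ ∀ i, τ (π i) = π (τ i) := by
    intro g hg
    obtain ⟨τ, hτ⟩ := hle hg
    refine ⟨τ, hτ, fun i => ?_⟩
    obtain ⟨w, hw, hw0⟩ := hne i
    obtain ⟨x, hx, hxw⟩ := hpair i w hw hw0
    by_contra h
    refine hxw ?_
    have h1 : (g : Matrix ι ι F) *ᵥ w ∈ D (τ i) := hτ i ▸ ⟨w, hw, Matrix.toLin'_apply _ _⟩
    have h2 : (g : Matrix ι ι F) *ᵥ x ∈ D (τ (π i)) := hτ (π i) ▸ ⟨x, hx, Matrix.toLin'_apply _ _⟩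
    rw [← hH g hg]
    exact hf.eq_zero_comm (horth (τ i) (τ (π i)) h _ h1 _ h2)
  by_cases hfix : ∃ i, π i = i
  · obtain ⟨i₀, hi₀⟩ := hfix
    let S : Submodule F (ι → F) := ⨆ (i : Fin t) (_ : π i = i), D i
    have hS : S = ⊤ := by
      refine eq_top_of_invariant hirr S (fun g hg => ?_) ?_
      · obtain ⟨τ, hτ, hτπ⟩ := hperm g hg
        simp only [S, Submodule.map_iSup]
        exact iSup₂_le fun i hi => le_iSup₂_of_le (τ i) (by rw [← hτπ, hi]) (le_of_eq (hτ i))
      · intro h0
        have h1 : D i₀ ≤ S := le_iSup₂_of_le i₀ hi₀ le_rfl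
        rw [h0, le_bot_iff] at h1
        obtain ⟨v, hv, hv0⟩ := hne i₀
        rw [h1, Submodule.mem_bot] at hv
        exact hv0 hv
    have hall : ∀ i, π i = i := by
      intro i
      by_contra hne'
      have hle' : S ≤ ⨆ (j : Fin t) (_ : j ≠ i), D j :=
        iSup₂_le fun j hj => le_iSup₂_of_le j (fun h => hne' (h ▸ hj)) le_rfl
      have hd := iSupIndep_def.1 hD.indep i
      rw [hS, top_le_iff] at hle'
      rw [hle', disjoint_top] at hd
      obtain ⟨v, hv, hv0⟩ := hne i
      rw [hd, Submodule.mem_bot] at hv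
      exact hv0 hv
    left
    refine ⟨t, m, D, ⟨hD, fun i w hw hw0 => ?_, fun i j hij => horth i j (by rw [hall]; exact Ne.symm hij)⟩, hle⟩
    obtain ⟨x, hx, hxw⟩ := hpair i w hw hw0
    rw [hall] at hx
    exact ⟨⟨x, hx, hxw⟩, ⟨x, hx, hf.ne_zero_comm hxw⟩⟩
  push Not at hfix
  have htsing : ∀ i, IsTotallySingularFor f (D i) := fun i => horth i i (Ne.symm (hfix i))
  by_cases ht : t = 2
  · subst ht
    exact Or.inr ⟨m, D, hD, htsing, hle⟩
  left
  -- pairs
  let P : Finset (Fin t) := Finset.univ.filter fun i => i < π i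
  have hP : ∀ i, i ∈ P ↔ i < π i := fun i => by simp [P]
  have hrep : ∀ i, ∃ k ∈ P, i = k ∨ i = π k := by
    intro i
    rcases lt_or_gt_of_ne (Ne.symm (hfix i)) with h | h
    · exact ⟨i, (hP i).2 h, Or.inl rfl⟩
    · exact ⟨π i, (hP _).2 (by rwa [hinv]), Or.inr (hinv i).symm⟩
  choose ρ hρP hρ using hrep
  let enum : Fin P.card ≃ P := P.equivFin.symm
  let blk : Fin t → Fin P.card := fun i => enum.symm ⟨ρ i, hρP i⟩
  let D' : Fin P.card → Submodule F (ι → F) := fun k => D (enum k) ⊔ D (π (enum k))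
  have hblk : ∀ i, D i ≤ D' (blk i) := by
    intro i
    simp only [D', blk, Equiv.apply_symm_apply]
    rcases hρ i with h | h
    · exact le_sup_of_le_left (le_of_eq (congrArg D h))
    · exact le_sup_of_le_right (le_of_eq (congrArg D h))
  have huniq : ∀ (k k' : Fin P.card), ((enum k : Fin t) = enum k' ∨ (enum k : Fin t) = π (enum k')) → k = k' := by
    intro k k' h
    rcases h with h | h
    · exact enum.injective (Subtype.ext h)
    · exfalso
      have h1 := (hP _).1 (enum k).2
      have h2 := (hP _).1 (enum k').2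
      rw [h, hinv] at h1
      exact lt_asymm h1 h2
  have horth' : ∀ k k', k ≠ k' → AreOrthogonalFor f (D' k) (D' k') := by
    intro k k' hkk u hu v hv
    obtain ⟨a, ha, b, hb, rfl⟩ := Submodule.mem_sup.1 hu
    obtain ⟨c, hc, d, hd, rfl⟩ := Submodule.mem_sup.1 hv
    have n1 : (enum k' : Fin t) ≠ π (enum k) := fun h => hkk (huniq k' k (Or.inr h)).symm
    have n2 : π (enum k') ≠ π (enum k) := fun h => by
      refine hkk (huniq k k' (Or.inl ?_))
      have := congrArg π h
      rwa [hinv, hinv, eq_comm] at this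
    have n3 : (enum k' : Fin t) ≠ π (π (enum k)) := by rw [hinv]; exact fun h => hkk (huniq k' k (Or.inl h)).symm
    have n4 : π (enum k') ≠ π (π (enum k)) := by rw [hinv]; exact fun h => hkk (huniq k k' (Or.inr h.symm))
    simp only [hf.add_left, hf.add_right, horth _ _ n1 a ha c hc, horth _ _ n2 a ha d hd,
      horth _ _ n3 b hb c hc, horth _ _ n4 b hb d hd, add_zero]
  have htop' : iSup D' = ⊤ := by
    rw [eq_top_iff, ← hD.iSup_eq_top]
    exact iSup_le fun i => (hblk i).trans (le_iSup D' _)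
  have hnd' : ∀ k, IsNondegenerateOn f (D' k) := by
    intro k w hw hw0
    obtain ⟨j, x, hx, hxw⟩ := exists_pairing_witness hf htop' hw0
    have hjk : j = k := by
      by_contra h
      exact hxw (horth' j k h x hx w hw)
    subst hjk
    exact ⟨⟨x, hx, hxw⟩, ⟨x, hx, hf.ne_zero_comm hxw⟩⟩
  have hfr : ∀ k, Module.finrank F (D' k) = 2 * m := by
    intro k
    have h := Submodule.finrank_sup_add_finrank_inf_eq (D (enum k)) (D (π (enum k)))
    rw [disjoint_iff.1 (hD.indep.pairwiseDisjoint (Ne.symm (hfix (enum k)))), finrank_bot, hD.finrank_eq,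
      hD.finrank_eq] at h
    show Module.finrank F ((D (enum k) ⊔ D (π (enum k)) : Submodule F (ι → F))) = _
    omega
  have hind' : iSupIndep D' := by
    rw [iSupIndep_def]
    intro k
    rw [Submodule.disjoint_def]
    intro v hv hv'
    by_contra hv0
    obtain ⟨x, hx, hne'⟩ := (hnd' k v hv hv0).2
    apply hne'
    have h : (⨆ k', ⨆ (_ : k' ≠ k), D' k') ≤ hf.perp (D' k) :=
      iSup₂_le fun k' hk' u hu => hf.mem_perp.2 fun w hw => horth' k' k hk' u hu w hw
    exact hf.mem_perp.1 (h hv') x hx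
  have hcard : 2 ≤ P.card := by
    by_contra h2
    have hsub : ∀ i, ρ i = ρ ⟨0, lt_of_lt_of_le two_pos hD.two_le⟩ := fun i =>
      Finset.card_le_one.1 (by omega) _ (hρP i) _ (hρP _)
    set k0 := ρ ⟨0, lt_of_lt_of_le two_pos hD.two_le⟩
    have h3 : (Finset.univ : Finset (Fin t)) ⊆ {k0, π k0} := fun i _ => by
      have := hρ i
      rw [hsub i] at this
      simpa using this
    have := Finset.card_le_card h3
    rw [Finset.card_univ, Fintype.card_fin] at this
    have h4 : ({k0, π k0} : Finset (Fin t)).card ≤ 2 := Finset.card_le_two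
    have := hD.two_le
    omega
  refine ⟨P.card, 2 * m, D', ⟨⟨hcard, ?_, hfr, hind', htop'⟩, hnd', horth'⟩, fun g hg => ?_⟩
  · have := hD.pos; omega
  obtain ⟨τ, hτ, hτπ⟩ := hperm g hg
  let τ' : Fin P.card → Fin P.card := fun k => blk (τ (enum k))
  have hmap : ∀ k, (D' k).map (Matrix.toLin' (g : Matrix ι ι F)) = D' (τ' k) := by
    intro k
    simp only [D', τ', blk, Equiv.apply_symm_apply, Submodule.map_sup, hτ, hτπ]
    rcases hρ (τ (enum k)) with h | h
    · conv_lhs => rw [h]
    · conv_lhs => rw [h, hinv, sup_comm]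
  have hinj : Function.Injective τ' := by
    intro k k' h
    by_contra hkk
    obtain ⟨w, hw, hw0⟩ := hne (enum k)
    obtain ⟨x, hx, hxw⟩ := hpair _ w hw hw0
    have h1 : (g : Matrix ι ι F) *ᵥ x ∈ (D' k).map (Matrix.toLin' (g : Matrix ι ι F)) :=
      ⟨x, Submodule.mem_sup_right hx, Matrix.toLin'_apply _ _⟩
    rw [hmap, h, ← hmap] at h1
    obtain ⟨y, hy, hyx⟩ := h1
    rw [Matrix.toLin'_apply] at hyx
    have hyx' : y = x := gl_mulVec_injective g hyx
    rw [hyx'] at hy
    exact hxw (horth' k' k (Ne.symm hkk) x hy w (Submodule.mem_sup_left hw))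
  exact ⟨Equiv.ofBijective τ' ⟨hinj, Finite.injective_iff_surjective.1 hinj⟩, hmap⟩

end CfsgLib.Geo.Asch
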