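import Mathlib
import Cfsg.Prelude.Def_GeometricClasses
import Cfsg.Agent.Lib.Geo.AschForms
import Cfsg.Agent.Lib.GeomClasses.Unit

/-! Rationality of unitary forms for groups realised over subfields. -/

set_option autoImplicit false

namespace CfsgLib.Geo.Asch

open Cfsg Cfsg.Geo Matrix CfsgLib.GeomClasses
open scoped MatrixGroups

variable {ι : Type} [Fintype ι] [DecidableEq ι] {F : Type*} [Field F] [Fintype F] {σ : F ≃+* F}
  {f : (ι → F) → (ι → F) → F}

/-- A spanning group fixing a unitary and a bilinear form is realisable over the fixed field. -/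
theorem realisable_of_bilinear [Nonempty ι] {N : Subgroup (GL ι F)} (hspan : algOf N = ⊤)
    (hf : IsUnitaryForm σ f) (hfN : FixesForm (matrixSet N) f) {g : (ι → F) → (ι → F) → F}
    (hg : IsSesq (RingHom.id F) g) (hgn : IsNondegenerateForm g) (hgN : FixesForm (matrixSet N) g) :
    ∃ F₀ : Subfield F, F₀ ≠ ⊤ ∧ RealisableOver F₀ (matrixSet N) := by
  classical
  have hs := Unit.sesq hf
  have hinjg : Function.Injective (fVec g) := by
    intro v w hvw
    by_contra hne
    obtain ⟨⟨x, hx⟩, -⟩ := hgn (v - w) (sub_ne_zero.2 hne)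
    apply hx
    have h1 : g x v = g x w := by rw [← hg.fVec_dot, hvw, hg.fVec_dot]
    rw [sub_eq_add_neg, ← neg_one_smul F w, hg.add_right, hg.smul_right, h1]
    simp
  have huniq : ∀ w w', (∀ u, g u w = g u w') → w = w' := fun w w' h =>
    hinjg (dot_right_cancel fun x => by rw [hg.fVec_dot, hg.fVec_dot, h])
  choose J hJ using fun v => Finite.injective_iff_surjective.1 hinjg (fVec f v)
  have hJ' : ∀ u v, g u (J v) = f u v := fun u v => by rw [← hg.fVec_dot, hJ, hs.fVec_dot]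
  have hJadd : ∀ a b, J (a + b) = J a + J b := fun a b => huniq _ _ fun u => by
    rw [hg.add_right, hJ', hJ', hJ', hs.add_right]
  have hJsmul : ∀ (c : F) a, J (c • a) = σ c • J a := fun c a => huniq _ _ fun u => by
    rw [hg.smul_right, hJ', hJ', hs.smul_right]; rfl
  have hJN : ∀ s ∈ N, ∀ v, J ((s : Matrix ι ι F) *ᵥ v) = (s : Matrix ι ι F) *ᵥ J v := by
    intro s hsN v
    refine huniq _ _ fun u => ?_
    obtain ⟨u', rfl⟩ : ∃ u', (s : Matrix ι ι F) *ᵥ u' = u :=
      ⟨((s⁻¹ : GL ι F) : Matrix ι ι F) *ᵥ u, gl_mulVec_inv_mulVec s u⟩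
    rw [hJ', hfN _ ⟨s, hsN, rfl⟩, hgN _ ⟨s, hsN, rfl⟩, hJ']
  let J2 : (ι → F) →ₗ[F] (ι → F) :=
    { toFun := fun v => J (J v)
      map_add' := fun a b => by simp only [hJadd]
      map_smul' := fun c a => by rw [hJsmul, hJsmul, hf.involutive]; rfl }
  obtain ⟨a, ha⟩ := scalar_of_commute hspan (M := LinearMap.toMatrix' J2) (by
    rintro _ ⟨s, hsN, rfl⟩
    refine Matrix.ext_of_mulVec_single fun i => ?_
    rw [← Matrix.mulVec_mulVec, ← Matrix.mulVec_mulVec, LinearMap.toMatrix'_mulVec, LinearMap.toMatrix'_mulVec]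
    show J (J _) = _ *ᵥ J (J _)
    rw [hJN s hsN, hJN s hsN])
  have hJJ : ∀ v, J (J v) = a • v := fun v => by
    have : J2 v = a • v := by
      rw [← LinearMap.toMatrix'_mulVec, ha, Matrix.smul_mulVec, Matrix.one_mulVec]
    exact this
  have hJ0 : ∀ v, J v = 0 → v = 0 := by
    intro v hv
    by_contra hv0
    obtain ⟨x, hx⟩ := (hf.nondegenerate v hv0).1
    exact hx (by rw [← hJ', hv, hg.zero_right])
  obtain ⟨v, hv0⟩ := exists_ne (0 : ι → F)
  have ha0 : a ≠ 0 := by
    intro h0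
    exact hv0 (hJ0 _ (hJ0 _ (by rw [hJJ, h0, zero_smul])))
  have haσ : σ a = a := by
    have h1 : J (J (J v)) = a • J v := hJJ (J v)
    rw [hJJ v, hJsmul] at h1
    exact smul_left_injective F (fun h => hv0 (hJ0 v h)) h1
  obtain ⟨l, hl⟩ := Unit.exists_norm hf.ne_refl hf.involutive
    (show σ a⁻¹ = a⁻¹ by rw [map_inv₀, haσ])
  let J' : (ι → F) → (ι → F) := fun v => l • J v
  have hJ'' : ∀ v, J' (J' v) = v := fun v => by
    simp only [J', hJsmul, hJJ, smul_smul]
    rw [← mul_assoc, hl, inv_mul_cancel₀ ha0, one_smul]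
  let F₀ : Subfield F := RingHom.eqLocusField (σ : F →+* F) (RingHom.id F)
  have hmem : ∀ x, x ∈ F₀ ↔ σ x = x := fun x => Iff.rfl
  let V : Set (ι → F) := {v | J' v = v}
  have hspanV : Submodule.span F V = ⊤ := by
    rw [Submodule.eq_top_iff']
    intro x
    obtain ⟨c, hc⟩ := Unit.exists_moved hf.ne_refl
    have hfix : ∀ y, y + J' y ∈ V := fun y => by
      show J' (y + J' y) = y + J' y
      have : J' (y + J' y) = J' y + J' (J' y) := by simp only [J', hJadd, smul_add]
      rw [this, hJ'', add_comm]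
    have h1 : σ c • (x + J' x) - (c • x + J' (c • x)) = (σ c - c) • x := by
      simp only [J', hJsmul, smul_smul, smul_add, sub_smul]
      rw [mul_comm (σ c) l]
      abel
    have h2 := (Submodule.span F V).sub_mem ((Submodule.span F V).smul_mem (σ c) (Submodule.subset_span (hfix x)))
      (Submodule.subset_span (hfix (c • x)))
    rw [h1] at h2
    have h3 := (Submodule.span F V).smul_mem (σ c - c)⁻¹ h2
    rwa [smul_smul, inv_mul_cancel₀ (sub_ne_zero.2 hc), one_smul] at h3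
  obtain ⟨B, hBV, hBspan, hBli⟩ := exists_linearIndependent F V
  let b₀ : Module.Basis B F (ι → F) := Module.Basis.mk hBli (by rw [Subtype.range_coe, hBspan, hspanV])
  haveI : Fintype B := Fintype.ofFinite B
  have hcardB : Fintype.card B = Fintype.card ι := by
    rw [← Module.finrank_eq_card_basis b₀, Module.finrank_fintype_fun_eq_card]
  let b : Module.Basis ι F (ι → F) := b₀.reindex (Fintype.equivOfCardEq hcardB)
  have hbV : ∀ i, J' (b i) = b i := fun i => by
    have : b i = ((Fintype.equivOfCardEq hcardB).symm i : ι → F) := by simp [b, b₀]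
    rw [this]
    exact hBV (Subtype.coe_prop _)
  refine ⟨F₀, fun htop => hf.ne_refl (RingEquiv.ext fun x => (hmem x).1 (htop ▸ Subfield.mem_top x)), ?_⟩
  let std := Pi.basisFun F ι
  let P : GL ι F := ⟨std.toMatrix b, b.toMatrix std, std.toMatrix_mul_toMatrix_flip b,
    b.toMatrix_mul_toMatrix_flip std⟩
  refine ⟨P⁻¹, ?_⟩
  rintro _ ⟨s, hsN, rfl⟩ i j
  have hentry : (((P⁻¹ : GL ι F) : Matrix ι ι F) * (s : Matrix ι ι F) * (((P⁻¹)⁻¹ : GL ι F) : Matrix ι ι F)) i j =
      b.repr ((s : Matrix ι ι F) *ᵥ b j) i := by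
    rw [inv_inv]
    have hPcol : ((s : Matrix ι ι F) *ᵥ b j) = (P : Matrix ι ι F) *ᵥ fun k => b.repr ((s : Matrix ι ι F) *ᵥ b j) k := by
      conv_lhs => rw [← b.sum_repr ((s : Matrix ι ι F) *ᵥ b j)]
      funext k
      show (∑ q, b.repr ((s : Matrix ι ι F) *ᵥ b j) q • b q) k =
        ∑ q, (P : Matrix ι ι F) k q * b.repr ((s : Matrix ι ι F) *ᵥ b j) q
      rw [Finset.sum_apply]
      refine Finset.sum_congr rfl fun q _ => ?_
      rw [Pi.smul_apply, smul_eq_mul, show (P : Matrix ι ι F) k q = b q k from rfl, mul_comm]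
    have h1 := congrArg (fun z => (((P⁻¹ : GL ι F) : Matrix ι ι F) *ᵥ z) i) hPcol
    simp only [gl_inv_mulVec_mulVec] at h1
    rw [← h1, Matrix.mul_assoc]
    rfl
  rw [hentry, hmem]
  have h1 : J' ((s : Matrix ι ι F) *ᵥ b j) = (s : Matrix ι ι F) *ᵥ b j := by
    conv_rhs => rw [← hbV j]
    simp only [J', hJN s hsN, Matrix.mulVec_smul]
  let Jh : (ι → F) →+ (ι → F) := AddMonoidHom.mk' J' (fun x y => by simp only [J', hJadd, smul_add])
  have h2 : J' ((s : Matrix ι ι F) *ᵥ b j) = ∑ k, σ (b.repr ((s : Matrix ι ι F) *ᵥ b j) k) • b k := by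
    conv_lhs => rw [← b.sum_repr ((s : Matrix ι ι F) *ᵥ b j)]
    show Jh _ = _
    rw [map_sum]
    refine Finset.sum_congr rfl fun k _ => ?_
    show J' _ = _
    conv_rhs => rw [← hbV k]
    simp only [J', hJsmul, smul_smul, mul_comm]
  rw [h1] at h2
  have h3 := congrArg (fun z => b.repr z i) h2
  simp [map_sum, Finsupp.single_apply] at h3
  exact h3.symm

/-- The image of a power map inside a subfield. -/
theorem mem_of_pow_card_eq {F₁ : Subfield F} {x : F} (hx : x ^ Nat.card F₁ = x) : x ∈ F₁ := by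
  classical
  have h1 : 1 < Nat.card F₁ := Finite.one_lt_card
  let p : Polynomial F := Polynomial.X ^ Nat.card F₁ - Polynomial.X
  have hp0 : p ≠ 0 := FiniteField.X_pow_card_sub_X_ne_zero F h1
  let S : Finset F := (Set.toFinite (F₁ : Set F)).toFinset
  have hSr : S ⊆ p.roots.toFinset := by
    intro y hy
    rw [Set.Finite.mem_toFinset, SetLike.mem_coe] at hy
    rw [Multiset.mem_toFinset, Polynomial.mem_roots hp0]
    haveI : Fintype F₁ := Fintype.ofFinite _
    have h2 := congrArg Subtype.val (FiniteField.pow_card (⟨y, hy⟩ : F₁))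
    rw [SubmonoidClass.coe_pow] at h2
    simp [p, Polynomial.IsRoot, Nat.card_eq_fintype_card, h2]
  have hcardS : S.card = Nat.card F₁ := by
    rw [← Set.ncard_eq_toFinset_card _ (Set.toFinite (F₁ : Set F)), ← Nat.card_coe_set_eq]
    rfl
  have hle : p.roots.toFinset.card ≤ Nat.card F₁ :=
    ((Multiset.toFinset_card_le _).trans (Polynomial.card_roots' _)).trans
      (le_of_eq (FiniteField.X_pow_card_sub_X_natDegree_eq F h1))
  have heq := Finset.eq_of_subset_of_card_le hSr (by omega)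
  have hxr : x ∈ p.roots.toFinset := by
    rw [Multiset.mem_toFinset, Polynomial.mem_roots hp0]
    simp [p, Polynomial.IsRoot, -Nat.card_eq_fintype_card, hx]
  rw [← heq] at hxr
  exact (Set.Finite.mem_toFinset _).1 hxr

omit [DecidableEq ι] [Fintype F] in
theorem quad_diag (h2 : (2 : F) = 0) {M : ι → ι → F} (hM : ∀ i j, M i j = M j i) (x : ι → F) :
    ∑ i, ∑ j, x i * x j * M i j = ∑ i, x i ^ 2 * M i i := by
  classical
  let A : ι × ι → F := fun p => x p.1 * x p.2 * M p.1 p.2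
  have h1 : ∑ p : ι × ι, (if p.1 = p.2 then 0 else A p) = 0 := by
    refine Finset.sum_involution (fun p _ => p.swap) (fun p _ => ?_) (fun p _ hp hsw => hp ?_)
      (fun p _ => Finset.mem_univ _) (fun p _ => p.swap_swap)
    · by_cases h : p.1 = p.2
      · simp [h]
      · simp only [A, Prod.fst_swap, Prod.snd_swap, if_neg h, if_neg (Ne.symm h)]
        rw [hM p.2 p.1]
        linear_combination (x p.1 * x p.2 * M p.1 p.2) * h2
    · exact if_pos (congrArg Prod.snd hsw)
  have h3 : ∑ i, x i ^ 2 * M i i = ∑ p : ι × ι, (if p.1 = p.2 then A p else 0) := by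
    rw [Fintype.sum_prod_type]
    simp [A, sq]
  have h4 : ∑ i, ∑ j, x i * x j * M i j = ∑ p : ι × ι, A p := by
    rw [Fintype.sum_prod_type]
  rw [h4, h3, ← sub_eq_zero, ← Finset.sum_sub_distrib]
  refine (Finset.sum_congr rfl fun p _ => ?_).trans h1
  split <;> simp

/-- A spanning group of isometries realised over a subfield of prime index gives a compatible rational structure. -/
theorem exists_form_rational [Nonempty ι] {N : Subgroup (GL ι F)} (hspan : algOf N = ⊤)
    (hn2 : 2 ≤ Fintype.card ι) (hodd : Odd (Fintype.card ι)) {q : ℕ} (hF : Fintype.card F = q ^ 2)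
    (hσq : ∀ x, σ x = x ^ q) (hf : IsUnitaryForm σ f) (hfN : FixesForm (matrixSet N) f)
    {F₁ : Subfield F} {r : ℕ} (hr : r.Prime) (hc : Fintype.card F = Nat.card F₁ ^ r) (P : GL ι F)
    (hrat : ∀ s ∈ N, ∀ i j, ((P⁻¹ * s * P : GL ι F) : Matrix ι ι F) i j ∈ F₁) :
    ∃ P' : GL ι F, subfieldSubgroup F₁ P' = subfieldSubgroup F₁ P ∧ IsFormRationalStructure f F₁ 1 P' ∧
      (Odd r ∨ (r = 2 ∧ Odd q)) := by
  classical
  have hs := Unit.sesq hf
  haveI : Fintype F₁ := Fintype.ofFinite _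
  set q1 := Nat.card F₁ with hq1
  let θ : F ≃+* F := (FiniteField.frobeniusAlgEquivOfAlgebraic F₁ F).toRingEquiv
  have hθ : ∀ x, θ x = x ^ q1 := fun x => by
    show FiniteField.frobeniusAlgEquivOfAlgebraic F₁ F x = _
    rw [FiniteField.coe_frobeniusAlgEquivOfAlgebraic, hq1, Nat.card_eq_fintype_card]
  have hθF : ∀ {x}, x ∈ F₁ → θ x = x := fun {x} hx => by
    have h2 := congrArg Subtype.val (FiniteField.pow_card (⟨x, hx⟩ : F₁))
    rw [SubmonoidClass.coe_pow] at h2
    rw [hθ, hq1, Nat.card_eq_fintype_card]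
    exact h2
  have hθF' : ∀ {x}, θ x = x → x ∈ F₁ := fun {x} hx => mem_of_pow_card_eq (by rw [← hθ]; exact hx)
  have hθsymm : ∀ {x}, x ∈ F₁ → θ.symm x = x := fun {x} hx => by
    rw [RingEquiv.symm_apply_eq, hθF hx]
  have hσθ : ∀ x, σ (θ x) = θ (σ x) := fun x => by rw [hθ, hθ, map_pow]
  have hσθ' : ∀ x, θ (σ (θ.symm x)) = σ x := fun x => by rw [← hσθ, RingEquiv.apply_symm_apply]
  have hσF : ∀ {x}, x ∈ F₁ → σ x ∈ F₁ := fun {x} hx => hθF' (by rw [← hσθ, hθF hx])
  -- the Gram matrix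
  let G : ι → ι → F := fun i j =>
    f ((P : Matrix ι ι F) *ᵥ Pi.single i 1) ((P : Matrix ι ι F) *ᵥ Pi.single j 1)
  have hexp : ∀ u v : ι → F, f ((P : Matrix ι ι F) *ᵥ u) ((P : Matrix ι ι F) *ᵥ v) = ∑ i, ∑ j, u i * σ (v j) * G i j := by
    intro u v
    conv_lhs => rw [pi_eq_sum_univ' u, pi_eq_sum_univ' v]
    simp only [Matrix.mulVec_sum, Matrix.mulVec_smul, hs.sum_left, hs.smul_left]
    refine Finset.sum_congr rfl fun i _ => ?_
    rw [hs.sum_right, Finset.mul_sum]
    refine Finset.sum_congr rfl fun j _ => ?_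
    rw [hs.smul_right, show (σ : F →+* F) (v j) = σ (v j) from rfl, mul_assoc]
  let T : (ι → F) → (ι → F) := fun v =>
    (P : Matrix ι ι F) *ᵥ fun k => θ.symm ((((P⁻¹ : GL ι F) : Matrix ι ι F) *ᵥ v) k)
  have hTadd : ∀ x y, T (x + y) = T x + T y := fun x y => by
    simp only [T, Matrix.mulVec_add, Pi.add_apply, map_add]
    rw [← Matrix.mulVec_add]; rfl
  have hTsmul : ∀ (c : F) x, T (c • x) = θ.symm c • T x := fun c x => by
    simp only [T, Matrix.mulVec_smul, Pi.smul_apply, smul_eq_mul, map_mul]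
    rw [← Matrix.mulVec_smul]; rfl
  have hTN : ∀ s ∈ N, ∀ v, T ((s : Matrix ι ι F) *ᵥ v) = (s : Matrix ι ι F) *ᵥ T v := by
    intro s hsN v
    set X : GL ι F := P⁻¹ * s * P with hX
    set w := ((P⁻¹ : GL ι F) : Matrix ι ι F) *ᵥ v with hw
    have h1 : ((P⁻¹ : GL ι F) : Matrix ι ι F) *ᵥ ((s : Matrix ι ι F) *ᵥ v) = (X : Matrix ι ι F) *ᵥ w := by
      rw [hw, hX, Matrix.mulVec_mulVec, Matrix.mulVec_mulVec, ← Units.val_mul, ← Units.val_mul, mul_inv_cancel_right]
    have h2 : (fun k => θ.symm (((X : Matrix ι ι F) *ᵥ w) k)) = (X : Matrix ι ι F) *ᵥ fun k => θ.symm (w k) := by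
      funext k
      simp only [Matrix.mulVec, dotProduct, map_sum, map_mul]
      exact Finset.sum_congr rfl fun a _ => by rw [hθsymm (hrat s hsN k a)]
    show (P : Matrix ι ι F) *ᵥ _ = (s : Matrix ι ι F) *ᵥ ((P : Matrix ι ι F) *ᵥ _)
    rw [h1, h2, hX, Matrix.mulVec_mulVec, Matrix.mulVec_mulVec, ← Units.val_mul, ← Units.val_mul,
      show P * (P⁻¹ * s * P) = s * P by group]
  have hTsurj : Function.Surjective T := fun w =>
    ⟨(P : Matrix ι ι F) *ᵥ fun k => θ ((((P⁻¹ : GL ι F) : Matrix ι ι F) *ᵥ w) k), by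
      simp only [T, gl_inv_mulVec_mulVec, RingEquiv.symm_apply_apply]
      exact gl_mulVec_inv_mulVec P w⟩
  have hTinj : Function.Injective T := Finite.injective_iff_surjective.2 hTsurj
  have hT0 : T 0 = 0 := by
    have := hTsmul 0 0
    rwa [zero_smul, map_zero, zero_smul] at this
  obtain ⟨μ, hμ⟩ := form_unique hspan σ (f := f) (g := fun u v => θ (f (T u) (T v))) hs
    ⟨fun x y v => by rw [hTadd, hs.add_left, map_add],
      fun c x v => by rw [hTsmul, hs.smul_left, map_mul, RingEquiv.apply_symm_apply],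
      fun v x y => by rw [hTadd, hs.add_right, map_add],
      fun c v x => by
        rw [hTsmul, hs.smul_right, map_mul]
        show θ (σ (θ.symm c)) * _ = σ c * _
        rw [hσθ']⟩
    hf.nondegenerate
    (fun v hv => by
      obtain ⟨⟨x, hx⟩, ⟨y, hy⟩⟩ := hf.nondegenerate (T v) (fun h => hv (hTinj (h.trans hT0.symm)))
      obtain ⟨x', rfl⟩ := hTsurj x
      obtain ⟨y', rfl⟩ := hTsurj y
      exact ⟨⟨x', by simpa using hx⟩, ⟨y', by simpa using hy⟩⟩)
    hfN (by
      rintro _ ⟨s, hsN, rfl⟩ u v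
      show θ _ = θ _
      rw [hTN s hsN, hTN s hsN, hfN _ ⟨s, hsN, rfl⟩])
  have hGθ : ∀ i j, θ (G i j) = (μ : F) * G i j := by
    intro i j
    have hTe : ∀ i, T ((P : Matrix ι ι F) *ᵥ Pi.single i 1) = (P : Matrix ι ι F) *ᵥ Pi.single i 1 := fun i => by
      simp only [T, gl_inv_mulVec_mulVec]
      congr 1
      funext k
      by_cases hk : k = i <;> simp [hk]
    have := hμ ((P : Matrix ι ι F) *ᵥ Pi.single i 1) ((P : Matrix ι ι F) *ᵥ Pi.single j 1)
    rw [hTe, hTe] at this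
    exact this
  have hdeg : ∀ v : ι → F, v ≠ 0 → ∃ u, f ((P : Matrix ι ι F) *ᵥ u) ((P : Matrix ι ι F) *ᵥ v) ≠ 0 := by
    intro v hv
    obtain ⟨x, hx⟩ := (hf.nondegenerate _ (gl_mulVec_ne_zero P hv)).1
    exact ⟨((P⁻¹ : GL ι F) : Matrix ι ι F) *ᵥ x, by rwa [gl_mulVec_inv_mulVec]⟩
  obtain ⟨a, b, hab⟩ : ∃ a b, G a b ≠ 0 := by
    by_contra h
    push Not at h
    obtain ⟨v, hv⟩ := exists_ne (0 : ι → F)
    obtain ⟨u, hu⟩ := hdeg v hv
    exact hu (by simp [hexp, h])
  set ζ := G a b with hζ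
  have hΦ : ∀ i j, G i j / ζ ∈ F₁ := fun i j => hθF' (by
    rw [map_div₀, hGθ, hGθ, mul_div_mul_left _ _ μ.ne_zero])
  have hherm : ∀ i j, σ (G i j) = G j i := fun i j => Unit.conj_form hf _ _
  set ρ := σ ζ / ζ with hρ
  have hρF : ρ ∈ F₁ := by rw [hρ, hζ, hherm]; exact hΦ b a
  have hρρ : ρ * σ ρ = 1 := by
    rw [hρ, map_div₀, hf.involutive, div_mul_div_comm, mul_comm, div_self]
    exact mul_ne_zero hab ((map_ne_zero σ).2 hab)
  have hσζ : σ ζ = ρ * ζ := by rw [hρ, div_mul_cancel₀ _ hab]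
  obtain ⟨c, hcF, hc0, hcσ⟩ : ∃ c ∈ F₁, c ≠ 0 ∧ σ (ζ * c) = ζ * c := by
    by_cases he : ∃ e ∈ F₁, e + ρ * σ e ≠ 0
    · obtain ⟨e, heF, he0⟩ := he
      refine ⟨e + ρ * σ e, F₁.add_mem heF (F₁.mul_mem hρF (hσF heF)), he0, ?_⟩
      rw [map_mul, map_add, map_mul, hf.involutive, hσζ]
      linear_combination (ζ * e) * hρρ
    push Not at he
    have hρ1 : ρ = -1 := by
      have := he 1 F₁.one_mem
      rw [map_one, mul_one] at this
      exact eq_neg_of_add_eq_zero_right this
    by_cases h2 : (2 : F) = 0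
    · refine ⟨1, F₁.one_mem, one_ne_zero, ?_⟩
      rw [mul_one, hσζ, hρ1]
      linear_combination (-ζ) * h2
    exfalso
    have hσfix : ∀ x ∈ F₁, σ x = x := fun x hx => by
      have := he x hx
      rw [hρ1] at this
      linear_combination -this
    have hskew : ∀ i j, G j i = -G i j := fun i j => by
      rw [← hherm i j, ← div_mul_cancel₀ (G i j) hab, map_mul, hσfix _ (hΦ i j), hσζ, hρ1]
      ring
    let M : Matrix ι ι F := Matrix.of G
    have hdet : M.det = 0 := by
      have h1 : Mᵀ = -M := by ext i j; simp [M, hskew i j]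
      have h3 := congrArg Matrix.det h1
      rw [Matrix.det_transpose, Matrix.det_neg, hodd.neg_one_pow] at h3
      have h4 : (2 : F) * M.det = 0 := by linear_combination h3
      exact (mul_eq_zero.1 h4).resolve_left h2
    obtain ⟨w, hw0, hw⟩ := Matrix.exists_mulVec_eq_zero_iff.2 hdet
    obtain ⟨u, hu⟩ := hdeg (fun k => σ (w k)) (fun h => hw0 (funext fun k => by
      have := congrFun h k
      simpa using this))
    apply hu
    rw [hexp]
    refine Finset.sum_eq_zero fun i _ => ?_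
    have h5 : ∑ j, G i j * w j = 0 := congrFun hw i
    simp only [hf.involutive]
    rw [show (∑ j, u i * w j * G i j) = u i * ∑ j, G i j * w j by
      rw [Finset.mul_sum]; exact Finset.sum_congr rfl fun j _ => by ring, h5, mul_zero]
  obtain ⟨l, hl⟩ := Unit.exists_norm hf.ne_refl hf.involutive
    (show σ (ζ * c)⁻¹ = (ζ * c)⁻¹ by rw [map_inv₀, hcσ])
  have hl0 : l ≠ 0 := by
    rintro rfl
    rw [zero_mul, eq_comm, inv_eq_zero] at hl
    exact mul_ne_zero hab hc0 hl
  let S : GL ι F := Units.map (Matrix.scalar ι : F →+* Matrix ι ι F).toMonoidHom (Units.mk0 l hl0)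
  have hS : S ∈ scalars ι F := ⟨_, rfl⟩
  let M : ι → ι → F := fun i j => l * σ l * G i j
  have hMF : ∀ i j, M i j ∈ F₁ := fun i j => by
    show l * σ l * G i j ∈ F₁
    rw [hl, mul_inv, mul_comm ζ⁻¹, mul_assoc, inv_mul_eq_div (a := ζ)]
    exact F₁.mul_mem (F₁.inv_mem hcF) (hΦ i j)
  have hPS : ∀ u, ((P * S : GL ι F) : Matrix ι ι F) *ᵥ u = l • ((P : Matrix ι ι F) *ᵥ u) := fun u => by
    rw [← scalars_comm hS, Units.val_mul, ← Matrix.mulVec_mulVec]
    show Matrix.scalar ι l *ᵥ _ = _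
    rw [Matrix.scalar_apply, ← Matrix.smul_one_eq_diagonal, Matrix.smul_mulVec, Matrix.one_mulVec]
  have hexp' : ∀ u v : ι → F, f (((P * S : GL ι F) : Matrix ι ι F) *ᵥ u) (((P * S : GL ι F) : Matrix ι ι F) *ᵥ v) =
      ∑ i, ∑ j, u i * σ (v j) * M i j := by
    intro u v
    rw [hPS, hPS, hs.smul_left, hs.smul_right, show (σ : F →+* F) l = σ l from rfl, hexp, ← mul_assoc, Finset.mul_sum]
    refine Finset.sum_congr rfl fun i _ => ?_
    rw [Finset.mul_sum]
    exact Finset.sum_congr rfl fun j _ => by simp only [M]; ring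
  refine ⟨P * S, ?_, ?_, ?_⟩
  · have hconj : (MulAut.conj (P * S)).toMonoidHom = (MulAut.conj P).toMonoidHom := by
      refine MonoidHom.ext fun y => ?_
      show P * S * y * (P * S)⁻¹ = P * y * P⁻¹
      rw [mul_assoc P S y, scalars_comm hS y]
      group
    simp only [subfieldSubgroup, hconj]
  · intro u v hu hv
    rw [one_mul, hexp']
    exact F₁.sum_mem fun i _ => F₁.sum_mem fun j _ => F₁.mul_mem (F₁.mul_mem (hu i) (hσF (hv j))) (hMF i j)
  · rcases hr.eq_two_or_odd' with rfl | ho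
    swap
    · exact Or.inl ho
    refine Or.inr ⟨rfl, ?_⟩
    by_contra hq
    have h2 : (2 : F) = 0 := two_eq_zero_of_not_odd (by rw [hF]; exact fun h => hq ((Nat.odd_pow_iff two_ne_zero).1 h))
    have hqq : q1 = q := Nat.pow_left_injective two_ne_zero (hc.symm.trans hF)
    have hfix : ∀ x ∈ F₁, σ x = x := fun x hx => by rw [hσq, ← hqq, ← hθ, hθF hx]
    have hsymm : ∀ i j, M i j = M j i := fun i j => by
      rw [← hfix _ (hMF i j)]
      simp only [M, map_mul, hherm, hf.involutive]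
      ring
    haveI : CharP F 2 := CharTwo.of_one_ne_zero_of_two_eq_zero one_ne_zero h2
    haveI : Fact (Nat.Prime 2) := ⟨Nat.prime_two⟩
    have hsq : ∀ x : F, IsSquare x := fun x => FiniteField.isSquare_of_char_two (ringChar.eq F 2) x
    choose d hd using fun i => hsq (M i i)
    have hdX : ∀ s ∈ N, d ᵥ* ((P⁻¹ * s * P : GL ι F) : Matrix ι ι F) = d := by
      intro s hsN
      funext k
      set X := ((P⁻¹ * s * P : GL ι F) : Matrix ι ι F) with hX
      have h6 : ∀ u : ι → F, (∀ i, u i ∈ F₁) →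
          f (((P * S : GL ι F) : Matrix ι ι F) *ᵥ u) (((P * S : GL ι F) : Matrix ι ι F) *ᵥ u) =
            ∑ i, u i ^ 2 * M i i := by
        intro u hu
        rw [hexp', ← quad_diag h2 hsymm]
        exact Finset.sum_congr rfl fun i _ => Finset.sum_congr rfl fun j _ => by rw [hfix _ (hu j)]
      have hsing : ∀ i, (Pi.single k (1 : F) : ι → F) i ∈ F₁ := fun i => by
        by_cases hi : i = k <;> simp [hi, F₁.one_mem, F₁.zero_mem]
      have hXk : ∀ i, (X *ᵥ Pi.single k 1) i = X i k := fun i => by simp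
      have h7 := hfN _ ⟨s, hsN, rfl⟩ (((P * S : GL ι F) : Matrix ι ι F) *ᵥ Pi.single k 1)
        (((P * S : GL ι F) : Matrix ι ι F) *ᵥ Pi.single k 1)
      have h8 : (s : Matrix ι ι F) *ᵥ (((P * S : GL ι F) : Matrix ι ι F) *ᵥ Pi.single k 1) =
          ((P * S : GL ι F) : Matrix ι ι F) *ᵥ (X *ᵥ Pi.single k 1) := by
        rw [hX, Matrix.mulVec_mulVec, Matrix.mulVec_mulVec, ← Units.val_mul, ← Units.val_mul,
          mul_assoc P S (P⁻¹ * s * P), scalars_comm hS (P⁻¹ * s * P)]
        simp [mul_assoc]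
      rw [h8, h6 _ hsing, h6 _ (fun i => by rw [hXk]; exact hrat s hsN i k)] at h7
      have h9 : ((d ᵥ* X) k) ^ 2 = d k ^ 2 := by
        simp only [Matrix.vecMul, dotProduct]
        rw [sum_pow_char 2]
        simp only [hXk] at h7
        simp only [mul_pow, sq (d _), ← hd]
        rw [← Finset.sum_congr rfl (fun i _ => mul_comm (X i k ^ 2) (M i i)), h7]
        simp [Pi.single_apply]
      exact frobenius_inj F 2 h9
    let D : (ι → F) →ₗ[F] F :=
      { toFun := fun v => d ⬝ᵥ (((P⁻¹ : GL ι F) : Matrix ι ι F) *ᵥ v)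
        map_add' := fun x y => by simp [Matrix.mulVec_add, dotProduct_add]
        map_smul' := fun x y => by simp [Matrix.mulVec_smul, dotProduct_smul] }
    have hd0 : ∀ i, d i = 0 := by
      rcases irreducible_of_algOf_eq_top hspan (LinearMap.ker D) (by
        rintro _ ⟨s, hsN, rfl⟩ _ ⟨v, hv, rfl⟩
        rw [LinearMap.mem_ker, Matrix.toLin'_apply]
        show d ⬝ᵥ _ = 0
        rw [show ((P⁻¹ : GL ι F) : Matrix ι ι F) *ᵥ ((s : Matrix ι ι F) *ᵥ v) =
          ((P⁻¹ * s * P : GL ι F) : Matrix ι ι F) *ᵥ (((P⁻¹ : GL ι F) : Matrix ι ι F) *ᵥ v) by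
          rw [Matrix.mulVec_mulVec, Matrix.mulVec_mulVec, ← Units.val_mul, ← Units.val_mul, mul_inv_cancel_right],
          Matrix.dotProduct_mulVec, hdX s hsN]
        exact hv) with h | h
      · exfalso
        obtain ⟨y, hy, hdy⟩ := Unit.exists_orth_ne_zero hn2 d
        have : (P : Matrix ι ι F) *ᵥ y ∈ LinearMap.ker D := by
          rw [LinearMap.mem_ker]
          show d ⬝ᵥ _ = 0
          rw [gl_inv_mulVec_mulVec]; exact hdy
        rw [h, Submodule.mem_bot] at this
        exact gl_mulVec_ne_zero P hy this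
      · intro i
        have : (P : Matrix ι ι F) *ᵥ Pi.single i 1 ∈ LinearMap.ker D := h ▸ Submodule.mem_top
        rw [LinearMap.mem_ker] at this
        change d ⬝ᵥ _ = 0 at this
        rw [gl_inv_mulVec_mulVec, dotProduct_single, mul_one] at this
        exact this
    let B : (ι → F) → (ι → F) → F := fun u v => ∑ i, ∑ j, u i * v j * M i j
    have halt : ∀ v, B v v = 0 := fun v => by
      show (∑ i, ∑ j, v i * v j * M i j) = 0
      rw [quad_diag h2 hsymm]
      simp [hd, hd0]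
    have hskew : ∀ u v, B u v = - B v u := fun u v => by
      have hneg : ∀ x : F, -x = x := fun x => by linear_combination (-x) * h2
      rw [hneg]
      show (∑ i, ∑ j, u i * v j * M i j) = ∑ i, ∑ j, v i * u j * M i j
      rw [Finset.sum_comm]
      exact Finset.sum_congr rfl fun i _ => Finset.sum_congr rfl fun j _ => by rw [hsymm j i]; ring
    have hBl : ∀ v : ι → F, v ≠ 0 → ∃ x, B x v ≠ 0 := by
      intro v hv
      obtain ⟨x, hx⟩ := (hf.nondegenerate _ (gl_mulVec_ne_zero (P * S) (show (fun k => σ (v k)) ≠ 0 from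
        fun h => hv (funext fun k => by simpa using congrFun h k)))).1
      refine ⟨(((P * S)⁻¹ : GL ι F) : Matrix ι ι F) *ᵥ x, fun h0 => hx ?_⟩
      rw [← gl_mulVec_inv_mulVec (P * S) x, hexp']
      simp only [hf.involutive]
      exact h0
    refine not_symplectic_of_odd (f := B) hodd ⟨⟨?_, ?_, ?_, ?_⟩, hskew, halt, fun v hv => ⟨hBl v hv, ?_⟩⟩
    · intro x y v; simp [B, add_mul, Finset.sum_add_distrib]
    · intro e x v; simp [B, Finset.mul_sum, mul_assoc]
    · intro v x y; simp [B, mul_add, add_mul, Finset.sum_add_distrib]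
    · intro e v x
      simp only [B, Pi.smul_apply, smul_eq_mul, Finset.mul_sum]
      exact Finset.sum_congr rfl fun i _ => Finset.sum_congr rfl fun j _ => by ring
    · obtain ⟨x, hx⟩ := hBl v hv
      exact ⟨x, fun h0 => hx (by rw [hskew, h0, neg_zero])⟩

end CfsgLib.Geo.Asch
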