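import Mathlib
import Cfsg.Prelude.Def_GeometricClasses
import Cfsg.Agent.Lib.Geo.AschFormDecomp
import Cfsg.Agent.Lib.Geo.AschFormRational

/-! Commutative adjoint-closed normalised subalgebras. -/

set_option autoImplicit false
set_option linter.unusedSectionVars false

namespace CfsgLib.Geo.Asch

open Cfsg Cfsg.Geo Matrix CfsgLib.GeomClasses
open scoped MatrixGroups

variable {ι : Type} [Fintype ι] [DecidableEq ι] {F : Type*} [Field F]

/-- A commutative normalised subalgebra is a field or comes from a stabilised decomposition by atomic idempotents. -/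
theorem field_or_idem_decomposition [Fintype F] [Nonempty ι] {G : Subgroup (GL ι F)}
    (hirr : ActsIrreducibly (matrixSet G))
    {R : Subalgebra F (Matrix ι ι F)} (hR : Normalized G R) (hc : ∀ x ∈ R, ∀ y ∈ R, x * y = y * x) :
    IsFieldSubalgebra (Module.finrank F R) R ∨
    ∃ (t m : ℕ) (D : Fin t → Submodule F (ι → F)) (E : Fin t → Matrix ι ι F),
      IsMDecomposition m D ∧ G ≤ decompositionStabilizer D ∧ (∀ i, E i ∈ R) ∧ (∀ i, E i * E i = E i) ∧
      (∀ i, ∀ y ∈ R, y * y = y → E i * y = 0 ∨ E i * y = E i) ∧ Function.Injective E ∧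
      ∀ i, D i = LinearMap.range (Matrix.toLin' (E i)) := by
  classical
  letI : CommRing R := { (inferInstance : Ring R) with mul_comm := fun x y => Subtype.ext (hc _ x.2 _ y.2) }
  haveI : IsArtinianRing R := inferInstance
  by_cases hidem : ∀ f : R, f * f = f → f = 0 ∨ f = 1
  swap
  · push Not at hidem
    obtain ⟨f, hff, h0⟩ := hidem
    let rk : R → ℕ := fun e => Module.finrank F (LinearMap.range (Matrix.toLin' (e : Matrix ι ι F)))
    haveI : Fintype R := Fintype.ofFinite _
    let S : Finset R := Finset.univ.filter (fun e => e * e = e ∧ e ≠ 0)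
    obtain ⟨e, he, hmin⟩ := S.exists_min_image rk ⟨f, by simp [S, hff, h0.1]⟩
    simp only [S, Finset.mem_filter, Finset.mem_univ, true_and] at he
    obtain ⟨hee, he0⟩ := he
    have hatom : ∀ y : R, y * y = y → e * y = 0 ∨ e * y = e := by
      intro y hyy
      by_cases h : e * y = 0
      · exact Or.inl h
      refine Or.inr ?_
      have hidem' : (e * y) * (e * y) = e * y := by rw [mul_mul_mul_comm, hee, hyy]
      have hle : LinearMap.range (Matrix.toLin' ((e * y : R) : Matrix ι ι F)) ≤
          LinearMap.range (Matrix.toLin' (e : Matrix ι ι F)) := by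
        rw [MulMemClass.coe_mul, Matrix.toLin'_mul]; exact LinearMap.range_comp_le_range _ _
      have heq := Submodule.eq_of_le_of_finrank_le hle (hmin _ (by simp [S, hidem', h]))
      apply Subtype.ext
      refine Matrix.ext_of_mulVec_single fun i => ?_
      have : (e : Matrix ι ι F) *ᵥ Pi.single i 1 ∈ LinearMap.range (Matrix.toLin' ((e * y : R) : Matrix ι ι F)) :=
        heq ▸ ⟨Pi.single i 1, by rw [Matrix.toLin'_apply]⟩
      obtain ⟨w, hw⟩ := this
      rw [Matrix.toLin'_apply] at hw
      have h2 := congrArg (fun u => (y : Matrix ι ι F) *ᵥ u) hw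
      simp only [Matrix.mulVec_mulVec, ← MulMemClass.coe_mul] at h2
      rw [show y * (e * y) = e * y by rw [mul_left_comm, hyy], hw, mul_comm y e] at h2
      exact h2.symm
    let cj : ∀ g, g ∈ G → R → R := fun g hg z => ⟨conjHom g z, hR g hg _ z.2⟩
    have hcj_mul : ∀ g (hg : g ∈ G) a b, cj g hg (a * b) = cj g hg a * cj g hg b :=
      fun g hg a b => Subtype.ext (map_mul _ _ _)
    have hcj_cancel : ∀ g (hg : g ∈ G) a, cj g hg (cj g⁻¹ (inv_mem hg) a) = a :=
      fun g hg a => Subtype.ext (conjHom_cancel _ _)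
    let O : Finset R := Finset.univ.filter (fun e' => ∃ g, ∃ hg : g ∈ G, cj g hg e = e')
    have hO : ∀ e' ∈ O, ∃ g, ∃ hg : g ∈ G, cj g hg e = e' := fun e' h => (Finset.mem_filter.1 h).2
    have hOidem : ∀ e' ∈ O, e' * e' = e' := by
      intro e' h
      obtain ⟨g, hg, rfl⟩ := hO e' h
      rw [← hcj_mul g hg, hee]
    have hatom' : ∀ e' ∈ O, ∀ y : R, y * y = y → e' * y = 0 ∨ e' * y = e' := by
      intro e' h y hyy
      obtain ⟨g, hg, rfl⟩ := hO e' h
      rcases hatom (cj g⁻¹ (inv_mem hg) y) (by rw [← hcj_mul g⁻¹ (inv_mem hg), hyy]) with h | h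
      · left
        have := congrArg (cj g hg) h
        rw [hcj_mul g hg, hcj_cancel g hg] at this
        rw [this]; exact Subtype.ext (map_zero _)
      · right
        have := congrArg (cj g hg) h
        rwa [hcj_mul g hg, hcj_cancel g hg] at this
    have horth : ∀ a ∈ O, ∀ b ∈ O, a ≠ b → a * b = 0 := by
      intro a ha b hb hne
      rcases hatom' a ha b (hOidem b hb) with h | h
      · exact h
      rcases hatom' b hb a (hOidem a ha) with h' | h'
      · rwa [mul_comm] at h'
      · rw [mul_comm] at h'; exact absurd (h.symm.trans h') hne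
    let t := O.card
    let enum : Fin t ≃ O := O.equivFin.symm
    let D : Fin t → Submodule F (ι → F) := fun i => LinearMap.range (Matrix.toLin' ((enum i : R) : Matrix ι ι F))
    have hmap : ∀ g (hg : g ∈ G) (e' : R),
        (LinearMap.range (Matrix.toLin' (e' : Matrix ι ι F))).map (Matrix.toLin' (g : Matrix ι ι F)) =
        LinearMap.range (Matrix.toLin' ((cj g hg e' : R) : Matrix ι ι F)) := by
      intro g hg e'
      apply le_antisymm
      · rintro _ ⟨_, ⟨w, rfl⟩, rfl⟩
        exact ⟨(g : Matrix ι ι F) *ᵥ w,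
          by simp [cj, conjHom_apply, Matrix.toLin'_apply, Matrix.mulVec_mulVec, mul_assoc]⟩
      · rintro _ ⟨w, rfl⟩
        exact ⟨_, ⟨((g⁻¹ : GL ι F) : Matrix ι ι F) *ᵥ w, rfl⟩,
          by simp [cj, conjHom_apply, Matrix.toLin'_apply, Matrix.mulVec_mulVec, mul_assoc]⟩
    have hconjO : ∀ g (hg : g ∈ G), ∀ e' ∈ O, cj g hg e' ∈ O := by
      intro g hg e' h
      obtain ⟨k, hk, rfl⟩ := hO e' h
      exact Finset.mem_filter.2 ⟨Finset.mem_univ _, g * k, mul_mem hg hk, Subtype.ext (conjHom_mul _ _ _)⟩
    have heO : e ∈ O := Finset.mem_filter.2 ⟨Finset.mem_univ _, 1, one_mem _, Subtype.ext (by simp [cj, conjHom_apply])⟩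
    have hind : iSupIndep D := by
      rw [iSupIndep_def]
      intro i
      rw [Submodule.disjoint_def]
      intro v hv hv'
      have hk : (⨆ j, ⨆ (_ : j ≠ i), D j) ≤ LinearMap.ker (Matrix.toLin' ((enum i : R) : Matrix ι ι F)) := by
        refine iSup₂_le fun j hj => ?_
        rintro _ ⟨w, rfl⟩
        rw [LinearMap.mem_ker, Matrix.toLin'_apply, Matrix.toLin'_apply, Matrix.mulVec_mulVec, ← MulMemClass.coe_mul,
          horth _ (enum i).2 _ (enum j).2 (fun h => hj (enum.injective (Subtype.ext h.symm))), ZeroMemClass.coe_zero,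
          Matrix.zero_mulVec]
      have h1 := hk hv'
      obtain ⟨w, rfl⟩ := hv
      rw [LinearMap.mem_ker, Matrix.toLin'_apply, Matrix.toLin'_apply, Matrix.mulVec_mulVec, ← MulMemClass.coe_mul,
        hOidem _ (enum i).2] at h1
      rw [Matrix.toLin'_apply]
      exact h1
    have hge : ∀ g (hg : g ∈ G) i, ∃ j, (enum j : R) = cj g hg (enum i : R) := fun g hg i =>
      ⟨enum.symm ⟨_, hconjO g hg _ (enum i).2⟩, by rw [Equiv.apply_symm_apply]⟩
    have hne0 : ∃ v, (e : Matrix ι ι F) *ᵥ v ≠ 0 := by
      by_contra hall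
      push Not at hall
      exact he0 (Subtype.ext (Matrix.ext_of_mulVec_single fun i => by rw [hall, ZeroMemClass.coe_zero, Matrix.zero_mulVec]))
    have htop : iSup D = ⊤ := by
      refine eq_top_of_invariant hirr _ (fun g hg => ?_) ?_
      · rw [Submodule.map_iSup]
        refine iSup_le fun i => ?_
        obtain ⟨j, hj⟩ := hge g hg i
        rw [show (D i).map (Matrix.toLin' (g : Matrix ι ι F)) = D j by
          show _ = LinearMap.range _; rw [hj]; exact hmap g hg _]
        exact le_iSup D j
      · obtain ⟨v, hv⟩ := hne0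
        intro hb
        have : (e : Matrix ι ι F) *ᵥ v ∈ iSup D := by
          refine Submodule.mem_iSup_of_mem (enum.symm ⟨e, heO⟩) ?_
          show _ ∈ LinearMap.range _
          rw [Equiv.apply_symm_apply]
          exact ⟨v, Matrix.toLin'_apply _ v⟩
        rw [hb, Submodule.mem_bot] at this
        exact hv this
    have hrk : ∀ i, Module.finrank F (D i) = rk e := by
      intro i
      obtain ⟨g, hg, hge'⟩ := hO _ (enum i).2
      show Module.finrank F (LinearMap.range (Matrix.toLin' ((enum i : R) : Matrix ι ι F))) = _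
      rw [← hge', ← hmap g hg e]
      exact (LinearEquiv.finrank_eq (Submodule.equivMapOfInjective _ (toLin'_unit_injective g) _)).symm
    by_cases ht : 2 ≤ t
    · refine Or.inr ⟨t, rk e, D, fun i => ((enum i : R) : Matrix ι ι F), ⟨ht, ?_, hrk, hind, htop⟩, fun g hg => ?_,
        fun i => (enum i : R).2, fun i => congrArg Subtype.val (hOidem _ (enum i).2), fun i y hy hyy => ?_,
        fun i j h => enum.injective (Subtype.ext (Subtype.ext h)), fun i => rfl⟩
      · obtain ⟨v, hv⟩ := hne0
        refine Module.finrank_pos_iff_exists_ne_zero.2 ⟨⟨(e : Matrix ι ι F) *ᵥ v, v, Matrix.toLin'_apply _ v⟩, ?_⟩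
        exact fun h => hv (congrArg Subtype.val h)
      · let σ : Fin t → Fin t := fun i => (hge g hg i).choose
        have hσ : ∀ i, (enum (σ i) : R) = cj g hg (enum i : R) := fun i => (hge g hg i).choose_spec
        have hinj : Function.Injective σ := by
          intro a b hab
          have h := (hσ a).symm.trans ((congrArg (fun z => (enum z : R)) hab).trans (hσ b))
          have h2 := congrArg (fun z : R => conjHom g⁻¹ (z : Matrix ι ι F)) h
          simp only [cj, conjHom_inv_cancel] at h2
          exact enum.injective (Subtype.ext (Subtype.ext h2))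
        refine ⟨Equiv.ofBijective σ ⟨hinj, Finite.injective_iff_surjective.1 hinj⟩, fun i => ?_⟩
        show _ = LinearMap.range (Matrix.toLin' ((enum (σ i) : R) : Matrix ι ι F))
        rw [hσ i]
        exact hmap g hg _
      · exact (hatom' _ (enum i).2 ⟨y, hy⟩ (Subtype.ext hyy)).imp (congrArg Subtype.val) (congrArg Subtype.val)
    · have ht1 : ∀ i, (enum i : R) = e := fun i =>
        Finset.card_le_one.1 (show O.card ≤ 1 by omega) _ (enum i).2 _ heO
      have hr : LinearMap.range (Matrix.toLin' (e : Matrix ι ι F)) = ⊤ := by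
        refine top_le_iff.1 (htop ▸ iSup_le fun i => ?_)
        show LinearMap.range _ ≤ _
        rw [ht1 i]
      have hrkf := hmin f (by simp [S, hff, h0.1])
      simp only [rk] at hrkf
      rw [hr, finrank_top] at hrkf
      have : LinearMap.range (Matrix.toLin' (f : Matrix ι ι F)) = ⊤ :=
        Submodule.eq_top_of_finrank_eq (le_antisymm (Submodule.finrank_le _) hrkf)
      exfalso
      apply h0.2
      apply Subtype.ext
      refine Matrix.ext_of_mulVec_single fun i => ?_
      obtain ⟨w, hw⟩ : Pi.single i 1 ∈ LinearMap.range (Matrix.toLin' (f : Matrix ι ι F)) := this ▸ Submodule.mem_top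
      rw [Matrix.toLin'_apply] at hw
      rw [OneMemClass.coe_one, Matrix.one_mulVec, ← hw, Matrix.mulVec_mulVec, ← MulMemClass.coe_mul, hff]
  refine Or.inl ⟨hc, ?_, rfl⟩
  have hJ : Ring.jacobson R = ⊥ := jacobson_eq_bot hirr hR
  haveI : IsSemisimpleRing R := IsArtinianRing.isSemisimpleRing_iff_jacobson.2 hJ
  haveI : Nontrivial R := ⟨⟨0, 1, fun h => zero_ne_one (α := Matrix ι ι F) (congrArg Subtype.val h)⟩⟩
  have hf : IsField R := by
    haveI : IsLocalRing R := by
      refine IsLocalRing.of_isUnit_or_isUnit_one_sub_self fun x => ?_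
      obtain ⟨k, hk, hkk⟩ : ∃ k, 0 < k ∧ x ^ k * x ^ k = x ^ k := by
        obtain ⟨i, j, hij, h⟩ := Finite.exists_ne_map_eq_of_infinite (fun m : ℕ => x ^ m)
        wlog hlt : i < j generalizing i j
        · exact this j i hij.symm h.symm (lt_of_le_of_ne (not_lt.1 hlt) hij.symm)
        obtain ⟨d, rfl⟩ : ∃ d, j = i + d := ⟨j - i, by omega⟩
        have he : x ^ i = x ^ (i + d) := h
        have hper : ∀ k, i ≤ k → ∀ m, x ^ (k + d * m) = x ^ k := by
          intro k hk m
          induction m with
          | zero => simp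
          | succ m ih =>
            rw [show k + d * (m + 1) = (i + d) + (k - i + d * m) by rw [Nat.mul_succ]; omega, pow_add, ← he, ← pow_add,
              show i + (k - i + d * m) = k + d * m by omega, ih]
        refine ⟨d * (i + 1), Nat.mul_pos (by omega) (Nat.succ_pos i), ?_⟩
        rw [← pow_add]
        exact hper _ (le_trans (Nat.le_succ i) (Nat.le_mul_of_pos_left _ (by omega))) _
      rcases hidem (x ^ k) hkk with h | h
      · exact Or.inr (IsNilpotent.isUnit_one_sub ⟨k, h⟩)
      · exact Or.inl (IsUnit.of_pow_eq_one h (by omega))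
    haveI : IsReduced R := by
      refine ⟨fun x hx => ?_⟩
      have hxm : x ∈ (⊥ : Ideal R).jacobson := by
        rw [IsArtinianRing.jacobson_eq_radical]
        exact hx
      rw [Ideal.jacobson_bot, hJ] at hxm
      exact (Submodule.mem_bot R).1 hxm
    exact IsArtinianRing.isField_of_isReduced_of_isLocalRing R
  intro x hx hx0
  obtain ⟨y, hy⟩ := hf.mul_inv_cancel (a := (⟨x, hx⟩ : R)) (fun h => hx0 (congrArg Subtype.val h))
  exact ⟨y, y.2, congrArg Subtype.val hy⟩

/-- A normalised field subalgebra contains a normalised one whose degree is the least prime divisor. -/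
theorem exists_minFac_subfield [Fintype F] [Nonempty ι] {G : Subgroup (GL ι F)} {r : ℕ} (hr1 : 1 < r)
    {K : Subalgebra F (Matrix ι ι F)} (hK : IsFieldSubalgebra r K) (hG : Normalized G K) :
    ∃ S : Subalgebra F (Matrix ι ι F), IsFieldSubalgebra (Nat.minFac r) S ∧ Normalized G S ∧ S ≤ K := by
  classical
  letI : Field K := FieldTransvection.fieldOf hK
  haveI : Finite K := inferInstance
  haveI : FiniteDimensional F K := inferInstance
  haveI : IsGalois F K := GaloisField.instIsGaloisOfFinite
  have hGc : Nat.card (K ≃ₐ[F] K) = r := by rw [IsGalois.card_aut_eq_finrank, hK.finrank_eq]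
  obtain ⟨φ, hφ⟩ := IsCyclic.exists_generator (α := K ≃ₐ[F] K)
  have hord : orderOf φ = r := by rw [orderOf_eq_card_of_forall_mem_zpowers hφ, hGc]
  have hp := Nat.minFac_prime (show r ≠ 1 by omega)
  have hdvd := Nat.minFac_dvd r
  set σ := φ ^ Nat.minFac r with hσdef
  have hσ : orderOf σ = r / Nat.minFac r := by
    rw [hσdef, orderOf_pow_of_dvd hp.ne_zero (hord.symm ▸ hdvd), hord]
  set E : IntermediateField F K := IntermediateField.fixedField (Subgroup.zpowers σ) with hE
  have hmul := Module.finrank_mul_finrank F E K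
  rw [show Module.finrank E K = r / Nat.minFac r by
    rw [hE, IntermediateField.finrank_fixedField_eq_card, Nat.card_zpowers, hσ], hK.finrank_eq] at hmul
  have hEs : Module.finrank F E = Nat.minFac r := by
    have hpos : 0 < r / Nat.minFac r := Nat.div_pos (Nat.le_of_dvd (by omega) hdvd) hp.pos
    have h2 : Nat.minFac r * (r / Nat.minFac r) = r := Nat.mul_div_cancel' hdvd
    exact Nat.eq_of_mul_eq_mul_right hpos (hmul.trans h2.symm)
  set S : Subalgebra F (Matrix ι ι F) := E.toSubalgebra.map K.val with hSdef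
  have hmemS : ∀ {a}, a ∈ S ↔ ∃ e : K, e ∈ E ∧ (e : Matrix ι ι F) = a := by
    intro a; simp [hSdef, Subalgebra.mem_map]
  have hfix : ∀ e : K, e ∈ E ↔ σ e = e := by
    intro e
    rw [hE, IntermediateField.mem_fixedField_iff]
    refine ⟨fun h => h σ (Subgroup.mem_zpowers σ), fun h f hf => ?_⟩
    obtain ⟨i, rfl⟩ := Subgroup.mem_zpowers_iff.1 hf
    have : σ ∈ MulAction.stabilizer (K ≃ₐ[F] K) e := h
    exact Subgroup.zpow_mem _ this i
  have hSfin : Module.finrank F S = Nat.minFac r :=
    ((E.toSubalgebra.equivMapOfInjective K.val Subtype.val_injective).toLinearEquiv.finrank_eq).symm.trans hEs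
  refine ⟨S, ⟨?_, ?_, hSfin⟩, ?_, fun a ha => by obtain ⟨e, -, rfl⟩ := hmemS.1 ha; exact e.2⟩
  · intro a ha b hb
    obtain ⟨e, -, rfl⟩ := hmemS.1 ha
    obtain ⟨f, -, rfl⟩ := hmemS.1 hb
    exact hK.comm _ e.2 _ f.2
  · intro a ha h0
    obtain ⟨e, he, rfl⟩ := hmemS.1 ha
    obtain ⟨y, hy, hey⟩ := hK.inv _ e.2 h0
    refine ⟨y, hmemS.2 ⟨⟨y, hy⟩, ?_, rfl⟩, hey⟩
    have h1 : e * ⟨y, hy⟩ = 1 := Subtype.ext hey
    rw [eq_inv_of_mul_eq_one_right h1]
    exact E.inv_mem he
  · intro g hg a ha
    obtain ⟨e, he, rfl⟩ := hmemS.1 ha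
    let cA : K →ₐ[F] K :=
      { toFun := fun z => ⟨conjHom g z, hG g hg _ z.2⟩
        map_one' := Subtype.ext (map_one _)
        map_mul' := fun u w => Subtype.ext (map_mul _ _ _)
        map_zero' := Subtype.ext (map_zero _)
        map_add' := fun u w => Subtype.ext (map_add _ _ _)
        commutes' := fun z => Subtype.ext ((conjHom g).commutes z) }
    have hinj : Function.Injective cA := RingHom.injective (cA : K →+* K)
    let τ : K ≃ₐ[F] K := AlgEquiv.ofBijective cA ⟨hinj, Finite.injective_iff_surjective.1 hinj⟩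
    have hcomm : σ * τ = τ * σ := IsCyclic.commGroup.mul_comm σ τ
    refine hmemS.2 ⟨τ e, (hfix _).2 ?_, rfl⟩
    have := congrArg (fun f : K ≃ₐ[F] K => f e) hcomm
    simp only [AlgEquiv.mul_apply] at this
    rw [this, (hfix e).1 he]

/-- A normalised field subalgebra contains a normalised one of prime degree inside it. -/
theorem exists_prime_subfield [Fintype F] [Nonempty ι] {G : Subgroup (GL ι F)} {r : ℕ} (hr1 : 1 < r)
    {K : Subalgebra F (Matrix ι ι F)} (hK : IsFieldSubalgebra r K) (hG : Normalized G K) :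
    ∃ (s : ℕ) (S : Subalgebra F (Matrix ι ι F)), s.Prime ∧ IsFieldSubalgebra s S ∧ Normalized G S ∧ S ≤ K := by
  obtain ⟨S, hS, hSG, hSK⟩ := exists_minFac_subfield hr1 hK hG
  exact ⟨_, S, Nat.minFac_prime (by omega), hS, hSG, hSK⟩

variable [Fintype F] {σ : F ≃+* F} {ε : F} {f : (ι → F) → (ι → F) → F}

/-- In an adjoint closed field subalgebra every field subalgebra is adjoint closed. -/
theorem adjointClosed_of_le_field [Nonempty ι] (hf : Herm σ ε f) {r s : ℕ} {K S : Subalgebra F (Matrix ι ι F)}
    (hK : IsFieldSubalgebra r K) (hKa : IsAdjointClosedFor f K) (hS : IsFieldSubalgebra s S) (hSK : S ≤ K) :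
    IsAdjointClosedFor f S := by
  classical
  intro k hk
  obtain ⟨k', hk', ek⟩ := hKa k (hSK hk)
  refine ⟨k', ?_, ek⟩
  letI : Field K := FieldTransvection.fieldOf hK
  letI : Field S := FieldTransvection.fieldOf hS
  haveI : Fintype K := Fintype.ofFinite _
  haveI : Fintype S := Fintype.ofFinite _
  have hSinv : ∀ x : K, (x : Matrix ι ι F) ∈ S → ((x⁻¹ : K) : Matrix ι ι F) ∈ S := by
    intro x hx
    by_cases hx0 : x = 0
    · subst hx0; rw [_root_.inv_zero]; exact S.zero_mem
    obtain ⟨y, hy, hxy⟩ := hS.inv _ hx (fun h => hx0 (Subtype.ext h))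
    have h1 : x * ⟨y, hSK hy⟩ = 1 := Subtype.ext hxy
    rw [inv_eq_of_mul_eq_one_right h1]
    exact hy
  let S' : Subfield K :=
    { carrier := {x | (x : Matrix ι ι F) ∈ S}
      mul_mem' := fun ha hb => S.mul_mem ha hb
      one_mem' := S.one_mem
      add_mem' := fun ha hb => S.add_mem ha hb
      zero_mem' := S.zero_mem
      neg_mem' := fun ha => S.neg_mem ha
      inv_mem' := hSinv }
  have hcard : Nat.card S' = Fintype.card S := by
    rw [← Nat.card_eq_fintype_card]
    exact Nat.card_congr
      { toFun := fun x => ⟨((x : K) : Matrix ι ι F), x.2⟩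
        invFun := fun x => ⟨⟨x, hSK x.2⟩, x.2⟩
        left_inv := fun x => rfl
        right_inv := fun x => rfl }
  have hpow : ∀ n : ℕ, Herm.Adj f (k ^ n) (k' ^ n) := by
    intro n
    induction n with
    | zero => simpa using hf.adj_one
    | succ n ih =>
      have h := hf.adj_mul ih ek
      rwa [← pow_succ, ← pow_succ'] at h
  have h1 : k ^ Fintype.card S = k := congrArg Subtype.val (FiniteField.pow_card (⟨k, hk⟩ : S))
  have h2 := hpow (Fintype.card S)
  rw [h1] at h2
  have h3 : (⟨k', hk'⟩ : K) ^ Nat.card S' = ⟨k', hk'⟩ := by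
    rw [hcard]
    exact Subtype.ext (hf.adj_unique h2 ek)
  exact mem_of_pow_card_eq (F₁ := S') h3

/-- A non-scalar commutative adjoint closed normalised subalgebra gives a field or a decomposition. -/
theorem comm_cases [Nonempty ι] (hf : Herm σ ε f) {H : Subgroup (GL ι F)}
    (hH : IsoGrp f H) (hirr : ActsIrreducibly (matrixSet H)) {R : Subalgebra F (Matrix ι ι F)}
    (hR : Normalized H R) (hc : ∀ x ∈ R, ∀ y ∈ R, x * y = y * x) (hRa : IsAdjointClosedFor f R) (hne : R ≠ ⊥) :
    (∃ (t' m' : ℕ) (D' : Fin t' → Submodule F (ι → F)), IsNondegenerateMDecomposition f m' D' ∧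
      H ≤ decompositionStabilizer D') ∨
    (∃ (m' : ℕ) (D' : Fin 2 → Submodule F (ι → F)), IsMDecomposition m' D' ∧
      (∀ i, IsTotallySingularFor f (D' i)) ∧ H ≤ decompositionStabilizer D') ∨
    (∃ (s : ℕ) (K : Subalgebra F (Matrix ι ι F)), s.Prime ∧ IsFieldSubalgebra s K ∧
      IsAdjointClosedFor f K ∧ Normalized H K) := by
  classical
  rcases field_or_idem_decomposition hirr hR hc with hK | ⟨t, m, D, E, hD, hle, hER, hEE, hatom, hEinj, hDE⟩
  · right; right
    have h1 : 1 < Module.finrank F R := by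
      by_contra h
      haveI : Nontrivial R := ⟨⟨0, 1, fun h => zero_ne_one (α := Matrix ι ι F) (congrArg Subtype.val h)⟩⟩
      have hpos : 0 < Module.finrank F R := Module.finrank_pos
      exact hne (Subalgebra.eq_bot_of_finrank_one (by omega))
    obtain ⟨s, S, hs, hS, hSG, hSR⟩ := exists_prime_subfield h1 hK hR
    exact ⟨s, S, hs, hS, adjointClosed_of_le_field hf hK hRa hS hSR, hSG⟩
  choose E' hE'R hE' using fun i => hRa (E i) (hER i)
  have hE0 : ∀ i, E i ≠ 0 := by
    intro i h
    have := hD.finrank_eq i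
    rw [hDE i, h, map_zero, LinearMap.range_zero, finrank_bot] at this
    have := hD.pos
    omega
  have hE'0 : ∀ i, E' i ≠ 0 := fun i h =>
    hE0 i (hf.adj_unique (hf.adj_symm (hE' i)) (by rw [h]; exact hf.adj_zero))
  have hE'E' : ∀ i, E' i * E' i = E' i := fun i =>
    hf.adj_unique (by have := hf.adj_mul (hE' i) (hE' i); rwa [hEE i] at this) (hE' i)
  have hex : ∀ i, ∃ j, E' i * E j ≠ 0 := by
    intro i
    by_contra hall
    simp only [not_exists, not_not] at hall
    apply hE'0 i
    refine Matrix.ext_of_mulVec_single fun l => ?_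
    rw [Matrix.zero_mulVec]
    have hx : (Pi.single l 1 : ι → F) ∈ iSup D := hD.iSup_eq_top ▸ Submodule.mem_top
    generalize (Pi.single l 1 : ι → F) = z at hx ⊢
    induction hx using Submodule.iSup_induction' with
    | mem j u hu =>
      rw [hDE j] at hu
      obtain ⟨w, rfl⟩ := hu
      rw [Matrix.toLin'_apply, Matrix.mulVec_mulVec, hall j, Matrix.zero_mulVec]
    | zero => exact Matrix.mulVec_zero _
    | add a b _ _ ha hb => rw [Matrix.mulVec_add, ha, hb, add_zero]
  choose π hπ using hex
  have hπE : ∀ i, E' (π i) = E i := by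
    intro i
    have h1 : E (π i) * E' i = E (π i) := by
      refine (hatom (π i) (E' i) (hE'R i) (hE'E' i)).resolve_left fun h => hπ i ?_
      rw [hc _ (hE'R i) _ (hER _)]; exact h
    have h2 := hf.adj_mul (hE' (π i)) (hf.adj_symm (hE' i))
    rw [h1] at h2
    have h3 : E i * E' (π i) = E' (π i) := hf.adj_unique h2 (hE' (π i))
    rcases hatom i (E' (π i)) (hE'R _) (hE'E' _) with h | h
    · exact absurd (h3.symm.trans h) (hE'0 _)
    · exact h3.symm.trans h
  have horth : ∀ i k, k ≠ π i → AreOrthogonalFor f (D i) (D k) := by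
    intro i k hk u hu v hv
    rw [hDE i] at hu
    rw [hDE k] at hv
    obtain ⟨a, rfl⟩ := hu
    obtain ⟨b, rfl⟩ := hv
    rw [Matrix.toLin'_apply, Matrix.toLin'_apply, hE' i, Matrix.mulVec_mulVec]
    suffices h : E' i * E k = 0 by rw [h, Matrix.zero_mulVec, hf.zero_right]
    have hEi : E' i = E (π i) := hf.adj_unique (hE' i) (by
      have := hf.adj_symm (hE' (π i))
      rwa [hπE i] at this)
    rw [hEi]
    rcases hatom (π i) (E k) (hER k) (hEE k) with h | h
    · exact h
    rcases hatom k (E (π i)) (hER _) (hEE _) with h' | h'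
    · rw [hc _ (hER _) _ (hER _)]; exact h'
    · rw [hc _ (hER k) _ (hER _)] at h'
      exact absurd (hEinj (h'.symm.trans h)) hk
  rcases decomposition_cases hf hH hirr hD hle π horth with h | h
  · exact Or.inl h
  · exact Or.inr (Or.inl h)

end CfsgLib.Geo.Asch
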