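import Mathlib
import Cfsg.Prelude.Def_GeometricClasses
import Cfsg.Agent.Lib.Geo.AschFormBasic
import Cfsg.Agent.Lib.GeomClasses.Tensor

/-! Tensor decompositions compatible with a form. -/

set_option autoImplicit false
set_option linter.unusedSectionVars false

namespace CfsgLib.Geo.Asch

open Cfsg Cfsg.Geo Matrix CfsgLib.GeomClasses CfsgLib.Maximal.TensorTools
open scoped MatrixGroups Kronecker

variable {ι : Type} [Fintype ι] [DecidableEq ι] {F : Type*} [Field F] [Fintype F]
  {σ : F ≃+* F} {ε : F}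

theorem formOfGram_single {κ : Type} [Fintype κ] [DecidableEq κ] (G : Matrix κ κ F) (σ : F ≃+* F) (a b : κ) :
    formOfGram (σ : F → F) G (Pi.single a 1) (Pi.single b 1) = G a b := by
  rw [formOfGram, Finset.sum_eq_single a, Finset.sum_eq_single b]
  · simp
  · intro c _ hc; simp [hc]
  · simp
  · intro c _ hc
    exact Finset.sum_eq_zero fun d _ => by simp [hc]
  · simp

theorem gramMatrix_formOfGram {κ : Type} [Fintype κ] [DecidableEq κ] (G : Matrix κ κ F) (σ : F ≃+* F) :
    gramMatrix (formOfGram (σ : F → F) G) = G :=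
  funext fun a => funext fun b => formOfGram_single G σ a b

theorem formOfGram_eq_dot {κ : Type} [Fintype κ] [DecidableEq κ] (G : Matrix κ κ F) (σ : F → F) (x y : κ → F) :
    formOfGram σ G x y = x ⬝ᵥ (G *ᵥ fun b => σ (y b)) := by
  simp only [formOfGram, dotProduct, Matrix.mulVec, Finset.mul_sum, mul_assoc]

/-- A hermitian invertible Gram matrix gives a form. -/
theorem herm_formOfGram {κ : Type} [Fintype κ] [DecidableEq κ] (hinvol : ∀ a, σ (σ a) = a) {G : Matrix κ κ F}
    (hG : IsUnit G) (hsym : ∀ a b, G b a = ε * σ (G a b)) : Herm σ ε (formOfGram (σ : F → F) G) := by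
  have hs : GeomClasses.IsSesq (σ : F →+* F) (formOfGram (σ : F → F) G) := by
    refine ⟨fun x y v => ?_, fun c x v => ?_, fun v x y => ?_, fun c v x => ?_⟩
    · simp [formOfGram, add_mul, Finset.sum_add_distrib]
    · simp [formOfGram, Finset.mul_sum, mul_assoc]
    · simp [formOfGram, mul_add, Finset.sum_add_distrib]
    · simp only [formOfGram, Pi.smul_apply, smul_eq_mul, map_mul, Finset.mul_sum]
      exact Finset.sum_congr rfl fun a _ => Finset.sum_congr rfl fun b _ => by
        show _ = (σ c) * _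
        ring
  have hsymm : ∀ u v, formOfGram (σ : F → F) G v u = ε * σ (formOfGram (σ : F → F) G u v) := by
    intro u v
    simp only [formOfGram, map_sum, map_mul, hinvol, Finset.mul_sum]
    rw [Finset.sum_comm]
    exact Finset.sum_congr rfl fun a _ => Finset.sum_congr rfl fun b _ => by rw [hsym a b]; ring
  refine ⟨hs, fun v hv => ?_, hinvol, hsymm⟩
  have h1 : (G *ᵥ fun b => σ (v b)) ≠ 0 := by
    intro h
    have := Matrix.mulVec_injective_iff_isUnit.2 hG (h.trans (Matrix.mulVec_zero G).symm)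
    exact hv (funext fun b => σ.injective (by rw [Pi.zero_apply, map_zero]; exact congrFun this b))
  obtain ⟨i, hi⟩ := Function.ne_iff.1 h1
  have h2 : formOfGram (σ : F → F) G (Pi.single i 1) v ≠ 0 := by
    rw [formOfGram_eq_dot, single_dotProduct, one_mul]; exact hi
  refine ⟨⟨_, h2⟩, ⟨Pi.single i 1, fun h => h2 ?_⟩⟩
  rw [hsymm, h, map_zero, mul_zero]

theorem tensorEmb_mulVec {a b : ℕ} (e : ι ≃ Fin a × Fin b) (P : GL ι F) (X : Matrix (Fin a) (Fin a) F)
    (x : Fin a × Fin b → F) :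
    tensorEmb a b e P X *ᵥ ((P : Matrix ι ι F) *ᵥ (x ∘ e)) =
      (P : Matrix ι ι F) *ᵥ (((X ⊗ₖ (1 : Matrix (Fin b) (Fin b) F)) *ᵥ x) ∘ e) := by
  have h : tensorEmb a b e P X = (P : Matrix ι ι F) *
      Matrix.reindexAlgEquiv F F e.symm (kroneckerHom a b X) * ((P⁻¹ : GL ι F) : Matrix ι ι F) := rfl
  rw [h, ← Matrix.mulVec_mulVec, ← Matrix.mulVec_mulVec]
  congr 1
  rw [gl_inv_mulVec_mulVec, kroneckerHom_apply, Matrix.reindexAlgEquiv_apply, Matrix.reindex_apply,
    Matrix.submatrix_mulVec_equiv]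
  simp [Function.comp_assoc]

theorem kronecker_one_single {a b : ℕ} (X : Matrix (Fin a) (Fin a) F) (i : Fin a) (j : Fin b) :
    (X ⊗ₖ (1 : Matrix (Fin b) (Fin b) F)) *ᵥ Pi.single (i, j) 1 = fun p => X p.1 i * if p.2 = j then 1 else 0 := by
  funext p
  simp [Matrix.one_apply]

/-- The form on a tensor decomposition attached to an adjoint closed factor. -/
theorem exists_tensor_form [Nonempty ι] {f : (ι → F) → (ι → F) → F} (hf : Herm σ ε f) {a b : ℕ} [NeZero a]
    (e : ι ≃ Fin a × Fin b) (P : GL ι F)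
    (hadj : IsAdjointClosedFor f (tensorEmb a b e P).range) :
    ∃ (ε₁ ε₂ : F) (f₁ : (Fin a → F) → (Fin a → F) → F) (f₂ : (Fin b → F) → (Fin b → F) → F),
      Herm σ ε₁ f₁ ∧ Herm σ ε₂ f₂ ∧ ε₁ * ε₂ = ε ∧ (σ ≠ RingEquiv.refl F → ε₁ = 1) ∧
      IsTensorFormStructure (σ : F → F) f f₁ f₂ e P := by
  classical
  have hs := hf.sesq
  let bv : Fin a × Fin b → (ι → F) := fun p => (P : Matrix ι ι F) *ᵥ ((Pi.single p (1 : F) : Fin a × Fin b → F) ∘ e)
  let Gm : Fin a × Fin b → Fin a × Fin b → F := fun p p' => f (bv p) (bv p')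
  have hexp : ∀ x y : Fin a × Fin b → F, f ((P : Matrix ι ι F) *ᵥ (x ∘ e)) ((P : Matrix ι ι F) *ᵥ (y ∘ e)) =
      ∑ p, ∑ p', x p * Gm p p' * σ (y p') := by
    intro x y
    have hx : ∀ z : Fin a × Fin b → F, (P : Matrix ι ι F) *ᵥ (z ∘ e) = ∑ p, z p • bv p := by
      intro z
      conv_lhs => rw [pi_eq_sum_univ' z]
      rw [show ((∑ i, z i • Pi.single i (1 : F)) ∘ e : ι → F) = ∑ i, z i • ((Pi.single i (1 : F) : Fin a × Fin b → F) ∘ e) by
        funext k; simp only [Function.comp_apply, Finset.sum_apply, Pi.smul_apply]]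
      rw [Matrix.mulVec_sum]
      exact Finset.sum_congr rfl fun p _ => Matrix.mulVec_smul _ _ _
    rw [hx, hx, hs.sum_left]
    refine Finset.sum_congr rfl fun p _ => ?_
    rw [hs.smul_left, hs.sum_right, Finset.mul_sum]
    refine Finset.sum_congr rfl fun p' _ => ?_
    rw [hs.smul_right, show (σ : F →+* F) (y p') = σ (y p') from rfl]
    ring
  have hsymG : ∀ p p', Gm p' p = ε * σ (Gm p p') := fun p p' => hf.symm _ _
  -- the adjoint relation on blocks
  have hblock : ∀ X : Matrix (Fin a) (Fin a) F, ∃ Y : Matrix (Fin a) (Fin a) F, ∀ j l,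
      Xᵀ * (Matrix.of fun p k => Gm (p, j) (k, l)) = (Matrix.of fun p k => Gm (p, j) (k, l)) * Y := by
    intro X
    obtain ⟨_, ⟨X', rfl⟩, hX'⟩ := hadj (tensorEmb a b e P X) ⟨X, rfl⟩
    refine ⟨X'.map σ, fun j l => ?_⟩
    ext i k
    have h := hX' (bv (i, j)) (bv (k, l))
    simp only [AlgHom.toRingHom_eq_coe, RingHom.coe_coe, bv, tensorEmb_mulVec, hexp, kronecker_one_single] at h
    simp only [Matrix.mul_apply, Matrix.transpose_apply, Matrix.of_apply, Matrix.map_apply]
    simpa [Fintype.sum_prod_type, Pi.single_apply, mul_ite, ite_mul, apply_ite σ, Prod.ext_iff, ite_and] using h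
  obtain ⟨v0, hv0⟩ := exists_ne (0 : ι → F)
  obtain ⟨⟨i0, j0⟩, ⟨k0, l0⟩, hne⟩ : ∃ p p', Gm p p' ≠ 0 := by
    by_contra hall
    push Not at hall
    obtain ⟨x, hx⟩ := (hf.nondeg v0 hv0).1
    apply hx
    obtain ⟨x', rfl⟩ : ∃ x', (P : Matrix ι ι F) *ᵥ (x' ∘ e) = x :=
      ⟨(((P⁻¹ : GL ι F) : Matrix ι ι F) *ᵥ x) ∘ e.symm, by simp [Function.comp_assoc]⟩
    obtain ⟨v', rfl⟩ : ∃ v', (P : Matrix ι ι F) *ᵥ (v' ∘ e) = v0 :=
      ⟨(((P⁻¹ : GL ι F) : Matrix ι ι F) *ᵥ v0) ∘ e.symm, by simp [Function.comp_assoc]⟩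
    simp [hexp, hall]
  let B : Fin b → Fin b → Matrix (Fin a) (Fin a) F := fun j l => Matrix.of fun p k => Gm (p, j) (k, l)
  have hB0 : IsUnit (B j0 l0) := by
    rw [← Matrix.vecMul_injective_iff_isUnit]
    rw [show (fun u => u ᵥ* B j0 l0) = ⇑(Matrix.vecMulLinear (B j0 l0)) from rfl, ← LinearMap.ker_eq_bot,
      Submodule.eq_bot_iff]
    intro u hu
    by_contra hu0
    obtain ⟨q, hq⟩ := Function.ne_iff.1 hu0
    have hq' : u q ≠ 0 := hq
    obtain ⟨Y, hY⟩ := hblock (Matrix.single i0 q 1)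
    have h := congrArg (fun M => u ᵥ* M) (hY j0 l0)
    rw [LinearMap.mem_ker, Matrix.vecMulLinear_apply] at hu
    simp only [← Matrix.vecMul_vecMul, Matrix.vecMul_transpose] at h
    rw [hu, Matrix.zero_vecMul] at h
    have h2 : (Matrix.single i0 q (1 : F)) *ᵥ u = Pi.single i0 (u q) := by
      funext p
      simp [Matrix.mulVec, dotProduct, Matrix.single_apply, Pi.single_apply, eq_comm, ite_and]
    rw [h2] at h
    have h3 := congrFun h k0
    simp [Matrix.vecMul, dotProduct, Pi.single_apply, B] at h3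
    exact h3.elim hq' hne
  have hscal : ∀ j l, ∃ c : F, B j l = c • B j0 l0 := by
    intro j l
    set M := B j l * (B j0 l0)⁻¹ with hM
    obtain ⟨c, hc⟩ := Matrix.mem_range_scalar_of_commute_single (M := M) (fun p q _ => by
      obtain ⟨Y, hY⟩ := hblock (Matrix.single q p 1)
      have hT : (Matrix.single q p (1 : F))ᵀ = Matrix.single p q 1 := Matrix.transpose_single _ _ _
      have hdet := (Matrix.isUnit_iff_isUnit_det _).1 hB0
      have h1 := hY j0 l0
      have h2 := hY j l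
      rw [hT] at h1 h2
      have hYval : Y = (B j0 l0)⁻¹ * (Matrix.single p q 1 * B j0 l0) := by
        rw [show Matrix.single p q 1 * B j0 l0 = B j0 l0 * Y from h1, ← Matrix.mul_assoc,
          Matrix.nonsing_inv_mul _ hdet, Matrix.one_mul]
      show Matrix.single p q 1 * M = M * Matrix.single p q 1
      calc Matrix.single p q 1 * M = (Matrix.single p q 1 * B j l) * (B j0 l0)⁻¹ := by rw [hM, Matrix.mul_assoc]
        _ = B j l * (B j0 l0)⁻¹ * Matrix.single p q 1 * (B j0 l0 * (B j0 l0)⁻¹) := by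
          rw [show Matrix.single p q 1 * B j l = B j l * Y from h2, hYval]
          simp only [Matrix.mul_assoc]
        _ = _ := by rw [Matrix.mul_nonsing_inv _ hdet, Matrix.mul_one])
    refine ⟨c, ?_⟩
    have hdet := (Matrix.isUnit_iff_isUnit_det _).1 hB0
    calc B j l = M * B j0 l0 := by rw [hM, Matrix.mul_assoc, Matrix.nonsing_inv_mul _ hdet, Matrix.mul_one]
      _ = _ := by
        rw [← hc, Matrix.scalar_apply, ← Matrix.smul_one_eq_diagonal, Matrix.smul_mul, Matrix.one_mul]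
  choose c hc using hscal
  have hGm : ∀ p p', Gm p p' = B j0 l0 p.1 p'.1 * c p.2 p'.2 := by
    rintro ⟨p, j⟩ ⟨k, l⟩
    have := congrFun (congrFun (hc j l) p) k
    simpa [B, mul_comm] using this
  have hc00 : c j0 l0 = 1 := by
    have h := hGm (i0, j0) (k0, l0)
    exact (mul_eq_left₀ (show B j0 l0 i0 k0 ≠ 0 from hne)).1 h.symm
  set δ := c l0 j0 with hδ
  have hswap : ∀ p k, B j0 l0 k p * δ = ε * σ (B j0 l0 p k) := by
    intro p k
    have h := hsymG (p, j0) (k, l0)
    rw [hGm, hGm, hc00, mul_one] at h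
    exact h
  have hε0 : ε ≠ 0 := left_ne_zero_of_mul_eq_one hf.eps_mul
  have hδ0 : δ ≠ 0 := by
    intro h
    have := hswap i0 k0
    rw [h, mul_zero, eq_comm, mul_eq_zero, map_eq_zero] at this
    exact this.elim hε0 hne
  set ε1 := ε / δ with hε1
  have hε10 : ε1 ≠ 0 := div_ne_zero hε0 hδ0
  have hs1 : ∀ p k, B j0 l0 k p = ε1 * σ (B j0 l0 p k) := fun p k => by
    rw [hε1, div_mul_eq_mul_div, eq_div_iff hδ0, hswap]
  have hε11 : ε1 * σ ε1 = 1 := by
    have h1 := hs1 k0 i0
    rw [hs1 i0 k0, map_mul, hf.invol, ← mul_assoc] at h1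
    exact (mul_eq_right₀ (show B j0 l0 i0 k0 ≠ 0 from hne)).1 h1.symm
  have hs2 : ∀ j l, c l j = (ε / ε1) * σ (c j l) := by
    intro j l
    have h := hsymG (i0, j) (k0, l)
    rw [hGm, hGm] at h
    simp only [map_mul] at h
    rw [hs1 i0 k0] at h
    have hσne : σ (B j0 l0 i0 k0) ≠ 0 := (map_ne_zero σ).2 hne
    rw [div_mul_eq_mul_div, eq_div_iff hε10]
    apply mul_left_cancel₀ hσne
    linear_combination h
  obtain ⟨lam, hlam0, hlam⟩ : ∃ lam : F, lam ≠ 0 ∧
      ((σ = RingEquiv.refl F ∧ lam = 1) ∨ σ lam = lam * ε1) := by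
    by_cases hσ : σ = RingEquiv.refl F
    · exact ⟨1, one_ne_zero, Or.inl ⟨hσ, rfl⟩⟩
    obtain ⟨x, hx⟩ : ∃ x, x + σ ε1 * σ x ≠ 0 := by
      by_contra hall
      push Not at hall
      apply hσ
      have h1 : σ ε1 = -1 := by
        have := hall 1
        rw [map_one, mul_one] at this
        exact eq_neg_of_add_eq_zero_right this
      exact RingEquiv.ext fun y => by
        have := hall y
        rw [h1] at this
        show σ y = y
        linear_combination -this
    refine ⟨_, hx, Or.inr ?_⟩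
    rw [map_add, map_mul, hf.invol, hf.invol]
    linear_combination (-σ x) * hε11
  have hb : 0 < b := j0.pos
  have hG1u : IsUnit (lam • B j0 l0) := by
    rw [Matrix.isUnit_iff_isUnit_det, Matrix.det_smul]
    exact (isUnit_iff_ne_zero.2 (pow_ne_zero _ hlam0)).mul ((Matrix.isUnit_iff_isUnit_det _).1 hB0)
  let G2 : Matrix (Fin b) (Fin b) F := Matrix.of fun j l => c j l / lam
  have hG2u : IsUnit G2 := by
    rw [← Matrix.mulVec_injective_iff_isUnit]
    show Function.Injective (Matrix.mulVecLin G2)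
    rw [← LinearMap.ker_eq_bot, Submodule.eq_bot_iff]
    intro u hu
    rw [LinearMap.mem_ker, Matrix.mulVecLin_apply] at hu
    by_contra hu0
    obtain ⟨l, hl⟩ := Function.ne_iff.1 hu0
    let y : Fin a × Fin b → F := fun p => if p.1 = k0 then σ (u p.2) else 0
    have hy : (P : Matrix ι ι F) *ᵥ (y ∘ e) ≠ 0 := by
      refine gl_mulVec_ne_zero P fun h => hl ?_
      have := congrFun h (e.symm (k0, l))
      simpa [y] using this
    obtain ⟨x, hx⟩ := (hf.nondeg _ hy).1
    apply hx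
    obtain ⟨x', rfl⟩ : ∃ x', (P : Matrix ι ι F) *ᵥ (x' ∘ e) = x :=
      ⟨(((P⁻¹ : GL ι F) : Matrix ι ι F) *ᵥ x) ∘ e.symm, by simp [Function.comp_assoc]⟩
    rw [hexp]
    refine Finset.sum_eq_zero fun p _ => ?_
    have h1 : ∑ l, c p.2 l * u l = 0 := by
      have := congrFun hu p.2
      simp only [Matrix.mulVec, dotProduct, G2, Matrix.of_apply, Pi.zero_apply, div_mul_eq_mul_div,
        ← Finset.sum_div, div_eq_zero_iff] at this
      exact this.resolve_right hlam0
    rw [Fintype.sum_prod_type, Finset.sum_eq_single k0]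
    · simp only [y, if_true, hf.invol, hGm]
      rw [show (∑ x_1, x' p * (B j0 l0 p.1 k0 * c p.2 x_1) * u x_1) = x' p * B j0 l0 p.1 k0 * ∑ l, c p.2 l * u l by
        rw [Finset.mul_sum]; exact Finset.sum_congr rfl fun _ _ => by ring, h1, mul_zero]
    · intro k _ hk; simp [y, hk]
    · simp
  rcases hlam with ⟨hσ, rfl⟩ | hlam
  · refine ⟨ε1, ε / ε1, formOfGram (σ : F → F) ((1 : F) • B j0 l0), formOfGram (σ : F → F) G2,
      herm_formOfGram hf.invol hG1u fun p k => by simpa using hs1 p k,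
      herm_formOfGram hf.invol hG2u fun j l => by simpa [G2] using hs2 j l, mul_div_cancel₀ _ hε10,
      fun h => absurd hσ h, 1, one_ne_zero, fun x y => ?_⟩
    rw [gramMatrix_formOfGram, gramMatrix_formOfGram, hexp, one_mul]
    simp only [formOfGram, Matrix.kroneckerMap_apply, one_smul, G2, Matrix.of_apply, div_one, hGm]
  · have hlam' : σ lam ≠ 0 := (map_ne_zero σ).2 hlam0
    refine ⟨1, ε, formOfGram (σ : F → F) (lam • B j0 l0), formOfGram (σ : F → F) G2,
      herm_formOfGram hf.invol hG1u fun p k => ?_, herm_formOfGram hf.invol hG2u fun j l => ?_, one_mul ε,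
      fun _ => rfl, 1, one_ne_zero, fun x y => ?_⟩
    · simp only [Matrix.smul_apply, smul_eq_mul, one_mul, map_mul, hlam, hs1 p k]
      ring
    · simp only [G2, Matrix.of_apply, map_div₀, hs2 j l]
      rw [hlam]
      field_simp
    rw [gramMatrix_formOfGram, gramMatrix_formOfGram, hexp, one_mul]
    simp only [formOfGram, Matrix.kroneckerMap_apply, Matrix.smul_apply, smul_eq_mul, G2, Matrix.of_apply, hGm]
    refine Finset.sum_congr rfl fun p _ => Finset.sum_congr rfl fun p' _ => ?_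
    field_simp

/-- Exchanging the two factors. -/
theorem tensorProductSubgroup_swap {a b : ℕ} (e : ι ≃ Fin a × Fin b) (P : GL ι F) :
    tensorProductSubgroup a b e P = tensorProductSubgroup b a (e.trans (Equiv.prodComm _ _)) P := by
  have key : ∀ (a b : ℕ) (e : ι ≃ Fin a × Fin b),
      tensorProductSubgroup a b e P ≤ tensorProductSubgroup b a (e.trans (Equiv.prodComm _ _)) P := by
    intro a b e
    rintro _ ⟨_, ⟨k, ⟨A, B, hk⟩, rfl⟩, rfl⟩
    refine ⟨_, ⟨glReindex (Equiv.prodComm _ _) k, ⟨B, A, ?_⟩, rfl⟩, ?_⟩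
    · show Matrix.reindexAlgEquiv F F (Equiv.prodComm (Fin a) (Fin b))
        (k : Matrix (Fin a × Fin b) (Fin a × Fin b) F) = _
      rw [hk]
      ext ⟨j, i⟩ ⟨l, m⟩
      simp [mul_comm]
    · congr 1
  refine le_antisymm (key a b e) ?_
  have := key b a (e.trans (Equiv.prodComm _ _))
  rwa [show (e.trans (Equiv.prodComm (Fin a) (Fin b))).trans (Equiv.prodComm _ _) = e by ext <;> simp] at this

/-- Exchanging the factors of a tensor form structure. -/
theorem isTensorFormStructure_swap {σ' : F → F} {f : (ι → F) → (ι → F) → F} {a b : ℕ}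
    {f₁ : (Fin a → F) → (Fin a → F) → F} {f₂ : (Fin b → F) → (Fin b → F) → F} {e : ι ≃ Fin a × Fin b} {P : GL ι F}
    (h : IsTensorFormStructure σ' f f₁ f₂ e P) :
    IsTensorFormStructure σ' f f₂ f₁ (e.trans (Equiv.prodComm _ _)) P := by
  obtain ⟨c, hc, h⟩ := h
  refine ⟨c, hc, fun x y => ?_⟩
  have := h (x ∘ Prod.swap) (y ∘ Prod.swap)
  rw [show ((x ∘ Prod.swap) ∘ e : ι → F) = x ∘ e.trans (Equiv.prodComm _ _) by rfl,
    show ((y ∘ Prod.swap) ∘ e : ι → F) = y ∘ e.trans (Equiv.prodComm _ _) by rfl] at this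
  rw [this]
  congr 1
  simp only [formOfGram]
  refine Fintype.sum_equiv (Equiv.prodComm _ _) _ _ fun p => Fintype.sum_equiv (Equiv.prodComm _ _) _ _ fun q => ?_
  simp [Matrix.kroneckerMap_apply, mul_comm]

end CfsgLib.Geo.Asch
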