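import Mathlib
import Cfsg.Prelude.Def_GeometricClasses
import Cfsg.Agent.Lib.Geo.AschFormComm
import Cfsg.Agent.Lib.Geo.AschFormTensor

/-! The structure theorem for irreducible groups of isometries. -/

set_option autoImplicit false
set_option linter.unusedSectionVars false

namespace CfsgLib.Geo.Asch

open Cfsg Cfsg.Geo Matrix CfsgLib.GeomClasses
open scoped MatrixGroups

variable {ι : Type} [Fintype ι] [DecidableEq ι] {F : Type*} [Field F] [Fintype F]
  {σ : F ≃+* F} {ε : F} {f : (ι → F) → (ι → F) → F}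

/-- The group preserves a form-compatible decomposition, field or tensor product. -/
def GeomCases (σ : F ≃+* F) (ε : F) (f : (ι → F) → (ι → F) → F) (H : Subgroup (GL ι F)) : Prop :=
  (∃ (t m : ℕ) (D : Fin t → Submodule F (ι → F)), IsNondegenerateMDecomposition f m D ∧
    H ≤ decompositionStabilizer D) ∨
  (∃ (m : ℕ) (D : Fin 2 → Submodule F (ι → F)), IsMDecomposition m D ∧
    (∀ i, IsTotallySingularFor f (D i)) ∧ H ≤ decompositionStabilizer D) ∨
  (∃ (s : ℕ) (K : Subalgebra F (Matrix ι ι F)), s.Prime ∧ IsFieldSubalgebra s K ∧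
    IsAdjointClosedFor f K ∧ Normalized H K) ∨
  (∃ (a b : ℕ) (e : ι ≃ Fin a × Fin b) (P : GL ι F) (ε₁ ε₂ : F) (f₁ : (Fin a → F) → (Fin a → F) → F)
    (f₂ : (Fin b → F) → (Fin b → F) → F), 2 ≤ a ∧ 2 ≤ b ∧ Herm σ ε₁ f₁ ∧ Herm σ ε₂ f₂ ∧ ε₁ * ε₂ = ε ∧
      (σ ≠ RingEquiv.refl F → ε₁ = 1) ∧ IsTensorFormStructure (σ : F → F) f f₁ f₂ e P ∧
      H ≤ tensorProductSubgroup a b e P)

theorem GeomCases.of_comm [Nonempty ι] (hf : Herm σ ε f) {H : Subgroup (GL ι F)}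
    (hH : IsoGrp f H) (hirr : ActsIrreducibly (matrixSet H)) {R : Subalgebra F (Matrix ι ι F)}
    (hR : Normalized H R) (hc : ∀ x ∈ R, ∀ y ∈ R, x * y = y * x) (hRa : IsAdjointClosedFor f R) (hne : R ≠ ⊥) :
    GeomCases σ ε f H := by
  rcases comm_cases hf hH hirr hR hc hRa hne with h | h | h
  · exact Or.inl h
  · exact Or.inr (Or.inl h)
  · exact Or.inr (Or.inr (Or.inl h))

/-- A normalised non-scalar subgroup not spanning the matrix algebra gives a geometric structure. -/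
theorem algOf_cases [Nonempty ι] (hf : Herm σ ε f) {H N : Subgroup (GL ι F)} (hH : IsoGrp f H)
    (hirr : ActsIrreducibly (matrixSet H)) (hNH : N ≤ H) (hinv : ∀ g ∈ H, ∀ x ∈ N, g * x * g⁻¹ ∈ N)
    (hns : ¬ N ≤ scalars ι F) (hne : algOf N ≠ ⊤) : GeomCases σ ε f H := by
  classical
  have hA : Normalized H (algOf N) := normalized_algOf hinv
  have hAa : IsAdjointClosedFor f (algOf N) := hf.adjointClosed_algOf fun g hg => hH g (hNH hg)
  let Z : Subalgebra F (Matrix ι ι F) := algOf N ⊓ Subalgebra.centralizer F (algOf N : Set (Matrix ι ι F))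
  have hZnorm : Normalized H Z := by
    intro g hg z hz
    refine ⟨hA g hg z hz.1, ?_⟩
    rw [SetLike.mem_coe, Subalgebra.mem_centralizer_iff]
    intro x hx
    have h1 := (Subalgebra.mem_centralizer_iff F).1 hz.2 _ (hA g⁻¹ (inv_mem hg) x hx)
    have h2 := congrArg (conjHom g) h1
    rwa [map_mul, map_mul, conjHom_cancel] at h2
  by_cases hZ : Z = ⊥
  swap
  · exact GeomCases.of_comm hf hH hirr hZnorm
      (fun x hx y hy => (Subalgebra.mem_centralizer_iff F).1 hy.2 x hx.1) (hf.adjointClosed_centre hAa) hZ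
  obtain ⟨a, ha, φ, hφi, hφr⟩ := exists_matrix_hom hirr hA (fun z hz hc => hZ.le
    ⟨hz, (Subalgebra.mem_centralizer_iff F).2 fun x hx => (hc x hx).symm⟩)
  obtain ⟨b, e, P, hb, rfl⟩ := exists_tensorEmb φ
  haveI : NeZero b := ⟨by omega⟩
  have ha2 : 2 ≤ a := by
    by_contra ha2
    have ha1 : a = 1 := by have := NeZero.ne a; omega
    subst ha1
    refine hns fun x hx => mem_scalars_of_mem_bot ?_
    have h1 := mem_algOf hx
    rw [← hφr] at h1
    obtain ⟨X, hX⟩ := h1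
    rw [← hX, show X = algebraMap F _ (X 0 0) by
      ext i j; rw [Subsingleton.elim i 0, Subsingleton.elim j 0]; simp [Matrix.algebraMap_eq_diagonal]]
    show tensorEmb 1 b e P (algebraMap F _ (X 0 0)) ∈ (⊥ : Subalgebra F (Matrix ι ι F))
    rw [AlgHom.commutes]
    exact Algebra.mem_bot.2 ⟨_, rfl⟩
  have hb2 : 2 ≤ b := by
    by_contra hb2
    have hb1 : b = 1 := by omega
    subst hb1
    have hcard := Fintype.card_congr e
    simp only [Fintype.card_prod, Fintype.card_fin, mul_one] at hcard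
    apply hne
    rw [← Algebra.toSubmodule_eq_top, ← hφr]
    apply Submodule.eq_top_of_finrank_eq
    show Module.finrank F (LinearMap.range (tensorEmb a 1 e P).toLinearMap) = _
    rw [LinearMap.finrank_range_of_inj hφi, Module.finrank_matrix, Module.finrank_matrix]
    simp [hcard]
  obtain ⟨ε₁, ε₂, f₁, f₂, h1, h2, h3, h4, h5⟩ := exists_tensor_form hf e P (hφr ▸ hAa)
  refine Or.inr (Or.inr (Or.inr ⟨a, b, e, P, ε₁, ε₂, f₁, f₂, ha2, hb2, h1, h2, h3, h4, h5,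
    fun g hg => mem_tensorProductSubgroup e P g fun X => ?_⟩))
  have h6 := hA g hg (tensorEmb a b e P X) (hφr ▸ ⟨X, rfl⟩)
  rw [← hφr] at h6
  obtain ⟨Y, hY⟩ := h6
  exact ⟨Y, hY.symm⟩

/-- An irreducible group of isometries has a geometric structure or an absolutely irreducible minimal normal subgroup. -/
theorem irreducible_cases [Nonempty ι] (hn : 2 ≤ Fintype.card ι) (hf : Herm σ ε f) {H : Subgroup (GL ι F)}
    (hH : IsoGrp f H) (hirr : ActsIrreducibly (matrixSet H)) :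
    GeomCases σ ε f H ∨
    ∃ N : Subgroup (GL ι F), N ≤ H ∧ (∀ g ∈ H, ∀ x ∈ N, g * x * g⁻¹ ∈ N) ∧ ¬ N ≤ scalars ι F ∧ algOf N = ⊤ ∧
      (∀ K : Subgroup (GL ι F), K ≤ N → (∀ g ∈ H, ∀ x ∈ K, g * x * g⁻¹ ∈ K) → ¬ K ≤ scalars ι F → K = N) ∧
      (((∀ x ∈ N, ∀ y ∈ N, x * y * x⁻¹ * y⁻¹ ∈ scalars ι F) ∧ IsPrimePow (Fintype.card ι)) ∨
       (⁅N, N⁆ = N ∧ ¬ ∀ x ∈ N, ∀ y ∈ N, x * y * x⁻¹ * y⁻¹ ∈ scalars ι F)) := by
  classical
  let P : Subgroup (GL ι F) → Prop :=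
    fun K => K ≤ H ∧ (∀ g ∈ H, ∀ x ∈ K, g * x * g⁻¹ ∈ K) ∧ ¬ K ≤ scalars ι F
  obtain ⟨N, ⟨hNH, hNinv, hNns⟩, hNmin⟩ := (Set.toFinite {K | P K}).exists_minimal
    ⟨H, le_rfl, fun g hg x hx => H.mul_mem (H.mul_mem hg hx) (H.inv_mem hg), not_le_scalars_of_irreducible hirr hn⟩
  by_cases hspan : algOf N = ⊤
  swap
  · exact Or.inl (algOf_cases hf hH hirr hNH hNinv hNns hspan)
  have hmin : ∀ K : Subgroup (GL ι F), K ≤ N → (∀ g ∈ H, ∀ x ∈ K, g * x * g⁻¹ ∈ K) → ¬ K ≤ scalars ι F → K = N :=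
    fun K h1 h2 h3 => le_antisymm h1 (hNmin ⟨h1.trans hNH, h2, h3⟩ h1)
  refine Or.inr ⟨N, hNH, hNinv, hNns, hspan, hmin, ?_⟩
  by_cases hcl : ∀ x ∈ N, ∀ y ∈ N, x * y * x⁻¹ * y⁻¹ ∈ scalars ι F
  · exact Or.inl ⟨hcl, isPrimePow_of_minimal hn hNinv hspan hcl hmin⟩
  refine Or.inr ⟨hmin _ (Subgroup.commutator_le_self N) ?_ ?_, hcl⟩
  · intro g hg x hx
    have hmap : (⁅N, N⁆).map (MulAut.conj g).toMonoidHom ≤ ⁅N, N⁆ := by
      rw [Subgroup.map_commutator]
      apply Subgroup.commutator_mono <;>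
      · rintro _ ⟨a, ha, rfl⟩; exact hNinv g hg a ha
    exact hmap ⟨x, hx, rfl⟩
  · intro hle
    exact hcl fun x hx y hy => hle (Subgroup.commutator_mem_commutator hx hy)

end CfsgLib.Geo.Asch
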