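import Mathlib
import Cfsg.Prelude.Def_GeometricClasses
import Cfsg.Agent.Lib.Geo.AschFormTensor
import Cfsg.Agent.Lib.GeomClasses.Decomp
import Cfsg.Agent.Lib.GeomClasses.UnitPow

/-! Frames in a tensor factor give decompositions. -/

set_option autoImplicit false
set_option linter.unusedSectionVars false

namespace CfsgLib.Geo.Asch

open Cfsg Cfsg.Geo Matrix CfsgLib.GeomClasses CfsgLib.Maximal.TensorTools
open scoped MatrixGroups Kronecker

variable {ι : Type} [Fintype ι] [DecidableEq ι] {F : Type*} [Field F] [Fintype F]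
  {σ : F ≃+* F} {ε ε₁ ε₂ : F} {a b : ℕ} {f : (ι → F) → (ι → F) → F}
  {f₁ : (Fin a → F) → (Fin a → F) → F} {f₂ : (Fin b → F) → (Fin b → F) → F}
  {e : ι ≃ Fin a × Fin b} {P : GL ι F}

theorem pure_add_left (x x' : Fin a → F) (y : Fin b → F) :
    CfsgLib.Maximal.TensorTools.pure (x + x') y = CfsgLib.Maximal.TensorTools.pure x y + CfsgLib.Maximal.TensorTools.pure x' y := by
  funext p; simp [CfsgLib.Maximal.TensorTools.pure, add_mul]

theorem pure_smul_left (c : F) (x : Fin a → F) (y : Fin b → F) :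
    CfsgLib.Maximal.TensorTools.pure (c • x) y = c • CfsgLib.Maximal.TensorTools.pure x y := by
  funext p; simp [CfsgLib.Maximal.TensorTools.pure, mul_assoc]

theorem pure_add_right (x : Fin a → F) (y y' : Fin b → F) :
    CfsgLib.Maximal.TensorTools.pure x (y + y') = CfsgLib.Maximal.TensorTools.pure x y + CfsgLib.Maximal.TensorTools.pure x y' := by
  funext p; simp [CfsgLib.Maximal.TensorTools.pure, mul_add]

theorem pure_smul_right (c : F) (x : Fin a → F) (y : Fin b → F) :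
    CfsgLib.Maximal.TensorTools.pure x (c • y) = c • CfsgLib.Maximal.TensorTools.pure x y := by
  funext p; simp [CfsgLib.Maximal.TensorTools.pure, mul_left_comm]

theorem form_coord (hT : IsTensorFormStructure (σ : F → F) f f₁ f₂ e P) (h₁ : Herm σ ε₁ f₁) (h₂ : Herm σ ε₂ f₂) :
    ∃ c : F, c ≠ 0 ∧ ∀ v w v' w',
      f (coord e P (CfsgLib.Maximal.TensorTools.pure v w)) (coord e P (CfsgLib.Maximal.TensorTools.pure v' w')) = c * (f₁ v v' * f₂ w w') :=
  Tensor.form_pure (σ := (σ : F →+* F)) (fun _ => rfl) h₁.sesq h₂.sesq hT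

/-- The linear map `x ↦ x ⊗ y`. -/
noncomputable def blockMap (e : ι ≃ Fin a × Fin b) (P : GL ι F) (y : Fin b → F) : (Fin a → F) →ₗ[F] (ι → F) where
  toFun x := coord e P (CfsgLib.Maximal.TensorTools.pure x y)
  map_add' x x' := by rw [pure_add_left, map_add]
  map_smul' c x := by rw [pure_smul_left, map_smul]; rfl

theorem blockMap_injective {y : Fin b → F} (hy : y ≠ 0) : Function.Injective (blockMap e P y) := by
  intro x x' h
  obtain ⟨j, hj⟩ := Function.ne_iff.1 hy
  funext i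
  exact mul_right_cancel₀ (show y j ≠ 0 from hj) (congrFun ((coord e P).injective h) (i, j))

/-- An isometry of a tensor form scales each factor. -/
theorem exists_factor_scale [Nonempty ι] (hT : IsTensorFormStructure (σ : F → F) f f₁ f₂ e P)
    (h₁ : Herm σ ε₁ f₁) (h₂ : Herm σ ε₂ f₂) {g : GL ι F} (hg : g ∈ tensorProductSubgroup a b e P)
    (hgf : ∀ u v, f ((g : Matrix ι ι F) *ᵥ u) ((g : Matrix ι ι F) *ᵥ v) = f u v) :
    ∃ (A : GL (Fin a) F) (B : GL (Fin b) F) (μ : F), μ ≠ 0 ∧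
      (∀ x y, (g : Matrix ι ι F) *ᵥ coord e P (CfsgLib.Maximal.TensorTools.pure x y) =
        coord e P (CfsgLib.Maximal.TensorTools.pure ((A : Matrix (Fin a) (Fin a) F) *ᵥ x) ((B : Matrix (Fin b) (Fin b) F) *ᵥ y))) ∧
      (∀ y y', f₂ ((B : Matrix (Fin b) (Fin b) F) *ᵥ y) ((B : Matrix (Fin b) (Fin b) F) *ᵥ y') = μ * f₂ y y') := by
  obtain ⟨A, B, hAB⟩ := exists_factors hg
  obtain ⟨c, hc, hform⟩ := form_coord hT h₁ h₂
  have key : ∀ x x' y y', f₁ ((A : Matrix (Fin a) (Fin a) F) *ᵥ x) ((A : Matrix (Fin a) (Fin a) F) *ᵥ x') *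
      f₂ ((B : Matrix (Fin b) (Fin b) F) *ᵥ y) ((B : Matrix (Fin b) (Fin b) F) *ᵥ y') = f₁ x x' * f₂ y y' := by
    intro x x' y y'
    apply mul_left_cancel₀ hc
    rw [← hform, ← hform, ← hAB, ← hAB, hgf]
  haveI : Nonempty (Fin a × Fin b) := e.nonempty_congr.1 inferInstance
  haveI : Nonempty (Fin a) := (inferInstance : Nonempty (Fin a × Fin b)).map Prod.fst
  haveI : Nonempty (Fin b) := (inferInstance : Nonempty (Fin a × Fin b)).map Prod.snd
  obtain ⟨v, hv⟩ := exists_ne (0 : Fin a → F)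
  obtain ⟨u, hu⟩ := (h₁.nondeg v hv).1
  obtain ⟨y0, hy0⟩ := exists_ne (0 : Fin b → F)
  obtain ⟨y1, hy1⟩ := (h₂.nondeg y0 hy0).1
  have hA : f₁ ((A : Matrix (Fin a) (Fin a) F) *ᵥ u) ((A : Matrix (Fin a) (Fin a) F) *ᵥ v) ≠ 0 := fun h0 => by
    have := key u v y1 y0
    rw [h0, zero_mul, eq_comm, mul_eq_zero] at this
    exact this.elim hu hy1
  refine ⟨A, B, f₁ u v / f₁ ((A : Matrix (Fin a) (Fin a) F) *ᵥ u) ((A : Matrix (Fin a) (Fin a) F) *ᵥ v),
    div_ne_zero hu hA, hAB, fun y y' => ?_⟩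
  rw [div_mul_eq_mul_div, eq_div_iff hA, mul_comm, key]

/-- An orthogonal frame of the second factor permuted by a group gives a decomposition. -/
theorem tensor_frame_decomposition [Nonempty ι] (hf : Herm σ ε f) (hT : IsTensorFormStructure (σ : F → F) f f₁ f₂ e P)
    (h₁ : Herm σ ε₁ f₁) (h₂ : Herm σ ε₂ f₂) (ha : 1 ≤ a) (hb : 2 ≤ b)
    (w : Module.Basis (Fin b) F (Fin b → F)) (hne : ∀ j, f₂ (w j) (w j) ≠ 0)
    (horth : ∀ j k, j ≠ k → f₂ (w j) (w k) = 0) {H : Subgroup (GL ι F)}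
    (hle : H ≤ tensorProductSubgroup a b e P) (hH : IsoGrp f H)
    (hframe : ∀ (B : GL (Fin b) F) (μ : F), μ ≠ 0 →
      (∀ y y', f₂ ((B : Matrix (Fin b) (Fin b) F) *ᵥ y) ((B : Matrix (Fin b) (Fin b) F) *ᵥ y') = μ * f₂ y y') →
      ∀ j, ∃ k, ∃ r : F, (B : Matrix (Fin b) (Fin b) F) *ᵥ w j = r • w k) :
    ∃ D : Fin b → Submodule F (ι → F), IsNondegenerateMDecomposition f a D ∧ H ≤ decompositionStabilizer D := by
  classical
  obtain ⟨c, hc, hform⟩ := form_coord hT h₁ h₂
  let D : Fin b → Submodule F (ι → F) := fun j => LinearMap.range (blockMap e P (w j))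
  have hfr : ∀ j, Module.finrank F (D j) = a := fun j => by
    rw [LinearMap.finrank_range_of_inj (blockMap_injective (w.ne_zero j)), Module.finrank_fin_fun]
  have horth' : ∀ i j, i ≠ j → AreOrthogonalFor f (D i) (D j) := by
    rintro i j hij _ ⟨x, rfl⟩ _ ⟨x', rfl⟩
    show f (coord e P _) (coord e P _) = 0
    rw [hform, horth i j hij, mul_zero, mul_zero]
  have hnd : ∀ j, IsNondegenerateOn f (D j) := by
    rintro j _ ⟨x, rfl⟩ hx
    have hx0 : x ≠ 0 := fun h => hx (by rw [h, map_zero])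
    obtain ⟨⟨u, hu⟩, ⟨u', hu'⟩⟩ := h₁.nondeg x hx0
    exact ⟨⟨_, ⟨u, rfl⟩, by show f (coord e P _) (coord e P _) ≠ 0; rw [hform]; exact mul_ne_zero hc (mul_ne_zero hu (hne j))⟩,
      ⟨_, ⟨u', rfl⟩, by show f (coord e P _) (coord e P _) ≠ 0; rw [hform]; exact mul_ne_zero hc (mul_ne_zero hu' (hne j))⟩⟩
  have hind : iSupIndep D := by
    rw [iSupIndep_def]
    intro k
    rw [Submodule.disjoint_def]
    intro v hv hv'
    by_contra hv0
    obtain ⟨x, hx, hne'⟩ := (hnd k v hv hv0).2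
    exact hne' (hf.mem_perp.1 ((iSup₂_le fun k' hk' u hu => hf.mem_perp.2 fun z hz => horth' k' k hk' u hu z hz :
      (⨆ k', ⨆ (_ : k' ≠ k), D k') ≤ hf.perp (D k)) hv') x hx)
  have htop : iSup D = ⊤ := by
    rw [eq_top_iff]
    intro v _
    obtain ⟨z, rfl⟩ := (coord e P).surjective v
    have hz : z = ∑ j, CfsgLib.Maximal.TensorTools.pure (fun i => w.repr (fun k => z (i, k)) j) (w j) := by
      funext p
      have := congrFun (w.sum_repr (fun k => z (p.1, k))) p.2
      rw [Finset.sum_apply] at this ⊢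
      rw [← this]
      rfl
    rw [hz, map_sum]
    exact sum_mem fun j _ => Submodule.mem_iSup_of_mem j ⟨_, rfl⟩
  have hD : IsMDecomposition a D := ⟨hb, ha, hfr, hind, htop⟩
  refine ⟨D, ⟨hD, hnd, horth'⟩, fun g hg => Decomp.mem_stabilizer_of_image hD fun j => ?_⟩
  obtain ⟨A, B, μ, hμ, hAB, hB⟩ := exists_factor_scale hT h₁ h₂ (hle hg) (hH g hg)
  obtain ⟨k, r, hk⟩ := hframe B μ hμ hB j
  refine ⟨k, ?_⟩
  rintro _ ⟨x, rfl⟩
  refine ⟨r • ((A : Matrix (Fin a) (Fin a) F) *ᵥ x), ?_⟩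
  show coord e P _ = (g : Matrix ι ι F) *ᵥ coord e P _
  rw [hAB, hk, pure_smul_left, pure_smul_right]

/-- A unitary plane over four elements has a unique orthonormal frame up to scalars. -/
theorem unitary_plane_frame {f₂ : (Fin 2 → F) → (Fin 2 → F) → F} (h4 : Fintype.card F = 4)
    (hσ : ∀ x, σ x = x ^ 2) (hne : σ ≠ RingEquiv.refl F) (h₂ : Herm σ 1 f₂) :
    ∃ w : Module.Basis (Fin 2) F (Fin 2 → F), (∀ j, f₂ (w j) (w j) ≠ 0) ∧
      (∀ j k, j ≠ k → f₂ (w j) (w k) = 0) ∧ ∀ y, f₂ y y ≠ 0 → ∃ k, ∃ r : F, y = r • w k := by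
  have hu : IsUnitaryForm σ f₂ := ⟨hne, h₂.invol, h₂.add_left, h₂.smul_left,
    fun v w => by rw [h₂.symm w v, one_mul], h₂.nondeg⟩
  have htop : IsNondegenerateOn f₂ (⊤ : Submodule F (Fin 2 → F)) := fun w _ hw0 => by
    obtain ⟨⟨x, hx⟩, ⟨y, hy⟩⟩ := h₂.nondeg w hw0
    exact ⟨⟨x, Submodule.mem_top, hx⟩, ⟨y, Submodule.mem_top, hy⟩⟩
  obtain ⟨u, v, -, -, huu, hvv, huv, hvu, hdec⟩ := UnitPow.exists_orth_pair hu
    (fun b hb hb0 => UnitPow.four_fixed h4 b (by rw [← hσ]; exact hb) hb0) htop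
    (by rw [finrank_top, Module.finrank_fin_fun])
  have hli : LinearIndependent F ![u, v] := by
    rw [LinearIndependent.pair_iff]
    intro s r h
    have h1 : f₂ (s • u + r • v) u = 0 := by rw [h, h₂.zero_left]
    have h2 : f₂ (s • u + r • v) v = 0 := by rw [h, h₂.zero_left]
    simp only [h₂.add_left, h₂.smul_left, huu, hvu, huv, hvv, mul_one, mul_zero, add_zero, zero_add] at h1 h2
    exact ⟨h1, h2⟩
  let w := basisOfLinearIndependentOfCardEqFinrank hli (by rw [Module.finrank_fin_fun, Fintype.card_fin])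
  have hw : ∀ j, w j = ![u, v] j := fun j => by simp [w]
  refine ⟨w, fun j => ?_, fun j k hjk => ?_, fun y hy => ?_⟩
  · rw [hw]; fin_cases j <;> simp [huu, hvv]
  · rw [hw, hw]
    fin_cases j <;> fin_cases k
    · exact absurd rfl hjk
    · exact huv
    · exact hvu
    · exact absurd rfl hjk
  have hy' := hdec y Submodule.mem_top
  by_cases h1 : f₂ y u = 0
  · exact ⟨1, f₂ y v, by rw [hw]; conv_lhs => rw [hy', h1, zero_smul, zero_add]
                         rfl⟩
  by_cases h2 : f₂ y v = 0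
  · exact ⟨0, f₂ y u, by rw [hw]; conv_lhs => rw [hy', h2, zero_smul, add_zero]
                         rfl⟩
  exfalso
  apply hy
  have hn : ∀ x : F, x ≠ 0 → x * σ x = 1 := fun x hx => by
    rw [hσ, ← pow_succ', show (2 : ℕ) + 1 = Fintype.card F - 1 by rw [h4]]
    exact FiniteField.pow_card_sub_one_eq_one x hx
  conv_lhs => rw [hy']
  simp only [h₂.add_left, h₂.add_right, h₂.smul_left, h₂.smul_right, huu, huv, hvu, hvv, mul_one, mul_zero,
    add_zero, zero_add, hn _ h1, hn _ h2]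
  exact (one_add_one_eq_two).trans (UnitPow.four_two_zero h4)

/-- A three dimensional orthogonal frame over three elements. -/
theorem orth_three_frame {f₂ : (Fin 3 → F) → (Fin 3 → F) → F} (h3 : Fintype.card F = 3)
    (h₂ : Herm (RingEquiv.refl F) 1 f₂) :
    ∃ w : Module.Basis (Fin 3) F (Fin 3 → F), (∀ j, f₂ (w j) (w j) ≠ 0) ∧
      (∀ j k, j ≠ k → f₂ (w j) (w k) = 0) ∧
      ∀ (B : GL (Fin 3) F) (μ : F), μ ≠ 0 →
        (∀ y y', f₂ ((B : Matrix (Fin 3) (Fin 3) F) *ᵥ y) ((B : Matrix (Fin 3) (Fin 3) F) *ᵥ y') = μ * f₂ y y') →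
        ∀ j, ∃ k, ∃ r : F, (B : Matrix (Fin 3) (Fin 3) F) *ᵥ w j = r • w k := by
  classical
  have hodd : Odd (Fintype.card F) := by rw [h3]; decide
  have h2 : (2 : F) ≠ 0 := two_ne_zero_of_odd hodd
  have h30 : (3 : F) = 0 := by
    have := FiniteField.cast_card_eq_zero F
    rwa [h3, Nat.cast_ofNat] at this
  have hsq : ∀ x : F, x ≠ 0 → x * x = 1 := fun x hx => by
    rw [← sq, show (2 : ℕ) = Fintype.card F - 1 by rw [h3]]
    exact FiniteField.pow_card_sub_one_eq_one x hx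
  have hpm : ∀ x y : F, x ≠ 0 → y ≠ 0 → x = y ∨ x = -y := fun x y hx hy => by
    have : (x - y) * (x + y) = 0 := by linear_combination hsq x hx - hsq y hy
    exact (mul_eq_zero.1 this).imp sub_eq_zero.1 eq_neg_of_add_eq_zero_left
  let Bf : LinearMap.BilinForm F (Fin 3 → F) := LinearMap.mk₂ F f₂ h₂.add_left
    (fun c x y => by rw [h₂.smul_left, smul_eq_mul]) (fun x y z => h₂.add_right x y z)
    (fun c x y => by rw [h₂.smul_right, smul_eq_mul]; rfl)
  haveI : Invertible (2 : F) := invertibleOfNonzero h2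
  obtain ⟨v0, hv0⟩ := LinearMap.BilinForm.exists_orthogonal_basis (B := Bf)
    ⟨fun x y => by show f₂ x y = f₂ y x; rw [h₂.symm x y, one_mul]; rfl⟩
  let v := v0.reindex (finCongr (Module.finrank_fin_fun F (n := 3)))
  have ho : ∀ i j, i ≠ j → f₂ (v i) (v j) = 0 := fun i j hij => by
    simp only [v, Module.Basis.reindex_apply]
    exact hv0 (fun h => hij ((finCongr _).symm.injective h))
  have hd : ∀ i, f₂ (v i) (v i) ≠ 0 := by
    intro i h0
    obtain ⟨x, hx⟩ := (h₂.nondeg (v i) (v.ne_zero i)).1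
    apply hx
    rw [← v.sum_repr x, h₂.sesq.sum_left]
    refine Finset.sum_eq_zero fun j _ => ?_
    rw [h₂.smul_left]
    by_cases h : j = i
    · rw [h, h0, mul_zero]
    · rw [ho j i h, mul_zero]
  -- a frame with a common value
  have hframe : ∃ (c : F) (u : Fin 3 → Fin 3 → F), c ≠ 0 ∧ (∀ i, f₂ (u i) (u i) = c) ∧
      ∀ i j, i ≠ j → f₂ (u i) (u j) = 0 := by
    have key : ∀ i j k : Fin 3, i ≠ j → i ≠ k → j ≠ k → f₂ (v i) (v i) = f₂ (v j) (v j) →
        ∃ (c : F) (u : Fin 3 → Fin 3 → F), c ≠ 0 ∧ (∀ i, f₂ (u i) (u i) = c) ∧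
          ∀ i j, i ≠ j → f₂ (u i) (u j) = 0 := by
      intro i j k hij hik hjk he
      rcases hpm _ _ (hd k) (hd i) with h | h
      · refine ⟨_, ![v i, v j, v k], hd i, fun l => ?_, fun l l' hl => ?_⟩
        · fin_cases l <;> simp [← he, h]
        · fin_cases l <;> fin_cases l' <;> simp_all [ho i j hij, ho j i hij.symm, ho i k hik, ho k i hik.symm,
            ho j k hjk, ho k j hjk.symm]
      · refine ⟨-f₂ (v i) (v i), ![v i + v j, v i - v j, v k], neg_ne_zero.2 (hd i), fun l => ?_, fun l l' hl => ?_⟩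
        · fin_cases l <;> simp [h₂.add_left, h₂.add_right, h₂.sub_left, h₂.sub_right, ho i j hij, ho j i hij.symm,
            ← he, h]
          all_goals linear_combination (f₂ (v i) (v i)) * h30
        · fin_cases l <;> fin_cases l' <;> simp_all [h₂.add_left, h₂.add_right, h₂.sub_left, h₂.sub_right,
            ho i j hij, ho j i hij.symm, ho i k hik, ho k i hik.symm, ho j k hjk, ho k j hjk.symm]
    rcases hpm _ _ (hd 0) (hd 1) with h | h
    · exact key 0 1 2 (by decide) (by decide) (by decide) h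
    rcases hpm _ _ (hd 2) (hd 1) with h' | h'
    · exact key 2 1 0 (by decide) (by decide) (by decide) h'
    · exact key 2 0 1 (by decide) (by decide) (by decide) (h'.trans h.symm)
  obtain ⟨c, u, hc, hu, huo⟩ := hframe
  have hcoef : ∀ (g : Fin 3 → F) (i : Fin 3), f₂ (∑ l, g l • u l) (u i) = g i * c := fun g i => by
    rw [h₂.sesq.sum_left, Finset.sum_eq_single i]
    · rw [h₂.smul_left, hu]
    · intro l _ hl; rw [h₂.smul_left, huo l i hl, mul_zero]
    · simp
  have hli : LinearIndependent F u := by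
    rw [Fintype.linearIndependent_iff]
    intro g hg i
    have h1 := hcoef g i
    rw [hg, h₂.zero_left, eq_comm, mul_eq_zero] at h1
    exact h1.resolve_right hc
  let w := basisOfLinearIndependentOfCardEqFinrank hli (by rw [Module.finrank_fin_fun, Fintype.card_fin])
  have hw : ∀ j, w j = u j := fun j => by simp [w]
  refine ⟨w, fun j => by rw [hw, hu]; exact hc, fun j k h => by rw [hw, hw]; exact huo j k h, ?_⟩
  intro B μ hμ hB j
  have hμ1 : μ = 1 := by
    set G := gramMatrix f₂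
    have hG : (B : Matrix (Fin 3) (Fin 3) F)ᵀ * G * (B : Matrix (Fin 3) (Fin 3) F) = μ • G := by
      ext p q
      have := hB (Pi.single p 1) (Pi.single q 1)
      rw [Tensor.sesq_expand h₂.sesq] at this
      simp only [Matrix.mul_apply, Matrix.transpose_apply, Matrix.smul_apply, smul_eq_mul, Finset.sum_mul]
      rw [Finset.sum_comm]
      simpa [G, gramMatrix] using this
    have hdet : G.det ≠ 0 := by
      intro h0
      obtain ⟨z, hz0, hz⟩ := Matrix.exists_mulVec_eq_zero_iff.2 h0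
      obtain ⟨x, hx⟩ := (h₂.nondeg z hz0).1
      apply hx
      rw [Tensor.sesq_expand h₂.sesq]
      refine Finset.sum_eq_zero fun p _ => ?_
      have h1 : ∑ q, G p q * z q = 0 := congrFun hz p
      simp only [show ∀ q, (((RingEquiv.refl F : F ≃+* F) : F →+* F) (z q)) = z q from fun _ => rfl, mul_assoc]
      rw [← Finset.mul_sum, h1, mul_zero]
    have h1 := congrArg Matrix.det hG
    rw [Matrix.det_mul, Matrix.det_mul, Matrix.det_transpose, Matrix.det_smul, Fintype.card_fin] at h1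
    have hB0 : (B : Matrix (Fin 3) (Fin 3) F).det ≠ 0 := ((Matrix.isUnit_iff_isUnit_det _).1 B.isUnit).ne_zero
    have h4 : μ ^ 3 = (B : Matrix (Fin 3) (Fin 3) F).det * (B : Matrix (Fin 3) (Fin 3) F).det :=
      mul_right_cancel₀ hdet (by linear_combination -h1)
    rw [hsq _ hB0, pow_succ, sq, hsq _ hμ, one_mul] at h4
    exact h4
  have hy := hB (w j) (w j)
  rw [hμ1, one_mul, hw, hu] at hy
  rw [hw]
  set y := (B : Matrix (Fin 3) (Fin 3) F) *ᵥ u j
  have hrep : y = ∑ l, w.repr y l • u l := by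
    conv_lhs => rw [← w.sum_repr y]
    exact Finset.sum_congr rfl fun l _ => by rw [hw]
  set r := w.repr y
  have hval : (r 0 * r 0 + r 1 * r 1 + r 2 * r 2 : F) = 1 := by
    apply mul_right_cancel₀ hc
    rw [one_mul]
    conv_rhs => rw [← hy]
    conv_rhs => arg 2; rw [hrep]
    rw [h₂.sesq.sum_right, Fin.sum_univ_three]
    have : ∀ l, f₂ y (u l) = r l * c := fun l => by
      conv_lhs => rw [hrep]
      exact hcoef _ l
    simp only [h₂.smul_right, this, RingEquiv.refl_apply]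
    show _ = (r 0) * _ + (r 1) * _ + (r 2) * _
    ring
  rw [Fin.sum_univ_three] at hrep
  have one_ne : (1 : F) + 1 ≠ 1 := fun h => one_ne_zero (add_left_cancel (h.trans (add_zero 1).symm))
  by_cases h0 : r 0 = 0
  · by_cases h1 : r 1 = 0
    · exact ⟨2, r 2, by rw [hw, hrep, h0, h1]; simp⟩
    · by_cases h22 : r 2 = 0
      · exact ⟨1, r 1, by rw [hw, hrep, h0, h22]; simp⟩
      · rw [h0, hsq _ h1, hsq _ h22, mul_zero, zero_add] at hval
        exact absurd hval one_ne
  · by_cases h1 : r 1 = 0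
    · by_cases h22 : r 2 = 0
      · exact ⟨0, r 0, by rw [hw, hrep, h1, h22]; simp⟩
      · rw [h1, hsq _ h0, hsq _ h22, mul_zero, add_zero] at hval
        exact absurd hval one_ne
    · by_cases h22 : r 2 = 0
      · rw [h22, hsq _ h0, hsq _ h1, mul_zero, add_zero] at hval
        exact absurd hval one_ne
      · rw [hsq _ h0, hsq _ h1, hsq _ h22, show (1 : F) + 1 + 1 = 3 by norm_num, h30] at hval
        exact absurd hval zero_ne_one

end CfsgLib.Geo.Asch
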