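import Mathlib
import Cfsg.Prelude.Def_GeometricClasses
import Cfsg.Agent.Lib.Geo.AschFormFactor
import Cfsg.Agent.Lib.Geo.AschFormCore

/-! A two dimensional symmetric factor gives a commutative normalised subalgebra. -/

set_option autoImplicit false
set_option linter.unusedSectionVars false

namespace CfsgLib.Geo.Asch

open Cfsg Cfsg.Geo Matrix CfsgLib.GeomClasses CfsgLib.Maximal.TensorTools
open scoped MatrixGroups Kronecker

variable {ι : Type} [Fintype ι] [DecidableEq ι] {F : Type*} [Field F] [Fintype F]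

theorem tensorEmb_pure {a b : ℕ} (e : ι ≃ Fin a × Fin b) (P : GL ι F) (X : Matrix (Fin a) (Fin a) F)
    (x : Fin a → F) (y : Fin b → F) :
    tensorEmb a b e P X *ᵥ coord e P (CfsgLib.Maximal.TensorTools.pure x y) =
      coord e P (CfsgLib.Maximal.TensorTools.pure (X *ᵥ x) y) := by
  rw [coord_apply, coord_apply, tensorEmb_mulVec, kronecker_mulVec_pure, Matrix.one_mulVec]

/-- Two matrices agreeing on pure tensors are equal. -/
theorem ext_coord_pure {a b : ℕ} (e : ι ≃ Fin a × Fin b) (P : GL ι F) {M M' : Matrix ι ι F}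
    (h : ∀ x y, M *ᵥ coord e P (CfsgLib.Maximal.TensorTools.pure x y) =
      M' *ᵥ coord e P (CfsgLib.Maximal.TensorTools.pure x y)) : M = M' := by
  classical
  refine Matrix.ext_of_mulVec_single fun k => ?_
  obtain ⟨z, hz⟩ := (coord e P).surjective (Pi.single k 1)
  rw [← hz, show z = ∑ i, CfsgLib.Maximal.TensorTools.pure (Pi.single i (1 : F)) (fun j => z (i, j)) by
    funext p
    rw [Finset.sum_apply, Finset.sum_eq_single p.1 (fun i _ hi => by
      simp [CfsgLib.Maximal.TensorTools.pure, hi.symm]) (by simp)]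
    simp [CfsgLib.Maximal.TensorTools.pure], map_sum, Matrix.mulVec_sum, Matrix.mulVec_sum]
  exact Finset.sum_congr rfl fun i _ => h _ _

theorem conj_tensorEmb {a b : ℕ} (e : ι ≃ Fin a × Fin b) (P : GL ι F) {g : GL ι F}
    (A : GL (Fin a) F) (B : GL (Fin b) F)
    (hAB : ∀ x y, (g : Matrix ι ι F) *ᵥ coord e P (CfsgLib.Maximal.TensorTools.pure x y) =
        coord e P (CfsgLib.Maximal.TensorTools.pure ((A : Matrix (Fin a) (Fin a) F) *ᵥ x) ((B : Matrix (Fin b) (Fin b) F) *ᵥ y)))
    (X : Matrix (Fin a) (Fin a) F) :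
    conjHom g (tensorEmb a b e P X) = tensorEmb a b e P (conjHom A X) := by
  have h : (g : Matrix ι ι F) * tensorEmb a b e P X = tensorEmb a b e P (conjHom A X) * g := by
    refine ext_coord_pure e P fun x y => ?_
    rw [← Matrix.mulVec_mulVec, ← Matrix.mulVec_mulVec, tensorEmb_pure, hAB, hAB, tensorEmb_pure, conjHom_apply,
      ← Matrix.mulVec_mulVec, ← Matrix.mulVec_mulVec, gl_inv_mulVec_mulVec]
  rw [conjHom_apply, h, mul_assoc, Units.mul_inv, mul_one]

/-- A tensor product with a two dimensional symmetric factor is a commutative structure. -/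
theorem comm_of_symmetric_plane [Nonempty ι] {ε ε₂ : F} {f : (ι → F) → (ι → F) → F}
    (hf : Herm (RingEquiv.refl F) ε f) (h2 : (2 : F) ≠ 0) {H : Subgroup (GL ι F)} (hH : IsoGrp f H)
    (hirr : ActsIrreducibly (matrixSet H)) {b : ℕ} {e : ι ≃ Fin 2 × Fin b} {P : GL ι F}
    {f₁ : (Fin 2 → F) → (Fin 2 → F) → F} {f₂ : (Fin b → F) → (Fin b → F) → F}
    (h₁ : Herm (RingEquiv.refl F) 1 f₁) (h₂ : Herm (RingEquiv.refl F) ε₂ f₂)
    (hT : IsTensorFormStructure ((RingEquiv.refl F : F ≃+* F) : F → F) f f₁ f₂ e P)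
    (hle : H ≤ tensorProductSubgroup 2 b e P) :
    (∃ (t' m' : ℕ) (D' : Fin t' → Submodule F (ι → F)), IsNondegenerateMDecomposition f m' D' ∧
      H ≤ decompositionStabilizer D') ∨
    (∃ (m' : ℕ) (D' : Fin 2 → Submodule F (ι → F)), IsMDecomposition m' D' ∧
      (∀ i, IsTotallySingularFor f (D' i)) ∧ H ≤ decompositionStabilizer D') ∨
    (∃ (s : ℕ) (K : Subalgebra F (Matrix ι ι F)), s.Prime ∧ IsFieldSubalgebra s K ∧
      IsAdjointClosedFor f K ∧ Normalized H K) := by
  classical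
  haveI : Nonempty (Fin 2 × Fin b) := e.nonempty_congr.1 inferInstance
  haveI : Nonempty (Fin b) := (inferInstance : Nonempty (Fin 2 × Fin b)).map Prod.snd
  haveI : NeZero b := ⟨fun h => by subst h; exact (Classical.arbitrary (Fin 0)).elim0⟩
  set G : Matrix (Fin 2) (Fin 2) F := gramMatrix f₁ with hG
  have hG10 : G 1 0 = G 0 1 := by
    show f₁ _ _ = f₁ _ _
    rw [h₁.symm, one_mul]; rfl
  have hexp : ∀ x y, f₁ x y = x 0 * G 0 0 * y 0 + x 0 * G 0 1 * y 1 + (x 1 * G 0 1 * y 0 + x 1 * G 1 1 * y 1) := by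
    intro x y
    rw [Tensor.sesq_expand h₁.sesq, Fin.sum_univ_two, Fin.sum_univ_two, Fin.sum_univ_two,
      show gramMatrix f₁ 1 0 = G 0 1 from hG10]
    rfl
  set J : Matrix (Fin 2) (Fin 2) F := !![-G 0 1, -G 1 1; G 0 0, G 0 1] with hJ
  have hskew : ∀ x y, f₁ (J *ᵥ x) y = -f₁ x (J *ᵥ y) := by
    intro x y
    rw [hexp, hexp]
    simp [hJ, Matrix.mulVec, dotProduct, Fin.sum_univ_two]
    ring
  have hdet : G 0 0 * G 1 1 - G 0 1 * G 0 1 ≠ 0 := by
    intro h0
    obtain ⟨z, hz0, hz⟩ := Matrix.exists_mulVec_eq_zero_iff.2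
      (show G.det = 0 by rw [Matrix.det_fin_two, hG10]; exact h0)
    obtain ⟨x, hx⟩ := (h₁.nondeg z hz0).1
    apply hx
    rw [hexp]
    have e0 := congrFun hz 0
    have e1 := congrFun hz 1
    simp [Matrix.mulVec, dotProduct, Fin.sum_univ_two, hG10] at e0 e1
    linear_combination x 0 * e0 + x 1 * e1
  have huniq : ∀ M : Matrix (Fin 2) (Fin 2) F, (∀ x y, f₁ (M *ᵥ x) y = -f₁ x (M *ᵥ y)) → ∃ t : F, M = t • J := by
    intro M hM
    have e00 := hM (Pi.single 0 1) (Pi.single 0 1)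
    have e11 := hM (Pi.single 1 1) (Pi.single 1 1)
    have e01 := hM (Pi.single 0 1) (Pi.single 1 1)
    simp [hexp] at e00 e11 e01
    have a0 : M 0 0 * G 0 0 + M 1 0 * G 0 1 = 0 :=
      mul_left_cancel₀ h2 (by rw [mul_zero]; linear_combination e00)
    have a1 : M 0 1 * G 0 1 + M 1 1 * G 1 1 = 0 :=
      mul_left_cancel₀ h2 (by rw [mul_zero]; linear_combination e11)
    -- e01 says the skew matrix G * M has opposite corners
    refine ⟨(M 0 0 * G 0 1 + M 1 0 * G 1 1) / (G 0 0 * G 1 1 - G 0 1 * G 0 1), ?_⟩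
    ext i j
    rw [Matrix.smul_apply, smul_eq_mul, div_mul_eq_mul_div, eq_div_iff hdet]
    fin_cases i <;> fin_cases j <;> simp [hJ]
    · linear_combination G 1 1 * a0
    · linear_combination G 1 1 * e01 - G 0 1 * a1
    · linear_combination - G 0 1 * a0
    · linear_combination G 0 0 * a1 - G 0 1 * e01
  obtain ⟨c, hc, hform⟩ := form_coord hT h₁ h₂
  set φ := tensorEmb 2 b e P with hφ
  have hadj : ∀ (M M' : Matrix (Fin 2) (Fin 2) F), (∀ x y, f₁ (M *ᵥ x) y = f₁ x (M' *ᵥ y)) →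
      Herm.Adj f (φ M) (φ M') := by
    intro M M' hMM u v
    obtain ⟨z, rfl⟩ := (coord e P).surjective u
    obtain ⟨z', rfl⟩ := (coord e P).surjective v
    have hdec : ∀ z : Fin 2 × Fin b → F,
        z = ∑ i, CfsgLib.Maximal.TensorTools.pure (Pi.single i (1 : F)) (fun j => z (i, j)) := fun z => by
      funext p
      rw [Finset.sum_apply, Finset.sum_eq_single p.1 (fun i _ hi => by
        simp [CfsgLib.Maximal.TensorTools.pure, hi.symm]) (by simp)]
      simp [CfsgLib.Maximal.TensorTools.pure]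
    rw [hdec z, hdec z', map_sum, map_sum, Matrix.mulVec_sum, Matrix.mulVec_sum]
    simp only [hf.sesq.sum_left, hf.sesq.sum_right, hφ, tensorEmb_pure, hform, hMM]
  have hφJ : Herm.Adj f (φ J) (φ (-J)) := hadj J (-J) fun x y => by
    rw [hskew, Matrix.neg_mulVec, h₁.neg_right]
  let R : Subalgebra F (Matrix ι ι F) := Algebra.adjoin F {φ J}
  have hJR : φ J ∈ R := Algebra.subset_adjoin rfl
  have hRa : IsAdjointClosedFor f R := by
    intro k hk
    induction hk using Algebra.adjoin_induction with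
    | mem s hs =>
      rw [Set.mem_singleton_iff] at hs
      subst hs
      exact ⟨φ (-J), by rw [map_neg]; exact R.neg_mem hJR, hφJ⟩
    | algebraMap t => exact ⟨_, Subalgebra.algebraMap_mem _ _, hf.adj_algebraMap t⟩
    | add x y _ _ hx hy =>
      obtain ⟨x', hx', ex⟩ := hx
      obtain ⟨y', hy', ey⟩ := hy
      exact ⟨x' + y', add_mem hx' hy', hf.adj_add ex ey⟩
    | mul x y _ _ hx hy =>
      obtain ⟨x', hx', ex⟩ := hx
      obtain ⟨y', hy', ey⟩ := hy
      exact ⟨y' * x', mul_mem hy' hx', hf.adj_mul ex ey⟩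
  have hRn : Normalized H R := by
    intro g hg x hx
    obtain ⟨A, B, μ, hμ, hAB, hB⟩ := exists_factor_scale hT h₁ h₂ (hle hg) (hH g hg)
    obtain ⟨t, ht⟩ := huniq (conjHom A J) (by
      intro x' y'
      obtain ⟨w, hw⟩ := exists_ne (0 : Fin b → F)
      obtain ⟨w', hw'⟩ := (h₂.nondeg w hw).1
      have hgJ : Herm.Adj f (conjHom g (φ J)) (conjHom g (φ (-J))) := by
        intro u v
        simp only [conjHom_apply, ← Matrix.mulVec_mulVec]
        conv_lhs => rw [← gl_mulVec_inv_mulVec g v]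
        rw [hH g hg, hφJ, ← hH g hg, gl_mulVec_inv_mulVec]
      have h := hgJ (coord e P (CfsgLib.Maximal.TensorTools.pure x' w')) (coord e P (CfsgLib.Maximal.TensorTools.pure y' w))
      simp only [hφ, conj_tensorEmb e P A B hAB, map_neg, Matrix.neg_mulVec, hf.neg_right, tensorEmb_pure, hform] at h
      exact mul_right_cancel₀ hw' (mul_left_cancel₀ hc (by linear_combination h)))
    have hx' : conjHom g x ∈ R.map (conjHom g) := ⟨x, hx, rfl⟩
    refine (show R.map (conjHom g) ≤ R from ?_) hx'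
    rw [AlgHom.map_adjoin]
    refine Algebra.adjoin_le ?_
    rintro _ ⟨_, rfl, rfl⟩
    rw [hφ, conj_tensorEmb e P A B hAB, ht, map_smul]
    exact R.smul_mem hJR _
  have hne : R ≠ ⊥ := by
    intro h
    obtain ⟨t, ht⟩ := Algebra.mem_bot.1 (h ▸ hJR : φ J ∈ (⊥ : Subalgebra F _))
    have hJt : J = algebraMap F _ t := by
      have hw0 : (fun _ => (1 : F) : Fin b → F) ≠ 0 := fun h => one_ne_zero (congrFun h ⟨0, Nat.pos_of_neZero b⟩)
      refine Matrix.ext_of_mulVec_single fun k => blockMap_injective (e := e) (P := P) hw0 ?_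
      show coord e P _ = coord e P _
      rw [← tensorEmb_pure, ← tensorEmb_pure, ← hφ, ← ht, AlgHom.commutes]
    have h01 := congrFun (congrFun hJt 0) 1
    have h10 := congrFun (congrFun hJt 1) 0
    have h00 := congrFun (congrFun hJt 0) 0
    have h11 := congrFun (congrFun hJt 1) 1
    simp [hJ, Matrix.algebraMap_eq_diagonal] at h01 h10 h00 h11
    have hg01 : G 0 1 = 0 :=
      (mul_eq_zero.1 (show (2 : F) * G 0 1 = 0 by linear_combination h11 - h00)).resolve_left h2
    exact hdet (by rw [h10, hg01]; ring)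
  refine comm_cases hf hH hirr hRn (fun x hx y hy => ?_) hRa hne
  obtain ⟨p, rfl⟩ : x ∈ (Polynomial.aeval (R := F) (φ J)).range := by
    rw [← Algebra.adjoin_singleton_eq_range_aeval]; exact hx
  obtain ⟨q, rfl⟩ : y ∈ (Polynomial.aeval (R := F) (φ J)).range := by
    rw [← Algebra.adjoin_singleton_eq_range_aeval]; exact hy
  show Polynomial.aeval (φ J) p * Polynomial.aeval (φ J) q = Polynomial.aeval (φ J) q * Polynomial.aeval (φ J) p
  rw [← map_mul, ← map_mul, mul_comm]

end CfsgLib.Geo.Asch
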