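import Mathlib
import Cfsg.Prelude.Def_GeometricClasses
import Cfsg.Agent.Lib.Geo.AschFormRational
import Cfsg.Agent.Lib.GeomClasses.OrthClasses

/-! Ω lies in no member of the classes (via Siegel elements). -/

set_option autoImplicit false

namespace CfsgLib.Geo.Asch

open Cfsg Cfsg.Geo Matrix QuadraticMap CfsgLib.GeomClasses CfsgLib.Maximal.TensorTools
open scoped MatrixGroups

variable {ι : Type} [Fintype ι] [DecidableEq ι] {F : Type*} [Field F] [Fintype F] {Q : (ι → F) → F}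

/-- The singular vectors of a subspace with a singular vector span it. -/
theorem singular_spans {q : QuadraticForm F (ι → F)} (hq : q.polarBilin.Nondegenerate) {X W : Submodule F (ι → F)}
    (hX : ∀ x ∈ X, x ≠ 0 → ∃ y ∈ X, polar q x y ≠ 0) {u₀ : ι → F} (hu : u₀ ∈ X) (hu0 : u₀ ≠ 0) (hqu : q u₀ = 0)
    (hW : ∀ x ∈ X, q x = 0 → x ∈ W) : X ≤ W := by
  obtain ⟨u₁, hu₁, hqu₁, h01⟩ := OrthTools.exists_partner hX hu hu0 hqu
  obtain ⟨Y, hYX, -, hY, hY', -⟩ := OrthClasses.remove_pair hq hX hu hu₁ hqu hqu₁ h01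
  intro x hx
  set a := polar q u₁ x with ha
  set b := polar q u₀ x with hb
  set x₂ := x - a • u₀ - b • u₁ with hx₂
  have hx₂Y : x₂ ∈ Y := by
    refine hY' _ (X.sub_mem (X.sub_mem hx (X.smul_mem _ hu)) (X.smul_mem _ hu₁)) ?_ ?_
    · simp [hx₂, hb, polar_sub_right, polar_smul_right, CfsgLib.Orth.polar_self', hqu, h01]
    · simp [hx₂, ha, polar_sub_right, polar_smul_right, CfsgLib.Orth.polar_self', hqu₁,
        polar_comm (f := ⇑q) u₁ u₀, h01]
  have hz : q (x₂ + u₀ + (- q x₂) • u₁) = 0 := by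
    obtain ⟨h0, h1⟩ := hY x₂ hx₂Y
    rw [QuadraticMap.map_add ⇑q, QuadraticMap.map_add ⇑q, QuadraticMap.map_smul, hqu₁, hqu, polar_add_left,
      polar_smul_right, polar_smul_right, polar_comm (f := ⇑q) x₂ u₀, polar_comm (f := ⇑q) x₂ u₁, h0, h1, h01]
    simp
  have hm := hW _ (X.add_mem (X.add_mem (hYX hx₂Y) hu) (X.smul_mem _ hu₁)) hz
  have h1 : x₂ ∈ W := by
    have := W.sub_mem (W.sub_mem hm (hW _ hu hqu)) (W.smul_mem (- q x₂) (hW _ hu₁ hqu₁))
    convert this using 1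
    module
  have := W.add_mem (W.add_mem h1 (W.smul_mem b (hW _ hu₁ hqu₁))) (W.smul_mem a (hW _ hu hqu))
  convert this using 1
  rw [hx₂]
  module

/-- The Siegel elements through a singular vector. -/
theorem exists_siegel_through (hQ : IsNondegenerateQuadraticForm Q) (hn : 7 ≤ Fintype.card ι) {u : ι → F}
    (hu0 : u ≠ 0) (hu : Q u = 0) :
    ∃ Y : Submodule F (ι → F), Fintype.card ι ≤ Module.finrank F Y + 2 ∧
      (∀ x ∈ Y, x ≠ 0 → ∃ y ∈ Y, polar Q x y ≠ 0) ∧ (∀ b ∈ Y, polar Q u b = 0) ∧ u ∉ Y ∧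
      ∀ b ∈ Y, Q b = 0 → b ≠ 0 →
        ∃ g ∈ omegaGL Q, ∀ x, (g : Matrix ι ι F) *ᵥ x = x + polar Q x b • u - polar Q x u • b := by
  let q := quadOf hQ
  have hq : q.polarBilin.Nondegenerate := OrthTools.quadOf_nondegenerate hQ
  have h0 : ∀ x ∈ (⊤ : Submodule F (ι → F)), x ≠ 0 → ∃ y ∈ (⊤ : Submodule F (ι → F)), polar q x y ≠ 0 :=
    fun x _ hx => (hQ.nondegenerate x hx).2.imp fun y hy => ⟨trivial, hy⟩
  obtain ⟨u', -, hqu', huu'⟩ := OrthTools.exists_partner (q := q) h0 trivial hu0 hu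
  obtain ⟨Y, -, hd, hY, -, hn₁⟩ := OrthClasses.remove_pair (q := q) hq h0 Submodule.mem_top Submodule.mem_top hu hqu' huu'
  rw [finrank_top, Module.finrank_fintype_fun_eq_card] at hd
  refine ⟨Y, hd, hn₁, fun b hb => (hY b hb).1, fun h => ?_, fun b hb hqb hb0 => ?_⟩
  · have := (hY u h).2
    rw [polar_comm, huu'] at this
    exact one_ne_zero this
  obtain ⟨b', hb', hqb', hbb'⟩ := OrthTools.exists_partner hn₁ hb hb0 hqb
  obtain ⟨Y₂, hY₂le, hd₂, hY₂, -, hn₂⟩ := OrthClasses.remove_pair hq hn₁ hb hb' hqb hqb' hbb'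
  obtain ⟨p, hp, hp0, hqp⟩ := OrthTools.exists_singular hq Y₂ (by omega)
  obtain ⟨r, hr, hqr, hpr⟩ := OrthTools.exists_partner hn₂ hp hp0 hqp
  exact OrthClasses.exists_siegel hQ hu hqb hqp hqr (hY b hb).1 (hY p (hY₂le hp)).1 (hY r (hY₂le hr)).1
    (hY₂ p hp).1 (hY₂ r hr).1 hpr

theorem omega_not_le_subspace (hQ : IsNondegenerateQuadraticForm Q) (hn : 7 ≤ Fintype.card ι)
    {W : Submodule F (ι → F)} (h1 : W ≠ ⊥) (h2 : W ≠ ⊤) : ¬ omegaGL Q ≤ subspaceStabilizer W := by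
  intro hle
  let q := quadOf hQ
  have hq : q.polarBilin.Nondegenerate := OrthTools.quadOf_nondegenerate hQ
  have hrefl : q.polarBilin.IsRefl := fun a b hab => by
    rw [QuadraticMap.polarBilin_apply_apply] at hab ⊢
    rwa [polar_comm]
  set W' := OrthTools.orth q W with hW'
  have hdd : OrthTools.orth q W' = W := LinearMap.BilinForm.orthogonal_orthogonal hq hrefl W
  have hle' : omegaGL Q ≤ subspaceStabilizer W' := by
    intro g hg
    refine mem_subspaceStabilizer.2 fun v hv => OrthTools.mem_orth.2 fun y hy => ?_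
    have h3 := mem_subspaceStabilizer.1 (hle ((omegaGL Q).inv_mem hg)) y hy
    have h4 := OrthTools.mem_orth.1 hv _ h3
    show polar Q y _ = 0
    rw [← omega_polar hQ ((omegaGL Q).inv_mem hg), gl_inv_mulVec_mulVec]
    exact h4
  have key : ∀ {U : Submodule F (ι → F)}, omegaGL Q ≤ subspaceStabilizer U → ∀ {u : ι → F}, u ≠ 0 → Q u = 0 →
      ∀ {w : ι → F}, w ∈ U → polar Q w u ≠ 0 →
      ∀ {Y : Submodule F (ι → F)}, (∀ x ∈ Y, x ≠ 0 → ∃ y ∈ Y, polar Q x y ≠ 0) → 3 ≤ Module.finrank F Y →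
      (∀ b ∈ Y, Q b = 0 → b ≠ 0 →
        ∃ g ∈ omegaGL Q, ∀ x, (g : Matrix ι ι F) *ᵥ x = x + polar Q x b • u - polar Q x u • b) →
      Module.finrank F Y ≤ Module.finrank F U + 1 := by
    intro U hU u hu0 hu w hw hwu Y hnY hY3 hgY
    have hle2 : Y ≤ U ⊔ Submodule.span F {u} := by
      obtain ⟨z, hz, hz0, hqz⟩ := OrthTools.exists_singular (q := q) hq Y hY3
      refine singular_spans (q := q) hq hnY hz hz0 hqz fun b hb hqb => ?_
      by_cases hb0 : b = 0
      · rw [hb0]; exact zero_mem _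
      obtain ⟨g, hg, hgx⟩ := hgY b hb hqb hb0
      have h3 := mem_subspaceStabilizer.1 (hU hg) w hw
      rw [hgx, add_sub_assoc, U.add_mem_iff_right hw] at h3
      have h4 : b = (polar Q w u)⁻¹ • (polar Q w b • u) +
          (-(polar Q w u)⁻¹) • (polar Q w b • u - polar Q w u • b) := by
        match_scalars <;> field_simp <;> ring
      rw [h4]
      exact add_mem (Submodule.mem_sup_right (Submodule.smul_mem _ _ (Submodule.smul_mem _ _
        (Submodule.mem_span_singleton_self u)))) (Submodule.mem_sup_left (U.smul_mem _ h3))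
    have h5 := (Submodule.finrank_mono hle2).trans (Submodule.finrank_add_le_finrank_add_finrank _ _)
    rw [finrank_span_singleton hu0] at h5
    exact h5
  have hA : ∀ u, Q u = 0 → u ∈ W ∨ u ∈ W' := by
    intro u hu
    by_contra hne
    push Not at hne
    obtain ⟨hnW, hnW'⟩ := hne
    have hu0 : u ≠ 0 := fun h => hnW (h ▸ W.zero_mem)
    obtain ⟨w, hw, hwu⟩ : ∃ w ∈ W, polar Q w u ≠ 0 := by
      by_contra h; push Not at h; exact hnW' (OrthTools.mem_orth.2 h)
    obtain ⟨w', hw', hw'u⟩ : ∃ w' ∈ W', polar Q w' u ≠ 0 := by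
      by_contra h; push Not at h; exact hnW (hdd ▸ OrthTools.mem_orth.2 h)
    obtain ⟨Y, hYd, hnY, -, -, hgY⟩ := exists_siegel_through hQ hn hu0 hu
    have e1 := key hle hu0 hu hw hwu hnY (by omega) hgY
    have e2 := key hle' hu0 hu hw' hw'u hnY (by omega) hgY
    have e3 := OrthTools.finrank_orth hq W
    rw [← hW'] at e3
    have e4 := Submodule.finrank_le W
    rw [Module.finrank_fintype_fun_eq_card] at e4
    omega
  obtain ⟨z, hz, hz0, hqz⟩ := OrthTools.exists_singular (q := q) hq ⊤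
    (by rw [finrank_top, Module.finrank_fintype_fun_eq_card]; omega)
  have h0 : ∀ x ∈ (⊤ : Submodule F (ι → F)), x ≠ 0 → ∃ y ∈ (⊤ : Submodule F (ι → F)), polar q x y ≠ 0 :=
    fun x _ hx => (hQ.nondegenerate x hx).2.imp fun y hy => ⟨trivial, hy⟩
  by_cases hall : ∀ u, Q u = 0 → u ∈ W
  · exact h2 (top_le_iff.1 (singular_spans (q := q) hq h0 hz hz0 hqz fun x _ hx => hall x hx))
  push Not at hall
  obtain ⟨b, hb, hbW⟩ := hall
  have hbp := (hA b hb).resolve_left hbW
  have hperp : W' = ⊤ := by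
    refine top_le_iff.1 (singular_spans (q := q) hq h0 hz hz0 hqz fun a _ ha => ?_)
    rcases hA a ha with haW | hap
    swap
    · exact hap
    have hsum : Q (a + b) = 0 := by
      show q (a + b) = 0
      rw [QuadraticMap.map_add ⇑q, OrthTools.mem_orth.1 hbp a haW, show q a = 0 from ha, show q b = 0 from hb]
      simp
    exact (W'.add_mem_iff_left hbp).1 ((hA _ hsum).resolve_left fun h => hbW ((W.add_mem_iff_right haW).1 h))
  have h5 := OrthTools.finrank_orth hq W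
  rw [← hW', hperp, finrank_top, Module.finrank_fintype_fun_eq_card] at h5
  have h6 := Submodule.finrank_le W
  rw [Module.finrank_fintype_fun_eq_card] at h6
  exact h1 (Submodule.finrank_eq_zero.1 (by omega))

theorem exists_siegel_element (hQ : IsNondegenerateQuadraticForm Q) (hn : 7 ≤ Fintype.card ι) :
    ∃ u b : ι → F, u ≠ 0 ∧ b ≠ 0 ∧ b ∉ Submodule.span F {u} ∧ Q u = 0 ∧ Q b = 0 ∧ polar Q u b = 0 ∧
      ∀ s : F, ∃ g ∈ omegaGL Q, ∀ x,
        (g : Matrix ι ι F) *ᵥ x = x + s • (polar Q x b • u - polar Q x u • b) := by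
  let q := quadOf hQ
  have hq : q.polarBilin.Nondegenerate := OrthTools.quadOf_nondegenerate hQ
  obtain ⟨u, -, hu0, hu⟩ := OrthTools.exists_singular (q := q) hq ⊤
    (by rw [finrank_top, Module.finrank_fintype_fun_eq_card]; omega)
  obtain ⟨Y, hYd, -, hYu, huY, hgY⟩ := exists_siegel_through hQ hn hu0 hu
  obtain ⟨b, hb, hb0, hqb⟩ := OrthTools.exists_singular (q := q) hq Y (by omega)
  refine ⟨u, b, hu0, hb0, fun h => ?_, hu, hqb, hYu b hb, fun s => ?_⟩
  · obtain ⟨a, ha⟩ := Submodule.mem_span_singleton.1 h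
    have ha0 : a ≠ 0 := fun h' => hb0 (by rw [← ha, h', zero_smul])
    exact huY (by rw [← inv_smul_smul₀ ha0 u, ha]; exact Y.smul_mem _ hb)
  · by_cases hs : s = 0
    · exact ⟨1, (omegaGL Q).one_mem, fun x => by simp [hs]⟩
    obtain ⟨g, hg, hgx⟩ := hgY (s • b) (Y.smul_mem _ hb) (by rw [hQ.smul, show Q b = 0 from hqb, mul_zero])
      (smul_ne_zero hs hb0)
    refine ⟨g, hg, fun x => ?_⟩
    rw [hgx, hQ.polar_bilinear.smul_right]
    module

omit [Fintype F] in
theorem siegel_sq_zero (hQ : IsNondegenerateQuadraticForm Q) {u b : ι → F} (hu : Q u = 0) (hb : Q b = 0)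
    (hub : polar Q u b = 0) (x : ι → F) :
    polar Q (polar Q x b • u - polar Q x u • b) b • u - polar Q (polar Q x b • u - polar Q x u • b) u • b = 0 := by
  change quadOf hQ u = 0 at hu
  change quadOf hQ b = 0 at hb
  change polar (quadOf hQ) u b = 0 at hub
  show polar (quadOf hQ) (polar (quadOf hQ) x b • u - polar (quadOf hQ) x u • b) b • u -
    polar (quadOf hQ) (polar (quadOf hQ) x b • u - polar (quadOf hQ) x u • b) u • b = 0
  simp [-quadOf_coe, polar_sub_left, polar_smul_left, CfsgLib.Orth.polar_self', hu, hb, hub,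
    polar_comm (f := ⇑(quadOf hQ)) b u]

theorem omega_not_le_decomposition (hQ : IsNondegenerateQuadraticForm Q) (hn : 7 ≤ Fintype.card ι)
    (h2 : (2 : F) ≠ 0) {t : ℕ} {D : Fin t → Submodule F (ι → F)} (hD : IsMDecomposition 1 D) :
    ¬ omegaGL Q ≤ decompositionStabilizer D := by
  intro hle
  obtain ⟨u, b, hu0, hb0, hbu, hu, hb, hub, hg⟩ := exists_siegel_element hQ hn
  obtain ⟨g, hgΩ, hgx⟩ := hg 1
  simp only [one_smul] at hgx
  set L := fun x : ι → F => polar Q x b • u - polar Q x u • b with hL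
  obtain ⟨τ, hτ⟩ := hle hgΩ
  have hgL : ∀ x, (g : Matrix ι ι F) *ᵥ x = x + L x := hgx
  have hsq : ∀ x, (g : Matrix ι ι F) *ᵥ ((g : Matrix ι ι F) *ᵥ x) = (2 : F) • ((g : Matrix ι ι F) *ᵥ x) - x := by
    intro x
    have h3 : L (L x) = 0 := siegel_sq_zero hQ hu hb hub x
    have h4 : (g : Matrix ι ι F) *ᵥ L x = L x := by rw [hgL, h3, add_zero]
    rw [hgL x, Matrix.mulVec_add, hgL x, h4]
    module
  have hall : ∀ i, ∀ v ∈ D i, L v = 0 := by
    intro i v hv
    by_cases hv0 : v = 0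
    · simp [hv0, hL, (polar_isSesq hQ).zero_left]
    have h5 : (g : Matrix ι ι F) *ᵥ v ∈ D (τ i) := hτ i ▸ ⟨v, hv, Matrix.toLin'_apply _ _⟩
    by_cases hi : τ i = i
    · rw [hi] at h5
      obtain ⟨z, hz0, hz⟩ := finrank_eq_one_iff'.1 (hD.finrank_eq i)
      obtain ⟨c, hc⟩ := hz ⟨v, hv⟩
      obtain ⟨d, hd⟩ := hz ⟨_, h5⟩
      have hc' : c • (z : ι → F) = v := congrArg Subtype.val hc
      have hd' : d • (z : ι → F) = (g : Matrix ι ι F) *ᵥ v := congrArg Subtype.val hd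
      have hc0 : c ≠ 0 := fun h => hv0 (by rw [← hc', h, zero_smul])
      have hgv : (g : Matrix ι ι F) *ᵥ v = (d / c) • v := by rw [← hd', ← hc', smul_smul, div_mul_cancel₀ _ hc0]
      have h6 := hsq v
      rw [hgv, Matrix.mulVec_smul, hgv, smul_smul, smul_smul] at h6
      have h7 : ((d / c) * (d / c) - 2 * (d / c) + 1) • v = 0 := by
        rw [add_smul, sub_smul, h6, one_smul]; abel
      have h8 : (d / c - 1) * (d / c - 1) = 0 := by linear_combination (smul_eq_zero.1 h7).resolve_right hv0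
      have h9 := hgL v
      rw [hgv, sub_eq_zero.1 (mul_self_eq_zero.1 h8), one_smul] at h9
      exact left_eq_add.1 h9
    · exfalso
      -- a moved line is impossible in odd characteristic
      set w := (g : Matrix ι ι F) *ᵥ v with hw
      have h6 : (g : Matrix ι ι F) *ᵥ w ∈ D (τ (τ i)) := hτ (τ i) ▸ ⟨w, h5, Matrix.toLin'_apply _ _⟩
      have h7 := hsq v
      rw [← hw] at h7
      have hw0 : w ≠ 0 := gl_mulVec_ne_zero g hv0
      have hdis : ∀ {j : Fin t} {x : ι → F}, x ∈ D j → x ∈ (⨆ (k : Fin t) (_ : k ≠ j), D k) → x = 0 :=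
        fun {j x} hx hx' => Submodule.disjoint_def.1 (iSupIndep_def.1 hD.indep j) x hx hx'
      have hmem : ∀ {j k : Fin t} {x : ι → F}, k ≠ j → x ∈ D k → x ∈ (⨆ (k : Fin t) (_ : k ≠ j), D k) :=
        fun {j k x} hk hx => Submodule.mem_iSup_of_mem k (Submodule.mem_iSup_of_mem hk hx)
      by_cases hk : τ (τ i) = i
      · rw [hk] at h6
        have h8 : (2 : F) • w = (g : Matrix ι ι F) *ᵥ w + v := by rw [h7]; abel
        refine smul_ne_zero h2 hw0 (hdis ((D _).smul_mem _ h5) ?_)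
        rw [h8]
        exact add_mem (hmem (Ne.symm hi) h6) (hmem (Ne.symm hi) hv)
      · have h8 : v = (2 : F) • w - (g : Matrix ι ι F) *ᵥ w := by rw [h7]; abel
        refine hv0 (hdis hv ?_)
        rw [h8]
        exact sub_mem (hmem hi ((D _).smul_mem _ h5)) (hmem hk h6)
  have hu' : ∀ i, ∀ v ∈ D i, polar Q v u = 0 := by
    intro i v hv
    by_contra hne
    have h9 := hall i v hv
    simp only [hL, sub_eq_zero] at h9
    exact hbu (Submodule.mem_span_singleton.2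
      ⟨(polar Q v u)⁻¹ * polar Q v b, by rw [mul_smul, h9, inv_smul_smul₀ hne]⟩)
  obtain ⟨⟨x, hx⟩, -⟩ := hQ.nondegenerate u hu0
  apply hx
  clear hx
  have hxt : x ∈ iSup D := hD.iSup_eq_top ▸ Submodule.mem_top
  induction hxt using Submodule.iSup_induction' with
  | mem j w hw => exact hu' j w hw
  | zero => exact (polar_isSesq hQ).zero_left u
  | add a c _ _ ha hc => rw [hQ.polar_bilinear.add_left, ha, hc, add_zero]

theorem omega_not_le_subfield (hQ : IsNondegenerateQuadraticForm Q) (hn : 7 ≤ Fintype.card ι)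
    {F₁ : Subfield F} (h1 : F₁ ≠ ⊤) (P : GL ι F) : ¬ omegaGL Q ≤ subfieldSubgroup F₁ P := by
  classical
  intro hle
  haveI := scalars_normal (ι := ι) (F := F)
  haveI : Fintype F₁ := Fintype.ofFinite _
  let θ : F ≃+* F := (FiniteField.frobeniusAlgEquivOfAlgebraic F₁ F).toRingEquiv
  have hθ : ∀ x, θ x = x ^ Nat.card F₁ := fun x => by
    show FiniteField.frobeniusAlgEquivOfAlgebraic F₁ F x = _
    rw [FiniteField.coe_frobeniusAlgEquivOfAlgebraic, Nat.card_eq_fintype_card]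
  have hθF : ∀ {x}, x ∈ F₁ → θ x = x := fun {x} hx => by
    have h2 := congrArg Subtype.val (FiniteField.pow_card (⟨x, hx⟩ : F₁))
    rw [SubmonoidClass.coe_pow] at h2
    rw [hθ, Nat.card_eq_fintype_card]
    exact h2
  obtain ⟨u, b, hu0, hb0, hbu, hu, hb, hub, hg⟩ := exists_siegel_element hQ hn
  set L := fun x : ι → F => polar Q x b • u - polar Q x u • b with hL
  have hLu : L u = 0 := by
    show polar Q u b • u - polar Q u u • b = 0
    have : polar (quadOf hQ) u u = 0 := by rw [CfsgLib.Orth.polar_self', show quadOf hQ u = 0 from hu, mul_zero]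
    rw [hub, show polar Q u u = 0 from this]
    simp
  have hrat : ∀ (s : F) (i j : ι),
      s * (((P⁻¹ : GL ι F) : Matrix ι ι F) *ᵥ L ((P : Matrix ι ι F) *ᵥ Pi.single j 1)) i ∈ F₁ := by
    intro s i j
    obtain ⟨g, hgΩ, hgx⟩ := hg s
    obtain ⟨y, hy, hyg⟩ := Subgroup.mem_map.1 (hle hgΩ)
    obtain ⟨_, ⟨X, rfl⟩, z, hz, rfl⟩ := Subgroup.mem_sup_of_normal_right.1 hy
    obtain ⟨a, ha⟩ := (mem_scalars_iff z).1 hz
    set M : Matrix ι ι F := F₁.subtype.mapMatrix (X : Matrix ι ι F₁) with hM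
    have hval : ((P⁻¹ * g * P : GL ι F) : Matrix ι ι F) = (a : F) • M := by
      rw [← hyg]
      show ((P⁻¹ * (P * (Matrix.GeneralLinearGroup.map (F₁.subtype : F₁ →+* F) X * z) * P⁻¹) * P : GL ι F) : Matrix ι ι F) = _
      rw [show P⁻¹ * (P * (Matrix.GeneralLinearGroup.map (F₁.subtype : F₁ →+* F) X * z) * P⁻¹) * P =
        Matrix.GeneralLinearGroup.map (F₁.subtype : F₁ →+* F) X * z by group, Units.val_mul, ha,
        Matrix.mul_smul, mul_one]
      rfl
    have hMg : ∀ w, (g : Matrix ι ι F) *ᵥ ((P : Matrix ι ι F) *ᵥ w) = (a : F) • ((P : Matrix ι ι F) *ᵥ (M *ᵥ w)) := by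
      intro w
      rw [← Matrix.mulVec_smul, ← Matrix.smul_mulVec, ← hval, Matrix.mulVec_mulVec, Matrix.mulVec_mulVec, ← Units.val_mul,
        ← Units.val_mul]
      simp [mul_assoc]
    set z₀ := ((P⁻¹ : GL ι F) : Matrix ι ι F) *ᵥ u with hz₀
    have hPz : (P : Matrix ι ι F) *ᵥ z₀ = u := by rw [hz₀, gl_mulVec_inv_mulVec]
    have hMz : (a : F) • (M *ᵥ z₀) = z₀ := by
      apply gl_mulVec_injective P
      show (P : Matrix ι ι F) *ᵥ ((a : F) • (M *ᵥ z₀)) = (P : Matrix ι ι F) *ᵥ z₀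
      rw [Matrix.mulVec_smul, ← hMg, hPz, hgx, show polar Q u b • u - polar Q u u • b = 0 from hLu, smul_zero, add_zero]
    set z₁ : ι → F := fun k => θ (z₀ k) with hz₁
    have hMz₁ : θ (a : F) • (M *ᵥ z₁) = z₁ := by
      funext k
      have h := congrArg θ (congrFun hMz k)
      simp only [Pi.smul_apply, smul_eq_mul, map_mul, Matrix.mulVec, dotProduct, map_sum] at h ⊢
      refine Eq.trans ?_ h
      congr 1
      exact Finset.sum_congr rfl fun l _ => by rw [hθF (show M k l ∈ F₁ from SetLike.coe_mem _)]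
    set e := (a : F) / θ (a : F) with he
    have hθa : θ (a : F) ≠ 0 := (map_ne_zero θ).2 a.ne_zero
    have hgz : (g : Matrix ι ι F) *ᵥ ((P : Matrix ι ι F) *ᵥ z₁) = e • ((P : Matrix ι ι F) *ᵥ z₁) := by
      rw [hMg, he]
      conv_rhs => rw [← hMz₁, Matrix.mulVec_smul, smul_smul, div_mul_cancel₀ _ hθa]
    set w₁ := (P : Matrix ι ι F) *ᵥ z₁ with hw₁
    have hw₁0 : w₁ ≠ 0 := gl_mulVec_ne_zero P (fun h => by
      obtain ⟨k, hk⟩ : ∃ k, z₀ k ≠ 0 := Function.ne_iff.1 (gl_mulVec_ne_zero P⁻¹ hu0)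
      exact hk (by simpa [hz₁] using congrFun h k))
    have h3 : L (L w₁) = 0 := siegel_sq_zero hQ hu hb hub w₁
    have h4 : s • L w₁ = (e - 1) • w₁ := by
      rw [sub_smul, one_smul, ← hgz, hgx]; simp only [hL]; module
    have h5 : (g : Matrix ι ι F) *ᵥ (s • L w₁) = s • L w₁ := by
      rw [Matrix.mulVec_smul, hgx, show polar Q (L w₁) b • u - polar Q (L w₁) u • b = 0 from h3]
      simp
    rw [h4, Matrix.mulVec_smul, hgz, smul_smul] at h5
    have h6 : ((e - 1) * e - (e - 1)) • w₁ = 0 := by rw [sub_smul, h5, sub_self]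
    have h7 : (e - 1) * (e - 1) = 0 := by linear_combination (smul_eq_zero.1 h6).resolve_right hw₁0
    have haF : (a : F) ∈ F₁ := mem_of_pow_card_eq (by
      rw [← hθ]
      exact ((div_eq_one_iff_eq hθa).1 (he ▸ sub_eq_zero.1 (mul_self_eq_zero.1 h7))).symm)
    have h8 : (a : F) • (M *ᵥ Pi.single j 1) = Pi.single j 1 +
        s • (((P⁻¹ : GL ι F) : Matrix ι ι F) *ᵥ L ((P : Matrix ι ι F) *ᵥ Pi.single j 1)) := by
      apply gl_mulVec_injective P
      show (P : Matrix ι ι F) *ᵥ _ = (P : Matrix ι ι F) *ᵥ _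
      rw [Matrix.mulVec_smul, ← hMg, hgx, Matrix.mulVec_add, Matrix.mulVec_smul, gl_mulVec_inv_mulVec]
    have h9 := congrFun h8 i
    simp only [Pi.smul_apply, Pi.add_apply, smul_eq_mul] at h9
    rw [show (M *ᵥ Pi.single j (1 : F)) i = M i j by simp] at h9
    have h10 : (Pi.single j (1 : F) : ι → F) i ∈ F₁ := by
      by_cases h : i = j <;> simp [h, F₁.one_mem, F₁.zero_mem]
    rw [show s * (((P⁻¹ : GL ι F) : Matrix ι ι F) *ᵥ L ((P : Matrix ι ι F) *ᵥ Pi.single j 1)) i =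
      (a : F) * M i j - (Pi.single j (1 : F) : ι → F) i by linear_combination -h9]
    exact F₁.sub_mem (F₁.mul_mem haF (SetLike.coe_mem _)) h10
  apply h1
  rw [eq_top_iff]
  intro s _
  by_cases hzero : ∀ i j, (((P⁻¹ : GL ι F) : Matrix ι ι F) *ᵥ L ((P : Matrix ι ι F) *ᵥ Pi.single j 1)) i = 0
  · exfalso
    let Lh : (ι → F) →ₗ[F] (ι → F) :=
      { toFun := L
        map_add' := fun x y => by simp only [hL, hQ.polar_bilinear.add_left]; module
        map_smul' := fun c x => by simp only [hL, hQ.polar_bilinear.smul_left, RingHom.id_apply]; module }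
    have hLP : ∀ w, L ((P : Matrix ι ι F) *ᵥ w) = 0 := by
      intro w
      have : Lh.comp (Matrix.toLin' (P : Matrix ι ι F)) = 0 := by
        refine (Pi.basisFun F ι).ext fun j => ?_
        simp only [LinearMap.comp_apply, Pi.basisFun_apply, Matrix.toLin'_apply, LinearMap.zero_apply]
        refine gl_mulVec_injective P⁻¹ ?_
        funext i
        show (((P⁻¹ : GL ι F) : Matrix ι ι F) *ᵥ L _) i = (((P⁻¹ : GL ι F) : Matrix ι ι F) *ᵥ 0) i
        rw [hzero i j, Matrix.mulVec_zero]; rfl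
      have := LinearMap.congr_fun this w
      simpa [Lh] using this
    obtain ⟨⟨x, hx⟩, -⟩ := hQ.nondegenerate u hu0
    have h11 := hLP (((P⁻¹ : GL ι F) : Matrix ι ι F) *ᵥ x)
    rw [gl_mulVec_inv_mulVec] at h11
    simp only [hL, sub_eq_zero] at h11
    exact hbu (Submodule.mem_span_singleton.2
      ⟨(polar Q x u)⁻¹ * polar Q x b, by rw [mul_smul, h11, inv_smul_smul₀ hx]⟩)
  · push Not at hzero
    obtain ⟨i, j, hij⟩ := hzero
    have := F₁.mul_mem (hrat s i j) (F₁.inv_mem (hrat 1 i j))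
    rwa [one_mul, mul_assoc, mul_inv_cancel₀ hij, mul_one] at this

end CfsgLib.Geo.Asch
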