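import Mathlib
import Cfsg.Prelude.Def_GeometricClasses
import Cfsg.Agent.Lib.Geo.AschOrthProper
import Cfsg.Agent.Lib.Geo.AschEvenClasses
import Cfsg.Agent.Lib.Geo.AschFormSkew

/-! Ω is contained in no member of the classes in even dimension (Siegel elements). -/

set_option autoImplicit false
set_option linter.unusedSectionVars false

namespace CfsgLib.Geo.AschEven

open Cfsg Cfsg.Geo Matrix QuadraticMap CfsgLib.GeomClasses CfsgLib.Maximal.TensorTools CfsgLib.Geo.Asch
open scoped MatrixGroups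

variable {ι : Type} [Fintype ι] [DecidableEq ι] {F : Type*} [Field F] [Fintype F] {Q : (ι → F) → F}

/-- The linear part of a Siegel element. -/
noncomputable def sieg (hQ : IsNondegenerateQuadraticForm Q) (u b : ι → F) : (ι → F) →ₗ[F] (ι → F) where
  toFun x := polar Q x b • u - polar Q x u • b
  map_add' x y := by simp only [hQ.polar_bilinear.add_left]; module
  map_smul' c x := by simp only [hQ.polar_bilinear.smul_left, RingHom.id_apply]; module

theorem sieg_apply (hQ : IsNondegenerateQuadraticForm Q) (u b x : ι → F) :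
    sieg hQ u b x = polar Q x b • u - polar Q x u • b := rfl

/-- The element `g` is the Siegel element of `u` and `b`. -/
def IsSiegel (hQ : IsNondegenerateQuadraticForm Q) (u b : ι → F) (g : GL ι F) : Prop :=
  ∀ x, (g : Matrix ι ι F) *ᵥ x = x + sieg hQ u b x

theorem sieg_mem_span (hQ : IsNondegenerateQuadraticForm Q) (u b x : ι → F) :
    sieg hQ u b x ∈ Submodule.span F {u, b} :=
  sub_mem (Submodule.smul_mem _ _ (Submodule.subset_span (Set.mem_insert _ _)))
    (Submodule.smul_mem _ _ (Submodule.subset_span (Set.mem_insert_of_mem _ rfl)))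

theorem finrank_span_pair_le (u b : ι → F) : Module.finrank F (Submodule.span F ({u, b} : Set (ι → F))) ≤ 2 := by
  classical
  refine (finrank_span_le_card (R := F) ({u, b} : Set (ι → F))).trans ?_
  rw [Set.toFinset_insert, Set.toFinset_singleton]
  exact Finset.card_le_two

theorem exists_sieg_eq (hQ : IsNondegenerateQuadraticForm Q) {u b : ι → F} (hb : b ∉ Submodule.span F {u}) :
    ∃ x, sieg hQ u b x = u := by
  have hh := herm_polar hQ
  obtain ⟨x, hx, hne⟩ : ∃ x ∈ hh.perp (Submodule.span F {u}), polar Q x b ≠ 0 := by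
    by_contra hc
    push Not at hc
    exact hb (hh.perp_perp (Submodule.span F {u}) ▸ hh.mem_perp'.2 hc)
  refine ⟨(polar Q x b)⁻¹ • x, ?_⟩
  rw [map_smul, sieg_apply, hh.mem_perp.1 hx u (Submodule.mem_span_singleton_self u), zero_smul, sub_zero,
    inv_smul_smul₀ hne]

/-- A Siegel element through `u` avoiding a small subspace. -/
theorem exists_siegel_avoid (hQ : IsNondegenerateQuadraticForm Q) (hn : 7 ≤ Fintype.card ι) {u : ι → F}
    (hu0 : u ≠ 0) (hu : Q u = 0) {S : Submodule F (ι → F)}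
    (hS : Module.finrank F S + 2 < Fintype.card ι) :
    ∃ b, b ∉ S ∧ b ∉ Submodule.span F {u} ∧ (Q b = 0 ∧ polar Q u b = 0) ∧ ∃ g ∈ omegaGL Q, IsSiegel hQ u b g := by
  obtain ⟨Y, hYd, hnY, hYu, huY, hgY⟩ := exists_siegel_through hQ hn hu0 hu
  have hq := OrthTools.quadOf_nondegenerate hQ
  obtain ⟨z, hz, hz0, hqz⟩ := OrthTools.exists_singular (q := quadOf hQ) hq Y (by omega)
  obtain ⟨b, hb, hqb, hbS⟩ : ∃ b ∈ Y, Q b = 0 ∧ b ∉ S := by
    by_contra hc
    push Not at hc
    have := Submodule.finrank_mono (singular_spans (q := quadOf hQ) hq hnY hz hz0 hqz fun x hx hqx => hc x hx hqx)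
    omega
  have hb0 : b ≠ 0 := fun h => hbS (h ▸ S.zero_mem)
  refine ⟨b, hbS, fun h => ?_, ⟨hqb, hYu b hb⟩, ?_⟩
  · obtain ⟨c, hc⟩ := Submodule.mem_span_singleton.1 h
    have hc0 : c ≠ 0 := fun e => hb0 (by rw [← hc, e, zero_smul])
    exact huY (by rw [← inv_smul_smul₀ hc0 u, hc]; exact Y.smul_mem _ hb)
  · obtain ⟨g, hg, hgx⟩ := hgY b hb hqb hb0
    exact ⟨g, hg, fun x => by rw [hgx, sieg_apply, add_sub_assoc]⟩

theorem eq_of_sum_blocks {t : ℕ} {D : Fin t → Submodule F (ι → F)} (hD : iSupIndep D) {a b : Fin t → ι → F}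
    (ha : ∀ i, a i ∈ D i) (hb : ∀ i, b i ∈ D i) (h : ∑ i, a i = ∑ i, b i) : a = b := by
  classical
  funext i
  rw [← sub_eq_zero]
  have h1 : a i - b i = ∑ j ∈ Finset.univ.erase i, (b j - a j) := by
    rw [← Finset.add_sum_erase _ _ (Finset.mem_univ i), ← Finset.add_sum_erase _ _ (Finset.mem_univ i)] at h
    rw [Finset.sum_sub_distrib]
    exact sub_eq_sub_iff_add_eq_add.2 (h.trans (add_comm _ _))
  refine Submodule.disjoint_def.1 (iSupIndep_def.1 hD i) _ ((D i).sub_mem (ha i) (hb i)) ?_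
  rw [h1]
  exact sum_mem fun j hj => Submodule.mem_iSup_of_mem j (Submodule.mem_iSup_of_mem (Finset.ne_of_mem_erase hj)
    ((D j).sub_mem (hb j) (ha j)))

/-- Siegel elements through a singular vector with two to four components leave a decomposition. -/
theorem exists_not_mem_decomposition (hQ : IsNondegenerateQuadraticForm Q) (hn : 7 ≤ Fintype.card ι)
    {t m : ℕ} {D : Fin t → Submodule F (ι → F)} (hD : IsMDecomposition m D) (hm : 2 ≤ m)
    (s : Finset (Fin t)) (hs2 : 2 ≤ s.card) (hs3 : s.card ≤ 4) (hsm : m = 2 → 3 ≤ s.card) (x : Fin t → ι → F)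
    (hx : ∀ i ∈ s, x i ∈ D i ∧ x i ≠ 0) (hu : Q (∑ i ∈ s, x i) = 0) :
    ∃ g ∈ omegaGL Q, (∃ u b, IsSiegel hQ u b g) ∧ g ∉ decompositionStabilizer D := by
  classical
  let y : Fin t → ι → F := fun i => if i ∈ s then x i else 0
  have hy : ∀ i, y i ∈ D i := fun i => by
    by_cases h : i ∈ s <;> simp [y, h, (D i).zero_mem, hx]
  have hys : ∑ i, y i = ∑ i ∈ s, x i := by simp [y, Finset.sum_ite_mem]
  set u := ∑ i ∈ s, x i with hudef
  have hu0 : u ≠ 0 := fun h0 => by
    obtain ⟨i, hi⟩ := Finset.card_pos.1 (show 0 < s.card by omega)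
    have := congrFun (eq_of_sum_blocks hD.indep hy (b := 0) (fun i => (D i).zero_mem) (by simp [hys, h0])) i
    exact (hx i hi).2 (by simpa [y, hi] using this)
  have hdec : ∀ z : ι → F, ∃ a : Fin t → ι → F, (∀ i, a i ∈ D i) ∧ ∑ i, a i = z := by
    intro z
    obtain ⟨a, ha⟩ := (Submodule.mem_iSup_iff_exists_finsupp D z).1 (hD.iSup_eq_top ▸ Submodule.mem_top)
    exact ⟨a, ha.1, by rw [← ha.2, Finsupp.sum_fintype _ _ (fun _ => rfl)]⟩
  let S := Submodule.span F (x '' (s : Set (Fin t)))
  have hS : Module.finrank F S ≤ 4 := by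
    refine le_trans ?_ hs3
    have : S = Submodule.span F ((s.image x : Finset (ι → F)) : Set (ι → F)) := by simp [S]
    rw [this]
    exact (finrank_span_finset_le_card _).trans Finset.card_image_le
  obtain ⟨b, hbS, hbu, -, g, hg, hgx⟩ := exists_siegel_avoid hQ hn hu0 hu (S := S) (by omega)
  refine ⟨g, hg, ⟨u, b, hgx⟩, fun hmem => ?_⟩
  obtain ⟨σ, hσ⟩ := hmem
  have hmap : ∀ {i z}, z ∈ D i → (g : Matrix ι ι F) *ᵥ z ∈ D (σ i) := fun {i z} hz =>
    hσ i ▸ ⟨z, hz, Matrix.toLin'_apply _ _⟩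
  have himg : Module.finrank F (Submodule.span F ({u, b} : Set (ι → F))) ≤ 2 := finrank_span_pair_le u b
  obtain ⟨z, hz⟩ := exists_sieg_eq hQ hbu
  by_cases hfix : ∀ i, σ i = i
  · -- the components of `u` lie in the image
    obtain ⟨a, ha, hasum⟩ := hdec z
    have hLa : ∀ i, sieg hQ u b (a i) ∈ D i := fun i => by
      have h1 := hmap (ha i)
      rw [hfix, hgx] at h1
      exact ((D i).add_mem_iff_right (ha i)).1 h1
    have heq := eq_of_sum_blocks hD.indep hLa hy (by rw [← map_sum, hasum, hz, hys])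
    obtain ⟨i, hi⟩ := Finset.card_pos.1 (show 0 < s.card by omega)
    have h2 : x i ∈ Submodule.span F ({u, b} : Set (ι → F)) := by
      have := sieg_mem_span hQ u b (a i)
      rw [congrFun heq i] at this
      simpa [y, hi] using this
    obtain ⟨c, d, hcd⟩ := Submodule.mem_span_pair.1 h2
    have hxS : ∀ j ∈ s, x j ∈ S := fun j hj => Submodule.subset_span ⟨j, hj, rfl⟩
    have hd0 : d = 0 := by
      by_contra hd
      apply hbS
      rw [← inv_smul_smul₀ hd b, show d • b = x i - c • u by rw [← hcd]; abel]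
      exact S.smul_mem _ (S.sub_mem (hxS i hi) (S.smul_mem _ (S.sum_mem hxS)))
    rw [hd0, zero_smul, add_zero] at hcd
    obtain ⟨j, hj, hji⟩ : ∃ j ∈ s, j ≠ i := Finset.exists_mem_ne (by omega) i
    have h3 := eq_of_sum_blocks hD.indep (a := fun k => c • y k) (b := fun k => if k = i then x i else 0)
      (fun k => (D k).smul_mem _ (hy k)) (fun k => by
        by_cases h : k = i
        · subst h; simpa using (hx k hi).1
        · simp [h, (D k).zero_mem])
      (by rw [← Finset.smul_sum, hys, hcd]; simp)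
    have h4 := congrFun h3 j
    simp [y, hj, hji] at h4
    rcases h4 with h4 | h4
    · exact (hx i hi).2 (by rw [← hcd, h4, zero_smul])
    · exact (hx j hj).2 h4
  push Not at hfix
  obtain ⟨i₀, hi₀⟩ := hfix
  -- a moved block
  have hdisj : Disjoint (D i₀) (D (σ i₀)) := hD.indep.pairwiseDisjoint (fun h => hi₀ h.symm)
  have hinj : Function.Injective ((sieg hQ u b).comp (D i₀).subtype) := by
    rw [← LinearMap.ker_eq_bot, Submodule.eq_bot_iff]
    intro v hv
    have h1 := hmap v.2
    rw [hgx, show sieg hQ u b (v : ι → F) = 0 from hv, add_zero] at h1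
    exact Subtype.ext (Submodule.disjoint_def.1 hdisj _ v.2 h1)
  have hle : LinearMap.range ((sieg hQ u b).comp (D i₀).subtype) ≤ Submodule.span F ({u, b} : Set (ι → F)) := by
    rintro _ ⟨v, rfl⟩; exact sieg_mem_span hQ u b _
  have hrk := LinearMap.finrank_range_of_inj hinj
  rw [hD.finrank_eq] at hrk
  have hm2 : m = 2 := by have := Submodule.finrank_mono hle; omega
  have heqr : LinearMap.range ((sieg hQ u b).comp (D i₀).subtype) = Submodule.span F ({u, b} : Set (ι → F)) :=
    Submodule.eq_of_le_of_finrank_le hle (by omega)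
  have humem : u ∈ D (σ i₀) ⊔ D i₀ := by
    have h1 : u ∈ Submodule.span F ({u, b} : Set (ι → F)) := Submodule.subset_span (Set.mem_insert _ _)
    rw [← heqr] at h1
    obtain ⟨v, hv⟩ := h1
    rw [← hv]
    show sieg hQ u b (v : ι → F) ∈ _
    rw [show sieg hQ u b (v : ι → F) = (g : Matrix ι ι F) *ᵥ (v : ι → F) - v by rw [hgx, add_sub_cancel_left]]
    exact sub_mem (Submodule.mem_sup_left (hmap v.2)) (Submodule.mem_sup_right v.2)
  obtain ⟨p, hp, q', hq', hpq⟩ := Submodule.mem_sup.1 humem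
  obtain ⟨k, hk, hk1, hk2⟩ : ∃ k ∈ s, k ≠ σ i₀ ∧ k ≠ i₀ := by
    by_contra hc
    push Not at hc
    have hle : s ⊆ {σ i₀, i₀} := fun k hk => by
      by_cases h : k = σ i₀
      · simp [h]
      · simp [hc k hk h]
    have := (Finset.card_le_card hle).trans Finset.card_le_two
    have := hsm hm2
    omega
  have h5 := eq_of_sum_blocks hD.indep (a := y)
    (b := fun j => (if j = σ i₀ then p else 0) + (if j = i₀ then q' else 0)) hy (fun j => by
      refine (D j).add_mem ?_ ?_
      · by_cases h : j = σ i₀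
        · subst h; simpa using hp
        · simp [h, (D j).zero_mem]
      · by_cases h : j = i₀
        · subst h; simpa using hq'
        · simp [h, (D j).zero_mem])
    (by rw [hys, ← hpq, Finset.sum_add_distrib]; simp)
  have h6 := congrFun h5 k
  simp [y, hk, hk1, hk2] at h6
  exact (hx k hk).2 h6

theorem exists_value (hQ : IsNondegenerateQuadraticForm Q) {W : Submodule F (ι → F)}
    (hW : IsNondegenerateOn (polar Q) W) (hd : 2 ≤ Module.finrank F W) {c : F} (hc : c ≠ 0) :
    ∃ x ∈ W, x ≠ 0 ∧ Q x = c := by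
  classical
  suffices ∃ x ∈ W, Q x = c by
    obtain ⟨x, hx, hqx⟩ := this
    exact ⟨x, hx, fun h => hc (by rw [← hqx, h]; simpa using hQ.smul 0 0), hqx⟩
  let q := quadOf hQ
  by_cases h2 : (2 : F) = 0
  · haveI : CharP F 2 := CharTwo.of_one_ne_zero_of_two_eq_zero one_ne_zero h2
    obtain ⟨v, hv, hv0⟩ := Submodule.exists_mem_ne_zero_of_ne_bot (p := W) fun h => by
      rw [h, finrank_bot] at hd; omega
    by_cases hqv : Q v = 0
    · obtain ⟨w, hw, hqw, hvw⟩ := OrthTools.exists_partner (q := q) (fun x hx h0 => (hW x hx h0).2) hv hv0 hqv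
      refine ⟨v + c • w, W.add_mem hv (W.smul_mem _ hw), ?_⟩
      show q (v + c • w) = c
      rw [QuadraticMap.map_add ⇑q, QuadraticMap.map_smul, show q v = 0 from hqv, hqw, polar_smul_right, hvw]
      simp
    · obtain ⟨r, hr⟩ := FiniteField.isSquare_of_char_two (ringChar.eq F 2) (c / Q v)
      exact ⟨r • v, W.smul_mem _ hv, by rw [hQ.smul, _root_.sq, ← hr, div_mul_cancel₀ _ hqv]⟩
  · obtain ⟨b, hbo, hbq⟩ := exists_orth_basis (q := q) h2 (W := W) hW rfl
    let i : Fin (Module.finrank F W) := ⟨0, by omega⟩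
    let j : Fin (Module.finrank F W) := ⟨1, by omega⟩
    obtain ⟨r, r', hr⟩ := CfsgLib.QuadFin.exists_eq_one h2 (q (b i : ι → F) / c) (q (b j : ι → F) / c)
      (div_ne_zero (hbq i) hc) (div_ne_zero (hbq j) hc)
    refine ⟨r • (b i : ι → F) + r' • (b j : ι → F), W.add_mem (W.smul_mem _ (b i).2) (W.smul_mem _ (b j).2), ?_⟩
    show q _ = c
    rw [QuadraticMap.map_add ⇑q, QuadraticMap.map_smul, QuadraticMap.map_smul, polar_smul_left, polar_smul_right,
      hbo i j (by simp [i, j])]
    field_simp at hr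
    simp only [smul_eq_mul, mul_zero, add_zero]
    linear_combination hr

theorem omega_not_le_blocks (hQ : IsNondegenerateQuadraticForm Q) (hn : 7 ≤ Fintype.card ι) {t m : ℕ}
    {D : Fin t → Submodule F (ι → F)} (hD : IsNondegenerateMDecomposition (polar Q) m D) (hm : 2 ≤ m)
    (hmt : m = 2 → 4 ≤ t) : ¬ omegaGL Q ≤ decompositionStabilizer D := by
  classical
  intro hle
  have hval : ∀ i, ∀ c : F, c ≠ 0 → ∃ x ∈ D i, x ≠ 0 ∧ Q x = c := fun i c hc =>
    exists_value hQ (hD.nondegenerate i) (by rw [hD.decomp.finrank_eq]; exact hm) hc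
  have ht := hD.decomp.two_le
  choose p hp hp0 hqp using fun i => hval i 1 one_ne_zero
  choose n hn' hn0 hqn using fun i => hval i (-1) (neg_ne_zero.2 one_ne_zero)
  have key : ∀ (s : Finset (Fin t)) (x : Fin t → ι → F), (∀ i, x i ∈ D i) →
      Q (∑ i ∈ s, x i) = ∑ i ∈ s, Q (x i) := by
    intro s x hx
    induction s using Finset.induction_on with
    | empty => simpa using hQ.smul 0 0
    | insert a s ha ih =>
      rw [Finset.sum_insert ha, Finset.sum_insert ha, ← ih]
      have h : polar Q (x a) (∑ i ∈ s, x i) = 0 := by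
        rw [(polar_isSesq hQ).sum_right]
        exact Finset.sum_eq_zero fun i hi => hD.orthogonal a i (fun e => ha (e ▸ hi)) _ (hx a) _ (hx i)
      rw [QuadraticMap.polar] at h
      linear_combination h
  let x : Fin t → ι → F := fun i => if i.1 % 2 = 0 then p i else n i
  have hx : ∀ i, x i ∈ D i ∧ x i ≠ 0 ∧ Q (x i) = if i.1 % 2 = 0 then 1 else -1 := fun i => by
    by_cases h : i.1 % 2 = 0 <;> simp [x, h, hp, hp0, hqp, hn', hn0, hqn]
  by_cases hm2 : m = 2
  · have h4 := hmt hm2
    let s : Finset (Fin t) := {⟨0, by omega⟩, ⟨1, by omega⟩, ⟨2, by omega⟩, ⟨3, by omega⟩}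
    have hs : s.card = 4 := by simp [s]
    obtain ⟨g, hg, -, hgn⟩ := exists_not_mem_decomposition hQ hn hD.decomp hm s (by omega) (by omega) (fun _ => by omega) x
      (fun i _ => ⟨(hx i).1, (hx i).2.1⟩) (by
        rw [key s x fun i => (hx i).1]
        simp [s, (hx _).2.2])
    exact hgn (hle hg)
  · let s : Finset (Fin t) := {⟨0, by omega⟩, ⟨1, by omega⟩}
    have hs : s.card = 2 := by simp [s]
    obtain ⟨g, hg, -, hgn⟩ := exists_not_mem_decomposition hQ hn hD.decomp hm s (by omega) (by omega) (fun h => absurd h hm2) x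
      (fun i _ => ⟨(hx i).1, (hx i).2.1⟩) (by
        rw [key s x fun i => (hx i).1]
        simp [s, (hx _).2.2])
    exact hgn (hle hg)

theorem omega_not_le_pair (hQ : IsNondegenerateQuadraticForm Q) (hn : 7 ≤ Fintype.card ι) {m : ℕ}
    {D : Fin 2 → Submodule F (ι → F)} (hD : IsMDecomposition m D) (hm : 3 ≤ m)
    (hTS : ∀ i, IsTotallySingularQuad Q (D i)) : ¬ omegaGL Q ≤ decompositionStabilizer D := by
  intro hle
  have hh := herm_polar hQ
  obtain ⟨a, ha, ha0⟩ := Submodule.exists_mem_ne_zero_of_ne_bot (p := D 1) fun h => by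
    have := hD.finrank_eq 1; rw [h, finrank_bot] at this; omega
  have h1 := hh.finrank_perp (Submodule.span F {a})
  rw [finrank_span_singleton ha0] at h1
  have h2 := Submodule.finrank_sup_add_finrank_inf_eq (hh.perp (Submodule.span F {a})) (D 0)
  have h4 := Submodule.finrank_le (hh.perp (Submodule.span F {a}) ⊔ D 0)
  rw [Module.finrank_fintype_fun_eq_card] at h4
  rw [hD.finrank_eq] at h2
  obtain ⟨c, hc, hc0⟩ := Submodule.exists_mem_ne_zero_of_ne_bot (p := hh.perp (Submodule.span F {a}) ⊓ D 0) fun h => by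
    rw [h, finrank_bot] at h2; omega
  let x : Fin 2 → ι → F := ![c, a]
  obtain ⟨g, hg, -, hgn⟩ := exists_not_mem_decomposition hQ hn hD (by omega) Finset.univ (by simp) (by simp)
    (fun h => by omega) x (fun i _ => by fin_cases i; exacts [⟨hc.2, hc0⟩, ⟨ha, ha0⟩])
    (by
      have h3 := hh.mem_perp.1 hc.1 a (Submodule.mem_span_singleton_self a)
      rw [QuadraticMap.polar, hTS 0 c hc.2, hTS 1 a ha] at h3
      rw [Fin.sum_univ_two]
      simpa [x] using h3)
  exact hgn (hle hg)

theorem omega_not_le_field (hQ : IsNondegenerateQuadraticForm Q) (hn : 7 ≤ Fintype.card ι) {s : ℕ} (hs : 1 < s)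
    {K : Subalgebra F (Matrix ι ι F)} (hK : IsFieldSubalgebra s K) :
    ¬ omegaGL Q ≤ subalgebraNormalizer K := by
  classical
  intro hle
  let q := quadOf hQ
  have hq := OrthTools.quadOf_nondegenerate hQ
  obtain ⟨u, -, hu0, hu⟩ := OrthTools.exists_singular (q := q) hq ⊤
    (by rw [finrank_top, Module.finrank_fintype_fun_eq_card]; omega)
  obtain ⟨k, hkK, hk⟩ : ∃ k ∈ K, k ∉ (⊥ : Subalgebra F (Matrix ι ι F)) := by
    by_contra hc
    push Not at hc
    have h := hK.finrank_eq
    haveI : Nonempty ι := Fintype.card_pos_iff.1 (by omega)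
    rw [le_antisymm (show K ≤ ⊥ from hc) bot_le, Subalgebra.finrank_bot] at h
    omega
  have hinj : ∀ x ∈ K, x ≠ 0 → ∀ v : ι → F, x *ᵥ v = 0 → v = 0 := fun x hx hx0 v hv => by
    obtain ⟨y, hy, hxy⟩ := hK.inv x hx hx0
    rw [← Matrix.one_mulVec v, ← hxy, hK.comm x hx y hy, ← Matrix.mulVec_mulVec, hv, Matrix.mulVec_zero]
  -- the image of `u` under `k` is a new direction
  have hS : Module.finrank F (Submodule.span F ({u, k *ᵥ u} : Set (ι → F))) ≤ 2 := finrank_span_pair_le u _
  obtain ⟨b, hbS, hbu, -, g, hg, hgx⟩ := exists_siegel_avoid hQ hn hu0 hu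
    (S := Submodule.span F ({u, k *ᵥ u} : Set (ι → F))) (by omega)
  have hcomm : ∀ x ∈ K, (g : Matrix ι ι F) * x = x * g := by
    intro x hx
    by_contra hne
    have hgk : (g : Matrix ι ι F) * x * ((g⁻¹ : GL ι F) : Matrix ι ι F) ∈ K := (hle hg x).1 hx
    set x' := (g : Matrix ι ι F) * x * ((g⁻¹ : GL ι F) : Matrix ι ι F) with hx'
    have hne' : x' - x ≠ 0 := fun h => hne (by
      rw [sub_eq_zero] at h
      calc (g : Matrix ι ι F) * x = x' * g := by rw [hx', mul_assoc _ _ (g : Matrix ι ι F), Units.inv_mul, mul_one]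
        _ = x * g := by rw [h])
    have hx0 : x ≠ 0 := fun h => hne (by rw [h, mul_zero, zero_mul])
    let U := LinearMap.ker (sieg hQ u b)
    have hUd : Fintype.card ι ≤ Module.finrank F U + 2 := by
      have h := (sieg hQ u b).finrank_range_add_finrank_ker
      have h' : Module.finrank F (LinearMap.range (sieg hQ u b)) ≤ 2 :=
        (Submodule.finrank_mono (show LinearMap.range (sieg hQ u b) ≤ Submodule.span F {u, b} from by
          rintro _ ⟨v, rfl⟩; exact sieg_mem_span hQ u b v)).trans (finrank_span_pair_le u b)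
      rw [Module.finrank_fintype_fun_eq_card] at h
      show _ ≤ Module.finrank F (LinearMap.ker (sieg hQ u b)) + 2
      omega
    have hfix : ∀ v ∈ U, (g : Matrix ι ι F) *ᵥ v = v := fun v hv => by
      rw [hgx, show sieg hQ u b v = 0 from hv, add_zero]
    have hxinj : Function.Injective (Matrix.toLin' x) := by
      rw [← LinearMap.ker_eq_bot, Submodule.eq_bot_iff]
      intro v hv
      exact hinj x hx hx0 v (by simpa using hv)
    have hdisj : U ⊓ U.map (Matrix.toLin' x) = ⊥ := by
      rw [Submodule.eq_bot_iff]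
      rintro _ ⟨hw, v, hv, rfl⟩
      rw [Matrix.toLin'_apply] at hw ⊢
      have h1 : x' *ᵥ v = x *ᵥ v := by
        conv_lhs => rw [← hfix v hv]
        rw [hx', Matrix.mulVec_mulVec, mul_assoc _ _ (g : Matrix ι ι F), Units.inv_mul, mul_one, ← Matrix.mulVec_mulVec,
          hfix _ hw]
      rw [hinj _ (sub_mem hgk hx) hne' v (by rw [Matrix.sub_mulVec, h1, sub_self]), Matrix.mulVec_zero]
    have h5 := Submodule.finrank_sup_add_finrank_inf_eq U (U.map (Matrix.toLin' x))
    rw [hdisj, finrank_bot, ← (Submodule.equivMapOfInjective _ hxinj U).finrank_eq] at h5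
    have h6 := Submodule.finrank_le (U ⊔ U.map (Matrix.toLin' x))
    rw [Module.finrank_fintype_fun_eq_card] at h6
    omega
  obtain ⟨z, hz⟩ := exists_sieg_eq hQ hbu
  have hmem : k *ᵥ u ∈ Submodule.span F ({u, b} : Set (ι → F)) := by
    have h := sieg_mem_span hQ u b (k *ᵥ z)
    have h1 : sieg hQ u b (k *ᵥ z) = k *ᵥ u := by
      have e1 := hgx (k *ᵥ z)
      rw [Matrix.mulVec_mulVec, hcomm k hkK, ← Matrix.mulVec_mulVec, hgx, hz, Matrix.mulVec_add] at e1
      exact (add_left_cancel e1).symm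
    rwa [h1] at h
  obtain ⟨c, d, hcd⟩ := Submodule.mem_span_pair.1 hmem
  by_cases hd : d = 0
  · rw [hd, zero_smul, add_zero] at hcd
    apply hk
    have h0 : k - algebraMap F _ c = 0 := by
      by_contra hne
      refine hu0 (hinj _ (sub_mem hkK (Subalgebra.algebraMap_mem K c)) hne u ?_)
      rw [Matrix.sub_mulVec, Algebra.algebraMap_eq_smul_one, Matrix.smul_mulVec, Matrix.one_mulVec, hcd, sub_self]
    rw [sub_eq_zero] at h0
    rw [h0]
    exact Subalgebra.algebraMap_mem _ c
  · apply hbS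
    rw [← inv_smul_smul₀ hd b, show d • b = k *ᵥ u - c • u by rw [← hcd]; abel]
    exact Submodule.smul_mem _ _ (sub_mem (Submodule.subset_span (Set.mem_insert_of_mem _ rfl))
      (Submodule.smul_mem _ _ (Submodule.subset_span (Set.mem_insert _ _))))

end CfsgLib.Geo.AschEven
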