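import Mathlib
import Cfsg.Prelude.Def_GeometricClasses
import Cfsg.Agent.Lib.Geo.AschFormComm

/-! Adjoint closed field subalgebras of prime degree. -/

set_option autoImplicit false
set_option linter.unusedSectionVars false

namespace CfsgLib.Geo.Asch

open Cfsg Cfsg.Geo Matrix CfsgLib.GeomClasses
open scoped MatrixGroups

variable {ι : Type} [Fintype ι] [DecidableEq ι] {F : Type*} [Field F] [Fintype F]
  {σ : F ≃+* F} {ε : F} {f : (ι → F) → (ι → F) → F}

/-- For a bilinear form a field subalgebra of odd degree closed under adjoints is self-adjoint. -/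
theorem selfAdjoint_of_odd [Nonempty ι] (hf : Herm (RingEquiv.refl F) ε f) {s : ℕ}
    {K : Subalgebra F (Matrix ι ι F)} (hK : IsFieldSubalgebra s K) (hs : Odd s) (hKa : IsAdjointClosedFor f K) :
    IsSelfAdjointFor f K := by
  classical
  choose k' hk' ek using fun k : K => hKa k k.2
  letI : Field K := FieldTransvection.fieldOf hK
  haveI : Finite K := inferInstance
  haveI : FiniteDimensional F K := inferInstance
  haveI : IsGalois F K := GaloisField.instIsGaloisOfFinite
  let φ : K →ₐ[F] K :=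
    { toFun := fun k => ⟨k' k, hk' k⟩
      map_one' := Subtype.ext (hf.adj_unique (ek 1) (by simpa using hf.adj_one))
      map_mul' := fun a b => Subtype.ext (hf.adj_unique (ek (a * b)) (by
        show Herm.Adj f _ (k' a * k' b)
        rw [hK.comm _ (hk' a) _ (hk' b)]
        exact hf.adj_mul (ek a) (ek b)))
      map_zero' := Subtype.ext (hf.adj_unique (ek 0) (by simpa using hf.adj_zero))
      map_add' := fun a b => Subtype.ext (hf.adj_unique (ek (a + b)) (hf.adj_add (ek a) (ek b)))
      commutes' := fun c => Subtype.ext (hf.adj_unique (ek (algebraMap F K c))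
        (by simpa using hf.adj_algebraMap c)) }
  have h2 : ∀ k : K, φ (φ k) = k := fun k =>
    Subtype.ext (hf.adj_unique (ek (φ k)) (hf.adj_symm (ek k)))
  let τ : K ≃ₐ[F] K := AlgEquiv.ofBijective φ (Function.Involutive.bijective h2)
  have hsq : τ ^ 2 = 1 := AlgEquiv.ext h2
  have hr : τ ^ s = 1 := by
    rw [← hK.finrank_eq, ← IsGalois.card_aut_eq_finrank F K]; exact pow_card_eq_one'
  obtain ⟨m, rfl⟩ := hs
  rw [pow_succ, pow_mul, hsq, one_pow, one_mul] at hr
  intro k hk u v
  have h3 : φ ⟨k, hk⟩ = ⟨k, hk⟩ := congrArg (fun t : K ≃ₐ[F] K => t ⟨k, hk⟩) hr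
  have h4 : k' ⟨k, hk⟩ = k := congrArg Subtype.val h3
  have := ek ⟨k, hk⟩ u v
  rwa [h4] at this

/-- Self-adjoint field elements give alternating forms for a symplectic form. -/
theorem selfAdjoint_alternating (hf : IsSymplecticForm f) {s : ℕ} {K : Subalgebra F (Matrix ι ι F)}
    (hK : IsFieldSubalgebra s K) (hKs : IsSelfAdjointFor f K) :
    ∀ k ∈ K, ∀ v, f (k *ᵥ v) v = 0 := by
  classical
  intro k hk v
  by_cases h2 : (2 : F) = 0
  · have hinj : Function.Injective fun l : K => l * l := by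
      intro x y hxy
      have hxy' : (x : Matrix ι ι F) * x = (y : Matrix ι ι F) * y := congrArg Subtype.val hxy
      have h2M : (y : Matrix ι ι F) * y + (y : Matrix ι ι F) * y = 0 := by
        ext i j
        show (((y : Matrix ι ι F) * y) i j) + (((y : Matrix ι ι F) * y) i j) = 0
        linear_combination (((y : Matrix ι ι F) * y) i j) * h2
      have hsq : ((x : Matrix ι ι F) - y) * ((x : Matrix ι ι F) - y) = 0 := by
        have hc := hK.comm _ x.2 _ y.2
        rw [sub_mul, mul_sub, mul_sub, hxy', ← hc]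
        have h3 : (x : Matrix ι ι F) * y + (x : Matrix ι ι F) * y = 0 := by
          ext i j
          show (((x : Matrix ι ι F) * y) i j) + (((x : Matrix ι ι F) * y) i j) = 0
          linear_combination (((x : Matrix ι ι F) * y) i j) * h2
        rw [show ∀ a b : Matrix ι ι F, a - b - (b - a) = a + a - (b + b) from fun a b => by abel, h2M, h3, sub_self]
      by_contra hne
      obtain ⟨z, hz, hxz⟩ := hK.inv _ (K.sub_mem x.2 y.2) (sub_ne_zero.2 fun e => hne (Subtype.ext e))
      have h4 := congrArg (fun M => M * z) hsq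
      simp only [Matrix.mul_assoc, hxz, mul_one, zero_mul] at h4
      exact hne (Subtype.ext (sub_eq_zero.1 h4))
    obtain ⟨l, hl⟩ := Finite.injective_iff_surjective.1 hinj (⟨k, hk⟩ : K)
    have hl' : (l : Matrix ι ι F) * l = k := congrArg Subtype.val hl
    rw [← hl', ← Matrix.mulVec_mulVec, hKs _ l.2]
    exact hf.alternating _
  · have h1 : f (k *ᵥ v) v = f v (k *ᵥ v) := hKs k hk v v
    rw [hf.skew v (k *ᵥ v)] at h1
    exact (mul_eq_zero.1 (show (2 : F) * f (k *ᵥ v) v = 0 by linear_combination h1)).resolve_left h2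

/-- An invariant non-degenerate subspace of a self-adjoint alternating field has dimension divisible by 2s. -/
theorem two_mul_dvd_of_alternating_block [Nonempty ι] (hf : IsSymplecticForm f) {s : ℕ}
    {K : Subalgebra F (Matrix ι ι F)} (hK : IsFieldSubalgebra s K) (hKs : IsSelfAdjointFor f K)
    (halt : ∀ k ∈ K, ∀ v, f (k *ᵥ v) v = 0) : ∀ (d : ℕ) (W : Submodule F (ι → F)), Module.finrank F W = d →
      IsNondegenerateOn f W → (∀ k ∈ K, ∀ v ∈ W, k *ᵥ v ∈ W) → 2 * s ∣ d := by
  classical
  have hh := herm_symplectic hf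
  intro d
  induction d using Nat.strong_induction_on with
  | _ d ih =>
    intro W hd hW hinv
    by_cases hd0 : d = 0
    · simp [hd0]
    obtain ⟨v, hv, hv0⟩ := (Submodule.ne_bot_iff W).1 (fun h => hd0 (by rw [← hd, h, finrank_bot]))
    obtain ⟨w, hw, hvw⟩ := (hW v hv hv0).2
    let T : K × K →ₗ[F] (ι → F) :=
      { toFun := fun p => (p.1 : Matrix ι ι F) *ᵥ v + (p.2 : Matrix ι ι F) *ᵥ w
        map_add' := fun p p' => by
          simp only [Prod.fst_add, Prod.snd_add, Subalgebra.coe_add, Matrix.add_mulVec]; abel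
        map_smul' := fun c p => by simp [Matrix.smul_mulVec, smul_add] }
    have hcalc : ∀ (a b : K), ∀ c ∈ K, f ((a : Matrix ι ι F) *ᵥ v + (b : Matrix ι ι F) *ᵥ w) (c *ᵥ v) =
        f ((c * (b : Matrix ι ι F)) *ᵥ w) v := by
      intro a b c hc
      rw [hf.bilinear.add_left, ← hKs c hc, ← hKs c hc, Matrix.mulVec_mulVec, Matrix.mulVec_mulVec,
        halt _ (K.mul_mem hc a.2) v, zero_add]
    have hwv : f w v ≠ 0 := hh.ne_zero_comm hvw
    have hb0 : ∀ a b : K, (∀ c ∈ K, f ((a : Matrix ι ι F) *ᵥ v + (b : Matrix ι ι F) *ᵥ w) (c *ᵥ v) = 0) →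
        (b : Matrix ι ι F) = 0 := by
      intro a b h
      by_contra hb
      obtain ⟨y, hy, hby⟩ := hK.inv _ b.2 hb
      rw [hK.comm _ b.2 _ hy] at hby
      have := h y hy
      rw [hcalc a b y hy, hby, Matrix.one_mulVec] at this
      exact hwv this
    have ha0 : ∀ a : K, (∀ c ∈ K, f ((a : Matrix ι ι F) *ᵥ v) (c *ᵥ w) = 0) → (a : Matrix ι ι F) = 0 := by
      intro a h
      by_contra ha
      obtain ⟨y, hy, hay⟩ := hK.inv _ a.2 ha
      rw [hK.comm _ a.2 _ hy] at hay
      have := h y hy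
      rw [← hKs y hy, Matrix.mulVec_mulVec, hay, Matrix.one_mulVec] at this
      exact hvw this
    have hTinj : Function.Injective T := by
      rw [← LinearMap.ker_eq_bot, Submodule.eq_bot_iff]
      rintro ⟨a, b⟩ hab
      have hab' : (a : Matrix ι ι F) *ᵥ v + (b : Matrix ι ι F) *ᵥ w = 0 := hab
      have hb := hb0 a b fun c _ => by rw [hab', hh.zero_left]
      rw [hb, Matrix.zero_mulVec, add_zero] at hab'
      have ha := ha0 a fun c _ => by rw [hab', hh.zero_left]
      exact Prod.ext (Subtype.ext ha) (Subtype.ext hb)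
    set U := LinearMap.range T with hU
    have hUW : U ≤ W := by
      rintro _ ⟨⟨a, b⟩, rfl⟩
      exact W.add_mem (hinv _ a.2 v hv) (hinv _ b.2 w hw)
    have hUfr : Module.finrank F U = 2 * s := by
      rw [hU, LinearMap.finrank_range_of_inj hTinj, Module.finrank_prod]
      have := hK.finrank_eq
      omega
    have hUnd : IsNondegenerateOn f U := by
      refine hh.nondegenerateOn_of_disjoint ?_
      rw [Submodule.eq_bot_iff]
      rintro _ ⟨⟨⟨a, b⟩, rfl⟩, hperp⟩
      have hperp' : ∀ a' b' : K, f ((a : Matrix ι ι F) *ᵥ v + (b : Matrix ι ι F) *ᵥ w)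
          ((a' : Matrix ι ι F) *ᵥ v + (b' : Matrix ι ι F) *ᵥ w) = 0 := fun a' b' =>
        hh.mem_perp.1 hperp _ ⟨(a', b'), rfl⟩
      have hb := hb0 a b fun c hc => by simpa using hperp' ⟨c, hc⟩ 0
      have ha := ha0 a fun c hc => by simpa [hb] using hperp' 0 ⟨c, hc⟩
      show (a : Matrix ι ι F) *ᵥ v + (b : Matrix ι ι F) *ᵥ w = 0
      simp [ha, hb]
    have hUinv : ∀ k ∈ K, ∀ x ∈ U, k *ᵥ x ∈ U := by
      rintro k hk _ ⟨⟨a, b⟩, rfl⟩
      refine ⟨(⟨k, hk⟩ * a, ⟨k, hk⟩ * b), ?_⟩
      show (k * (a : Matrix ι ι F)) *ᵥ v + (k * (b : Matrix ι ι F)) *ᵥ w = k *ᵥ (_ + _)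
      rw [Matrix.mulVec_add, Matrix.mulVec_mulVec, Matrix.mulVec_mulVec]
    set W' := W ⊓ hh.perp U with hW'
    have hsup : U ⊔ W' = W := by
      refine le_antisymm (sup_le hUW inf_le_left) fun x hx => ?_
      have htop : (⊤ : Submodule F (ι → F)) = U ⊔ hh.perp U := by
        refine (Submodule.eq_top_of_finrank_eq ?_).symm
        have h1 := hh.finrank_perp U
        have h2 := Submodule.finrank_sup_add_finrank_inf_eq U (hh.perp U)
        rw [disjoint_iff.1 (hh.disjoint_perp hUnd), finrank_bot] at h2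
        rw [Module.finrank_fintype_fun_eq_card]
        omega
      obtain ⟨y, hy, z, hz, rfl⟩ := Submodule.mem_sup.1 (htop ▸ (Submodule.mem_top : x ∈ ⊤))
      exact Submodule.add_mem_sup hy ⟨(W.add_mem_iff_right (hUW hy)).1 hx, hz⟩
    have hfr : Module.finrank F W = 2 * s + Module.finrank F W' := by
      have h2 := Submodule.finrank_sup_add_finrank_inf_eq U W'
      have hd' : U ⊓ W' = ⊥ := by
        rw [eq_bot_iff]
        exact fun x hx => (Submodule.disjoint_def.1 (hh.disjoint_perp hUnd) x hx.1 hx.2.2).symm ▸ Submodule.zero_mem _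
      rw [hd', finrank_bot, hsup, hUfr] at h2
      omega
    have hspos : 0 < s := by
      rw [← hK.finrank_eq]
      haveI : Nontrivial K := ⟨⟨0, 1, fun h => zero_ne_one (α := Matrix ι ι F) (congrArg Subtype.val h)⟩⟩
      exact Module.finrank_pos
    have hdvd : 2 * s ∣ Module.finrank F W' := by
      refine ih _ (by omega) W' rfl ?_ ?_
      · intro x hx hx0
        obtain ⟨z, hz, hxz⟩ := (hW x hx.1 hx0).2
        rw [← hsup] at hz
        obtain ⟨y, hy, z', hz', rfl⟩ := Submodule.mem_sup.1 hz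
        rw [hh.add_right, hh.mem_perp.1 hx.2 y hy, zero_add] at hxz
        exact ⟨⟨z', hz', hh.ne_zero_comm hxz⟩, ⟨z', hz', hxz⟩⟩
      · intro k hk x hx
        refine ⟨hinv k hk x hx.1, hh.mem_perp.2 fun y hy => ?_⟩
        rw [hKs k hk]
        exact hh.mem_perp.1 hx.2 _ (hUinv k hk y hy)
    rw [← hd, hfr]
    exact dvd_add dvd_rfl hdvd

/-- A self-adjoint alternating field of degree s forces 2s to divide the dimension. -/
theorem two_mul_dvd_of_alternating_field [Nonempty ι] (hf : IsSymplecticForm f) {s : ℕ}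
    {K : Subalgebra F (Matrix ι ι F)} (hK : IsFieldSubalgebra s K) (hKs : IsSelfAdjointFor f K)
    (halt : ∀ k ∈ K, ∀ v, f (k *ᵥ v) v = 0) : 2 * s ∣ Fintype.card ι := by
  refine two_mul_dvd_of_alternating_block hf hK hKs halt _ ⊤
    (by rw [finrank_top, Module.finrank_fintype_fun_eq_card]) (fun w _ hw0 => ?_) (fun _ _ _ _ => Submodule.mem_top)
  obtain ⟨⟨x, hx⟩, ⟨y, hy⟩⟩ := hf.nondegenerate w hw0
  exact ⟨⟨x, Submodule.mem_top, hx⟩, ⟨y, Submodule.mem_top, hy⟩⟩

/-- Non-degenerate subspaces of a symplectic space have even dimension. -/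
theorem two_dvd_finrank_of_nondegenerate [Nonempty ι] (hf : IsSymplecticForm f) {W : Submodule F (ι → F)}
    (hW : IsNondegenerateOn f W) : 2 ∣ Module.finrank F W := by
  have hh := herm_symplectic hf
  have hmem : ∀ k ∈ (⊥ : Subalgebra F (Matrix ι ι F)), ∃ c : F, k = algebraMap F _ c := fun k hk =>
    (Algebra.mem_bot.1 hk).imp fun c h => h.symm
  have hmv : ∀ (c : F) (v : ι → F), algebraMap F (Matrix ι ι F) c *ᵥ v = c • v := fun c v => by
    rw [Algebra.algebraMap_eq_smul_one, Matrix.smul_mulVec, Matrix.one_mulVec]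
  have := two_mul_dvd_of_alternating_block hf (s := 1) (K := ⊥)
    ⟨fun x hx y _ => by obtain ⟨c, rfl⟩ := hmem x hx; exact Algebra.commutes c y,
      fun x hx hx0 => by
        obtain ⟨c, rfl⟩ := hmem x hx
        exact ⟨algebraMap F _ c⁻¹, Subalgebra.algebraMap_mem _ _,
          by rw [← map_mul, mul_inv_cancel₀ (fun h => hx0 (by rw [h, map_zero])), map_one]⟩,
      Subalgebra.finrank_bot⟩
    (fun k hk u v => by
      obtain ⟨c, rfl⟩ := hmem k hk
      rw [hmv, hmv, hh.smul_left, hh.smul_right]; rfl)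
    (fun k hk v => by obtain ⟨c, rfl⟩ := hmem k hk; rw [hmv, hh.smul_left, hf.alternating, mul_zero])
    _ W rfl hW (fun k hk v hv => by obtain ⟨c, rfl⟩ := hmem k hk; rw [hmv]; exact W.smul_mem c hv)
  simpa using this

/-- A unitary form has no adjoint closed field subalgebra of degree two. -/
theorem unitary_field_degree_ne_two [Nonempty ι] (hf : IsUnitaryForm σ f) {s : ℕ}
    {K : Subalgebra F (Matrix ι ι F)} (hK : IsFieldSubalgebra s K) (hKa : IsAdjointClosedFor f K) : s ≠ 2 := by
  classical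
  intro hs
  subst hs
  have hh := herm_unitary hf
  choose k' hk' ek using fun k : K => hKa k k.2
  letI : Field K := FieldTransvection.fieldOf hK
  haveI : Finite K := inferInstance
  let φ : K →+* K :=
    { toFun := fun k => ⟨k' k, hk' k⟩
      map_one' := Subtype.ext (hh.adj_unique (ek 1) (by simpa using hh.adj_one))
      map_mul' := fun a b => Subtype.ext (hh.adj_unique (ek (a * b)) (by
        show Herm.Adj f _ (k' a * k' b)
        rw [hK.comm _ (hk' a) _ (hk' b)]
        exact hh.adj_mul (ek a) (ek b)))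
      map_zero' := Subtype.ext (hh.adj_unique (ek 0) (by simpa using hh.adj_zero))
      map_add' := fun a b => Subtype.ext (hh.adj_unique (ek (a + b)) (hh.adj_add (ek a) (ek b))) }
  have h2 : ∀ k : K, φ (φ k) = k := fun k =>
    Subtype.ext (hh.adj_unique (ek (φ k)) (hh.adj_symm (ek k)))
  have hφc : ∀ c : F, φ (algebraMap F K c) = algebraMap F K (σ c) := fun c =>
    Subtype.ext (hh.adj_unique (ek (algebraMap F K c)) (by simpa using hh.adj_algebraMap c))
  obtain ⟨ω, hω⟩ := Unit.exists_moved hf.ne_refl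
  let S : Subfield K := RingHom.eqLocusField φ (RingHom.id K)
  have hdecomp : ∀ k : K, ∃ a b : S, (a : K) + algebraMap F K ω * b = k := by
    intro k
    set d := algebraMap F K (σ ω) - algebraMap F K ω with hd'
    have hd : d ≠ 0 := sub_ne_zero.2 fun h => hω ((algebraMap F K).injective h)
    have hφd : φ d = -d := by rw [hd', map_sub, hφc, hφc, hf.involutive]; ring
    refine ⟨⟨(k * algebraMap F K (σ ω) - φ k * algebraMap F K ω) / d, ?_⟩, ⟨(φ k - k) / d, ?_⟩, ?_⟩
    · show φ _ = _
      rw [map_div₀, map_sub, map_mul, map_mul, h2, hφc, hφc, hf.involutive, hφd, div_neg, ← neg_div, neg_sub]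
      rfl
    · show φ _ = _
      rw [map_div₀, map_sub, h2, hφd, div_neg, ← neg_div, neg_sub]
      rfl
    · show (k * algebraMap F K (σ ω) - φ k * algebraMap F K ω) / d + algebraMap F K ω * ((φ k - k) / d) = k
      rw [mul_div_assoc', ← add_div, div_eq_iff hd, hd']
      ring
  have huniq : Function.Injective fun p : S × S => (p.1 : K) + algebraMap F K ω * p.2 := by
    rintro ⟨a, b⟩ ⟨c, d⟩ h
    have h' : (a : K) + algebraMap F K ω * b = c + algebraMap F K ω * d := h
    have h1 := congrArg φ h'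
    rw [map_add, map_add, map_mul, map_mul, hφc, show φ a = a from a.2, show φ b = b from b.2,
      show φ c = c from c.2, show φ d = d from d.2] at h1
    have h3 : (algebraMap F K (σ ω) - algebraMap F K ω) * ((b : K) - d) = 0 := by linear_combination h1 - h'
    have h4 : (b : K) = d := sub_eq_zero.1 ((mul_eq_zero.1 h3).resolve_left
      (sub_ne_zero.2 fun e => hω ((algebraMap F K).injective e)))
    rw [h4] at h'
    exact Prod.ext (Subtype.ext (add_right_cancel h')) (Subtype.ext h4)
  have hcard : Nat.card K = Nat.card S * Nat.card S := by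
    rw [← Nat.card_prod]
    refine (Nat.card_congr (Equiv.ofBijective _ ⟨huniq, fun k => ?_⟩)).symm
    obtain ⟨a, b, hab⟩ := hdecomp k
    exact ⟨(a, b), hab⟩
  haveI : Fintype S := Fintype.ofFinite _
  have hcS : Nat.card S = Nat.card F := by
    apply Nat.mul_self_inj.1
    rw [← hcard, Module.natCard_eq_pow_finrank (K := F) (V := K), hK.finrank_eq, sq]
  haveI : Fintype K := Fintype.ofFinite _
  have hSF : ∀ x ∈ S, ∃ c : F, algebraMap F K c = x := by
    intro x hx
    let F' : Subfield K := (algebraMap F K).fieldRange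
    have hF' : Nat.card F' = Nat.card F :=
      (Nat.card_congr (Equiv.ofBijective (algebraMap F K).rangeRestrictField
        ⟨fun a b h => (algebraMap F K).injective (congrArg Subtype.val h), fun ⟨y, ⟨c, hc⟩⟩ =>
          ⟨c, Subtype.ext hc⟩⟩)).symm
    refine mem_of_pow_card_eq (F₁ := F') ?_
    rw [hF', ← hcS, Nat.card_eq_fintype_card]
    exact congrArg Subtype.val (FiniteField.pow_card (⟨x, hx⟩ : S))
  have hsurj : Function.Surjective (algebraMap F K) := fun k => by
    obtain ⟨a, b, hab⟩ := hdecomp k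
    obtain ⟨ca, hca⟩ := hSF a a.2
    obtain ⟨cb, hcb⟩ := hSF b b.2
    exact ⟨ca + ω * cb, by rw [map_add, map_mul, hca, hcb, hab]⟩
  have hle : Nat.card K ≤ Nat.card F := Nat.card_le_card_of_surjective _ hsurj
  rw [hcard, hcS] at hle
  have : 1 < Nat.card F := Finite.one_lt_card
  nlinarith

/-- An element with `j + j' = 1` in a normalised quadratic field gives an invariant quadratic form in characteristic two. -/
theorem exists_quad_of_field [Nonempty ι] (h2 : (2 : F) = 0) (hf : IsSymplecticForm f) {H : Subgroup (GL ι F)}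
    (hH : IsoGrp f H) {K : Subalgebra F (Matrix ι ι F)} (hK : IsFieldSubalgebra 2 K)
    (hKa : IsAdjointClosedFor f K) (hns : ¬ IsSelfAdjointFor f K) (hHK : Normalized H K) :
    ∃ Q : (ι → F) → F, IsNondegenerateQuadraticForm Q ∧ (∀ u v, QuadraticMap.polar Q u v = f u v) ∧
      H ≤ quadSimilarityGroup Q := by
  classical
  have hh := herm_symplectic hf
  let S : Submodule F (Matrix ι ι F) :=
    { carrier := {x | x ∈ K ∧ Herm.Adj f x x}
      zero_mem' := ⟨K.zero_mem, hh.adj_zero⟩
      add_mem' := fun {x y} hx hy => ⟨K.add_mem hx.1 hy.1, hh.adj_add hx.2 hy.2⟩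
      smul_mem' := fun c x hx => ⟨K.smul_mem hx.1 c, fun u v => by
        rw [Matrix.smul_mulVec, Matrix.smul_mulVec, hh.smul_left, hh.smul_right, hx.2 u v]; rfl⟩ }
  have hSK : S ≤ Subalgebra.toSubmodule K := fun x hx => hx.1
  have hSlt : Module.finrank F S < 2 := by
    have hlt : S < Subalgebra.toSubmodule K := lt_of_le_of_ne hSK fun h => hns fun k hk u v =>
      ((h.symm ▸ hk : k ∈ S)).2 u v
    have := Submodule.finrank_lt_finrank_of_lt hlt
    rwa [show Module.finrank F (Subalgebra.toSubmodule K) = 2 from hK.finrank_eq] at this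
  have h1S : (1 : Matrix ι ι F) ∈ S := ⟨K.one_mem, hh.adj_one⟩
  have hS : ∀ x ∈ S, ∃ c : F, x = c • (1 : Matrix ι ι F) := by
    intro x hx
    have hle : Submodule.span F {(1 : Matrix ι ι F)} ≤ S := by
      rw [Submodule.span_singleton_le_iff_mem]; exact h1S
    have he := Submodule.eq_of_le_of_finrank_le hle (by rw [finrank_span_singleton one_ne_zero]; omega)
    obtain ⟨c, hc⟩ := Submodule.mem_span_singleton.1 (he.symm ▸ hx)
    exact ⟨c, hc.symm⟩
  obtain ⟨k, hk, hk0⟩ : ∃ k ∈ K, ¬ Herm.Adj f k k := by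
    by_contra h
    push Not at h
    exact hns fun k hk => h k hk
  obtain ⟨k', hk', ek⟩ := hKa k hk
  obtain ⟨c, hc⟩ := hS (k + k') ⟨K.add_mem hk hk', by
    have := hh.adj_add ek (hh.adj_symm ek)
    rwa [add_comm k' k] at this⟩
  have hneg : ∀ x : F, -x = x := fun x => by linear_combination (-x) * h2
  have hc0 : c ≠ 0 := by
    intro h0
    rw [h0, zero_smul] at hc
    apply hk0
    have : k' = k := by
      rw [eq_neg_of_add_eq_zero_right hc]
      ext i j; simp [hneg]
    rwa [this] at ek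
  let j := c⁻¹ • k
  let j' := c⁻¹ • k'
  have ej : Herm.Adj f j j' := fun u v => by
    simp only [j, j', Matrix.smul_mulVec, hh.smul_left, hh.smul_right, ek u v]; rfl
  have hsum : j + j' = 1 := by
    simp only [j, j', ← smul_add, hc, smul_smul, inv_mul_cancel₀ hc0, one_smul]
  have hsymm : ∀ u v, f u v = f v u := fun u v => by rw [hf.skew, hneg]
  let Q : (ι → F) → F := fun v => f (j *ᵥ v) v
  have hpol : ∀ u v, QuadraticMap.polar Q u v = f u v := by
    intro u v
    show f (j *ᵥ (u + v)) (u + v) - f (j *ᵥ u) u - f (j *ᵥ v) v = f u v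
    rw [Matrix.mulVec_add, hh.add_left, hh.add_right, hh.add_right, hsymm (j *ᵥ v) u]
    have h1 : f u v = f (j *ᵥ u) v + f u (j *ᵥ v) := by
      conv_lhs => rw [← Matrix.one_mulVec v, ← hsum, Matrix.add_mulVec, hh.add_right, ← ej]
      rw [add_comm]
    rw [h1]
    ring
  have hpol' : QuadraticMap.polar Q = f := funext fun u => funext fun v => hpol u v
  refine ⟨Q, ⟨fun a v => ?_, hpol' ▸ hf.bilinear, hpol' ▸ hf.nondegenerate⟩, hpol, fun g hg => ⟨1, fun v => ?_⟩⟩
  · simp only [Q, Matrix.mulVec_smul, hh.smul_left, hh.smul_right]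
    show a * (a * _) = _
    ring
  rw [Units.val_one, one_mul]
  let i := conjHom g⁻¹ j
  let i' := conjHom g⁻¹ j'
  have hjK : j ∈ K := K.smul_mem hk _
  have hj'K : j' ∈ K := K.smul_mem hk' _
  have hgi : ∀ x y : Matrix ι ι F, ∀ u, (g : Matrix ι ι F) *ᵥ (conjHom g⁻¹ x *ᵥ u) = x *ᵥ ((g : Matrix ι ι F) *ᵥ u) := by
    intro x _ u
    rw [Matrix.mulVec_mulVec, Matrix.mulVec_mulVec, conjHom_apply, inv_inv, ← mul_assoc, ← mul_assoc,
      Units.mul_inv, one_mul]
  have ei : Herm.Adj f i i' := fun u w => by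
    rw [← hH g hg, ← hH g hg u, hgi j j, hgi j' j']
    exact ej _ _
  have hisum : i + i' = 1 := by simp only [i, i', ← map_add, hsum, map_one]
  have hd : i - j ∈ S := by
    refine ⟨K.sub_mem (hHK _ (H.inv_mem hg) _ hjK) hjK, ?_⟩
    have h3 : i' - j' = i - j := by
      rw [eq_sub_of_add_eq' hisum, eq_sub_of_add_eq' hsum, sub_sub_sub_cancel_left]
      ext a b
      simp only [Matrix.sub_apply]
      linear_combination (j a b - i a b) * h2
    intro u w
    calc f ((i - j) *ᵥ u) w = f u ((i' - j') *ᵥ w) := by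
          rw [Matrix.sub_mulVec, hh.sub_left, ei, ej, Matrix.sub_mulVec, hh.sub_right]
      _ = _ := by rw [h3]
  obtain ⟨a, ha⟩ := hS _ hd
  calc Q ((g : Matrix ι ι F) *ᵥ v) = f (i *ᵥ v) v := by
        show f (j *ᵥ _) _ = _
        rw [← hgi j j, hH g hg]
    _ = f (j *ᵥ v + (i - j) *ᵥ v) v := by rw [← Matrix.add_mulVec, add_sub_cancel]
    _ = Q v := by
      have e : (a • (1 : Matrix ι ι F)) *ᵥ v = a • v := by rw [Matrix.smul_mulVec, Matrix.one_mulVec]
      rw [ha, hh.add_left, e, hh.smul_left, hf.alternating, mul_zero, add_zero]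

end CfsgLib.Geo.Asch
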