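import Mathlib
import Cfsg.Prelude.Def_GeometricClasses
import Cfsg.Agent.Lib.Geo.AschFormBasic
import Cfsg.Agent.Lib.Geo.AschFormRational

/-! Forms and subfield structures for spanning normal subgroups. -/

set_option autoImplicit false
set_option linter.unusedSectionVars false

namespace CfsgLib.Geo.Asch

open Cfsg Cfsg.Geo Matrix CfsgLib.GeomClasses
open scoped MatrixGroups

variable {ι : Type} [Fintype ι] [DecidableEq ι] {F : Type*} [Field F] [Fintype F]

/-- On a rational basis of a spanning group the Gram matrix is rational up to one scalar. -/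
theorem exists_gram_rational [Nonempty ι] {σ : F ≃+* F} {ε : F} {f : (ι → F) → (ι → F) → F} (hf : Herm σ ε f)
    {N : Subgroup (GL ι F)} (hspan : algOf N = ⊤) (hfN : FixesForm (matrixSet N) f)
    {F₁ : Subfield F} (P : GL ι F)
    (hrat : ∀ s ∈ N, ∀ i j, ((P⁻¹ * s * P : GL ι F) : Matrix ι ι F) i j ∈ F₁) :
    ∃ ζ : F, ζ ≠ 0 ∧ (∀ x ∈ F₁, σ x ∈ F₁) ∧
      (∀ u v : ι → F, f ((P : Matrix ι ι F) *ᵥ u) ((P : Matrix ι ι F) *ᵥ v) =
        ∑ i, ∑ j, u i * σ (v j) * f ((P : Matrix ι ι F) *ᵥ Pi.single i 1) ((P : Matrix ι ι F) *ᵥ Pi.single j 1)) ∧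
      (∃ a b, f ((P : Matrix ι ι F) *ᵥ Pi.single a 1) ((P : Matrix ι ι F) *ᵥ Pi.single b 1) = ζ) ∧
      ∀ i j, f ((P : Matrix ι ι F) *ᵥ Pi.single i 1) ((P : Matrix ι ι F) *ᵥ Pi.single j 1) / ζ ∈ F₁ := by
  classical
  have hs := hf.sesq
  haveI : Fintype F₁ := Fintype.ofFinite _
  set q1 := Nat.card F₁ with hq1
  let θ : F ≃+* F := (FiniteField.frobeniusAlgEquivOfAlgebraic F₁ F).toRingEquiv
  have hθ : ∀ x, θ x = x ^ q1 := fun x => by
    show FiniteField.frobeniusAlgEquivOfAlgebraic F₁ F x = _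
    rw [FiniteField.coe_frobeniusAlgEquivOfAlgebraic, hq1, Nat.card_eq_fintype_card]
  have hθF : ∀ {x}, x ∈ F₁ → θ x = x := fun {x} hx => by
    have h2 := congrArg Subtype.val (FiniteField.pow_card (⟨x, hx⟩ : F₁))
    rw [SubmonoidClass.coe_pow] at h2
    rw [hθ, hq1, Nat.card_eq_fintype_card]
    exact h2
  have hθF' : ∀ {x}, θ x = x → x ∈ F₁ := fun {x} hx => mem_of_pow_card_eq (by rw [← hθ]; exact hx)
  have hθsymm : ∀ {x}, x ∈ F₁ → θ.symm x = x := fun {x} hx => by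
    rw [RingEquiv.symm_apply_eq, hθF hx]
  have hσθ : ∀ x, σ (θ x) = θ (σ x) := fun x => by rw [hθ, hθ, map_pow]
  have hσθ' : ∀ x, θ (σ (θ.symm x)) = σ x := fun x => by rw [← hσθ, RingEquiv.apply_symm_apply]
  have hσF : ∀ {x}, x ∈ F₁ → σ x ∈ F₁ := fun {x} hx => hθF' (by rw [← hσθ, hθF hx])
  -- the Gram matrix
  let G : ι → ι → F := fun i j =>
    f ((P : Matrix ι ι F) *ᵥ Pi.single i 1) ((P : Matrix ι ι F) *ᵥ Pi.single j 1)
  have hexp : ∀ u v : ι → F, f ((P : Matrix ι ι F) *ᵥ u) ((P : Matrix ι ι F) *ᵥ v) = ∑ i, ∑ j, u i * σ (v j) * G i j := by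
    intro u v
    conv_lhs => rw [pi_eq_sum_univ' u, pi_eq_sum_univ' v]
    simp only [Matrix.mulVec_sum, Matrix.mulVec_smul, hs.sum_left, hs.smul_left]
    refine Finset.sum_congr rfl fun i _ => ?_
    rw [hs.sum_right, Finset.mul_sum]
    refine Finset.sum_congr rfl fun j _ => ?_
    rw [hs.smul_right, show (σ : F →+* F) (v j) = σ (v j) from rfl, mul_assoc]
  let T : (ι → F) → (ι → F) := fun v =>
    (P : Matrix ι ι F) *ᵥ fun k => θ.symm ((((P⁻¹ : GL ι F) : Matrix ι ι F) *ᵥ v) k)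
  have hTadd : ∀ x y, T (x + y) = T x + T y := fun x y => by
    simp only [T, Matrix.mulVec_add, Pi.add_apply, map_add]
    rw [← Matrix.mulVec_add]; rfl
  have hTsmul : ∀ (c : F) x, T (c • x) = θ.symm c • T x := fun c x => by
    simp only [T, Matrix.mulVec_smul, Pi.smul_apply, smul_eq_mul, map_mul]
    rw [← Matrix.mulVec_smul]; rfl
  have hTN : ∀ s ∈ N, ∀ v, T ((s : Matrix ι ι F) *ᵥ v) = (s : Matrix ι ι F) *ᵥ T v := by
    intro s hsN v
    set X : GL ι F := P⁻¹ * s * P with hX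
    set w := ((P⁻¹ : GL ι F) : Matrix ι ι F) *ᵥ v with hw
    have h1 : ((P⁻¹ : GL ι F) : Matrix ι ι F) *ᵥ ((s : Matrix ι ι F) *ᵥ v) = (X : Matrix ι ι F) *ᵥ w := by
      rw [hw, hX, Matrix.mulVec_mulVec, Matrix.mulVec_mulVec, ← Units.val_mul, ← Units.val_mul, mul_inv_cancel_right]
    have h2 : (fun k => θ.symm (((X : Matrix ι ι F) *ᵥ w) k)) = (X : Matrix ι ι F) *ᵥ fun k => θ.symm (w k) := by
      funext k
      simp only [Matrix.mulVec, dotProduct, map_sum, map_mul]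
      exact Finset.sum_congr rfl fun a _ => by rw [hθsymm (hrat s hsN k a)]
    show (P : Matrix ι ι F) *ᵥ _ = (s : Matrix ι ι F) *ᵥ ((P : Matrix ι ι F) *ᵥ _)
    rw [h1, h2, hX, Matrix.mulVec_mulVec, Matrix.mulVec_mulVec, ← Units.val_mul, ← Units.val_mul,
      show P * (P⁻¹ * s * P) = s * P by group]
  have hTsurj : Function.Surjective T := fun w =>
    ⟨(P : Matrix ι ι F) *ᵥ fun k => θ ((((P⁻¹ : GL ι F) : Matrix ι ι F) *ᵥ w) k), by
      simp only [T, gl_inv_mulVec_mulVec, RingEquiv.symm_apply_apply]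
      exact gl_mulVec_inv_mulVec P w⟩
  have hTinj : Function.Injective T := Finite.injective_iff_surjective.2 hTsurj
  have hT0 : T 0 = 0 := by
    have := hTsmul 0 0
    rwa [zero_smul, map_zero, zero_smul] at this
  obtain ⟨μ, hμ⟩ := form_unique hspan σ (f := f) (g := fun u v => θ (f (T u) (T v))) hs
    ⟨fun x y v => by rw [hTadd, hs.add_left, map_add],
      fun c x v => by rw [hTsmul, hs.smul_left, map_mul, RingEquiv.apply_symm_apply],
      fun v x y => by rw [hTadd, hs.add_right, map_add],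
      fun c v x => by
        rw [hTsmul, hs.smul_right, map_mul]
        show θ (σ (θ.symm c)) * _ = σ c * _
        rw [hσθ']⟩
    hf.nondeg
    (fun v hv => by
      obtain ⟨⟨x, hx⟩, ⟨y, hy⟩⟩ := hf.nondeg (T v) (fun h => hv (hTinj (h.trans hT0.symm)))
      obtain ⟨x', rfl⟩ := hTsurj x
      obtain ⟨y', rfl⟩ := hTsurj y
      exact ⟨⟨x', by simpa using hx⟩, ⟨y', by simpa using hy⟩⟩)
    hfN (by
      rintro _ ⟨s, hsN, rfl⟩ u v
      show θ _ = θ _
      rw [hTN s hsN, hTN s hsN, hfN _ ⟨s, hsN, rfl⟩])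
  have hGθ : ∀ i j, θ (G i j) = (μ : F) * G i j := by
    intro i j
    have hTe : ∀ i, T ((P : Matrix ι ι F) *ᵥ Pi.single i 1) = (P : Matrix ι ι F) *ᵥ Pi.single i 1 := fun i => by
      simp only [T, gl_inv_mulVec_mulVec]
      congr 1
      funext k
      by_cases hk : k = i <;> simp [hk]
    have := hμ ((P : Matrix ι ι F) *ᵥ Pi.single i 1) ((P : Matrix ι ι F) *ᵥ Pi.single j 1)
    rw [hTe, hTe] at this
    exact this
  have hdeg : ∀ v : ι → F, v ≠ 0 → ∃ u, f ((P : Matrix ι ι F) *ᵥ u) ((P : Matrix ι ι F) *ᵥ v) ≠ 0 := by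
    intro v hv
    obtain ⟨x, hx⟩ := (hf.nondeg _ (gl_mulVec_ne_zero P hv)).1
    exact ⟨((P⁻¹ : GL ι F) : Matrix ι ι F) *ᵥ x, by rwa [gl_mulVec_inv_mulVec]⟩
  obtain ⟨a, b, hab⟩ : ∃ a b, G a b ≠ 0 := by
    by_contra h
    push Not at h
    obtain ⟨v, hv⟩ := exists_ne (0 : ι → F)
    obtain ⟨u, hu⟩ := hdeg v hv
    exact hu (by simp [hexp, h])
  set ζ := G a b with hζ
  have hΦ : ∀ i j, G i j / ζ ∈ F₁ := fun i j => hθF' (by
    rw [map_div₀, hGθ, hGθ, mul_div_mul_left _ _ μ.ne_zero])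
  exact ⟨ζ, hab, fun x hx => hσF hx, hexp, ⟨a, b, rfl⟩, hΦ⟩

variable {σ : F ≃+* F} {ε : F} {f : (ι → F) → (ι → F) → F}

/-- A bilinear form gives a rational structure up to a scalar. -/
theorem exists_form_rational_bilinear [Nonempty ι] (hf : Herm (RingEquiv.refl F) ε f)
    {N : Subgroup (GL ι F)} (hspan : algOf N = ⊤) (hfN : FixesForm (matrixSet N) f)
    {F₁ : Subfield F} (P : GL ι F)
    (hrat : ∀ s ∈ N, ∀ i j, ((P⁻¹ * s * P : GL ι F) : Matrix ι ι F) i j ∈ F₁) :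
    ∃ ζ : F, ζ ≠ 0 ∧ IsFormRationalStructure f F₁ ζ P := by
  obtain ⟨ζ, hζ, -, hexp, -, hΦ⟩ := exists_gram_rational hf hspan hfN P hrat
  refine ⟨ζ⁻¹, inv_ne_zero hζ, fun u v hu hv => ?_⟩
  rw [hexp, Finset.mul_sum]
  refine F₁.sum_mem fun i _ => ?_
  rw [Finset.mul_sum]
  refine F₁.sum_mem fun j _ => ?_
  rw [mul_left_comm]
  exact F₁.mul_mem (F₁.mul_mem (hu i) (hv j)) (by rw [← div_eq_inv_mul]; exact hΦ i j)

/-- An automorphism of order at most two fixing a subfield of odd prime index is trivial. -/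
theorem eq_refl_of_fixes {F₁ : Subfield F} {r : ℕ} (hc : Fintype.card F = Nat.card F₁ ^ r) (hodd : Odd r)
    {τ : F ≃+* F} (hτ2 : ∀ a, τ (τ a) = a) (hfix : ∀ x ∈ F₁, τ x = x) : τ = RingEquiv.refl F := by
  haveI : FiniteDimensional F₁ F := Module.Finite.of_finite
  haveI : IsGalois F₁ F := GaloisField.instIsGaloisOfFinite
  have hr : Module.finrank F₁ F = r := by
    have h := Module.natCard_eq_pow_finrank (K := F₁) (V := F)
    rw [Nat.card_eq_fintype_card, hc] at h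
    exact (Nat.pow_right_injective (Finite.one_lt_card (α := F₁)) h).symm
  let τ' : F ≃ₐ[F₁] F := AlgEquiv.ofRingEquiv (f := τ) (fun x => hfix _ x.2)
  have h2 : τ' ^ 2 = 1 := AlgEquiv.ext fun a => hτ2 a
  have h3 : τ' ^ r = 1 := by
    rw [← hr, ← IsGalois.card_aut_eq_finrank F₁ F]; exact pow_card_eq_one'
  obtain ⟨k, rfl⟩ := hodd
  rw [pow_succ, pow_mul, h2, one_pow, one_mul] at h3
  exact RingEquiv.ext fun a => congrArg (fun t : F ≃ₐ[F₁] F => t a) h3

/-- Rational structures of a unitary form, in any dimension. -/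
theorem exists_form_rational_unitary [Nonempty ι] (hn2 : 2 ≤ Fintype.card ι) {q : ℕ} (hF : Fintype.card F = q ^ 2)
    (hσq : ∀ x, σ x = x ^ q) (hf : IsUnitaryForm σ f) {N : Subgroup (GL ι F)} (hspan : algOf N = ⊤)
    (hfN : FixesForm (matrixSet N) f)
    {F₁ : Subfield F} {r : ℕ} (hr : r.Prime) (hc : Fintype.card F = Nat.card F₁ ^ r) (P : GL ι F)
    (hrat : ∀ s ∈ N, ∀ i j, ((P⁻¹ * s * P : GL ι F) : Matrix ι ι F) i j ∈ F₁) :
    ∃ P' : GL ι F, subfieldSubgroup F₁ P' = subfieldSubgroup F₁ P ∧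
      ((IsFormRationalStructure f F₁ 1 P' ∧ (Odd r ∨ (r = 2 ∧ Odd q))) ∨
       (r = 2 ∧ ∃ ζ : F, ζ ≠ 0 ∧ ζ + ζ ^ q = 0 ∧ IsFormRationalStructure f F₁ ζ P' ∧
        ∀ u : ι → F, (∀ i, u i ∈ F₁) →
          f ((P' : Matrix ι ι F) *ᵥ u) ((P' : Matrix ι ι F) *ᵥ u) = 0)) := by
  classical
  have hs := Unit.sesq hf
  obtain ⟨ζ, hab, hσF', hexp, ⟨a, b, hζab⟩, hΦ⟩ := exists_gram_rational (herm_unitary hf) hspan hfN P hrat
  have hσF : ∀ {x}, x ∈ F₁ → σ x ∈ F₁ := fun {x} hx => hσF' x hx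
  set G : ι → ι → F := fun i j =>
    f ((P : Matrix ι ι F) *ᵥ Pi.single i 1) ((P : Matrix ι ι F) *ᵥ Pi.single j 1) with hG
  have hherm : ∀ i j, σ (G i j) = G j i := fun i j => Unit.conj_form hf _ _
  set ρ := σ ζ / ζ with hρ
  have hρF : ρ ∈ F₁ := by rw [hρ, ← hζab, show σ _ = G b a from hherm a b, hζab]; exact hΦ b a
  have hρρ : ρ * σ ρ = 1 := by
    rw [hρ, map_div₀, hf.involutive, div_mul_div_comm, mul_comm, div_self]
    exact mul_ne_zero hab ((map_ne_zero σ).2 hab)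
  have hσζ : σ ζ = ρ * ζ := by rw [hρ, div_mul_cancel₀ _ hab]
  by_cases hall : (2 : F) ≠ 0 ∧ ∀ e ∈ F₁, e + ρ * σ e = 0
  · obtain ⟨h2, hall⟩ := hall
    have hρ1 : ρ = -1 := by
      have := hall 1 F₁.one_mem
      rw [map_one, mul_one] at this
      exact eq_neg_of_add_eq_zero_right this
    have hσfix : ∀ x ∈ F₁, σ x = x := fun x hx => by
      have := hall x hx
      rw [hρ1] at this
      linear_combination -this
    have hr2 : r = 2 := hr.eq_two_or_odd'.resolve_right fun ho =>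
      hf.ne_refl (eq_refl_of_fixes hc ho hf.involutive hσfix)
    have hskew : ∀ i j, G j i = -G i j := fun i j => by
      rw [← hherm i j, ← div_mul_cancel₀ (G i j) hab, map_mul, hσfix _ (hΦ i j), hσζ, hρ1]
      ring
    refine ⟨P, rfl, Or.inr ⟨hr2, ζ⁻¹, inv_ne_zero hab, ?_, fun u v hu hv => ?_, fun u hu => ?_⟩⟩
    · rw [← hσq, map_inv₀, hσζ, hρ1, neg_one_mul, inv_neg, add_neg_cancel]
    · rw [hexp, Finset.mul_sum]
      refine F₁.sum_mem fun i _ => ?_
      rw [Finset.mul_sum]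
      refine F₁.sum_mem fun j _ => ?_
      rw [mul_left_comm]
      exact F₁.mul_mem (F₁.mul_mem (hu i) (hσF (hv j))) (by rw [← div_eq_inv_mul]; exact hΦ i j)
    · rw [hexp]
      set S := ∑ i, ∑ j, u i * σ (u j) * G i j with hS
      have h3 : S = -S := by
        conv_lhs => rw [hS, Finset.sum_comm]
        rw [hS, ← Finset.sum_neg_distrib]
        refine Finset.sum_congr rfl fun i _ => ?_
        rw [← Finset.sum_neg_distrib]
        exact Finset.sum_congr rfl fun j _ => by rw [hσfix _ (hu i), hσfix _ (hu j), hskew i j]; ring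
      have h4 : (2 : F) * S = 0 := by linear_combination h3
      exact (mul_eq_zero.1 h4).resolve_left h2
  obtain ⟨c, hcF, hc0, hcσ⟩ : ∃ c ∈ F₁, c ≠ 0 ∧ σ (ζ * c) = ζ * c := by
    by_cases he : ∃ e ∈ F₁, e + ρ * σ e ≠ 0
    · obtain ⟨e, heF, he0⟩ := he
      refine ⟨e + ρ * σ e, F₁.add_mem heF (F₁.mul_mem hρF (hσF heF)), he0, ?_⟩
      rw [map_mul, map_add, map_mul, hf.involutive, hσζ]
      linear_combination (ζ * e) * hρρ
    push Not at he
    push Not at hall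
    have h2 : (2 : F) = 0 := by
      by_contra h2
      obtain ⟨e, he1, he2⟩ := hall h2
      exact he2 (he e he1)
    have hρ1 : ρ = -1 := by
      have := he 1 F₁.one_mem
      rw [map_one, mul_one] at this
      exact eq_neg_of_add_eq_zero_right this
    refine ⟨1, F₁.one_mem, one_ne_zero, ?_⟩
    rw [mul_one, hσζ, hρ1]
    linear_combination (-ζ) * h2
  obtain ⟨l, hl⟩ := Unit.exists_norm hf.ne_refl hf.involutive
    (show σ (ζ * c)⁻¹ = (ζ * c)⁻¹ by rw [map_inv₀, hcσ])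
  have hl0 : l ≠ 0 := by
    rintro rfl
    rw [zero_mul, eq_comm, inv_eq_zero] at hl
    exact mul_ne_zero hab hc0 hl
  let S : GL ι F := Units.map (Matrix.scalar ι : F →+* Matrix ι ι F).toMonoidHom (Units.mk0 l hl0)
  have hS : S ∈ scalars ι F := ⟨_, rfl⟩
  let M : ι → ι → F := fun i j => l * σ l * G i j
  have hMF : ∀ i j, M i j ∈ F₁ := fun i j => by
    show l * σ l * G i j ∈ F₁
    rw [hl, mul_inv, mul_comm ζ⁻¹, mul_assoc, inv_mul_eq_div (a := ζ)]
    exact F₁.mul_mem (F₁.inv_mem hcF) (hΦ i j)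
  have hPS : ∀ u, ((P * S : GL ι F) : Matrix ι ι F) *ᵥ u = l • ((P : Matrix ι ι F) *ᵥ u) := fun u => by
    rw [← scalars_comm hS, Units.val_mul, ← Matrix.mulVec_mulVec]
    show Matrix.scalar ι l *ᵥ _ = _
    rw [Matrix.scalar_apply, ← Matrix.smul_one_eq_diagonal, Matrix.smul_mulVec, Matrix.one_mulVec]
  have hexp' : ∀ u v : ι → F, f (((P * S : GL ι F) : Matrix ι ι F) *ᵥ u) (((P * S : GL ι F) : Matrix ι ι F) *ᵥ v) =
      ∑ i, ∑ j, u i * σ (v j) * M i j := by
    intro u v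
    rw [hPS, hPS, hs.smul_left, hs.smul_right, show (σ : F →+* F) l = σ l from rfl, hexp, ← mul_assoc, Finset.mul_sum]
    refine Finset.sum_congr rfl fun i _ => ?_
    rw [Finset.mul_sum]
    exact Finset.sum_congr rfl fun j _ => by simp only [M]; ring
  have hsub : subfieldSubgroup F₁ (P * S) = subfieldSubgroup F₁ P := by
    have hconj : (MulAut.conj (P * S)).toMonoidHom = (MulAut.conj P).toMonoidHom := by
      refine MonoidHom.ext fun y => ?_
      show P * S * y * (P * S)⁻¹ = P * y * P⁻¹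
      rw [mul_assoc P S y, scalars_comm hS y]
      group
    simp only [subfieldSubgroup, hconj]
  have hrs : IsFormRationalStructure f F₁ 1 (P * S) := by
    intro u v hu hv
    rw [one_mul, hexp']
    exact F₁.sum_mem fun i _ => F₁.sum_mem fun j _ => F₁.mul_mem (F₁.mul_mem (hu i) (hσF (hv j))) (hMF i j)
  rcases hr.eq_two_or_odd' with rfl | ho
  swap
  · exact ⟨P * S, hsub, Or.inl ⟨hrs, Or.inl ho⟩⟩
  by_cases hq : Odd q
  · exact ⟨P * S, hsub, Or.inl ⟨hrs, Or.inr ⟨rfl, hq⟩⟩⟩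
  have h2 : (2 : F) = 0 := two_eq_zero_of_not_odd (by rw [hF]; exact fun h => hq ((Nat.odd_pow_iff two_ne_zero).1 h))
  have hqq : Nat.card F₁ = q := Nat.pow_left_injective two_ne_zero (hc.symm.trans hF)
  have hfix : ∀ x ∈ F₁, σ x = x := fun x hx => by
    haveI : Fintype F₁ := Fintype.ofFinite _
    have h3 := congrArg Subtype.val (FiniteField.pow_card (⟨x, hx⟩ : F₁))
    rw [SubmonoidClass.coe_pow] at h3
    rw [hσq, ← hqq, Nat.card_eq_fintype_card]
    exact h3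
  have hsymm : ∀ i j, M i j = M j i := fun i j => by
    rw [← hfix _ (hMF i j)]
    simp only [M, map_mul, hherm, hf.involutive]
    ring
  haveI : CharP F 2 := CharTwo.of_one_ne_zero_of_two_eq_zero one_ne_zero h2
  haveI : Fact (Nat.Prime 2) := ⟨Nat.prime_two⟩
  have hsq : ∀ x : F, IsSquare x := fun x => FiniteField.isSquare_of_char_two (ringChar.eq F 2) x
  choose d hd using fun i => hsq (M i i)
  have hdX : ∀ s ∈ N, d ᵥ* ((P⁻¹ * s * P : GL ι F) : Matrix ι ι F) = d := by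
    intro s hsN
    funext k
    set X := ((P⁻¹ * s * P : GL ι F) : Matrix ι ι F) with hX
    have h6 : ∀ u : ι → F, (∀ i, u i ∈ F₁) →
        f (((P * S : GL ι F) : Matrix ι ι F) *ᵥ u) (((P * S : GL ι F) : Matrix ι ι F) *ᵥ u) =
          ∑ i, u i ^ 2 * M i i := by
      intro u hu
      rw [hexp', ← quad_diag h2 hsymm]
      exact Finset.sum_congr rfl fun i _ => Finset.sum_congr rfl fun j _ => by rw [hfix _ (hu j)]
    have hsing : ∀ i, (Pi.single k (1 : F) : ι → F) i ∈ F₁ := fun i => by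
      by_cases hi : i = k <;> simp [hi, F₁.one_mem, F₁.zero_mem]
    have hXk : ∀ i, (X *ᵥ Pi.single k 1) i = X i k := fun i => by simp
    have h7 := hfN _ ⟨s, hsN, rfl⟩ (((P * S : GL ι F) : Matrix ι ι F) *ᵥ Pi.single k 1)
      (((P * S : GL ι F) : Matrix ι ι F) *ᵥ Pi.single k 1)
    have h8 : (s : Matrix ι ι F) *ᵥ (((P * S : GL ι F) : Matrix ι ι F) *ᵥ Pi.single k 1) =
        ((P * S : GL ι F) : Matrix ι ι F) *ᵥ (X *ᵥ Pi.single k 1) := by
      rw [hX, Matrix.mulVec_mulVec, Matrix.mulVec_mulVec, ← Units.val_mul, ← Units.val_mul,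
        mul_assoc P S (P⁻¹ * s * P), scalars_comm hS (P⁻¹ * s * P)]
      simp [mul_assoc]
    rw [h8, h6 _ hsing, h6 _ (fun i => by rw [hXk]; exact hrat s hsN i k)] at h7
    have h9 : ((d ᵥ* X) k) ^ 2 = d k ^ 2 := by
      simp only [Matrix.vecMul, dotProduct]
      rw [sum_pow_char 2]
      simp only [hXk] at h7
      simp only [mul_pow, sq (d _), ← hd]
      rw [← Finset.sum_congr rfl (fun i _ => mul_comm (X i k ^ 2) (M i i)), h7]
      simp [Pi.single_apply]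
    exact frobenius_inj F 2 h9
  let D : (ι → F) →ₗ[F] F :=
    { toFun := fun v => d ⬝ᵥ (((P⁻¹ : GL ι F) : Matrix ι ι F) *ᵥ v)
      map_add' := fun x y => by simp [Matrix.mulVec_add, dotProduct_add]
      map_smul' := fun x y => by simp [Matrix.mulVec_smul, dotProduct_smul] }
  have hd0 : ∀ i, d i = 0 := by
    rcases irreducible_of_algOf_eq_top hspan (LinearMap.ker D) (by
      rintro _ ⟨s, hsN, rfl⟩ _ ⟨v, hv, rfl⟩
      rw [LinearMap.mem_ker, Matrix.toLin'_apply]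
      show d ⬝ᵥ _ = 0
      rw [show ((P⁻¹ : GL ι F) : Matrix ι ι F) *ᵥ ((s : Matrix ι ι F) *ᵥ v) =
        ((P⁻¹ * s * P : GL ι F) : Matrix ι ι F) *ᵥ (((P⁻¹ : GL ι F) : Matrix ι ι F) *ᵥ v) by
        rw [Matrix.mulVec_mulVec, Matrix.mulVec_mulVec, ← Units.val_mul, ← Units.val_mul, mul_inv_cancel_right],
        Matrix.dotProduct_mulVec, hdX s hsN]
      exact hv) with h | h
    · exfalso
      obtain ⟨y, hy, hdy⟩ := Unit.exists_orth_ne_zero hn2 d
      have : (P : Matrix ι ι F) *ᵥ y ∈ LinearMap.ker D := by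
        rw [LinearMap.mem_ker]
        show d ⬝ᵥ _ = 0
        rw [gl_inv_mulVec_mulVec]; exact hdy
      rw [h, Submodule.mem_bot] at this
      exact gl_mulVec_ne_zero P hy this
    · intro i
      have : (P : Matrix ι ι F) *ᵥ Pi.single i 1 ∈ LinearMap.ker D := h ▸ Submodule.mem_top
      rw [LinearMap.mem_ker] at this
      change d ⬝ᵥ _ = 0 at this
      rw [gl_inv_mulVec_mulVec, dotProduct_single, mul_one] at this
      exact this
  refine ⟨P * S, hsub, Or.inr ⟨rfl, 1, one_ne_zero, by rw [one_pow]; linear_combination h2, hrs, fun u hu => ?_⟩⟩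
  rw [hexp', show (∑ i, ∑ j, u i * σ (u j) * M i j) = ∑ i, ∑ j, u i * u j * M i j from
    Finset.sum_congr rfl fun i _ => Finset.sum_congr rfl fun j _ => by rw [hfix _ (hu j)], quad_diag h2 hsymm]
  simp [hd, hd0]

end CfsgLib.Geo.Asch
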