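import Mathlib
import Cfsg.Prelude.Def_GeometricClasses
import Cfsg.Agent.Lib.Geo.AschFormCore
import Cfsg.Agent.Lib.Geo.AschFormRat

/-! The absolutely irreducible almost simple case for symplectic and unitary groups. -/

set_option autoImplicit false
set_option linter.unusedSectionVars false

namespace CfsgLib.Geo.Asch

open Cfsg Cfsg.Geo Matrix CfsgLib.GeomClasses
open scoped MatrixGroups commutatorElement

variable {ι : Type} [Fintype ι] [DecidableEq ι] {F : Type*} [Field F] [Fintype F]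

/-- An additive map with quadratic scaling invariant under an irreducible group vanishes. -/
theorem quadratic_defect_eq_zero (hn2 : 2 ≤ Fintype.card ι) (h2 : (2 : F) = 0) {N : Subgroup (GL ι F)}
    (hirr : ActsIrreducibly (matrixSet N)) (D : (ι → F) → F) (hadd : ∀ u v, D (u + v) = D u + D v)
    (hsmul : ∀ (c : F) v, D (c • v) = c ^ 2 * D v)
    (hN : ∀ s ∈ N, ∀ v, D ((s : Matrix ι ι F) *ᵥ v) = D v) : ∀ v, D v = 0 := by
  let K : Submodule F (ι → F) :=
    { carrier := {v | D v = 0}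
      zero_mem' := by
        show D 0 = 0
        simpa using hsmul 0 0
      add_mem' := fun {u v} hu hv => by
        show D (u + v) = 0
        rw [hadd, hu, hv, add_zero]
      smul_mem' := fun c v hv => by
        show D (c • v) = 0
        rw [hsmul, hv, mul_zero] }
  rcases hirr K (by
    rintro _ ⟨s, hs, rfl⟩ _ ⟨v, hv, rfl⟩
    rw [Matrix.toLin'_apply]
    exact (hN s hs v).trans hv) with h | h
  · exfalso
    obtain ⟨i, j, hij⟩ := Fintype.exists_pair_of_one_lt_card (α := ι) (by omega)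
    haveI : CharP F 2 := CharTwo.of_one_ne_zero_of_two_eq_zero one_ne_zero h2
    haveI : Fact (Nat.Prime 2) := ⟨Nat.prime_two⟩
    let u : ι → F := Pi.single i 1
    let w : ι → F := Pi.single j 1
    obtain ⟨a, ha⟩ := FiniteField.isSquare_of_char_two (ringChar.eq F 2) (D u)
    obtain ⟨b, hb⟩ := FiniteField.isSquare_of_char_two (ringChar.eq F 2) (D w)
    have hmem : b • u + a • w ∈ K := by
      show D _ = 0
      rw [hadd, hsmul, hsmul, ha, hb]
      linear_combination (a ^ 2 * b ^ 2) * h2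
    rw [h, Submodule.mem_bot] at hmem
    have h1 := congrFun hmem i
    have h3 := congrFun hmem j
    simp [u, w, hij] at h1 h3
    subst h1
    have hu : u ∈ K := by show D u = 0; rw [ha]; simp [h3]
    rw [h, Submodule.mem_bot] at hu
    simpa [u] using congrFun hu i
  · exact fun v => (h ▸ Submodule.mem_top : v ∈ K)

/-- A group whose spanning normal subgroup fixes a quadratic form preserves a quadratic form up to scalars. -/
theorem le_quad_of_spanning [Nonempty ι] (hn2 : 2 ≤ Fintype.card ι) (h2 : (2 : F) = 0)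
    {f : (ι → F) → (ι → F) → F} (hf : IsSymplecticForm f) {H N : Subgroup (GL ι F)} (hH : IsoGrp f H)
    (hNH : N ≤ H) (hinv : ∀ g ∈ H, ∀ x ∈ N, g * x * g⁻¹ ∈ N) (hspan : algOf N = ⊤)
    {Q : (ι → F) → F} (hQ : IsNondegenerateQuadraticForm Q) (hfix : FixesQuadForm (matrixSet N) Q) :
    ∃ Q' : (ι → F) → F, IsNondegenerateQuadraticForm Q' ∧ (∀ u v, QuadraticMap.polar Q' u v = f u v) ∧
      H ≤ quadSimilarityGroup Q' := by
  have hfN : FixesForm (matrixSet N) f := by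
    rintro _ ⟨g, hg, rfl⟩ u v
    exact hH g (hNH hg) u v
  obtain ⟨μ, hμ⟩ := form_unique hspan (RingEquiv.refl F) (f := QuadraticMap.polar Q) (g := f)
    (herm_polar hQ).sesq (herm_symplectic hf).sesq hQ.nondegenerate hf.nondegenerate (fixesForm_polar hfix) hfN
  let Q' : (ι → F) → F := fun v => (μ : F) * Q v
  have hpol : ∀ u v, QuadraticMap.polar Q' u v = f u v := fun u v => by
    rw [hμ u v]; simp only [QuadraticMap.polar, Q']; ring
  have hpol' : QuadraticMap.polar Q' = f := funext fun u => funext fun v => hpol u v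
  refine ⟨Q', ⟨fun c v => by simp only [Q', hQ.smul]; ring, hpol' ▸ hf.bilinear, hpol' ▸ hf.nondegenerate⟩, hpol,
    fun g hg => ⟨1, fun v => ?_⟩⟩
  have hzero := quadratic_defect_eq_zero hn2 h2 (irreducible_of_algOf_eq_top hspan)
    (fun v => Q' ((g : Matrix ι ι F) *ᵥ v) - Q' v) (fun u v => ?_) (fun c v => ?_) (fun s hs v => ?_) v
  · rw [Units.val_one, one_mul]; exact sub_eq_zero.1 hzero
  · have h1 := hpol ((g : Matrix ι ι F) *ᵥ u) ((g : Matrix ι ι F) *ᵥ v)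
    rw [hH g hg, ← hpol u v, QuadraticMap.polar, QuadraticMap.polar, ← Matrix.mulVec_add] at h1
    linear_combination h1
  · simp only [Q', Matrix.mulVec_smul, hQ.smul]; ring
  · have hfx : ∀ x ∈ N, ∀ w, Q' ((x : Matrix ι ι F) *ᵥ w) = Q' w := fun x hx w => by
      simp only [Q', hfix _ ⟨x, hx, rfl⟩ w]
    rw [hfx s hs v]
    congr 1
    have h1 := hfx _ (hinv g hg s hs) ((g : Matrix ι ι F) *ᵥ v)
    rwa [Units.val_mul, Units.val_mul, ← Matrix.mulVec_mulVec, ← Matrix.mulVec_mulVec, gl_inv_mulVec_mulVec] at h1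

/-- The spanning perfect case for a symplectic form. -/
theorem symplectic_residual_cases [Nonempty ι] (hn2 : 2 ≤ Fintype.card ι) {f : (ι → F) → (ι → F) → F}
    (hf : IsSymplecticForm f) {H N : Subgroup (GL ι F)} (hH : IsoGrp f H)
    (hNH : N ≤ H) (hinv : ∀ g ∈ H, ∀ x ∈ N, g * x * g⁻¹ ∈ N) (hns : ¬ N ≤ scalars ι F) (hspan : algOf N = ⊤)
    (hperf : ⁅N, N⁆ = N)
    (hsimple : ∀ K : Subgroup (GL ι F), K ≤ N → (∀ g ∈ N, ∀ x ∈ K, g * x * g⁻¹ ∈ K) → ¬ K ≤ scalars ι F → K = N) :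
    (∃ (F₀ : Subfield F) (r : ℕ) (P : GL ι F) (ζ : F), r.Prime ∧ Fintype.card F = Nat.card F₀ ^ r ∧ ζ ≠ 0 ∧
      IsFormRationalStructure f F₀ ζ P ∧ H ≤ subfieldSubgroup F₀ P) ∨
    (¬ Odd (Fintype.card F) ∧ ∃ Q : (ι → F) → F, IsNondegenerateQuadraticForm Q ∧
      (∀ u v, QuadraticMap.polar Q u v = f u v) ∧ H ≤ quadSimilarityGroup Q) ∨
    InSymplecticResidualClass H := by
  have hfN : FixesForm (matrixSet N) f := by
    rintro _ ⟨g, hg, rfl⟩ u v
    exact hH g (hNH hg) u v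
  by_cases hreal : ∃ F₀ : Subfield F, F₀ ≠ ⊤ ∧ RealisableOver F₀ (matrixSet N)
  · obtain ⟨F₀, h0, hr⟩ := hreal
    obtain ⟨F₁, r, P, hrp, hc, hle, hrat⟩ := exists_rational_subfield hspan hinv h0 hr
    obtain ⟨ζ, hζ, hform⟩ := exists_form_rational_bilinear (herm_symplectic hf) hspan hfN P hrat
    exact Or.inl ⟨F₁, r, P, ζ, hrp, hc, hζ, hform, hle⟩
  by_cases hQ : ∃ Q : (ι → F) → F, IsNondegenerateQuadraticForm Q ∧ FixesQuadForm (matrixSet N) Q
  · obtain ⟨Q, hQ, hfix⟩ := hQ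
    by_cases hodd : Odd (Fintype.card F)
    · exfalso
      obtain ⟨μ, hμ⟩ := form_unique hspan (RingEquiv.refl F) (f := QuadraticMap.polar Q) (g := f)
        (herm_polar hQ).sesq (herm_symplectic hf).sesq hQ.nondegenerate hf.nondegenerate (fixesForm_polar hfix) hfN
      obtain ⟨v, hv⟩ := exists_ne (0 : ι → F)
      obtain ⟨x, hx⟩ := (hf.nondegenerate v hv).1
      apply hx
      have h1 : f v x = f x v := by rw [hμ, hμ, QuadraticMap.polar_comm]
      rw [hf.skew v x] at h1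
      have h2 : (2 : F) * f x v = 0 := by linear_combination -h1
      exact (mul_eq_zero.1 h2).resolve_left (two_ne_zero_of_odd hodd)
    · exact Or.inr (Or.inl ⟨hodd, le_quad_of_spanning hn2 (two_eq_zero_of_not_odd hodd) hf hH hNH hinv hspan hQ hfix⟩)
  refine Or.inr (Or.inr ⟨N, residualCore_of_simple hNH hinv hspan hperf hns hsimple
    (fun F₀ h0 hr => hreal ⟨F₀, h0, hr⟩), hQ, ?_⟩)
  rintro ⟨σ, g, hg, hgN⟩
  exact hreal (realisable_of_bilinear hspan hg hgN (symplectic_isSesq hf) hf.nondegenerate hfN)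

/-- The spanning perfect case for a unitary form. -/
theorem unitary_residual_cases [Nonempty ι] (hn2 : 2 ≤ Fintype.card ι) {q : ℕ} (hF : Fintype.card F = q ^ 2)
    {σ : F ≃+* F} (hσq : ∀ x, σ x = x ^ q) {f : (ι → F) → (ι → F) → F} (hf : IsUnitaryForm σ f)
    {H N : Subgroup (GL ι F)} (hH : IsoGrp f H)
    (hNH : N ≤ H) (hinv : ∀ g ∈ H, ∀ x ∈ N, g * x * g⁻¹ ∈ N) (hns : ¬ N ≤ scalars ι F) (hspan : algOf N = ⊤)
    (hperf : ⁅N, N⁆ = N)
    (hsimple : ∀ K : Subgroup (GL ι F), K ≤ N → (∀ g ∈ N, ∀ x ∈ K, g * x * g⁻¹ ∈ K) → ¬ K ≤ scalars ι F → K = N) :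
    (∃ (F₀ : Subfield F) (r : ℕ) (P : GL ι F), r.Prime ∧ Odd r ∧ Fintype.card F = Nat.card F₀ ^ r ∧
      IsFormRationalStructure f F₀ 1 P ∧ H ≤ subfieldSubgroup F₀ P) ∨
    (∃ (F₀ : Subfield F) (P : GL ι F) (ζ : F), Fintype.card F = Nat.card F₀ ^ 2 ∧ ζ ≠ 0 ∧ ζ + ζ ^ q = 0 ∧
      IsFormRationalStructure f F₀ ζ P ∧
      (∀ u : ι → F, (∀ i, u i ∈ F₀) → f ((P : Matrix ι ι F) *ᵥ u) ((P : Matrix ι ι F) *ᵥ u) = 0) ∧
      H ≤ subfieldSubgroup F₀ P) ∨
    (Odd q ∧ ∃ (F₀ : Subfield F) (P : GL ι F), Fintype.card F = Nat.card F₀ ^ 2 ∧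
      IsFormRationalStructure f F₀ 1 P ∧ H ≤ subfieldSubgroup F₀ P) ∨
    InUnitaryResidualClass H := by
  have hfN : FixesForm (matrixSet N) f := by
    rintro _ ⟨g, hg, rfl⟩ u v
    exact hH g (hNH hg) u v
  by_cases hreal : ∃ F₀ : Subfield F, F₀ ≠ ⊤ ∧ RealisableOver F₀ (matrixSet N)
  · obtain ⟨F₀, h0, hr⟩ := hreal
    obtain ⟨F₁, r, P, hrp, hc, hle, hrat⟩ := exists_rational_subfield hspan hinv h0 hr
    obtain ⟨P', hPP, h⟩ := exists_form_rational_unitary hn2 hF hσq hf hspan hfN hrp hc P hrat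
    rw [← hPP] at hle
    rcases h with ⟨hform, ho | ⟨rfl, hq⟩⟩ | ⟨rfl, ζ, hζ, hζq, hform, halt⟩
    · exact Or.inl ⟨F₁, r, P', hrp, ho, hc, hform, hle⟩
    · exact Or.inr (Or.inr (Or.inl ⟨hq, F₁, P', hc, hform, hle⟩))
    · exact Or.inr (Or.inl ⟨F₁, P', ζ, hc, hζ, hζq, hform, halt, hle⟩)
  refine Or.inr (Or.inr (Or.inr ⟨N, residualCore_of_simple hNH hinv hspan hperf hns hsimple
    (fun F₀ h0 hr => hreal ⟨F₀, h0, hr⟩), ?_, ?_⟩))
  · rintro ⟨Q, hQ, hfix⟩
    exact hreal (realisable_of_bilinear hspan hf hfN (polar_isSesq hQ) hQ.nondegenerate (fixesForm_polar hfix))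
  · rintro ⟨g, hg, hgN⟩
    exact hreal (realisable_of_bilinear hspan hf hfN (symplectic_isSesq hg) hg.nondegenerate hgN)

end CfsgLib.Geo.Asch
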