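import Mathlib
import Cfsg.Prelude.Def_GeometricClasses
import Cfsg.Agent.Lib.Geo.AschEvenProper
import Cfsg.Agent.Lib.Geo.AschFormField
import Cfsg.Agent.Lib.Geo.AschFormResidual

/-! Quadratic field subalgebras that are adjoint closed without being self-adjoint: the unitary case. -/

set_option autoImplicit false
set_option linter.unusedSectionVars false

namespace CfsgLib.Geo.AschEven

open Cfsg Cfsg.Geo Matrix QuadraticMap CfsgLib.GeomClasses CfsgLib.Maximal.TensorTools CfsgLib.Geo.Asch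
open scoped MatrixGroups

variable {ι : Type} [Fintype ι] [DecidableEq ι] {F : Type*} [Field F] [Fintype F] {Q : (ι → F) → F}

theorem field_kills {r : ℕ} {K : Subalgebra F (Matrix ι ι F)} (hK : IsFieldSubalgebra r K) {x : Matrix ι ι F}
    (hx : x ∈ K) (hx0 : x ≠ 0) {v : ι → F} (hv : x *ᵥ v = 0) : v = 0 := by
  obtain ⟨y, hy, hxy⟩ := hK.inv x hx hx0
  rw [← Matrix.one_mulVec v, ← hxy, hK.comm x hx y hy, ← Matrix.mulVec_mulVec, hv, Matrix.mulVec_zero]

theorem eq_algebraMap_of_finrank {K : Subalgebra F (Matrix ι ι F)} [Nonempty ι] (hd : Module.finrank F K = 2)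
    {x y : Matrix ι ι F} (hx : x ∈ K) (hxb : x ∉ (⊥ : Subalgebra F (Matrix ι ι F))) (hy : y ∈ K) :
    ∃ a b : F, y = algebraMap F _ a + b • x := by
  classical
  have hli : LinearIndependent F ![(1 : Matrix ι ι F), x] := by
    rw [LinearIndependent.pair_iff]
    intro s t hst
    by_cases ht : t = 0
    · rw [ht, zero_smul, add_zero] at hst
      exact ⟨(smul_eq_zero.1 hst).resolve_right one_ne_zero, ht⟩
    · refine absurd (Algebra.mem_bot.2 ⟨-s / t, ?_⟩) hxb
      rw [Algebra.algebraMap_eq_smul_one, div_eq_inv_mul, mul_smul, neg_smul, eq_neg_of_add_eq_zero_left hst,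
        neg_neg, inv_smul_smul₀ ht]
  have hspan : Submodule.span F (Set.range ![(1 : Matrix ι ι F), x]) = K.toSubmodule := by
    refine Submodule.eq_of_le_of_finrank_eq (Submodule.span_le.2 ?_) ?_
    · rintro _ ⟨i, rfl⟩
      fin_cases i
      · exact K.one_mem
      · exact hx
    · rw [finrank_span_eq_card hli, Fintype.card_fin]
      exact hd.symm
  have hy' : y ∈ Submodule.span F (Set.range ![(1 : Matrix ι ι F), x]) := by rw [hspan]; exact hy
  obtain ⟨c, hc⟩ := (Submodule.mem_span_range_iff_exists_fun F).1 hy'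
  refine ⟨c 0, c 1, ?_⟩
  rw [← hc, Fin.sum_univ_two, Algebra.algebraMap_eq_smul_one]
  rfl

/-- The elements of such a field are similitudes of the quadratic form. -/
theorem similitude_of_unitary [Nonempty ι] (hn2 : 2 ≤ Fintype.card ι) (hQ : IsNondegenerateQuadraticForm Q)
    {H : Subgroup (GL ι F)} (hHΩ : H ≤ omegaGL Q) (hirr : ActsIrreducibly (matrixSet H))
    {K : Subalgebra F (Matrix ι ι F)} (hK : IsFieldSubalgebra 2 K) (hKa : IsAdjointClosedFor (polar Q) K)
    (hns : ¬ IsSelfAdjointFor (polar Q) K) (hHK : Normalized H K) :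
    ∃ (k : Matrix ι ι F) (t c : F), k ∈ K ∧ k ∉ (⊥ : Subalgebra F (Matrix ι ι F)) ∧
      (∀ a b : F, a * a + t * a * b + c * b * b = 0 → a = 0 ∧ b = 0) ∧
      k * k = t • k - c • (1 : Matrix ι ι F) ∧
      (∀ v, polar Q v (k *ᵥ v) = t * Q v) ∧ (∀ v, Q (k *ᵥ v) = c * Q v) ∧
      ∀ x ∈ K, ∃ d : F, ∀ v, Q (x *ᵥ v) = d * Q v := by
  classical
  have hh := herm_polar hQ
  obtain ⟨k, hk, hkne⟩ : ∃ k ∈ K, ¬ ∀ u v, polar Q (k *ᵥ u) v = polar Q u (k *ᵥ v) := by
    unfold IsSelfAdjointFor at hns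
    push Not at hns
    obtain ⟨k, hk, u, v, hne⟩ := hns
    exact ⟨k, hk, fun h => hne (h u v)⟩
  have hkb : k ∉ (⊥ : Subalgebra F (Matrix ι ι F)) := by
    intro hb
    obtain ⟨a, rfl⟩ := Algebra.mem_bot.1 hb
    exact hkne fun u v => hh.adj_algebraMap a u v
  obtain ⟨k', hk', ek⟩ := hKa k hk
  have hkk : k' ≠ k := fun h => hkne (h ▸ ek)
  -- the norm and the trace are scalars
  have hfix : ∀ x ∈ K, Herm.Adj (polar Q) x x → ∃ a : F, x = algebraMap F _ a := by
    intro x hx hxx
    by_contra hcon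
    push Not at hcon
    have hxb : x ∉ (⊥ : Subalgebra F (Matrix ι ι F)) := fun hb => by
      obtain ⟨a, ha⟩ := Algebra.mem_bot.1 hb; exact hcon a ha.symm
    obtain ⟨a, b, rfl⟩ := eq_algebraMap_of_finrank hK.finrank_eq hx hxb hk
    apply hkne
    intro u v
    simp only [Matrix.add_mulVec, Matrix.smul_mulVec, hh.add_left, hh.add_right, hh.smul_left, hh.smul_right,
      hh.adj_algebraMap a u v, hxx u v, RingEquiv.refl_apply]
  obtain ⟨c, hc⟩ := hfix (k' * k) (mul_mem hk' hk) (by
    have h := hh.adj_mul (hh.adj_symm ek) ek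
    exact h)
  obtain ⟨t, ht⟩ := hfix (k + k') (add_mem hk hk') (by
    have h := hh.adj_add ek (hh.adj_symm ek)
    rwa [add_comm k' k] at h)
  rw [Algebra.algebraMap_eq_smul_one] at hc ht
  have hk'eq : k' = t • (1 : Matrix ι ι F) - k := by rw [← ht]; abel
  have hsq : k * k = t • k - c • (1 : Matrix ι ι F) := by
    rw [hk'eq, sub_mul, smul_mul_assoc, one_mul] at hc
    rw [← hc]; abel
  have haniso : ∀ a b : F, a * a + t * a * b + c * b * b = 0 → a = 0 ∧ b = 0 := by
    intro a b h
    have h0 : (algebraMap F _ a + b • k) * (algebraMap F _ a + b • k') = (0 : Matrix ι ι F) := by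
      rw [Algebra.algebraMap_eq_smul_one, hk'eq]
      simp only [add_mul, mul_add, smul_mul_assoc, mul_smul_comm, one_mul, mul_one, mul_sub, smul_sub, hsq, smul_smul]
      rw [← zero_smul F (1 : Matrix ι ι F), ← h]
      module
    have hmem : algebraMap F _ a + b • k ∈ K := K.add_mem (Subalgebra.algebraMap_mem _ _) (K.smul_mem hk b)
    have hmem' : algebraMap F _ a + b • k' ∈ K := K.add_mem (Subalgebra.algebraMap_mem _ _) (K.smul_mem hk' b)
    have hz : ∀ {x}, x ∈ K → x ∉ (⊥ : Subalgebra F (Matrix ι ι F)) → algebraMap F _ a + b • x = 0 → a = 0 ∧ b = 0 := by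
      intro x _ hxb hx0
      have hb : b = 0 := by
        by_contra hb
        refine hxb (Algebra.mem_bot.2 ⟨-a / b, ?_⟩)
        rw [Algebra.algebraMap_eq_smul_one] at hx0 ⊢
        rw [div_eq_inv_mul, mul_smul, neg_smul, eq_neg_of_add_eq_zero_left hx0, neg_neg, inv_smul_smul₀ hb]
      rw [hb, zero_smul, add_zero] at hx0
      exact ⟨(algebraMap F (Matrix ι ι F)).injective (hx0.trans (map_zero _).symm), hb⟩
    by_cases h1 : algebraMap F _ a + b • k = (0 : Matrix ι ι F)
    · exact hz hk hkb h1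
    · refine hz hk' (fun hb => hkb ?_) ?_
      · rw [show k = t • (1 : Matrix ι ι F) - k' by rw [hk'eq]; abel]
        exact sub_mem (Subalgebra.smul_mem _ (one_mem _) t) hb
      · obtain ⟨y, hy, hxy⟩ := hK.inv _ hmem h1
        calc algebraMap F _ a + b • k' = (y * (algebraMap F _ a + b • k)) * (algebraMap F _ a + b • k') := by
              rw [← hK.comm _ hmem _ hy, hxy, one_mul]
          _ = 0 := by rw [mul_assoc, h0, mul_zero]
  -- values
  let ψ : (ι → F) → F := fun v => polar Q v (k *ᵥ v) - t * Q v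
  let δ : (ι → F) → F := fun v => Q (k *ᵥ v) - c * Q v
  have hQadd : ∀ u v, Q (u + v) = Q u + Q v + polar Q u v := fun u v => by rw [QuadraticMap.polar]; ring
  have hcross : ∀ u v, polar Q u (k *ᵥ v) + polar Q v (k *ᵥ u) = t * polar Q u v := fun u v => by
    rw [polar_comm (f := Q) v (k *ᵥ u), ek u v, hk'eq, ← hh.add_right, Matrix.sub_mulVec, Matrix.smul_mulVec,
      Matrix.one_mulVec, add_sub_cancel, hh.smul_right]
    rfl
  have hcross' : ∀ u v, polar Q (k *ᵥ u) (k *ᵥ v) = c * polar Q u v := fun u v => by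
    rw [ek u (k *ᵥ v), Matrix.mulVec_mulVec, hc, Matrix.smul_mulVec, Matrix.one_mulVec, hh.smul_right]
    rfl
  have hψadd : ∀ u v, ψ (u + v) = ψ u + ψ v := fun u v => by
    simp only [ψ, Matrix.mulVec_add, hh.add_left, hh.add_right, hQadd u v]
    linear_combination hcross u v
  have hδadd : ∀ u v, δ (u + v) = δ u + δ v := fun u v => by
    simp only [δ, Matrix.mulVec_add, hQadd, hcross']; ring
  have hψsm : ∀ (a : F) v, ψ (a • v) = a ^ 2 * ψ v := fun a v => by
    simp only [ψ, Matrix.mulVec_smul, hh.smul_left, hh.smul_right, hQ.smul, RingEquiv.refl_apply]; ring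
  have hδsm : ∀ (a : F) v, δ (a • v) = a ^ 2 * δ v := fun a v => by
    simp only [δ, Matrix.mulVec_smul, hQ.smul]; ring
  -- the conjugates of `k`
  have hconj : ∀ g ∈ H, conjHom g k = k ∨ conjHom g k = k' := by
    intro g hg
    have hmem := hHK g hg k hk
    set z := conjHom g k with hz
    have hzsq : z * z = t • z - c • (1 : Matrix ι ι F) := by
      rw [hz, ← map_mul, hsq, map_sub, map_smul, map_smul, map_one]
    by_cases h : z = k
    · exact Or.inl h
    right
    obtain ⟨y, hy, hzy⟩ := hK.inv (z - k) (sub_mem hmem hk) (sub_ne_zero.2 h)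
    have hprod : (z - k) * (z - k') = 0 := by
      rw [hk'eq]
      simp only [sub_mul, mul_sub, smul_mul_assoc, mul_smul_comm, mul_one, hzsq, hsq, ← hK.comm z hmem k hk]
      module
    refine sub_eq_zero.1 ?_
    calc z - k' = (y * (z - k)) * (z - k') := by rw [← hK.comm _ (sub_mem hmem hk) _ hy, hzy, one_mul]
      _ = 0 := by rw [mul_assoc, hprod, mul_zero]
  have hgk : ∀ g ∈ H, ∀ v, ∃ x, (x = k ∨ x = k') ∧ k *ᵥ ((g : Matrix ι ι F) *ᵥ v) = (g : Matrix ι ι F) *ᵥ (x *ᵥ v) := by
    intro g hg v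
    refine ⟨conjHom g⁻¹ k, hconj _ (H.inv_mem hg), ?_⟩
    simp [conjHom_apply, Matrix.mulVec_mulVec, ← mul_assoc]
  have hψinv : ∀ g ∈ H, ∀ v, ψ ((g : Matrix ι ι F) *ᵥ v) = ψ v := by
    intro g hg v
    obtain ⟨x, hx, he⟩ := hgk g hg v
    simp only [ψ]
    rw [he, omega_polar hQ (hHΩ hg), omega_quad (hHΩ hg)]
    rcases hx with rfl | rfl
    · rfl
    · rw [← ek, polar_comm]
  have hψ0 : ∀ v, ψ v = 0 := by
    by_cases h2 : (2 : F) = 0
    · exact quadratic_defect_eq_zero hn2 h2 hirr ψ hψadd hψsm hψinv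
    · intro v
      refine (mul_eq_zero.1 (show (2 : F) * ψ v = 0 from ?_)).resolve_left h2
      simp only [ψ]
      have h := hcross v v
      rw [quad_polar_self hQ] at h
      linear_combination h
  have hδinv : ∀ g ∈ H, ∀ v, δ ((g : Matrix ι ι F) *ᵥ v) = δ v := by
    intro g hg v
    obtain ⟨x, hx, he⟩ := hgk g hg v
    simp only [δ]
    rw [he, omega_quad (hHΩ hg), omega_quad (hHΩ hg)]
    rcases hx with rfl | rfl
    · rfl
    · rw [hk'eq, Matrix.sub_mulVec, Matrix.smul_mulVec, Matrix.one_mulVec, sub_eq_add_neg (t • v), hQadd, ← neg_one_smul F (k *ᵥ v),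
        hQ.smul, hQ.smul, hh.smul_left, hh.smul_right]
      have h := hψ0 v
      simp only [ψ] at h
      simp only [RingEquiv.refl_apply]
      linear_combination -t * h
  have hδ0 : ∀ v, δ v = 0 := by
    by_cases h2 : (2 : F) = 0
    · exact quadratic_defect_eq_zero hn2 h2 hirr δ hδadd hδsm hδinv
    · intro v
      refine (mul_eq_zero.1 (show (2 : F) * δ v = 0 from ?_)).resolve_left h2
      simp only [δ]
      have h := hcross' v v
      rw [quad_polar_self hQ, quad_polar_self hQ] at h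
      linear_combination h
  have h1 : ∀ v, polar Q v (k *ᵥ v) = t * Q v := fun v => sub_eq_zero.1 (hψ0 v)
  have h3 : ∀ v, Q (k *ᵥ v) = c * Q v := fun v => sub_eq_zero.1 (hδ0 v)
  refine ⟨k, t, c, hk, hkb, haniso, hsq, h1, h3, fun x hx => ?_⟩
  obtain ⟨a, b, rfl⟩ := eq_algebraMap_of_finrank hK.finrank_eq hk hkb hx
  refine ⟨a ^ 2 + a * b * t + b ^ 2 * c, fun v => ?_⟩
  rw [Matrix.add_mulVec, Algebra.algebraMap_eq_smul_one, Matrix.smul_mulVec, Matrix.one_mulVec, Matrix.smul_mulVec,
    hQadd, hQ.smul, hQ.smul, hh.smul_left, hh.smul_right, h1, h3]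
  simp only [RingEquiv.refl_apply]
  ring

/-- A form with such a field structure has plus type exactly for an even number of lines. -/
theorem plus_iff_of_unitary [Nonempty ι] (hQ : IsNondegenerateQuadraticForm Q) {k : Matrix ι ι F} {t c : F}
    (haniso : ∀ a b : F, a * a + t * a * b + c * b * b = 0 → a = 0 ∧ b = 0)
    (hsq : k * k = t • k - c • (1 : Matrix ι ι F)) (h1 : ∀ v, polar Q v (k *ᵥ v) = t * Q v)
    (h3 : ∀ v, Q (k *ᵥ v) = c * Q v) {m : ℕ} (hι : Fintype.card ι = 2 * m) :
    IsPlusTypeOn Q ⊤ ↔ Even m := by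
  classical
  let q := quadOf hQ
  have hh := herm_polar hQ
  have hQadd : ∀ u v, Q (u + v) = Q u + Q v + polar Q u v := fun u v => by rw [QuadraticMap.polar]; ring
  have ht2 : (2 : F) = 0 → t ≠ 0 := by
    intro h2 ht
    haveI : CharP F 2 := CharTwo.of_one_ne_zero_of_two_eq_zero one_ne_zero h2
    obtain ⟨r, hr⟩ := FiniteField.isSquare_of_char_two (ringChar.eq F 2) c
    exact one_ne_zero (haniso r 1 (by rw [ht, hr]; linear_combination (r * r) * h2)).2
  -- splitting off one line
  have split : ∀ W : Submodule F (ι → F), IsNondegenerateOn (polar Q) W → (∀ v ∈ W, k *ᵥ v ∈ W) → W ≠ ⊥ →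
      ∃ L W', W = L ⊔ W' ∧ OrthPair q L W' ∧ Module.finrank F L = 2 ∧ ¬ IsPlusTypeOn Q L ∧
        (∀ v ∈ W', k *ᵥ v ∈ W') := by
    intro W hW hkW hW0
    obtain ⟨v, hv, hqv⟩ : ∃ v ∈ W, Q v ≠ 0 := by
      by_contra hall
      push Not at hall
      obtain ⟨w, hw, hw0⟩ := Submodule.exists_mem_ne_zero_of_ne_bot hW0
      obtain ⟨-, y, hy, hne⟩ := hW w hw hw0
      apply hne
      rw [QuadraticMap.polar, hall _ (W.add_mem hw hy), hall _ hw, hall _ hy]; ring
    let L := Submodule.span F ({v, k *ᵥ v} : Set (ι → F))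
    have hval : ∀ a b : F, Q (a • v + b • (k *ᵥ v)) = (a * a + t * a * b + c * b * b) * Q v := fun a b => by
      rw [hQadd, hQ.smul, hQ.smul, hh.smul_left, hh.smul_right, h1, h3]
      simp only [RingEquiv.refl_apply]; ring
    have hLani : ∀ x ∈ L, Q x = 0 → x = 0 := fun x hx hqx => by
      obtain ⟨a, b, rfl⟩ := Submodule.mem_span_pair.1 hx
      rw [hval, mul_eq_zero] at hqx
      obtain ⟨rfl, rfl⟩ := haniso a b (hqx.resolve_right hqv)
      simp
    have hkL : ∀ x ∈ L, k *ᵥ x ∈ L := fun x hx => by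
      obtain ⟨a, b, rfl⟩ := Submodule.mem_span_pair.1 hx
      rw [Matrix.mulVec_add, Matrix.mulVec_smul, Matrix.mulVec_smul, Matrix.mulVec_mulVec, hsq, Matrix.sub_mulVec,
        Matrix.smul_mulVec, Matrix.smul_mulVec, Matrix.one_mulVec]
      exact Submodule.mem_span_pair.2 ⟨-(b * c), a + b * t, by module⟩
    have hLn : IsNondegenerateOn (polar Q) L := nondegenerateOn_of_right (q := q) fun x hx hx0 => by
      by_cases h2 : (2 : F) = 0
      · exact ⟨_, hkL x hx, by
          show polar Q x _ ≠ 0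
          rw [h1]; exact mul_ne_zero (ht2 h2) fun h => hx0 (hLani x hx h)⟩
      · exact ⟨x, hx, by
          show polar Q x x ≠ 0
          rw [quad_polar_self hQ]; exact mul_ne_zero h2 fun h => hx0 (hLani x hx h)⟩
    have hLW : L ≤ W := Submodule.span_le.2 (by rintro x (rfl | rfl); exacts [hv, hkW _ hv])
    have hLd : Module.finrank F L = 2 := by
      have hli : LinearIndependent F ![v, k *ᵥ v] := by
        rw [LinearIndependent.pair_iff]
        intro a b hab
        exact haniso a b ((mul_eq_zero.1 (by rw [← hval, hab]; simpa using hQ.smul 0 0)).resolve_right hqv)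
      have := finrank_span_eq_card hli
      rw [Fintype.card_fin, Matrix.range_cons, Matrix.range_cons, Matrix.range_empty, Set.union_empty,
        Set.singleton_union] at this
      exact this
    have hLno : ¬ IsPlusTypeOn Q L := fun ⟨U, hUL, hU, hUd⟩ => by
      rw [(Submodule.eq_bot_iff _).2 fun u hu => hLani u (hUL hu) (hU u hu), finrank_bot, hLd] at hUd
      omega
    let W' := W ⊓ hh.perp L
    have hsup : W = L ⊔ W' := by
      refine le_antisymm (fun x hx => ?_) (sup_le hLW inf_le_left)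
      have htop : L ⊔ hh.perp L = ⊤ := by
        refine Submodule.eq_top_of_finrank_eq ?_
        have h5 := Submodule.finrank_sup_add_finrank_inf_eq L (hh.perp L)
        rw [disjoint_iff.1 (hh.disjoint_perp hLn), finrank_bot] at h5
        have := hh.finrank_perp L
        rw [Module.finrank_fintype_fun_eq_card]; omega
      obtain ⟨a, ha, b, hb, rfl⟩ := Submodule.mem_sup.1 (htop ▸ Submodule.mem_top : x ∈ L ⊔ hh.perp L)
      exact Submodule.add_mem_sup ha ⟨(W.add_mem_iff_right (hLW ha)).1 hx, hb⟩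
    have hW'n : IsNondegenerateOn (polar Q) W' := nondegenerateOn_of_right (q := q) fun x hx hx0 => by
      obtain ⟨-, y, hy, hne⟩ := hW x hx.1 hx0
      obtain ⟨a, ha, b, hb, rfl⟩ := Submodule.mem_sup.1 (hsup ▸ hy)
      refine ⟨b, hb, fun h => hne ?_⟩
      rw [hh.add_right, hh.mem_perp.1 hx.2 a ha, zero_add]
      exact h
    refine ⟨L, W', hsup, ⟨hLn, hW'n, fun u hu w hw => hh.mem_perp'.1 hw.2 u hu⟩, hLd, hLno, fun x hx => ⟨hkW x hx.1, ?_⟩⟩
    show k *ᵥ x ∈ hh.perp L
    rw [hh.mem_perp']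
    intro w hw
    obtain ⟨a, b, rfl⟩ := Submodule.mem_span_pair.1 hw
    have hkx : ∀ y ∈ L, polar Q y x = 0 := fun y hy => hh.mem_perp'.1 hx.2 y hy
    have hv' : v ∈ L := Submodule.subset_span (Set.mem_insert _ _)
    have hkv : k *ᵥ v ∈ L := hkL v hv'
    have e1 : polar Q v (k *ᵥ x) = 0 := by
      have h := h1 (v + x)
      rw [Matrix.mulVec_add, hQadd, hh.add_left, hh.add_right, hh.add_right, h1, h1, hkx v hv',
        polar_comm (f := Q) x (k *ᵥ v), hkx _ hkv] at h
      linear_combination h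
    have e2 : polar Q (k *ᵥ v) (k *ᵥ x) = 0 := by
      rw [QuadraticMap.polar, ← Matrix.mulVec_add, h3, h3, h3, hQadd, hkx v hv']; ring
    rw [hh.add_left, hh.smul_left, hh.smul_left, e1, e2]
    simp
  have main : ∀ j : ℕ, ∀ W : Submodule F (ι → F), Module.finrank F W = 2 * j → IsNondegenerateOn (polar Q) W →
      (∀ v ∈ W, k *ᵥ v ∈ W) → (IsPlusTypeOn Q W ↔ Even j) := by
    intro j
    induction j using Nat.strong_induction_on with
    | _ j ih =>
    intro W hd hW hkW
    rcases j with _ | j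
    · refine iff_of_true ?_ Even.zero
      rw [Submodule.finrank_eq_zero.1 (by omega : Module.finrank F W = 0)]
      exact ⟨⊥, bot_le, fun w hw => by rw [(Submodule.mem_bot F).1 hw]; simpa using hQ.smul 0 0, by simp⟩
    obtain ⟨L, W', rfl, hop, hLd, hLno, hkW'⟩ := split W hW hkW fun h => by rw [h, finrank_bot] at hd; omega
    rw [hop.finrank_sup, hLd] at hd
    have hW'd : Module.finrank F W' = 2 * j := by omega
    have hiff := ih j (by omega) W' hW'd hop.2.1 hkW'
    by_cases hj : Even j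
    · refine iff_of_false (fun hX => ?_) (by simp [Nat.even_add_one, hj])
      refine not_plus_sup (q := q) hop.symm (hiff.2 hj) hLno (by rw [hLd]; exact even_two) ?_
      rwa [sup_comm]
    refine iff_of_true ?_ (by simp [Nat.even_add_one, hj])
    rcases j with _ | j
    · exact absurd Even.zero hj
    obtain ⟨L', W'', rfl, hop', hL'd, hL'no, hkW''⟩ := split W' hop.2.1 hkW' fun h => by
      rw [h, finrank_bot] at hW'd; omega
    rw [hop'.finrank_sup, hL'd] at hW'd
    have hiff'' := ih j (by omega) W'' (by omega) hop'.2.1 hkW''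
    have hpair : OrthPair q L L' := ⟨hop.1, hop'.1, fun u hu v hv => hop.2.2 u hu v (Submodule.mem_sup_left hv)⟩
    have h4 : OrthPair q (L ⊔ L') W'' := by
      refine ⟨hpair.nondegenerateOn_sup, hop'.2.1, fun u hu v hv => ?_⟩
      obtain ⟨x, hx, y, hy, rfl⟩ := Submodule.mem_sup.1 hu
      show polar Q (x + y) v = 0
      rw [hh.add_left, show polar Q x v = 0 from hop.2.2 x hx v (Submodule.mem_sup_right hv),
        show polar Q y v = 0 from hop'.2.2 y hy v hv, add_zero]
    rw [← sup_assoc]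
    exact plus_sup_of_plus (q := q) h4 (plus_sup_of_same (q := q) hpair (k := 1) hLd hL'd (iff_of_false hLno hL'no))
      (hiff''.2 (by simpa [Nat.even_add_one] using hj))
  exact main m ⊤ (by rw [finrank_top, Module.finrank_fintype_fun_eq_card, hι])
    (fun w _ hw0 => ⟨(hQ.nondegenerate w hw0).1.imp fun x hx => ⟨trivial, hx⟩, (hQ.nondegenerate w hw0).2.imp fun x hx => ⟨trivial, hx⟩⟩)
    fun v _ => trivial

end CfsgLib.Geo.AschEven
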