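import Mathlib
import Cfsg.Prelude.Def_GeometricClasses
import Cfsg.Agent.Lib.Geo.AschEvenUnitary
import Cfsg.Agent.Lib.Geo.AschFormComm

/-! A self-adjoint field of half degree gives a quadratic one. -/

set_option autoImplicit false
set_option linter.unusedSectionVars false

namespace CfsgLib.Geo.AschEven

open Cfsg Cfsg.Geo Matrix QuadraticMap CfsgLib.GeomClasses CfsgLib.Maximal.TensorTools CfsgLib.Geo.Asch
open scoped MatrixGroups

variable {ι : Type} [Fintype ι] [DecidableEq ι] {F : Type*} [Field F] [Fintype F] {Q : (ι → F) → F}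

/-- The orbit map of a vector under a subalgebra. -/
noncomputable def orbMap (K : Subalgebra F (Matrix ι ι F)) (v : ι → F) : K →ₗ[F] (ι → F) where
  toFun k := (k : Matrix ι ι F) *ᵥ v
  map_add' a b := by simp [Matrix.add_mulVec]
  map_smul' c a := by simp [Matrix.smul_mulVec]

theorem orbMap_injective {r : ℕ} {K : Subalgebra F (Matrix ι ι F)} (hK : IsFieldSubalgebra r K) {v : ι → F}
    (hv : v ≠ 0) : Function.Injective (orbMap K v) := by
  rw [← LinearMap.ker_eq_bot, Submodule.eq_bot_iff]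
  intro k hk
  by_contra h0
  exact hv (field_kills hK k.2 (fun e => h0 (Subtype.ext e)) hk)

/-- The `K`-line through a vector. -/
noncomputable def kLine (K : Subalgebra F (Matrix ι ι F)) (v : ι → F) : Submodule F (ι → F) :=
  LinearMap.range (orbMap K v)

theorem mem_kLine {K : Subalgebra F (Matrix ι ι F)} {v x : ι → F} :
    x ∈ kLine K v ↔ ∃ k ∈ K, k *ᵥ v = x := by
  constructor
  · rintro ⟨k, rfl⟩; exact ⟨k, k.2, rfl⟩
  · rintro ⟨k, hk, rfl⟩; exact ⟨⟨k, hk⟩, rfl⟩

theorem finrank_kLine {r : ℕ} {K : Subalgebra F (Matrix ι ι F)} (hK : IsFieldSubalgebra r K) {v : ι → F}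
    (hv : v ≠ 0) : Module.finrank F (kLine K v) = r :=
  (LinearMap.finrank_range_of_inj (orbMap_injective hK hv)).trans hK.finrank_eq

theorem disjoint_kLine {r : ℕ} {K : Subalgebra F (Matrix ι ι F)} (hK : IsFieldSubalgebra r K) {v w : ι → F}
    (hw : w ∉ kLine K v) : Disjoint (kLine K v) (kLine K w) := by
  rw [Submodule.disjoint_def]
  intro x hx hx'
  obtain ⟨a, ha, rfl⟩ := mem_kLine.1 hx
  obtain ⟨b, hb, hab⟩ := mem_kLine.1 hx'
  by_cases hb0 : b = 0
  · rw [← hab, hb0, Matrix.zero_mulVec]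
  exfalso
  obtain ⟨y, hy, hby⟩ := hK.inv b hb hb0
  refine hw (mem_kLine.2 ⟨y * a, mul_mem hy ha, ?_⟩)
  rw [← Matrix.mulVec_mulVec, ← hab, Matrix.mulVec_mulVec, ← hK.comm b hb y hy, hby, Matrix.one_mulVec]

theorem kLine_sup {r : ℕ} {K : Subalgebra F (Matrix ι ι F)} (hK : IsFieldSubalgebra r K)
    (hι : Fintype.card ι = 2 * r) {v w : ι → F} (hv : v ≠ 0) (hw : w ∉ kLine K v) :
    kLine K v ⊔ kLine K w = ⊤ := by
  refine Submodule.eq_top_of_finrank_eq ?_
  have h := Submodule.finrank_sup_add_finrank_inf_eq (kLine K v) (kLine K w)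
  rw [disjoint_iff.1 (disjoint_kLine hK hw), finrank_bot, finrank_kLine hK hv,
    finrank_kLine hK (v := w) (fun h => hw (by rw [h]; exact zero_mem _))] at h
  rw [Module.finrank_fintype_fun_eq_card]
  omega

theorem ext_of_two {r : ℕ} {K : Subalgebra F (Matrix ι ι F)} (hK : IsFieldSubalgebra r K)
    (hι : Fintype.card ι = 2 * r) {v w : ι → F} (hv : v ≠ 0) (hw : w ∉ kLine K v) {x y : Matrix ι ι F}
    (hx : ∀ k ∈ K, x * k = k * x) (hy : ∀ k ∈ K, y * k = k * y) (h1 : x *ᵥ v = y *ᵥ v) (h2 : x *ᵥ w = y *ᵥ w) :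
    x = y := by
  refine Matrix.ext_of_mulVec_single fun i => ?_
  have hmem : (Pi.single i 1 : ι → F) ∈ kLine K v ⊔ kLine K w := by rw [kLine_sup hK hι hv hw]; trivial
  obtain ⟨a, ha, b, hb, hab⟩ := Submodule.mem_sup.1 hmem
  obtain ⟨p, hp, rfl⟩ := mem_kLine.1 ha
  obtain ⟨q, hq, rfl⟩ := mem_kLine.1 hb
  rw [← hab, Matrix.mulVec_add, Matrix.mulVec_add, Matrix.mulVec_mulVec, Matrix.mulVec_mulVec, hx p hp, hx q hq,
    Matrix.mulVec_mulVec, Matrix.mulVec_mulVec, hy p hp, hy q hq, ← Matrix.mulVec_mulVec, ← Matrix.mulVec_mulVec,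
    ← Matrix.mulVec_mulVec, ← Matrix.mulVec_mulVec, h1, h2]

/-- An operator moving every `K`-line gives a normalised field of twice the degree. -/
theorem field_of_mover [Nonempty ι] {r : ℕ} {K : Subalgebra F (Matrix ι ι F)} (hK : IsFieldSubalgebra r K)
    (hι : Fintype.card ι = 2 * r) {H : Subgroup (GL ι F)} (hHK : Normalized H K) {f : (ι → F) → (ι → F) → F}
    (hf : Herm (RingEquiv.refl F) 1 f) (hKs : ∀ k ∈ K, Herm.Adj f k k)
    {j j' : Matrix ι ι F} (hj : ∀ k ∈ K, j * k = k * j) (hmove : ∀ v, v ≠ 0 → j *ᵥ v ∉ kLine K v)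
    (hadj : Herm.Adj f j j') (hj' : ∃ a ∈ K, ∃ b ∈ K, j' = a + b * j)
    (hconj : ∀ g ∈ H, ∃ a ∈ K, ∃ b ∈ K, conjHom g j = a + b * j) :
    ∃ R : Subalgebra F (Matrix ι ι F), IsFieldSubalgebra (2 * r) R ∧ Normalized H R ∧ IsAdjointClosedFor f R := by
  classical
  let R : Subalgebra F (Matrix ι ι F) := Subalgebra.centralizer F (Set.insert j (K : Set (Matrix ι ι F)))
  obtain ⟨e, he⟩ := exists_ne (0 : ι → F)
  have hKR : K ≤ R := fun x hx => (Subalgebra.mem_centralizer_iff F).2 fun y hy => by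
    rcases hy with rfl | hy
    · exact hj x hx
    · exact hK.comm y hy x hx
  have hjR : j ∈ R := (Subalgebra.mem_centralizer_iff F).2 fun y hy => by
    rcases hy with rfl | hy
    · rfl
    · exact (hj y hy).symm
  have hform : ∀ x ∈ R, ∃ a ∈ K, ∃ b ∈ K, x = a + b * j := by
    intro x hx
    have hxK : ∀ k ∈ K, x * k = k * x := fun k hk =>
      ((Subalgebra.mem_centralizer_iff F).1 hx k (Or.inr hk)).symm
    have hxj : x * j = j * x := ((Subalgebra.mem_centralizer_iff F).1 hx j (Or.inl rfl)).symm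
    have hmem : x *ᵥ e ∈ kLine K e ⊔ kLine K (j *ᵥ e) := by rw [kLine_sup hK hι he (hmove e he)]; trivial
    obtain ⟨p, hp, q, hq, hpq⟩ := Submodule.mem_sup.1 hmem
    obtain ⟨a, ha, rfl⟩ := mem_kLine.1 hp
    obtain ⟨b, hb, rfl⟩ := mem_kLine.1 hq
    refine ⟨a, ha, b, hb, ?_⟩
    have hy : ∀ k ∈ K, (a + b * j) * k = k * (a + b * j) := fun k hk => by
      rw [add_mul, mul_add, hK.comm a ha k hk, mul_assoc, hj k hk, ← mul_assoc, hK.comm b hb k hk, mul_assoc]
    have h1 : x *ᵥ e = (a + b * j) *ᵥ e := by rw [Matrix.add_mulVec, ← Matrix.mulVec_mulVec]; exact hpq.symm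
    refine ext_of_two hK hι he (hmove e he) hxK hy h1 ?_
    rw [Matrix.mulVec_mulVec, hxj, ← Matrix.mulVec_mulVec, h1, Matrix.mulVec_mulVec, Matrix.mulVec_mulVec]
    congr 1
    rw [mul_add, add_mul, ← hj a ha, ← mul_assoc, hj b hb]
  have hinj : ∀ x ∈ R, x ≠ 0 → ∀ v, x *ᵥ v = 0 → v = 0 := by
    intro x hx hx0 v hv
    obtain ⟨a, ha, b, hb, rfl⟩ := hform x hx
    by_cases hb0 : b = 0
    · rw [hb0, zero_mul, add_zero] at hv hx0
      exact field_kills hK ha hx0 hv
    by_contra hv0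
    obtain ⟨y, hy, hby⟩ := hK.inv b hb hb0
    refine hmove v hv0 (mem_kLine.2 ⟨-(y * a), neg_mem (mul_mem hy ha), ?_⟩)
    have h : y *ᵥ ((a + b * j) *ᵥ v) = 0 := by rw [hv, Matrix.mulVec_zero]
    rw [Matrix.add_mulVec, Matrix.mulVec_add, Matrix.mulVec_mulVec, Matrix.mulVec_mulVec, ← mul_assoc,
      ← hK.comm b hb y hy, hby, one_mul] at h
    rw [Matrix.neg_mulVec, eq_neg_of_add_eq_zero_left h, neg_neg]
  refine ⟨R, ⟨?_, ?_, ?_⟩, ?_, ?_⟩
  · intro x hx y hy
    obtain ⟨a, ha, b, hb, rfl⟩ := hform y hy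
    have hxK : ∀ k ∈ K, x * k = k * x := fun k hk =>
      ((Subalgebra.mem_centralizer_iff F).1 hx k (Or.inr hk)).symm
    have hxj : x * j = j * x := ((Subalgebra.mem_centralizer_iff F).1 hx j (Or.inl rfl)).symm
    rw [mul_add, add_mul, hxK a ha, ← mul_assoc, hxK b hb, mul_assoc, hxj, mul_assoc]
  · intro x hx hx0
    have hu : IsUnit x := by
      rw [← Matrix.mulVec_injective_iff_isUnit]
      intro u v huv
      refine sub_eq_zero.1 (hinj x hx hx0 _ ?_)
      rw [Matrix.mulVec_sub, huv, sub_self]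
    obtain ⟨X, rfl⟩ := hu
    refine ⟨(X⁻¹ : (Matrix ι ι F)ˣ), ?_, X.mul_inv⟩
    rw [Subalgebra.mem_centralizer_iff]
    intro y hy
    have h := (Subalgebra.mem_centralizer_iff F).1 hx y hy
    exact (Commute.units_inv_right (show Commute y (X : Matrix ι ι F) from h)).eq
  · let L : R →ₗ[F] (ι → F) :=
      { toFun := fun x => (x : Matrix ι ι F) *ᵥ e
        map_add' := fun a b => by simp [Matrix.add_mulVec]
        map_smul' := fun c a => by simp [Matrix.smul_mulVec] }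
    have hLi : Function.Injective L := by
      rw [← LinearMap.ker_eq_bot, Submodule.eq_bot_iff]
      intro x hx
      by_contra h0
      exact he (hinj x x.2 (fun h => h0 (Subtype.ext h)) e hx)
    have hLs : LinearMap.range L = ⊤ := by
      rw [eq_top_iff, ← kLine_sup hK hι he (hmove e he)]
      refine sup_le ?_ ?_
      · intro x hx
        obtain ⟨k, hk, rfl⟩ := mem_kLine.1 hx
        exact ⟨⟨k, hKR hk⟩, rfl⟩
      · intro x hx
        obtain ⟨k, hk, rfl⟩ := mem_kLine.1 hx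
        exact ⟨⟨k * j, mul_mem (hKR hk) hjR⟩, (Matrix.mulVec_mulVec _ _ _).symm⟩
    rw [← LinearMap.finrank_range_of_inj hLi, hLs, finrank_top, Module.finrank_fintype_fun_eq_card, hι]
  · intro g hg x hx
    obtain ⟨a, ha, b, hb, rfl⟩ := hform x hx
    obtain ⟨a', ha', b', hb', h⟩ := hconj g hg
    rw [map_add, map_mul, h]
    exact add_mem (hKR (hHK g hg a ha)) (mul_mem (hKR (hHK g hg b hb)) (add_mem (hKR ha') (mul_mem (hKR hb') hjR)))
  · intro x hx
    obtain ⟨a, ha, b, hb, rfl⟩ := hform x hx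
    obtain ⟨a', ha', b', hb', h⟩ := hj'
    have hj'R : j' ∈ R := h ▸ add_mem (hKR ha') (mul_mem (hKR hb') hjR)
    exact ⟨a + j' * b, add_mem (hKR ha) (mul_mem hj'R (hKR hb)),
      hf.adj_add (hKs a ha) (hf.adj_mul (hKs b hb) hadj)⟩

theorem singular_line_false (hQ : IsNondegenerateQuadraticForm Q) {r : ℕ} (hr : Odd r) (hr3 : 3 ≤ r)
    (hι : Fintype.card ι = 2 * r) {H : Subgroup (GL ι F)} (hHΩ : H ≤ omegaGL Q) (hirr : ActsIrreducibly (matrixSet H))
    {K : Subalgebra F (Matrix ι ι F)} (hK : IsFieldSubalgebra r K) (hHK : Normalized H K) {v : ι → F} (hv : v ≠ 0) :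
    ∃ k ∈ K, Q (k *ᵥ v) ≠ 0 := by
  by_contra hsing
  push Not at hsing
  have hL : ∀ x ∈ kLine K v, Q x = 0 := fun x hx => by
    obtain ⟨k, hk, rfl⟩ := mem_kLine.1 hx; exact hsing k hk
  have hd := finrank_kLine hK hv
  have hcase : ∀ g ∈ H, ∀ x ∈ kLine K v, (g : Matrix ι ι F) *ᵥ x ∈ kLine K v := by
    by_contra hc
    push Not at hc
    obtain ⟨g, hg, x, hx, hgx⟩ := hc
    have hline : ∀ k ∈ K, (g : Matrix ι ι F) *ᵥ (k *ᵥ v) = conjHom g k *ᵥ ((g : Matrix ι ι F) *ᵥ v) := fun k _ => by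
      simp [conjHom_apply, Matrix.mulVec_mulVec, mul_assoc]
    have hgv : (g : Matrix ι ι F) *ᵥ v ∉ kLine K v := fun h => hgx (by
      obtain ⟨k, hk, rfl⟩ := mem_kLine.1 hx
      obtain ⟨l, hl, hlv⟩ := mem_kLine.1 h
      rw [hline k hk, ← hlv, Matrix.mulVec_mulVec]
      exact mem_kLine.2 ⟨_, mul_mem (hHK g hg k hk) hl, rfl⟩)
    have hmap : (kLine K v).map (Matrix.toLin' (g : Matrix ι ι F)) = kLine K ((g : Matrix ι ι F) *ᵥ v) := by
      refine Submodule.eq_of_le_of_finrank_eq ?_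
        (by rw [finrank_map_gl, hd, finrank_kLine hK (gl_mulVec_ne_zero g hv)])
      rintro _ ⟨y, hy, rfl⟩
      obtain ⟨k, hk, rfl⟩ := mem_kLine.1 hy
      rw [Matrix.toLin'_apply, hline k hk]
      exact mem_kLine.2 ⟨_, hHK g hg k hk, rfl⟩
    exact no_swap_of_odd hQ hι hr3 hr hd hL (disjoint_kLine hK hgv) (hHΩ hg) hmap
  rcases hirr (kLine K v) (by
    rintro _ ⟨g, hg, rfl⟩ _ ⟨x, hx, rfl⟩
    rw [Matrix.toLin'_apply]
    exact hcase g hg x hx) with h | h
  · rw [h, finrank_bot] at hd; omega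
  · rw [h, finrank_top, Module.finrank_fintype_fun_eq_card, hι] at hd; omega

/-- A field of odd degree half the dimension yields a normalised quadratic field. -/
theorem exists_quadratic_of_half [Nonempty ι] (hQ : IsNondegenerateQuadraticForm Q) {r : ℕ} (hr : Odd r) (hr3 : 3 ≤ r)
    (hι : Fintype.card ι = 2 * r) {H : Subgroup (GL ι F)} (hHΩ : H ≤ omegaGL Q) (hirr : ActsIrreducibly (matrixSet H))
    {K : Subalgebra F (Matrix ι ι F)} (hK : IsFieldSubalgebra r K) (hKa : IsAdjointClosedFor (polar Q) K)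
    (hHK : Normalized H K) :
    ∃ S : Subalgebra F (Matrix ι ι F), IsFieldSubalgebra 2 S ∧ IsAdjointClosedFor (polar Q) S ∧ Normalized H S := by
  classical
  have hh := herm_polar hQ
  have hq := OrthTools.quadOf_nondegenerate hQ
  have hKs : ∀ k ∈ K, Herm.Adj (polar Q) k k := fun k hk => selfAdjoint_of_odd hh hK hr hKa k hk
  have hline : ∀ v, v ≠ 0 → ∃ k ∈ K, Q (k *ᵥ v) ≠ 0 := fun v hv => singular_line_false hQ hr hr3 hι hHΩ hirr hK hHK hv
  suffices h : ∃ R : Subalgebra F (Matrix ι ι F),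
      IsFieldSubalgebra (2 * r) R ∧ Normalized H R ∧ IsAdjointClosedFor (polar Q) R by
    obtain ⟨R, hR, hRn, hRa⟩ := h
    obtain ⟨S, hS, hSn, hSR⟩ := exists_minFac_subfield (by omega) hR hRn
    rw [show Nat.minFac (2 * r) = 2 from (Nat.minFac_eq_two_iff _).2 ⟨r, rfl⟩] at hS
    exact ⟨S, hS, adjointClosed_of_le_field hh hR hRa hS hSR, hSn⟩
  have hcomm : ∀ {a b}, a ∈ K → b ∈ K → a * b = b * a := fun {a b} ha hb => hK.comm a ha b hb
  have hsw : ∀ k ∈ K, ∀ u v, polar Q (k *ᵥ u) v = polar Q u (k *ᵥ v) := hKs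
  have hmm : ∀ a ∈ K, ∀ b ∈ K, ∀ u v : ι → F, polar Q (a *ᵥ u) (b *ᵥ v) = polar Q u ((a * b) *ᵥ v) := fun a ha b _ u v => by
    rw [hsw a ha, Matrix.mulVec_mulVec]
  -- conjugates of matrices commuting with `K`
  have hconjC : ∀ g ∈ H, ∀ x : Matrix ι ι F, (∀ k ∈ K, x * k = k * x) → ∀ k ∈ K, conjHom g x * k = k * conjHom g x := by
    intro g hg x hx k hk
    have h := congrArg (conjHom g) (hx _ (hHK g⁻¹ (H.inv_mem hg) k hk))
    rwa [map_mul, map_mul, conjHom_cancel] at h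
  have hginv : ∀ g ∈ H, ∀ u v, polar Q u ((g : Matrix ι ι F) *ᵥ v) =
      polar Q (((g⁻¹ : GL ι F) : Matrix ι ι F) *ᵥ u) v := fun g hg u v => by
    conv_lhs => rw [← gl_mulVec_inv_mulVec g u]
    exact omega_polar hQ (hHΩ hg) _ _
  obtain ⟨e, he⟩ := exists_ne (0 : ι → F)
  by_cases h2 : (2 : F) = 0
  · haveI : CharP F 2 := CharTwo.of_one_ne_zero_of_two_eq_zero one_ne_zero h2
    letI : Field K := FieldTransvection.fieldOf hK
    haveI : Finite K := inferInstance
    have hK2 : (2 : K) = 0 := by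
      refine Subtype.ext ?_
      rw [← one_add_one_eq_two]
      show (1 : Matrix ι ι F) + 1 = 0
      rw [← two_smul F (1 : Matrix ι ι F), h2, zero_smul]
    haveI : CharP K 2 := CharTwo.of_one_ne_zero_of_two_eq_zero one_ne_zero hK2
    choose sq' hsq' using fun z : K => FiniteField.isSquare_of_char_two (ringChar.eq K 2) z
    have huniq : ∀ {a b : K}, a * a = b * b → a = b := fun {a b} h => by
      have h' : (a - b) * (a - b) = 0 := by linear_combination h + (b * b - a * b) * hK2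
      exact sub_eq_zero.1 (mul_self_eq_zero.1 h')
    have halt : ∀ k ∈ K, ∀ v, polar Q (k *ᵥ v) v = 0 := by
      intro k hk v
      have h := congrArg Subtype.val (hsq' ⟨k, hk⟩)
      simp only at h
      rw [show k = (sq' ⟨k, hk⟩ : Matrix ι ι F) * (sq' ⟨k, hk⟩ : Matrix ι ι F) from h, ← Matrix.mulVec_mulVec,
        hsw _ (sq' ⟨k, hk⟩).2, quad_polar_self hQ, h2, zero_mul]
    have hQadd : ∀ (a b : K) v, Q (((a + b : K) : Matrix ι ι F) *ᵥ v) =
        Q ((a : Matrix ι ι F) *ᵥ v) + Q ((b : Matrix ι ι F) *ᵥ v) := fun a b v => by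
      have h : polar Q ((a : Matrix ι ι F) *ᵥ v) ((b : Matrix ι ι F) *ᵥ v) = 0 := by
        rw [hmm _ a.2 _ b.2, ← hsw _ (mul_mem a.2 b.2)]
        exact halt _ (mul_mem a.2 b.2) v
      rw [QuadraticMap.polar] at h
      show Q (((a : Matrix ι ι F) + (b : Matrix ι ι F)) *ᵥ v) = _
      rw [Matrix.add_mulVec]
      linear_combination h
    have hperp : ∀ v, v ≠ 0 → hh.perp (kLine K v) = kLine K v := fun v hv => by
      refine (Submodule.eq_of_le_of_finrank_eq (fun x hx => hh.mem_perp.2 fun y hy => ?_) ?_).symm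
      · obtain ⟨a, ha, rfl⟩ := mem_kLine.1 hx
        obtain ⟨b, hb, rfl⟩ := mem_kLine.1 hy
        rw [hmm a ha b hb, ← hsw _ (mul_mem ha hb)]
        exact halt _ (mul_mem ha hb) v
      · have := hh.finrank_perp (kLine K v)
        rw [finrank_kLine hK hv] at this ⊢
        omega
    obtain ⟨w, -, hw⟩ : ∃ w ∈ (⊤ : Submodule F (ι → F)), w ∉ kLine K e := by
      by_contra hc
      push Not at hc
      have := Submodule.finrank_mono (show (⊤ : Submodule F (ι → F)) ≤ kLine K e from hc)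
      rw [finrank_top, Module.finrank_fintype_fun_eq_card, finrank_kLine hK he, hι] at this
      omega
    have hw0 : w ≠ 0 := fun h => hw (by rw [h]; exact zero_mem _)
    let Φ : (K × K) →ₗ[F] (ι → F) := (orbMap K e).coprod (orbMap K w)
    have hΦs : Function.Surjective Φ := by
      rw [← LinearMap.range_eq_top, LinearMap.range_coprod]
      exact kLine_sup hK hι he hw
    have hΦd : Module.finrank F (K × K) = Module.finrank F (ι → F) := by
      rw [Module.finrank_prod, hK.finrank_eq, Module.finrank_fintype_fun_eq_card, hι]; ring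
    let E : (K × K) ≃ₗ[F] (ι → F) := LinearEquiv.ofBijective Φ
      ⟨(LinearMap.injective_iff_surjective_of_finrank_eq_finrank hΦd).2 hΦs, hΦs⟩
    have hE : ∀ p : K × K, E p = (p.1 : Matrix ι ι F) *ᵥ e + (p.2 : Matrix ι ι F) *ᵥ w := fun p => rfl
    have hEk : ∀ (k : K) v, E.symm ((k : Matrix ι ι F) *ᵥ v) = (k * (E.symm v).1, k * (E.symm v).2) := fun k v => by
      rw [LinearEquiv.symm_apply_eq, hE]
      conv_lhs => rw [← E.apply_symm_apply v, hE, Matrix.mulVec_add, Matrix.mulVec_mulVec, Matrix.mulVec_mulVec]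
      rfl
    have hφadd : ∀ (u : ι → F) (a b : K), Q ((sq' (a + b) : Matrix ι ι F) *ᵥ u) =
        Q ((sq' a : Matrix ι ι F) *ᵥ u) + Q ((sq' b : Matrix ι ι F) *ᵥ u) := fun u a b => by
      rw [← hQadd, huniq (a := sq' (a + b)) (b := sq' a + sq' b) (by
        rw [← hsq' (a + b)]
        linear_combination (hsq' a) + (hsq' b) - sq' a * sq' b * hK2)]
    have hφsmul : ∀ (u : ι → F) (c : F) (a : K), Q ((sq' (c • a) : Matrix ι ι F) *ᵥ u) =
        c * Q ((sq' a : Matrix ι ι F) *ᵥ u) := fun u c a => by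
      obtain ⟨r, hr⟩ := FiniteField.isSquare_of_char_two (ringChar.eq F 2) c
      rw [huniq (a := sq' (c • a)) (b := r • sq' a) (by
        rw [← hsq' (c • a), smul_mul_smul_comm, ← hr, ← hsq' a])]
      show Q ((r • (sq' a : Matrix ι ι F)) *ᵥ u) = _
      rw [Matrix.smul_mulVec, hQ.smul, hr, _root_.sq]
    let B0 : (K × K) → (K × K) → F := fun p q => Q ((sq' (p.1 * q.1) : Matrix ι ι F) *ᵥ e) +
      Q ((sq' (p.2 * q.2) : Matrix ι ι F) *ᵥ w) +
      polar Q ((p.1 : Matrix ι ι F) *ᵥ e) ((q.2 : Matrix ι ι F) *ᵥ w)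
    let B : LinearMap.BilinForm F (ι → F) := LinearMap.mk₂ F (fun u v => B0 (E.symm u) (E.symm v))
      (fun u u' v => by
        simp only [B0, map_add, Prod.fst_add, Prod.snd_add, add_mul, hφadd, Subalgebra.coe_add, Matrix.add_mulVec,
          hh.add_left]
        ring)
      (fun c u v => by
        simp only [B0, map_smul, Prod.smul_fst, Prod.smul_snd, smul_mul_assoc, hφsmul, Subalgebra.coe_smul,
          Matrix.smul_mulVec, hh.smul_left, smul_eq_mul]
        ring)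
      (fun u v v' => by
        simp only [B0, map_add, Prod.fst_add, Prod.snd_add, mul_add, hφadd, Subalgebra.coe_add, Matrix.add_mulVec,
          hh.add_right]
        ring)
      (fun c u v => by
        simp only [B0, map_smul, Prod.smul_fst, Prod.smul_snd, mul_smul_comm, hφsmul, Subalgebra.coe_smul,
          Matrix.smul_mulVec, hh.smul_right, smul_eq_mul, RingEquiv.refl_apply]
        ring)
    have hBk : ∀ (k : K) u v, B ((k : Matrix ι ι F) *ᵥ u) v = B u ((k : Matrix ι ι F) *ᵥ v) := fun k u v => by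
      show B0 (E.symm _) _ = B0 _ (E.symm _)
      rw [hEk, hEk]
      simp only [B0, Subalgebra.coe_mul, ← Matrix.mulVec_mulVec]
      rw [show k * (E.symm u).1 * (E.symm v).1 = (E.symm u).1 * (k * (E.symm v).1) by ring,
        show k * (E.symm u).2 * (E.symm v).2 = (E.symm u).2 * (k * (E.symm v).2) by ring, hsw _ k.2,
        hsw _ (E.symm u).1.2]
    have hBd : ∀ v, B v v = Q v := by
      intro v
      obtain ⟨p, rfl⟩ := E.surjective v
      show B0 (E.symm _) (E.symm _) = _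
      rw [E.symm_apply_apply, hE]
      simp only [B0]
      rw [← huniq (a := p.1) (b := sq' (p.1 * p.1)) (hsq' _), ← huniq (a := p.2) (b := sq' (p.2 * p.2)) (hsq' _),
        QuadraticMap.polar]
      ring
    let P : (ι → F) ≃ₗ[F] Module.Dual F (ι → F) := LinearMap.BilinForm.toDual (quadOf hQ).polarBilin hq
    let jl : (ι → F) →ₗ[F] (ι → F) := P.symm.toLinearMap.comp B.flip
    let j := LinearMap.toMatrix' jl
    have hj : ∀ u v, polar Q u (j *ᵥ v) = B u v := fun u v => by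
      rw [LinearMap.toMatrix'_mulVec, polar_comm]
      show (quadOf hQ).polarBilin (P.symm (B.flip v)) u = _
      rw [LinearMap.BilinForm.apply_toDual_symm_apply]
      rfl
    have hjK : ∀ k ∈ K, j * k = k * j := by
      intro k hk
      refine Matrix.ext_of_mulVec_single fun i => hh.ext_right fun u => ?_
      rw [← Matrix.mulVec_mulVec, hj, ← hBk ⟨k, hk⟩, ← hj, ← Matrix.mulVec_mulVec, hsw k hk]
    have hjval : ∀ v, polar Q v (j *ᵥ v) = Q v := fun v => by rw [hj, hBd]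
    have hjval' : ∀ (d : K) v, polar Q v (((d : Matrix ι ι F) * (d : Matrix ι ι F) * j) *ᵥ v) =
        Q ((d : Matrix ι ι F) *ᵥ v) := fun d v => by
      rw [← hjval ((d : Matrix ι ι F) *ᵥ v), hsw _ d.2]
      simp only [Matrix.mulVec_mulVec]
      rw [mul_assoc _ _ j, ← hjK _ d.2]
    have hjJ : ∀ x : Matrix ι ι F, (∀ k ∈ K, x * k = k * x) → ∀ d : K,
        (∀ v, polar Q v (x *ᵥ v) = Q ((d : Matrix ι ι F) *ᵥ v)) → ∃ a ∈ K, ∃ b ∈ K, x = a + b * j := by
      intro x hx d hd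
      set b : Matrix ι ι F := (d : Matrix ι ι F) * (d : Matrix ι ι F) with hb
      have hbK : b ∈ K := mul_mem d.2 d.2
      set y := x - b * j with hy
      have hyK : ∀ k ∈ K, y * k = k * y := fun k hk => by
        rw [hy, sub_mul, mul_sub, hx k hk, mul_assoc, hjK k hk, ← mul_assoc, hcomm hbK hk, mul_assoc]
      have hy0 : ∀ v, polar Q v (y *ᵥ v) = 0 := fun v => by
        rw [hy, Matrix.sub_mulVec, hh.sub_right, hd, hb, hjval', sub_self]
      have heig : ∀ v, v ≠ 0 → ∃ l ∈ K, y *ᵥ v = l *ᵥ v := by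
        intro v hv
        have hmem : y *ᵥ v ∈ hh.perp (kLine K v) := hh.mem_perp'.2 fun z hz => by
          obtain ⟨k, hk, rfl⟩ := mem_kLine.1 hz
          have h := congrArg Subtype.val (hsq' ⟨k, hk⟩)
          simp only at h
          set s := sq' ⟨k, hk⟩
          rw [show k = (s : Matrix ι ι F) * (s : Matrix ι ι F) from h, ← Matrix.mulVec_mulVec, hsw _ s.2,
            Matrix.mulVec_mulVec _ (s : Matrix ι ι F) y, ← hyK _ s.2, ← Matrix.mulVec_mulVec]
          exact hy0 _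
        rw [hperp v hv] at hmem
        obtain ⟨l, hl, hlv⟩ := mem_kLine.1 hmem
        exact ⟨l, hl, hlv.symm⟩
      obtain ⟨l, hl, hle⟩ := heig e he
      obtain ⟨m, hm, hmw⟩ := heig w hw0
      have hew : e + w ≠ 0 := fun h => hw (mem_kLine.2 ⟨-1, neg_mem (one_mem K), by
        rw [Matrix.neg_mulVec, Matrix.one_mulVec, eq_neg_of_add_eq_zero_right h]⟩)
      obtain ⟨n, hn, hnew⟩ := heig (e + w) hew
      rw [Matrix.mulVec_add, hle, hmw, Matrix.mulVec_add] at hnew
      have h0 : (l - n) *ᵥ e = (n - m) *ᵥ w := by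
        rw [Matrix.sub_mulVec, Matrix.sub_mulVec, sub_eq_sub_iff_add_eq_add, hnew, add_comm]
      have hz := Submodule.disjoint_def.1 (disjoint_kLine hK hw) _ (mem_kLine.2 ⟨_, sub_mem hl hn, rfl⟩)
        (mem_kLine.2 ⟨_, sub_mem hn hm, h0.symm⟩)
      have hln : l = n := sub_eq_zero.1 (by
        by_contra hne
        exact he (field_kills hK (sub_mem hl hn) hne hz))
      have hnm : n = m := sub_eq_zero.1 (by
        by_contra hne
        exact hw0 (field_kills hK (sub_mem hn hm) hne (h0 ▸ hz)))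
      have hyl : y = l := ext_of_two hK hι he hw hyK (fun k hk => hcomm hl hk) hle (by rw [hmw, hln, hnm])
      exact ⟨l, hl, b, hbK, by rw [← hyl, hy, sub_add_cancel]⟩
    let jad := LinearMap.toMatrix' (P.symm.toLinearMap.comp B)
    have hjad : Herm.Adj (polar Q) j jad := fun u v => by
      rw [polar_comm (f := Q) (j *ᵥ u) v, hj, LinearMap.toMatrix'_mulVec, polar_comm]
      show _ = (quadOf hQ).polarBilin (P.symm (B v)) u
      rw [LinearMap.BilinForm.apply_toDual_symm_apply]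
    refine field_of_mover hK hι hHK hh hKs hjK (fun v hv hmem => ?_) hjad
      (hjJ jad (fun k hk => ?_) 1 fun v => ?_) (fun g hg => ?_)
    · obtain ⟨l, hl, hlv⟩ := mem_kLine.1 hmem
      obtain ⟨k, hk, hne⟩ := hline v hv
      apply hne
      rw [← hjval, Matrix.mulVec_mulVec, hjK k hk, ← Matrix.mulVec_mulVec, ← hlv, Matrix.mulVec_mulVec,
        hmm k hk _ (mul_mem hk hl), ← hsw _ (mul_mem hk (mul_mem hk hl))]
      exact halt _ (mul_mem hk (mul_mem hk hl)) v
    · refine hh.adj_unique (hh.adj_mul (hKs k hk) hjad) ?_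
      rw [← hjK k hk]
      exact hh.adj_mul hjad (hKs k hk)
    · rw [show ((1 : K) : Matrix ι ι F) = 1 from rfl, Matrix.one_mulVec, ← hjval v, ← hjad v v, polar_comm]
    · refine hjJ _ (hconjC g hg j hjK) 1 fun v => ?_
      rw [show ((1 : K) : Matrix ι ι F) = 1 from rfl, Matrix.one_mulVec, conjHom_apply, ← Matrix.mulVec_mulVec,
        ← Matrix.mulVec_mulVec, hginv g hg, hjval, omega_quad ((omegaGL Q).inv_mem (hHΩ hg))]
  -- odd characteristic
  have hsq : ∀ k ∈ K, k = (2 : F)⁻¹ • ((k + 1) * (k + 1) - k * k - 1) := fun k _ => by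
    rw [show (k + 1) * (k + 1) - k * k - 1 = (2 : F) • k by rw [two_smul]; noncomm_ring, inv_smul_smul₀ h2]
  have haniso : ∀ v, v ≠ 0 → IsNondegenerateOn (polar Q) (kLine K v) := by
    intro v hv
    refine nondegenerateOn_of_right (q := quadOf hQ) fun x hx hx0 => ?_
    obtain ⟨l, hl, rfl⟩ := mem_kLine.1 hx
    by_contra hc
    push Not at hc
    have hl0 : l ≠ 0 := fun h => hx0 (by rw [h, Matrix.zero_mulVec])
    obtain ⟨y, hy, hly⟩ := hK.inv l hl hl0
    obtain ⟨k, hk, hne⟩ := hline v hv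
    apply hne
    have h := hc ((y * k * k) *ᵥ v) (mem_kLine.2 ⟨_, mul_mem (mul_mem hy hk) hk, rfl⟩)
    change polar Q (l *ᵥ v) _ = 0 at h
    rw [hmm l hl _ (mul_mem (mul_mem hy hk) hk), ← mul_assoc, ← mul_assoc, hly, one_mul,
      ← hmm k hk k hk, quad_polar_self hQ] at h
    exact (mul_eq_zero.1 h).resolve_left h2
  obtain ⟨w, hwp, hw0⟩ := Submodule.exists_mem_ne_zero_of_ne_bot (p := hh.perp (kLine K e)) fun h => by
    have := hh.finrank_perp (kLine K e)
    rw [h, finrank_bot, finrank_kLine hK he] at this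
    omega
  have hwe : ∀ k ∈ K, polar Q (k *ᵥ e) w = 0 := fun k hk => hh.mem_perp'.1 hwp _ (mem_kLine.2 ⟨k, hk, rfl⟩)
  have hw : w ∉ kLine K e := fun h => by
    exact hw0 (Submodule.disjoint_def.1 (hh.disjoint_perp (haniso e he)) w h hwp)
  -- the multiplier
  let T : K →ₗ[F] Module.Dual F K := LinearMap.mk₂ F
    (fun m k : K => polar Q ((m : Matrix ι ι F) *ᵥ e) ((k : Matrix ι ι F) *ᵥ e))
    (fun a b c => by simp [Matrix.add_mulVec, hh.add_left])
    (fun c a b => by simp [Matrix.smul_mulVec, hh.smul_left])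
    (fun a b c => by simp [Matrix.add_mulVec, hh.add_right])
    (fun c a b => by simp [Matrix.smul_mulVec, hh.smul_right])
  have hT : Function.Surjective T := by
    refine (LinearMap.injective_iff_surjective_of_finrank_eq_finrank Subspace.dual_finrank_eq.symm).1 ?_
    rw [← LinearMap.ker_eq_bot, Submodule.eq_bot_iff]
    intro m hm
    by_contra h0
    obtain ⟨-, y, hy, hne⟩ := haniso e he ((m : Matrix ι ι F) *ᵥ e) (mem_kLine.2 ⟨_, m.2, rfl⟩)
      (fun h => he (field_kills hK m.2 (fun h' => h0 (Subtype.ext h')) h))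
    obtain ⟨k, hk, rfl⟩ := mem_kLine.1 hy
    exact hne (LinearMap.congr_fun hm ⟨k, hk⟩)
  let W : K →ₗ[F] F :=
    { toFun := fun k => -polar Q w ((k : Matrix ι ι F) *ᵥ w)
      map_add' := fun a b => by simp [Matrix.add_mulVec, hh.add_right]; ring
      map_smul' := fun c a => by simp [Matrix.smul_mulVec, hh.smul_right] }
  obtain ⟨μ, hμ⟩ := hT W
  have hμ' : ∀ k ∈ K, polar Q ((μ : Matrix ι ι F) *ᵥ e) (k *ᵥ e) = -polar Q w (k *ᵥ w) := fun k hk =>
    LinearMap.congr_fun hμ ⟨k, hk⟩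
  let Φ : (K × K) →ₗ[F] (ι → F) := (orbMap K e).coprod (orbMap K w)
  have hΦs : Function.Surjective Φ := by
    rw [← LinearMap.range_eq_top, LinearMap.range_coprod]
    exact kLine_sup hK hι he hw
  have hΦd : Module.finrank F (K × K) = Module.finrank F (ι → F) := by
    rw [Module.finrank_prod, hK.finrank_eq, Module.finrank_fintype_fun_eq_card, hι]; ring
  let E : (K × K) ≃ₗ[F] (ι → F) := LinearEquiv.ofBijective Φ
    ⟨(LinearMap.injective_iff_surjective_of_finrank_eq_finrank hΦd).2 hΦs, hΦs⟩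
  let Z : (K × K) →ₗ[F] (K × K) :=
    ((LinearMap.mulRight F μ).comp (LinearMap.snd F K K)).prod (LinearMap.fst F K K)
  let j := LinearMap.toMatrix' (E.toLinearMap.comp (Z.comp E.symm.toLinearMap))
  have hj : ∀ a ∈ K, ∀ b ∈ K, j *ᵥ (a *ᵥ e + b *ᵥ w) = (b * (μ : Matrix ι ι F)) *ᵥ e + a *ᵥ w := by
    intro a ha b hb
    rw [LinearMap.toMatrix'_mulVec]
    have h : E.symm (a *ᵥ e + b *ᵥ w) = (⟨a, ha⟩, ⟨b, hb⟩) := by
      rw [LinearEquiv.symm_apply_eq]; rfl
    show E (Z (E.symm _)) = _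
    rw [h]; rfl
  have hdec : ∀ v, ∃ a ∈ K, ∃ b ∈ K, a *ᵥ e + b *ᵥ w = v := fun v => by
    obtain ⟨p, rfl⟩ := E.surjective v
    exact ⟨_, p.1.2, _, p.2.2, rfl⟩
  have hje : j *ᵥ e = w := by
    have := hj 1 (one_mem K) 0 (zero_mem K)
    simpa using this
  have hjK : ∀ k ∈ K, j * k = k * j := by
    intro k hk
    refine Matrix.ext_of_mulVec_single fun i => ?_
    obtain ⟨a, ha, b, hb, hab⟩ := hdec (Pi.single i 1)
    rw [← hab, ← Matrix.mulVec_mulVec, ← Matrix.mulVec_mulVec, hj a ha b hb, Matrix.mulVec_add, Matrix.mulVec_mulVec,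
      Matrix.mulVec_mulVec, hj _ (mul_mem hk ha) _ (mul_mem hk hb), Matrix.mulVec_add, Matrix.mulVec_mulVec,
      Matrix.mulVec_mulVec, mul_assoc]
  have hskew : Herm.Adj (polar Q) j (-j) := by
    intro u v
    obtain ⟨a, ha, b, hb, rfl⟩ := hdec u
    obtain ⟨a', ha', b', hb', rfl⟩ := hdec v
    have hew : ∀ p ∈ K, ∀ r ∈ K, polar Q (p *ᵥ e) (r *ᵥ w) = 0 := fun p hp r hr => by
      rw [← hsw r hr, Matrix.mulVec_mulVec]; exact hwe _ (mul_mem hr hp)
    have hwe' : ∀ p ∈ K, ∀ r ∈ K, polar Q (r *ᵥ w) (p *ᵥ e) = 0 := fun p hp r hr => by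
      rw [polar_comm]; exact hew p hp r hr
    have hμw : ∀ p ∈ K, ∀ r ∈ K, polar Q ((p * (μ : Matrix ι ι F)) *ᵥ e) (r *ᵥ e) = -polar Q (p *ᵥ w) (r *ᵥ w) := fun p hp r hr => by
      rw [← Matrix.mulVec_mulVec, hmm p hp r hr, hμ' _ (mul_mem hp hr), hmm p hp r hr]
    rw [hj a ha b hb, Matrix.neg_mulVec, hh.neg_right, hj a' ha' b' hb']
    simp only [hh.add_left, hh.add_right, hew a ha a' ha', hwe' _ (mul_mem hb' μ.2) b hb, hwe' _ ha' a ha,
      hew _ (mul_mem hb μ.2) b' hb', hμw b hb a' ha']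
    rw [polar_comm (f := Q) (a *ᵥ e) ((b' * (μ : Matrix ι ι F)) *ᵥ e), hμw b' hb' a ha, polar_comm (f := Q) (b' *ᵥ w) (a *ᵥ w)]
    ring
  have hkv : ∀ x : Matrix ι ι F, (∀ k ∈ K, x * k = k * x) → Herm.Adj (polar Q) x (-x) →
      ∀ k ∈ K, ∀ v, polar Q (k *ᵥ v) (x *ᵥ v) = 0 := by
    intro x hx hxs k hk v
    have h1 : polar Q (k *ᵥ v) (x *ᵥ v) = -polar Q (k *ᵥ v) (x *ᵥ v) := by
      conv_lhs => rw [polar_comm, hxs, Matrix.neg_mulVec, hh.neg_right, Matrix.mulVec_mulVec, hx k hk,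
        ← Matrix.mulVec_mulVec, ← hsw k hk]
    exact (mul_eq_zero.1 (show (2 : F) * polar Q (k *ᵥ v) (x *ᵥ v) = 0 by linear_combination h1)).resolve_left h2
  have hperpE : hh.perp (kLine K e) = kLine K w := by
    refine (Submodule.eq_of_le_of_finrank_eq (fun x hx => hh.mem_perp'.2 fun y hy => ?_) ?_).symm
    · obtain ⟨a, ha, rfl⟩ := mem_kLine.1 hx
      obtain ⟨b, hb, rfl⟩ := mem_kLine.1 hy
      rw [← hsw a ha, Matrix.mulVec_mulVec]
      exact hwe _ (mul_mem ha hb)
    · have := hh.finrank_perp (kLine K e)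
      rw [finrank_kLine hK hw0]
      rw [finrank_kLine hK he] at this
      omega
  have hskewK : ∀ x : Matrix ι ι F, (∀ k ∈ K, x * k = k * x) → Herm.Adj (polar Q) x (-x) →
      ∃ a ∈ K, ∃ b ∈ K, x = a + b * j := by
    intro x hx hxs
    have hmem : x *ᵥ e ∈ kLine K w := hperpE ▸ hh.mem_perp'.2 fun z hz => by
      obtain ⟨k, hk, rfl⟩ := mem_kLine.1 hz
      exact hkv x hx hxs k hk e
    obtain ⟨l, hl, hle⟩ := mem_kLine.1 hmem
    refine ⟨0, zero_mem K, l, hl, ?_⟩
    have hlj : ∀ k ∈ K, (0 + l * j) * k = k * (0 + l * j) := fun k hk => by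
      rw [zero_add, mul_assoc, hjK k hk, ← mul_assoc, hcomm hl hk, mul_assoc]
    have hval : x *ᵥ e = (0 + l * j) *ᵥ e := by rw [zero_add, ← Matrix.mulVec_mulVec, hje]; exact hle.symm
    refine ext_of_two hK hι he hw hx hlj hval (hh.ext_right fun u => ?_)
    obtain ⟨a, ha, b, hb, rfl⟩ := hdec u
    set z := 0 + l * j
    have hzs : Herm.Adj (polar Q) z (-z) := by
      have h := hh.adj_mul (hKs l hl) hskew
      rw [neg_mul, hjK l hl] at h
      simpa [z] using h
    rw [hh.add_left, hh.add_left, hkv x hx hxs b hb w, hkv z hlj hzs b hb w]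
    have key : ∀ y : Matrix ι ι F, Herm.Adj (polar Q) y (-y) → (∀ k ∈ K, y * k = k * y) →
        polar Q (a *ᵥ e) (y *ᵥ w) = -polar Q (a *ᵥ (y *ᵥ e)) w := fun y hys hy => by
      rw [Matrix.mulVec_mulVec, ← hy a ha, ← Matrix.mulVec_mulVec, hys, Matrix.neg_mulVec, hh.neg_right, neg_neg]
    rw [key x hxs hx, key z hzs hlj, hval]
  refine field_of_mover hK hι hHK hh hKs hjK (fun v hv hmem => ?_) hskew ⟨0, zero_mem K, -1, neg_mem (one_mem K),
    by rw [zero_add, neg_mul, one_mul]⟩ (fun g hg => ?_)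
  · obtain ⟨l, hl, hlv⟩ := mem_kLine.1 hmem
    by_cases hl0 : l = 0
    · -- `j` is injective
      rw [hl0, Matrix.zero_mulVec] at hlv
      obtain ⟨a, ha, b, hb, rfl⟩ := hdec v
      rw [hj a ha b hb] at hlv
      have hz := Submodule.disjoint_def.1 (disjoint_kLine hK hw) _
        (mem_kLine.2 ⟨_, mul_mem hb μ.2, rfl⟩) (by
          rw [eq_neg_of_add_eq_zero_left hlv.symm]
          exact neg_mem (mem_kLine.2 ⟨a, ha, rfl⟩))
      rw [hz, zero_add] at hlv
      have ha0 : a = 0 := by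
        by_contra h
        exact hw0 (field_kills hK ha h hlv.symm)
      rw [ha0, Matrix.zero_mulVec, zero_add] at hv
      have hb0 : b ≠ 0 := fun h => hv (by rw [h, Matrix.zero_mulVec])
      have hbμ : b * (μ : Matrix ι ι F) = 0 := by
        by_contra h
        exact he (field_kills hK (mul_mem hb μ.2) h hz)
      obtain ⟨y, hy, hby⟩ := hK.inv b hb hb0
      have hμ0 : (μ : Matrix ι ι F) = 0 := by
        calc (μ : Matrix ι ι F) = y * (b * (μ : Matrix ι ι F)) := by rw [← mul_assoc, ← hcomm hb hy, hby, one_mul]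
          _ = 0 := by rw [hbμ, mul_zero]
      obtain ⟨k, hk, hne⟩ := hline w hw0
      apply hne
      have h := hμ' (k * k) (mul_mem hk hk)
      rw [hμ0, Matrix.zero_mulVec, hh.zero_left, eq_comm, neg_eq_zero, ← hmm k hk k hk, quad_polar_self hQ] at h
      exact (mul_eq_zero.1 h).resolve_left h2
    · obtain ⟨k, hk, hne⟩ := hline v hv
      obtain ⟨y, hy, hly⟩ := hK.inv l hl hl0
      apply hne
      have h := hkv j hjK hskew (y * k * k) (mul_mem (mul_mem hy hk) hk) v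
      rw [← hlv, hmm _ (mul_mem (mul_mem hy hk) hk) l hl, show y * k * k * l = k * k by
        rw [mul_assoc y, mul_assoc, hcomm (mul_mem hk hk) hl, ← mul_assoc y, ← hcomm hl hy, hly, one_mul],
        ← hmm k hk k hk, quad_polar_self hQ] at h
      exact (mul_eq_zero.1 h).resolve_left h2
  · refine hskewK _ (hconjC g hg j hjK) fun u v => ?_
    rw [Matrix.neg_mulVec, hh.neg_right]
    simp only [conjHom_apply, ← Matrix.mulVec_mulVec]
    rw [polar_comm, hginv g hg, polar_comm, hskew, Matrix.neg_mulVec, hh.neg_right, hginv g hg]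

end CfsgLib.Geo.AschEven
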