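import Mathlib
import Cfsg.Prelude.Def_GeometricClasses
import Cfsg.Agent.Lib.Geo.AschEvenClasses
import Cfsg.Agent.Lib.Geo.AschFormRat
import Cfsg.Agent.Lib.Geo.AschFormResidual

/-! Rational structures of a quadratic form; a form rational over the subfield of index two has plus type. -/

set_option autoImplicit false
set_option linter.unusedSectionVars false

namespace CfsgLib.Geo.AschEven

open Cfsg Cfsg.Geo Matrix QuadraticMap CfsgLib.GeomClasses CfsgLib.Maximal.TensorTools CfsgLib.Geo.Asch
open scoped MatrixGroups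

variable {ι : Type} [Fintype ι] [DecidableEq ι] {F : Type*} [Field F] [Fintype F] {Q : (ι → F) → F}

/-- A spanning group of isometries realised over a subfield carries a multiple of the quadratic form there. -/
theorem exists_quad_rational [Nonempty ι] (hn2 : 2 ≤ Fintype.card ι) (hQ : IsNondegenerateQuadraticForm Q)
    {N : Subgroup (GL ι F)} (hspan : algOf N = ⊤)
    (hN : ∀ s ∈ N, ∀ v, Q ((s : Matrix ι ι F) *ᵥ v) = Q v) {F₁ : Subfield F} (P : GL ι F)
    (hrat : ∀ s ∈ N, ∀ i j, ((P⁻¹ * s * P : GL ι F) : Matrix ι ι F) i j ∈ F₁) :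
    ∃ ζ : F, ζ ≠ 0 ∧ IsQuadFormRationalStructure (fun v => ζ * Q v) F₁ P := by
  classical
  have hNf : FixesForm (matrixSet N) (polar Q) := by
    rintro _ ⟨g, hg, rfl⟩ u v
    simp only [QuadraticMap.polar, ← Matrix.mulVec_add, hN g hg]
  obtain ⟨ζ, hζ, hform⟩ := exists_form_rational_bilinear (herm_polar hQ) hspan hNf P hrat
  refine ⟨ζ, hζ, ?_⟩
  haveI : Fintype F₁ := Fintype.ofFinite _
  let θ : F ≃+* F := (FiniteField.frobeniusAlgEquivOfAlgebraic F₁ F).toRingEquiv
  have hθ : ∀ x, θ x = x ^ Nat.card F₁ := fun x => by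
    show FiniteField.frobeniusAlgEquivOfAlgebraic F₁ F x = _
    rw [FiniteField.coe_frobeniusAlgEquivOfAlgebraic, Nat.card_eq_fintype_card]
  have hθF : ∀ {x}, x ∈ F₁ → θ x = x := fun {x} hx => by
    have h2 := congrArg Subtype.val (FiniteField.pow_card (⟨x, hx⟩ : F₁))
    rw [SubmonoidClass.coe_pow] at h2
    rw [hθ, Nat.card_eq_fintype_card]
    exact h2
  have hθF' : ∀ {x}, θ x = x → x ∈ F₁ := fun {x} hx => mem_of_pow_card_eq (by rw [← hθ]; exact hx)
  by_cases h2 : (2 : F) = 0
  swap
  · intro u hu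
    have h := hform u u hu hu
    rw [quad_polar_self hQ] at h
    have h' := F₁.mul_mem (F₁.inv_mem (show (2 : F) ∈ F₁ by
      rw [← one_add_one_eq_two]; exact F₁.add_mem F₁.one_mem F₁.one_mem)) h
    have he : (2 : F)⁻¹ * (ζ * (2 * Q ((P : Matrix ι ι F) *ᵥ u))) = ζ * Q ((P : Matrix ι ι F) *ᵥ u) := by
      field_simp
    rwa [he] at h'
  -- the twisted form agrees
  let R : (ι → F) → F := fun u => ζ * Q ((P : Matrix ι ι F) *ᵥ u)
  let tw : (ι → F) → ι → F := fun u k => θ.symm (u k)
  have htw : ∀ u v, tw (u + v) = tw u + tw v := fun u v => funext fun k => by simp [tw]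
  have hRadd : ∀ u v, R (u + v) = R u + R v + ζ * polar Q ((P : Matrix ι ι F) *ᵥ u) ((P : Matrix ι ι F) *ᵥ v) :=
    fun u v => by simp only [R, Matrix.mulVec_add, QuadraticMap.polar]; ring
  have hRsm : ∀ (c : F) u, R (c • u) = c ^ 2 * R u := fun c u => by
    simp only [R, Matrix.mulVec_smul, hQ.smul]; ring
  let B : (ι → F) → (ι → F) → F := fun u v => ζ * polar Q ((P : Matrix ι ι F) *ᵥ u) ((P : Matrix ι ι F) *ᵥ v)
  have hs := polar_isSesq hQ
  have hB : ∀ u v, θ (B (tw u) (tw v)) = B u v := by
    intro u v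
    have hexp : ∀ x y : ι → F, B x y = ∑ i, ∑ j, x i * y j * B (Pi.single i 1) (Pi.single j 1) := by
      intro x y
      simp only [B]
      conv_lhs => rw [pi_eq_sum_univ' x, pi_eq_sum_univ' y]
      simp only [Matrix.mulVec_sum, Matrix.mulVec_smul, hs.sum_left, hs.smul_left, Finset.mul_sum]
      refine Finset.sum_congr rfl fun i _ => ?_
      rw [hs.sum_right, Finset.mul_sum, Finset.mul_sum]
      refine Finset.sum_congr rfl fun j _ => ?_
      rw [hs.smul_right, RingHom.id_apply]
      ring
    have hsing : ∀ a b : ι, (Pi.single a (1 : F) : ι → F) b ∈ F₁ := fun a b => by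
      by_cases h : b = a <;> simp [h, F₁.one_mem, F₁.zero_mem]
    rw [hexp (tw u), hexp u v, map_sum]
    refine Finset.sum_congr rfl fun i _ => ?_
    rw [map_sum]
    refine Finset.sum_congr rfl fun j _ => ?_
    rw [map_mul, map_mul, hθF (hform _ _ (hsing i) (hsing j))]
    simp only [tw, RingEquiv.apply_symm_apply]
    rfl
  let D : (ι → F) → F := fun v =>
    θ (R (tw (((P⁻¹ : GL ι F) : Matrix ι ι F) *ᵥ v))) - R (((P⁻¹ : GL ι F) : Matrix ι ι F) *ᵥ v)
  have hD : ∀ v, D v = 0 := by
    refine quadratic_defect_eq_zero hn2 h2 (irreducible_of_algOf_eq_top hspan) D (fun u v => ?_) (fun c v => ?_)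
      (fun s hsN v => ?_)
    · simp only [D, Matrix.mulVec_add, htw, hRadd, map_add]
      have := hB (((P⁻¹ : GL ι F) : Matrix ι ι F) *ᵥ u) (((P⁻¹ : GL ι F) : Matrix ι ι F) *ᵥ v)
      simp only [B] at this
      rw [this]
      ring
    · have h : tw (c • (((P⁻¹ : GL ι F) : Matrix ι ι F) *ᵥ v)) = θ.symm c • tw (((P⁻¹ : GL ι F) : Matrix ι ι F) *ᵥ v) :=
        funext fun k => by simp [tw]
      simp only [D, Matrix.mulVec_smul, h, hRsm, map_mul, map_pow, RingEquiv.apply_symm_apply]
      ring
    · set M : Matrix ι ι F := ((P⁻¹ * s * P : GL ι F) : Matrix ι ι F) with hM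
      have h1 : ((P⁻¹ : GL ι F) : Matrix ι ι F) *ᵥ ((s : Matrix ι ι F) *ᵥ v) =
          M *ᵥ (((P⁻¹ : GL ι F) : Matrix ι ι F) *ᵥ v) := by
        rw [hM, Units.val_mul, Units.val_mul, ← Matrix.mulVec_mulVec, ← Matrix.mulVec_mulVec, gl_mulVec_inv_mulVec]
      have h3 : ∀ u, tw (M *ᵥ u) = M *ᵥ tw u := fun u => funext fun k => by
        simp only [tw, Matrix.mulVec, dotProduct, map_sum, map_mul]
        refine Finset.sum_congr rfl fun l _ => ?_
        rw [(RingEquiv.symm_apply_eq θ).2 (hθF (hrat s hsN k l)).symm]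
      have h4 : ∀ u, R (M *ᵥ u) = R u := fun u => by
        simp only [R]
        rw [hM, Units.val_mul, Units.val_mul, ← Matrix.mulVec_mulVec, ← Matrix.mulVec_mulVec, gl_mulVec_inv_mulVec,
          hN s hsN]
      simp only [D, h1, h3, h4]
  intro u hu
  refine hθF' ?_
  have h := hD ((P : Matrix ι ι F) *ᵥ u)
  simp only [D, gl_inv_mulVec_mulVec, sub_eq_zero] at h
  have h5 : tw u = u := funext fun k => (RingEquiv.symm_apply_eq θ).2 (hθF (hu k)).symm
  rwa [h5] at h

/-- A form rational over a subfield of index two has plus type. -/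
theorem plus_of_index_two (hQ : IsNondegenerateQuadraticForm Q) {k : ℕ} (hι : Fintype.card ι = 2 * k)
    {F₁ : Subfield F} (hF : Fintype.card F = Nat.card F₁ ^ 2) (P : GL ι F) {ζ : F} (hζ : ζ ≠ 0)
    (hrat : IsQuadFormRationalStructure (fun v => ζ * Q v) F₁ P) : IsPlusTypeOn Q ⊤ := by
  classical
  haveI : Fintype F₁ := Fintype.ofFinite _
  have hs := polar_isSesq hQ
  let inc : (ι → F₁) → ι → F := fun u i => (u i : F)
  let R : QuadraticForm F₁ (ι → F₁) := QuadraticMap.ofPolar
    (fun u => (⟨ζ * Q ((P : Matrix ι ι F) *ᵥ inc u), hrat _ fun i => (u i).2⟩ : F₁))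
    (fun a u => Subtype.ext (by
      show ζ * Q _ = ((a * a : F₁) : F) * _
      have : inc (a • u) = (a : F) • inc u := rfl
      rw [this, Matrix.mulVec_smul, hQ.smul, Subfield.coe_mul]
      ring))
    (fun u u' v => Subtype.ext (by
      have e : ∀ x y : ι → F₁, inc (x + y) = inc x + inc y := fun x y => rfl
      simp only [QuadraticMap.polar, Subfield.coe_sub, Subfield.coe_add, e, Matrix.mulVec_add]
      have h := hs.add_left ((P : Matrix ι ι F) *ᵥ inc u) ((P : Matrix ι ι F) *ᵥ inc u') ((P : Matrix ι ι F) *ᵥ inc v)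
      simp only [QuadraticMap.polar] at h
      linear_combination ζ * h))
    (fun a u v => Subtype.ext (by
      have e : ∀ x y : ι → F₁, inc (x + y) = inc x + inc y := fun x y => rfl
      have e' : inc (a • u) = (a : F) • inc u := rfl
      simp only [QuadraticMap.polar, Subfield.coe_sub, smul_eq_mul, Subfield.coe_mul, e, e', Matrix.mulVec_add,
        Matrix.mulVec_smul]
      have h := hs.smul_left (a : F) ((P : Matrix ι ι F) *ᵥ inc u) ((P : Matrix ι ι F) *ᵥ inc v)
      simp only [QuadraticMap.polar] at h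
      linear_combination ζ * h))
  have hR : ∀ u, ((R u : F₁) : F) = ζ * Q ((P : Matrix ι ι F) *ᵥ inc u) := fun u => rfl
  have hRpol : ∀ u v, ((polar R u v : F₁) : F) =
      ζ * polar Q ((P : Matrix ι ι F) *ᵥ inc u) ((P : Matrix ι ι F) *ᵥ inc v) := fun u v => by
    have e : inc (u + v) = inc u + inc v := rfl
    simp only [QuadraticMap.polar, Subfield.coe_sub, hR, e, Matrix.mulVec_add]
    ring
  have hsingle : ∀ i, inc (Pi.single i 1) = Pi.single i 1 := fun i => funext fun j => by
    by_cases h : j = i <;> simp [inc, h]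
  have hnd : R.polarBilin.Nondegenerate := by
    have key : ∀ u, (∀ v, polar R u v = 0) → u = 0 := by
      intro u hu
      by_contra h0
      have h1 : (P : Matrix ι ι F) *ᵥ inc u ≠ 0 := gl_mulVec_ne_zero P fun h => h0 (funext fun i =>
        Subtype.ext (by simpa [inc] using congrFun h i))
      obtain ⟨-, y, hy⟩ := hQ.nondegenerate _ h1
      apply hy
      obtain ⟨z, rfl⟩ : ∃ z, (P : Matrix ι ι F) *ᵥ z = y := ⟨_, gl_mulVec_inv_mulVec P y⟩
      rw [pi_eq_sum_univ' z, Matrix.mulVec_sum, hs.sum_right]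
      refine Finset.sum_eq_zero fun i _ => ?_
      rw [Matrix.mulVec_smul, hs.smul_right, ← hsingle i]
      have h3 := hRpol u (Pi.single i 1)
      rw [hu, Subfield.coe_zero, eq_comm, mul_eq_zero] at h3
      rw [h3.resolve_left hζ, mul_zero]
    exact ⟨fun u hu => key u fun v => hu v, fun v hv => key v fun u => by rw [polar_comm]; exact hv u⟩
  -- independence over the larger field
  let M : ∀ (κ : Type) [Fintype κ] [DecidableEq κ], ((κ → F₁) ≃ₗ[F₁] (ι → F₁)) → κ → (ι → F) :=
    fun κ _ _ e j => (P : Matrix ι ι F) *ᵥ inc (e (Pi.single j 1))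
  have hMli : ∀ (κ : Type) [Fintype κ] [DecidableEq κ] (e : (κ → F₁) ≃ₗ[F₁] (ι → F₁)), LinearIndependent F (M κ e) := by
    intro κ _ _ e
    have hcard : Fintype.card κ = Fintype.card ι := by
      have := e.finrank_eq
      simpa using this
    refine linearIndependent_of_top_le_span_of_card_eq_finrank ?_
      (by rw [hcard, Module.finrank_fintype_fun_eq_card])
    intro y _
    obtain ⟨z, rfl⟩ : ∃ z, (P : Matrix ι ι F) *ᵥ z = y := ⟨_, gl_mulVec_inv_mulVec P y⟩
    rw [pi_eq_sum_univ' z, Matrix.mulVec_sum]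
    refine sum_mem fun i _ => ?_
    rw [Matrix.mulVec_smul]
    refine Submodule.smul_mem _ _ ?_
    have hi : Pi.single i (1 : F) = ∑ j, ((e.symm (Pi.single i 1) j : F₁) : F) • inc (e (Pi.single j 1)) := by
      have h := congrArg e (pi_eq_sum_univ' (e.symm (Pi.single i 1)))
      rw [e.apply_symm_apply, map_sum] at h
      simp only [map_smul] at h
      rw [← hsingle i]
      conv_lhs => rw [h]
      funext l
      simp [inc, Finset.sum_apply]
    rw [hi, Matrix.mulVec_sum]
    refine sum_mem fun j _ => ?_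
    rw [Matrix.mulVec_smul]
    exact Submodule.smul_mem _ _ (Submodule.subset_span ⟨j, rfl⟩)
  have hval : ∀ (κ : Type) [Fintype κ] [DecidableEq κ] (e : (κ → F₁) ≃ₗ[F₁] (ι → F₁)) (i : κ),
      ζ * Q (M κ e i) = ((R (e (Pi.single i 1)) : F₁) : F) := fun κ _ _ e i => (hR _).symm
  have hvalp : ∀ (κ : Type) [Fintype κ] [DecidableEq κ] (e : (κ → F₁) ≃ₗ[F₁] (ι → F₁)) (i j : κ),
      ζ * polar Q (M κ e i) (M κ e j) = ((polar R (e (Pi.single i 1)) (e (Pi.single j 1)) : F₁) : F) :=
    fun κ _ _ e i j => (hRpol _ _).symm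
  have hts : ∀ (κ : Type) [Fintype κ] (w : κ → ι → F), LinearIndependent F w → Fintype.card κ = k →
      (∀ i, Q (w i) = 0) → (∀ i j, i ≠ j → polar Q (w i) (w j) = 0) → IsPlusTypeOn Q ⊤ := by
    intro κ _ w hli hc h0 h1
    classical
    refine ⟨Submodule.span F (Set.range w), le_top, fun x hx => ?_, ?_⟩
    · obtain ⟨c, rfl⟩ := (Submodule.mem_span_range_iff_exists_fun F).1 hx
      have key : ∀ s : Finset κ, Q (∑ i ∈ s, c i • w i) = 0 := by
        intro s
        induction s using Finset.induction_on with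
        | empty => simpa using hQ.smul 0 0
        | insert a s ha ih =>
          rw [Finset.sum_insert ha]
          have h : polar Q (c a • w a) (∑ i ∈ s, c i • w i) = 0 := by
            rw [hs.sum_right]
            refine Finset.sum_eq_zero fun i hi => ?_
            rw [hs.smul_left, hs.smul_right, h1 a i (fun e => ha (e ▸ hi)), mul_zero, mul_zero]
          rw [QuadraticMap.polar, ih, hQ.smul, h0, mul_zero] at h
          linear_combination h
      exact key _
    · rw [finrank_span_eq_card hli, finrank_top, Module.finrank_fintype_fun_eq_card, hc, hι]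
  rcases CfsgLib.QuadType.classify R hnd hι with ⟨e, he⟩ | ⟨hk, a, b, hab, e, he⟩
  · refine hts (Fin k) (fun i => M _ e (Sum.inl i)) ((hMli _ e).comp _ Sum.inl_injective) (Fintype.card_fin k)
      (fun i => ?_) (fun i j hij => ?_)
    · have h := hval _ e (Sum.inl i)
      rw [he] at h
      simp [Cfsg.quadFormPlus] at h
      exact h.resolve_left hζ
    · have h := hvalp _ e (Sum.inl i) (Sum.inl j)
      simp only [QuadraticMap.polar, ← map_add, he] at h
      simp [Cfsg.quadFormPlus] at h
      exact h.resolve_left hζ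
  -- the anisotropic plane splits over the quadratic extension
  obtain ⟨t, ht⟩ : ∃ t : F, t ^ 2 + (a : F) * t + (b : F) = 0 := by
    let p : Polynomial F₁ := Polynomial.X ^ 2 + Polynomial.C a * Polynomial.X + Polynomial.C b
    have hpd : p.natDegree = 2 := by simp only [p]; compute_degree!
    have hirr : Irreducible p := by
      refine (Polynomial.irreducible_iff_roots_eq_zero_of_degree_le_three (by omega) (by omega)).2 ?_
      refine Multiset.eq_zero_of_forall_notMem fun x hx => ?_
      have hx' := (Polynomial.mem_roots'.1 hx).2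
      simp [p, Polynomial.IsRoot] at hx'
      exact one_ne_zero (hab x 1 (by linear_combination hx')).2
    haveI := Fact.mk hirr
    have hfr : Module.finrank F₁ F = 2 := by
      have h := Module.natCard_eq_pow_finrank (K := F₁) (V := F)
      rw [Nat.card_eq_fintype_card, hF] at h
      exact (Nat.pow_right_injective Finite.one_lt_card h).symm
    have hA : Module.finrank F₁ (AdjoinRoot p) = 2 := by
      rw [PowerBasis.finrank (AdjoinRoot.powerBasis hirr.ne_zero), AdjoinRoot.powerBasis_dim, hpd]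
    obtain ⟨φ⟩ := FiniteField.nonempty_algHom_of_finrank_dvd (F := F₁) (K := AdjoinRoot p) (L := F)
      (by rw [hA, hfr])
    refine ⟨φ (AdjoinRoot.root p), ?_⟩
    have h := congrArg φ (AdjoinRoot.eval₂_root p)
    rw [map_zero] at h
    simp [p] at h
    rw [← AdjoinRoot.algebraMap_eq, φ.commutes, φ.commutes] at h
    exact h
  let κ := CfsgLib.QuadType.MI (k - 1)
  let w : Fin (k - 1) ⊕ Unit → ι → F := Sum.elim (fun i => M κ e (Sum.inl (Sum.inl i)))
    (fun _ => t • M κ e (Sum.inr 0) + M κ e (Sum.inr 1))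
  have hw : LinearIndependent F w := by
    rw [Fintype.linearIndependent_iff]
    intro c hc
    let c' : κ → F := Sum.elim (Sum.elim (fun i => c (Sum.inl i)) 0) ![c (Sum.inr ()) * t, c (Sum.inr ())]
    have h := Fintype.linearIndependent_iff.1 (hMli κ e) c' (by
      rw [← hc]
      simp [c', w, κ, Fintype.sum_sum_type, Fin.sum_univ_two, smul_smul, smul_add, add_assoc])
    rintro (i | u)
    · exact h (Sum.inl (Sum.inl i))
    · exact h (Sum.inr 1)
  refine hts _ w hw (by simp; omega) (fun i => ?_) (fun i j hij => ?_)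
  · rcases i with i | u
    · have h := hval _ e (Sum.inl (Sum.inl i))
      rw [he] at h
      simp [Cfsg.quadFormMinus] at h
      exact h.resolve_left hζ
    · have h0 := hval _ e (Sum.inr 0)
      have h1 := hval _ e (Sum.inr 1)
      have h2 := hvalp _ e (Sum.inr 0) (Sum.inr 1)
      simp only [QuadraticMap.polar, ← map_add, he] at h0 h1 h2
      simp [Cfsg.quadFormMinus] at h0 h1 h2
      show Q (t • M κ e (Sum.inr 0) + M κ e (Sum.inr 1)) = 0
      have h3 : Q (t • M κ e (Sum.inr 0) + M κ e (Sum.inr 1)) =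
          t ^ 2 * Q (M κ e (Sum.inr 0)) + Q (M κ e (Sum.inr 1)) +
            t * polar Q (M κ e (Sum.inr 0)) (M κ e (Sum.inr 1)) := by
        rw [← hs.smul_left, ← hQ.smul, QuadraticMap.polar]; ring
      apply mul_left_cancel₀ hζ
      rw [h3, mul_zero]
      simp only [QuadraticMap.polar]
      linear_combination ht + t ^ 2 * h0 + h1 + t * h2
  · have hmm : ∀ i : Fin (k - 1), ∀ x : κ, x ≠ Sum.inl (Sum.inr i) → x ≠ Sum.inl (Sum.inl i) →
        polar Q (M κ e (Sum.inl (Sum.inl i))) (M κ e x) = 0 := by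
      intro i x hx hx'
      have h := hvalp _ e (Sum.inl (Sum.inl i)) x
      simp only [QuadraticMap.polar, ← map_add, he] at h
      rcases x with (x | x) | x
      · simp [Cfsg.quadFormMinus] at h
        exact h.resolve_left hζ
      · have : i ≠ x := fun e' => hx (by rw [e'])
        simp [Cfsg.quadFormMinus, this, Ne.symm this, Pi.single_apply] at h
        exact h.resolve_left hζ
      · simp [Cfsg.quadFormMinus] at h
        exact h.resolve_left hζ
    have hl : ∀ i : Fin (k - 1), polar Q (M κ e (Sum.inl (Sum.inl i)))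
        (t • M κ e (Sum.inr 0) + M κ e (Sum.inr 1)) = 0 := fun i => by
      rw [hs.add_right, hs.smul_right, hmm i _ (by simp) (by simp), hmm i _ (by simp) (by simp)]
      simp
    rcases i with i | u <;> rcases j with j | u'
    · exact hmm i _ (fun h => nomatch Sum.inl_injective h) (fun h => hij (congrArg Sum.inl (Sum.inl_injective (Sum.inl_injective h)).symm))
    · exact hl i
    · show polar Q _ _ = 0
      rw [polar_comm]; exact hl j
    · exact absurd rfl hij

end CfsgLib.Geo.AschEven
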