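import Mathlib
import Cfsg.Prelude.Def_GeometricClasses
import Cfsg.Agent.Lib.Geo.AschOrthProper
import Cfsg.Agent.Lib.Geo.AschPrimeIrred
import Cfsg.Agent.Lib.Geo.AschGroup

/-! The structure theorem for maximal subgroups of Ω_n, n a prime at least 7. -/

set_option autoImplicit false

namespace CfsgLib.Geo.Asch

open Cfsg Cfsg.Geo Matrix QuadraticMap CfsgLib.GeomClasses CfsgLib.Maximal.TensorTools
open scoped MatrixGroups

variable {ι : Type} [Fintype ι] [DecidableEq ι] {F : Type*} [Field F] {Q : (ι → F) → F}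

theorem polar_expand (hQ : IsNondegenerateQuadraticForm Q) (u v : ι → F) :
    polar Q u v = ∑ i, ∑ j, u i * v j * polar Q (Pi.single i 1) (Pi.single j 1) := by
  have hs := polar_isSesq hQ
  conv_lhs => rw [pi_eq_sum_univ' u, pi_eq_sum_univ' v]
  simp only [hs.sum_left, hs.smul_left]
  refine Finset.sum_congr rfl fun i _ => ?_
  rw [hs.sum_right, Finset.mul_sum]
  refine Finset.sum_congr rfl fun j _ => ?_
  rw [hs.smul_right, RingHom.id_apply, mul_assoc]

theorem gram_conj (hQ : IsNondegenerateQuadraticForm Q) (M : Matrix ι ι F) (a b : ι) :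
    (Mᵀ * gramMatrix (polar Q) * M) a b = polar Q (M *ᵥ Pi.single a 1) (M *ᵥ Pi.single b 1) := by
  rw [polar_expand hQ, Matrix.mul_assoc]
  simp only [Matrix.mul_apply, Matrix.transpose_apply, Finset.mul_sum, Matrix.mulVec_single_one, Matrix.col_apply]
  exact Finset.sum_congr rfl fun i _ => Finset.sum_congr rfl fun j _ => by
    rw [show gramMatrix (polar Q) i j = polar Q (Pi.single i 1) (Pi.single j 1) from rfl]; ring

theorem mem_subfieldSubgroup_of_entries {F₁ : Subfield F} {g P : GL ι F}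
    (h : ∀ i j, ((P⁻¹ * g * P : GL ι F) : Matrix ι ι F) i j ∈ F₁) : g ∈ subfieldSubgroup F₁ P := by
  obtain ⟨X, hX⟩ := rat_range_mem_iff.1 h
  have hdet : X.det ≠ 0 := fun h0 => by
    have h1 := congrArg Matrix.det hX
    rw [← RingHom.map_det, h0, map_zero] at h1
    exact (Matrix.GeneralLinearGroup.det (P⁻¹ * g * P)).ne_zero h1.symm
  refine ⟨P⁻¹ * g * P, Subgroup.mem_sup_left ⟨Matrix.GeneralLinearGroup.mkOfDetNeZero X hdet, Units.ext hX⟩, ?_⟩
  show P * (P⁻¹ * g * P) * P⁻¹ = g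
  group

/-- A finite field of non-prime order has a subfield of prime index. -/
theorem exists_prime_index [Fintype F] (h : ¬ (Fintype.card F).Prime) :
    ∃ (F₁ : Subfield F) (r : ℕ), r.Prime ∧ Fintype.card F = Nat.card F₁ ^ r := by
  classical
  obtain ⟨p, hchar⟩ := CharP.exists F
  haveI := hchar
  obtain ⟨⟨e, he⟩, hpp, hqe⟩ := FiniteField.card F p
  simp only [PNat.mk_coe] at hqe
  haveI := Fact.mk hpp
  let F₀ : Subfield F := RingHom.eqLocusField (frobenius F p) (RingHom.id F)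
  haveI : FiniteDimensional F₀ F := Module.Finite.of_finite
  haveI : IsGalois F₀ F := GaloisField.instIsGaloisOfFinite
  have hk : 1 < Module.finrank F₀ F := by
    by_contra hle
    have h1 : Module.finrank F₀ F = 1 := by
      have := Module.finrank_pos (R := F₀) (M := F); omega
    have hall : ∀ x : F, x ^ p = x := by
      intro x
      obtain ⟨⟨c, hc⟩, hcx⟩ := (finrank_eq_one_iff_of_nonzero' (1 : F) one_ne_zero).1 h1 x
      have hcx' : c * 1 = x := hcx
      rw [mul_one] at hcx'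
      exact hcx' ▸ hc
    have hXne := FiniteField.X_pow_card_sub_X_ne_zero F hpp.one_lt
    have hroots : (Finset.univ : Finset F) ⊆ (Polynomial.X ^ p - Polynomial.X : Polynomial F).roots.toFinset := by
      intro x _
      simp [Multiset.mem_toFinset, Polynomial.mem_roots hXne, Polynomial.IsRoot, hall x]
    have h2 := (Finset.card_le_card hroots).trans ((Multiset.toFinset_card_le _).trans (Polynomial.card_roots' _))
    rw [Finset.card_univ, hqe, FiniteField.X_pow_card_sub_X_natDegree_eq F hpp.one_lt] at h2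
    have he1 : e = 1 := by
      by_contra hne
      have := Nat.pow_lt_pow_right hpp.one_lt (show 1 < e by omega)
      rw [pow_one] at this
      omega
    exact h (by rwa [hqe, he1, pow_one])
  set r := Nat.minFac (Module.finrank F₀ F) with hr
  have hp : r.Prime := Nat.minFac_prime (by omega)
  haveI : Fact r.Prime := ⟨hp⟩
  obtain ⟨σ, hσ⟩ := exists_prime_orderOf_dvd_card' (G := F ≃ₐ[F₀] F) r
    (by rw [IsGalois.card_aut_eq_finrank]; exact Nat.minFac_dvd _)
  set E : IntermediateField F₀ F := IntermediateField.fixedField (Subgroup.zpowers σ) with hE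
  have hEr : Module.finrank E F = r := by
    rw [hE, IntermediateField.finrank_fixedField_eq_card, Nat.card_zpowers, hσ]
  refine ⟨E.toSubfield, r, hp, ?_⟩
  rw [← Nat.card_eq_fintype_card, Module.natCard_eq_pow_finrank (K := E) (V := F), hEr]
  rfl

/-- An irreducible group of isometries in odd degree cannot be abelian, unless scalar. -/
theorem abelian_irreducible_false [Nonempty ι] (hQ : IsNondegenerateQuadraticForm Q) (hodd : Odd (Fintype.card ι))
    (h2 : (2 : F) ≠ 0) {N : Subgroup (GL ι F)}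
    (hN : ∀ g ∈ N, ∀ u v, polar Q ((g : Matrix ι ι F) *ᵥ u) ((g : Matrix ι ι F) *ᵥ v) = polar Q u v)
    (hab : ∀ x ∈ N, ∀ y ∈ N, x * y = y * x) (hirr : ActsIrreducibly (matrixSet N)) : N ≤ scalars ι F := by
  have hK := isFieldSubalgebra_algOf hirr hab
  have hs := polar_isSesq hQ
  let K := algOf N
  let Kp : Submodule F (Matrix ι ι F) :=
    { carrier := {k | k ∈ K ∧ ∀ u v, polar Q (k *ᵥ u) v = polar Q u (k *ᵥ v)}
      add_mem' := fun {a b} ha hb => ⟨add_mem ha.1 hb.1, fun u v => by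
        rw [Matrix.add_mulVec, Matrix.add_mulVec, hs.add_left, hs.add_right, ha.2, hb.2]⟩
      zero_mem' := ⟨zero_mem _, fun u v => by rw [Matrix.zero_mulVec, Matrix.zero_mulVec, hs.zero_left, hs.zero_right]⟩
      smul_mem' := fun c a ha => ⟨K.smul_mem ha.1 c, fun u v => by
        rw [Matrix.smul_mulVec, Matrix.smul_mulVec, hs.smul_left, hs.smul_right, ha.2, RingHom.id_apply]⟩ }
  let Km : Submodule F (Matrix ι ι F) :=
    { carrier := {k | k ∈ K ∧ ∀ u v, polar Q (k *ᵥ u) v = - polar Q u (k *ᵥ v)}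
      add_mem' := fun {a b} ha hb => ⟨add_mem ha.1 hb.1, fun u v => by
        rw [Matrix.add_mulVec, Matrix.add_mulVec, hs.add_left, hs.add_right, ha.2, hb.2]; ring⟩
      zero_mem' := ⟨zero_mem _, fun u v => by
        rw [Matrix.zero_mulVec, Matrix.zero_mulVec, hs.zero_left, hs.zero_right, neg_zero]⟩
      smul_mem' := fun c a ha => ⟨K.smul_mem ha.1 c, fun u v => by
        rw [Matrix.smul_mulVec, Matrix.smul_mulVec, hs.smul_left, hs.smul_right, ha.2, RingHom.id_apply]; ring⟩ }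
  have hcomm : ∀ {a b : Matrix ι ι F}, a ∈ K → b ∈ K → a * b = b * a := fun {a b} ha hb => hK.comm a ha b hb
  have hpp : ∀ {a b}, a ∈ Kp → b ∈ Kp → a * b ∈ Kp := fun {a b} ha hb => ⟨mul_mem ha.1 hb.1, fun u v => by
    conv_rhs => rw [hcomm ha.1 hb.1]
    rw [← Matrix.mulVec_mulVec, ha.2, hb.2, Matrix.mulVec_mulVec]⟩
  have hmm : ∀ {a b}, a ∈ Km → b ∈ Km → a * b ∈ Kp := fun {a b} ha hb => ⟨mul_mem ha.1 hb.1, fun u v => by
    conv_rhs => rw [hcomm ha.1 hb.1]
    rw [← Matrix.mulVec_mulVec, ha.2, hb.2, Matrix.mulVec_mulVec, neg_neg]⟩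
  have hpm : ∀ {a b}, a ∈ Kp → b ∈ Km → a * b ∈ Km := fun {a b} ha hb => ⟨mul_mem ha.1 hb.1, fun u v => by
    conv_rhs => rw [hcomm ha.1 hb.1]
    rw [← Matrix.mulVec_mulVec, ha.2, hb.2, Matrix.mulVec_mulVec]⟩
  have hmp : ∀ {a b}, a ∈ Km → b ∈ Kp → a * b ∈ Km := fun {a b} ha hb => by
    rw [hcomm ha.1 hb.1]; exact hpm hb ha
  have hadj : ∀ g ∈ N, ∀ u v,
      polar Q ((g : Matrix ι ι F) *ᵥ u) v = polar Q u (((g⁻¹ : GL ι F) : Matrix ι ι F) *ᵥ v) := fun g hg u v => by
    conv_lhs => rw [← gl_mulVec_inv_mulVec g v]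
    exact hN g hg u _
  have hskewN : ∀ g ∈ N, (g : Matrix ι ι F) - ((g⁻¹ : GL ι F) : Matrix ι ι F) ∈ Km := by
    intro g hg
    refine ⟨sub_mem (mem_algOf hg) (mem_algOf (N.inv_mem hg)), fun u v => ?_⟩
    have h1 := hadj g hg u v
    have h2' := hadj g⁻¹ (N.inv_mem hg) u v
    rw [inv_inv] at h2'
    simp only [sub_eq_add_neg, Matrix.add_mulVec, Matrix.neg_mulVec]
    rw [← neg_one_smul F (_ *ᵥ u), ← neg_one_smul F (((g⁻¹ : GL ι F) : Matrix ι ι F) *ᵥ v), hs.add_left,
      hs.add_right, hs.smul_left, hs.smul_right, h1, h2', RingHom.id_apply]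
    ring
  have hsymN : ∀ g ∈ N, (g : Matrix ι ι F) + ((g⁻¹ : GL ι F) : Matrix ι ι F) ∈ Kp := by
    intro g hg
    refine ⟨add_mem (mem_algOf hg) (mem_algOf (N.inv_mem hg)), fun u v => ?_⟩
    have h1 := hadj g hg u v
    have h2' := hadj g⁻¹ (N.inv_mem hg) u v
    rw [inv_inv] at h2'
    rw [Matrix.add_mulVec, Matrix.add_mulVec, hs.add_left, hs.add_right, h1, h2']
    ring
  have hsup : Kp ⊔ Km = K.toSubmodule := by
    refine le_antisymm (sup_le (fun k hk => hk.1) fun k hk => hk.1) fun k hk => ?_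
    induction hk using Algebra.adjoin_induction with
    | mem s hs' =>
      obtain ⟨g, hg, rfl⟩ := hs'
      show (g : Matrix ι ι F) ∈ Kp ⊔ Km
      rw [show (g : Matrix ι ι F) = (2 : F)⁻¹ • ((g : Matrix ι ι F) + ((g⁻¹ : GL ι F) : Matrix ι ι F)) +
        (2 : F)⁻¹ • ((g : Matrix ι ι F) - ((g⁻¹ : GL ι F) : Matrix ι ι F)) by
        match_scalars <;> field_simp <;> ring]
      exact add_mem (Submodule.mem_sup_left (Kp.smul_mem _ (hsymN g hg)))
        (Submodule.mem_sup_right (Km.smul_mem _ (hskewN g hg)))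
    | algebraMap a =>
      refine Submodule.mem_sup_left ⟨Subalgebra.algebraMap_mem _ a, fun u v => ?_⟩
      rw [Algebra.algebraMap_eq_smul_one, Matrix.smul_mulVec, Matrix.smul_mulVec, Matrix.one_mulVec,
        Matrix.one_mulVec, hs.smul_left, hs.smul_right, RingHom.id_apply]
    | add x y _ _ hx hy => exact add_mem hx hy
    | mul x y _ _ hx hy =>
      obtain ⟨a, ha, b, hb, rfl⟩ := Submodule.mem_sup.1 hx
      obtain ⟨c, hc, d, hd, rfl⟩ := Submodule.mem_sup.1 hy
      rw [show (a + b) * (c + d) = (a * c + b * d) + (a * d + b * c) by noncomm_ring]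
      exact add_mem (Submodule.mem_sup_left (add_mem (hpp ha hc) (hmm hb hd)))
        (Submodule.mem_sup_right (add_mem (hpm ha hd) (hmp hb hc)))
  have hinf : Kp ⊓ Km = ⊥ := by
    rw [eq_bot_iff]
    rintro k ⟨hp, hm⟩
    refine Matrix.ext_of_mulVec_single fun i => ?_
    rw [Matrix.zero_mulVec]
    by_contra hne
    obtain ⟨-, y, hy⟩ := hQ.nondegenerate _ hne
    have h3 : (2 : F) * polar Q (k *ᵥ Pi.single i 1) y = 0 := by
      linear_combination hp.2 (Pi.single i 1) y + hm.2 (Pi.single i 1) y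
    exact hy ((mul_eq_zero.1 h3).resolve_left h2)
  have hKm : Km = ⊥ := by
    by_contra hne
    obtain ⟨j, hj, hj0⟩ := Submodule.exists_mem_ne_zero_of_ne_bot hne
    obtain ⟨y, hy, hjy⟩ := hK.inv j hj.1 hj0
    have hinj : Function.Injective (fun a : Matrix ι ι F => j * a) := fun a b hab' => by
      have := congrArg (fun z => y * z) hab'
      simpa [← mul_assoc, ← hcomm hj.1 hy, hjy] using this
    let L1 : Kp →ₗ[F] Km :=
      LinearMap.codRestrict Km ((LinearMap.mulLeft F j).comp Kp.subtype) fun a => hmp hj a.2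
    let L2 : Km →ₗ[F] Kp :=
      LinearMap.codRestrict Kp ((LinearMap.mulLeft F j).comp Km.subtype) fun a => hmm hj a.2
    have e1 := LinearMap.finrank_le_finrank_of_injective (f := L1) fun a b h =>
      Subtype.ext (hinj (congrArg Subtype.val h))
    have e2 := LinearMap.finrank_le_finrank_of_injective (f := L2) fun a b h =>
      Subtype.ext (hinj (congrArg Subtype.val h))
    have e3 := Submodule.finrank_sup_add_finrank_inf_eq Kp Km
    rw [hsup, hinf, finrank_bot, show Module.finrank F (K.toSubmodule : Submodule F (Matrix ι ι F)) = _ from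
      hK.finrank_eq] at e3
    obtain ⟨k, hk⟩ := hodd
    omega
  intro g hg
  have h3 : (g : Matrix ι ι F) - ((g⁻¹ : GL ι F) : Matrix ι ι F) = 0 := (Submodule.eq_bot_iff _).1 hKm _ (hskewN g hg)
  have h4 : ((g : Matrix ι ι F) - 1) * ((g : Matrix ι ι F) + 1) = 0 := by
    have h5 : (g : Matrix ι ι F) * (g : Matrix ι ι F) = 1 := by
      conv_lhs => arg 2; rw [sub_eq_zero.1 h3]
      rw [← Units.val_mul, mul_inv_cancel, Units.val_one]
    rw [sub_mul, mul_add, h5, mul_one, one_mul]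
    abel
  refine mem_scalars_of_mem_bot (Algebra.mem_bot.2 ?_)
  by_cases h5 : (g : Matrix ι ι F) - 1 = 0
  · exact ⟨1, by rw [map_one, sub_eq_zero.1 h5]⟩
  · obtain ⟨y, hy, hgy⟩ := hK.inv _ (sub_mem (mem_algOf hg) (one_mem _)) h5
    refine ⟨-1, ?_⟩
    have h6 : (g : Matrix ι ι F) + 1 = 0 := by
      calc (g : Matrix ι ι F) + 1 = (y * ((g : Matrix ι ι F) - 1)) * ((g : Matrix ι ι F) + 1) := by
            rw [← hcomm (sub_mem (mem_algOf hg) (one_mem _)) hy, hgy, one_mul]
        _ = 0 := by rw [mul_assoc, h4, mul_zero]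
    rw [map_neg, map_one]
    exact (eq_neg_of_add_eq_zero_left h6).symm

theorem nondegenerate_eigen_lines_orth (hQ : IsNondegenerateQuadraticForm Q) (hn : Odd (Fintype.card ι))
    {H N : Subgroup (GL ι F)} (hirr : ActsIrreducibly (matrixSet H))
    (hHf : ∀ g ∈ H, ∀ u v, polar Q ((g : Matrix ι ι F) *ᵥ u) ((g : Matrix ι ι F) *ᵥ v) = polar Q u v)
    (hNH : N ≤ H) {t : ℕ} (ht : t = Fintype.card ι) {D : Fin t → Submodule F (ι → F)} (hD : IsMDecomposition 1 D)
    {χ : Fin t → N → F} (hχ : Function.Injective χ)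
    (hact : ∀ i, ∀ v ∈ D i, ∀ x : N, ((x : GL ι F) : Matrix ι ι F) *ᵥ v = χ i x • v)
    (hle : H ≤ decompositionStabilizer D) : IsNondegenerateMDecomposition (polar Q) 1 D := by
  classical
  have hs := polar_isSesq hQ
  let R : Fin t → Fin t → Prop := fun i j => ∃ v ∈ D i, ∃ w ∈ D j, polar Q v w ≠ 0
  have hmul : ∀ {i j}, R i j → ∀ x, χ i x * χ j x = 1 := by
    rintro i j ⟨v, hv, w, hw, hne⟩ x
    have h := hHf _ (hNH x.2) v w
    rw [hact i v hv x, hact j w hw x, hs.smul_left, hs.smul_right, RingHom.id_apply, ← mul_assoc] at h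
    exact mul_right_cancel₀ hne (h.trans (one_mul _).symm)
  have huniq : ∀ {i j k}, R i j → R i k → j = k := by
    intro i j k hij hik
    refine hχ (funext fun x => ?_)
    have h1 := hmul hij x
    exact mul_left_cancel₀ (fun h => by simp [h] at h1) (h1.trans (hmul hik x).symm)
  have hex : ∀ i, ∃ j, R i j := by
    intro i
    obtain ⟨v, hv, hv0⟩ := (Submodule.ne_bot_iff (D i)).1 (fun h => by
      have := hD.finrank_eq i
      rw [h, finrank_bot] at this
      omega)
    by_contra hall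
    simp only [not_exists, R, not_and, not_not] at hall
    obtain ⟨x, hx⟩ := (hQ.nondegenerate v hv0).2
    apply hx
    clear hx
    have hxt : x ∈ iSup D := hD.iSup_eq_top ▸ Submodule.mem_top
    induction hxt using Submodule.iSup_induction' with
    | mem j w hw => exact hall j v hv w hw
    | zero => exact hs.zero_right v
    | add a b _ _ ha hb => rw [hs.add_right, ha, hb, add_zero]
  choose π hπ using hex
  have hsymm : ∀ {i j}, R i j → R j i := fun {i j} ⟨v, hv, w, hw, hne⟩ =>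
    ⟨w, hw, v, hv, by rwa [polar_comm]⟩
  have hinvol : ∀ i, π (π i) = i := fun i => huniq (hπ (π i)) (hsymm (hπ i))
  obtain ⟨i₀, hi₀⟩ : ∃ i, π i = i := by
    by_contra h
    push Not at h
    have h1 : (∑ _i : Fin t, (1 : ZMod 2)) = 0 :=
      Finset.sum_involution (fun i _ => π i) (fun i _ => by decide) (fun i _ _ => h i)
        (fun i _ => Finset.mem_univ _) (fun i _ => hinvol i)
    rw [Finset.sum_const, Finset.card_univ, Fintype.card_fin, nsmul_eq_mul, mul_one, ZMod.natCast_eq_zero_iff,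
      ht] at h1
    exact (Nat.not_even_iff_odd.2 hn) (even_iff_two_dvd.2 h1)
  let S : Submodule F (ι → F) := ⨆ (i : Fin t) (_ : π i = i), D i
  have hS : S = ⊤ := by
    refine (hirr S ?_).resolve_left ?_
    · rintro _ ⟨g, hg, rfl⟩
      obtain ⟨τ, hτ⟩ := hle hg
      simp only [S, Submodule.map_iSup]
      refine iSup₂_le fun i hi => le_iSup₂_of_le (τ i) (huniq (hπ (τ i)) ?_) (le_of_eq (hτ i))
      obtain ⟨v, hv, w, hw, hne⟩ := hπ i
      rw [hi] at hw
      exact ⟨(g : Matrix ι ι F) *ᵥ v, hτ i ▸ ⟨v, hv, Matrix.toLin'_apply _ _⟩,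
        (g : Matrix ι ι F) *ᵥ w, hτ i ▸ ⟨w, hw, Matrix.toLin'_apply _ _⟩, by rwa [hHf g hg]⟩
    · intro h0
      have h1 : D i₀ ≤ S := le_iSup₂_of_le i₀ hi₀ le_rfl
      rw [h0, le_bot_iff] at h1
      have := hD.finrank_eq i₀
      rw [h1, finrank_bot] at this
      omega
  have hall : ∀ i, π i = i := by
    intro i
    by_contra hne
    have hle' : S ≤ ⨆ (j : Fin t) (_ : j ≠ i), D j :=
      iSup₂_le fun j hj => le_iSup₂_of_le j (fun h => hne (h ▸ hj)) le_rfl
    have hd := iSupIndep_def.1 hD.indep i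
    rw [hS, top_le_iff] at hle'
    rw [hle', disjoint_top] at hd
    have := hD.finrank_eq i
    rw [hd, finrank_bot] at this
    omega
  have horth : ∀ i j, i ≠ j → AreOrthogonalFor (polar Q) (D i) (D j) := by
    intro i j hij u hu v hv
    by_contra hne
    exact hij ((hall i).symm.trans (huniq (hπ i) ⟨u, hu, v, hv, hne⟩))
  refine ⟨hD, fun i w hw hw0 => ?_, horth⟩
  obtain ⟨v, hv, v', hv', hne⟩ := hπ i
  rw [hall i] at hv'
  obtain ⟨z, -, hz⟩ := finrank_eq_one_iff'.1 (hD.finrank_eq i)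
  obtain ⟨a, ha⟩ := hz ⟨v, hv⟩
  obtain ⟨b, hb⟩ := hz ⟨v', hv'⟩
  obtain ⟨c, hc⟩ := hz ⟨w, hw⟩
  have ha' : a • (z : ι → F) = v := congrArg Subtype.val ha
  have hb' : b • (z : ι → F) = v' := congrArg Subtype.val hb
  have hc' : c • (z : ι → F) = w := congrArg Subtype.val hc
  have hc0 : c ≠ 0 := fun h => hw0 (by rw [← hc', h, zero_smul])
  have hzz : polar Q (z : ι → F) z ≠ 0 := fun h => hne (by
    rw [← ha', ← hb', hs.smul_left, hs.smul_right, h, mul_zero, mul_zero])
  refine ⟨⟨z, z.2, ?_⟩, ⟨z, z.2, ?_⟩⟩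
  · rw [← hc', hs.smul_right, RingHom.id_apply]; exact mul_ne_zero hc0 hzz
  · rw [← hc', hs.smul_left]; exact mul_ne_zero hc0 hzz

theorem det_gram_mem (hQ0 : ∀ (F₀ : Subfield F) (v : ι → F), (∀ i, v i ∈ F₀) → Q v ∈ F₀) (F₀ : Subfield F) :
    (gramMatrix (polar Q)).det ∈ F₀ := by
  have hent : ∀ i j, gramMatrix (polar Q) i j ∈ F₀ := fun i j => by
    have hsing : ∀ a b, (Pi.single a (1 : F) : ι → F) b ∈ F₀ := fun a b => by
      by_cases h : b = a <;> simp [h, F₀.one_mem, F₀.zero_mem]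
    show polar Q (Pi.single i 1) (Pi.single j 1) ∈ F₀
    exact F₀.sub_mem (F₀.sub_mem (hQ0 _ _ fun b => F₀.add_mem (hsing i b) (hsing j b)) (hQ0 _ _ (hsing i)))
      (hQ0 _ _ (hsing j))
  obtain ⟨X, hX⟩ := rat_range_mem_iff.1 hent
  rw [← hX, ← RingHom.map_det]
  exact (X.det).2

theorem two_mem (F₀ : Subfield F) : (2 : F) ∈ F₀ := by
  rw [← one_add_one_eq_two]; exact F₀.add_mem F₀.one_mem F₀.one_mem

theorem quad_mem_of_gram (hQ : IsNondegenerateQuadraticForm Q) (h2 : (2 : F) ≠ 0) {F₀ : Subfield F}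
    {M : Matrix ι ι F} (hM : ∀ i j, polar Q (M *ᵥ Pi.single i 1) (M *ᵥ Pi.single j 1) ∈ F₀)
    {u : ι → F} (hu : ∀ i, u i ∈ F₀) : Q (M *ᵥ u) ∈ F₀ := by
  have hs := polar_isSesq hQ
  have h1 : polar Q (M *ᵥ u) (M *ᵥ u) ∈ F₀ := by
    conv => arg 2; rw [pi_eq_sum_univ' u]
    simp only [Matrix.mulVec_sum, Matrix.mulVec_smul, hs.sum_left, hs.smul_left]
    refine F₀.sum_mem fun i _ => F₀.mul_mem (hu i) ?_
    rw [hs.sum_right]
    refine F₀.sum_mem fun j _ => ?_
    rw [hs.smul_right]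
    exact F₀.mul_mem (hu j) (hM i j)
  rw [quad_polar_self hQ] at h1
  have := F₀.mul_mem (F₀.inv_mem (two_mem F₀)) h1
  rwa [← mul_assoc, inv_mul_cancel₀ h2, one_mul] at this

variable [Fintype F]

/-- A spanning group of isometries realised over a subfield carries the quadratic form there. -/
theorem exists_quad_rational [Nonempty ι] (hQ : IsNondegenerateQuadraticForm Q) (h2 : (2 : F) ≠ 0)
    (hodd : Odd (Fintype.card ι)) (hQ0 : ∀ (F₀ : Subfield F) (v : ι → F), (∀ i, v i ∈ F₀) → Q v ∈ F₀)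
    {N : Subgroup (GL ι F)} (hspan : algOf N = ⊤) (hNf : FixesForm (matrixSet N) (polar Q))
    (F₁ : Subfield F) (P : GL ι F) (hrat : ∀ s ∈ N, ∀ i j, ((P⁻¹ * s * P : GL ι F) : Matrix ι ι F) i j ∈ F₁) :
    ∃ P' : GL ι F, subfieldSubgroup F₁ P' = subfieldSubgroup F₁ P ∧ IsQuadFormRationalStructure Q F₁ P' := by
  classical
  have hs := polar_isSesq hQ
  haveI : Fintype F₁ := Fintype.ofFinite _
  let θ : F ≃+* F := (FiniteField.frobeniusAlgEquivOfAlgebraic F₁ F).toRingEquiv
  have hθ : ∀ x, θ x = x ^ Nat.card F₁ := fun x => by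
    show FiniteField.frobeniusAlgEquivOfAlgebraic F₁ F x = _
    rw [FiniteField.coe_frobeniusAlgEquivOfAlgebraic, Nat.card_eq_fintype_card]
  have hθF : ∀ {x}, x ∈ F₁ → θ x = x := fun {x} hx => by
    have h2 := congrArg Subtype.val (FiniteField.pow_card (⟨x, hx⟩ : F₁))
    rw [SubmonoidClass.coe_pow] at h2
    rw [hθ, Nat.card_eq_fintype_card]
    exact h2
  have hθF' : ∀ {x}, θ x = x → x ∈ F₁ := fun {x} hx => mem_of_pow_card_eq (by rw [← hθ]; exact hx)
  have hθsymm : ∀ {x}, x ∈ F₁ → θ.symm x = x := fun {x} hx => by rw [RingEquiv.symm_apply_eq, hθF hx]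
  let G : ι → ι → F := fun i j =>
    polar Q ((P : Matrix ι ι F) *ᵥ Pi.single i 1) ((P : Matrix ι ι F) *ᵥ Pi.single j 1)
  let T : (ι → F) → (ι → F) := fun v =>
    (P : Matrix ι ι F) *ᵥ fun k => θ.symm ((((P⁻¹ : GL ι F) : Matrix ι ι F) *ᵥ v) k)
  have hTadd : ∀ x y, T (x + y) = T x + T y := fun x y => by
    simp only [T, Matrix.mulVec_add, Pi.add_apply, map_add]
    rw [← Matrix.mulVec_add]; rfl
  have hTsmul : ∀ (c : F) x, T (c • x) = θ.symm c • T x := fun c x => by
    simp only [T, Matrix.mulVec_smul, Pi.smul_apply, smul_eq_mul, map_mul]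
    rw [← Matrix.mulVec_smul]; rfl
  have hTN : ∀ s ∈ N, ∀ v, T ((s : Matrix ι ι F) *ᵥ v) = (s : Matrix ι ι F) *ᵥ T v := by
    intro s hsN v
    set X : GL ι F := P⁻¹ * s * P with hX
    set w := ((P⁻¹ : GL ι F) : Matrix ι ι F) *ᵥ v with hw
    have h1 : ((P⁻¹ : GL ι F) : Matrix ι ι F) *ᵥ ((s : Matrix ι ι F) *ᵥ v) = (X : Matrix ι ι F) *ᵥ w := by
      rw [hw, hX, Matrix.mulVec_mulVec, Matrix.mulVec_mulVec, ← Units.val_mul, ← Units.val_mul, mul_inv_cancel_right]
    have h2 : (fun k => θ.symm (((X : Matrix ι ι F) *ᵥ w) k)) = (X : Matrix ι ι F) *ᵥ fun k => θ.symm (w k) := by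
      funext k
      simp only [Matrix.mulVec, dotProduct, map_sum, map_mul]
      exact Finset.sum_congr rfl fun a _ => by rw [hθsymm (hrat s hsN k a)]
    show (P : Matrix ι ι F) *ᵥ _ = (s : Matrix ι ι F) *ᵥ ((P : Matrix ι ι F) *ᵥ _)
    rw [h1, h2, hX, Matrix.mulVec_mulVec, Matrix.mulVec_mulVec, ← Units.val_mul, ← Units.val_mul,
      show P * (P⁻¹ * s * P) = s * P by group]
  have hTsurj : Function.Surjective T := fun w =>
    ⟨(P : Matrix ι ι F) *ᵥ fun k => θ ((((P⁻¹ : GL ι F) : Matrix ι ι F) *ᵥ w) k), by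
      simp only [T, gl_inv_mulVec_mulVec, RingEquiv.symm_apply_apply]
      exact gl_mulVec_inv_mulVec P w⟩
  have hTinj : Function.Injective T := Finite.injective_iff_surjective.2 hTsurj
  have hT0 : T 0 = 0 := by
    have := hTsmul 0 0
    rwa [zero_smul, map_zero, zero_smul] at this
  obtain ⟨μ, hμ⟩ := form_unique hspan (RingEquiv.refl F) (f := polar Q) (g := fun u v => θ (polar Q (T u) (T v))) hs
    ⟨fun x y v => by rw [hTadd, hs.add_left, map_add],
      fun c x v => by rw [hTsmul, hs.smul_left, map_mul, RingEquiv.apply_symm_apply],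
      fun v x y => by rw [hTadd, hs.add_right, map_add],
      fun c v x => by
        rw [hTsmul, hs.smul_right, RingHom.id_apply, map_mul, RingEquiv.apply_symm_apply]
        rfl⟩
    hQ.nondegenerate
    (fun v hv => by
      obtain ⟨⟨x, hx⟩, ⟨y, hy⟩⟩ := hQ.nondegenerate (T v) (fun h => hv (hTinj (h.trans hT0.symm)))
      obtain ⟨x', rfl⟩ := hTsurj x
      obtain ⟨y', rfl⟩ := hTsurj y
      exact ⟨⟨x', by simpa using hx⟩, ⟨y', by simpa using hy⟩⟩)
    hNf (by
      rintro _ ⟨s, hsN, rfl⟩ u v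
      show θ _ = θ _
      rw [hTN s hsN, hTN s hsN, hNf _ ⟨s, hsN, rfl⟩])
  have hGθ : ∀ i j, θ (G i j) = (μ : F) * G i j := by
    intro i j
    have hTe : ∀ i, T ((P : Matrix ι ι F) *ᵥ Pi.single i 1) = (P : Matrix ι ι F) *ᵥ Pi.single i 1 := fun i => by
      simp only [T, gl_inv_mulVec_mulVec]
      congr 1
      funext k
      by_cases hk : k = i <;> simp [hk]
    have := hμ ((P : Matrix ι ι F) *ᵥ Pi.single i 1) ((P : Matrix ι ι F) *ᵥ Pi.single j 1)
    rw [hTe, hTe] at this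
    exact this
  have hG : Matrix.of G = (P : Matrix ι ι F)ᵀ * gramMatrix (polar Q) * (P : Matrix ι ι F) := by
    ext i j; rw [gram_conj hQ]; rfl
  have hG0det : (gramMatrix (polar Q)).det ≠ 0 := by
    intro h0
    obtain ⟨w, hw0, hw⟩ := Matrix.exists_mulVec_eq_zero_iff.2 h0
    obtain ⟨x, hx⟩ := (hQ.nondegenerate w hw0).1
    apply hx
    rw [polar_expand hQ]
    refine Finset.sum_eq_zero fun i _ => ?_
    have h5 : ∑ j, polar Q (Pi.single i 1) (Pi.single j 1) * w j = 0 := congrFun hw i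
    rw [show (∑ j, x i * w j * polar Q (Pi.single i 1) (Pi.single j 1)) =
      x i * ∑ j, polar Q (Pi.single i 1) (Pi.single j 1) * w j by
      rw [Finset.mul_sum]; exact Finset.sum_congr rfl fun j _ => by ring, h5, mul_zero]
  set d := (P : Matrix ι ι F).det with hd
  have hd0 : d ≠ 0 := (Matrix.GeneralLinearGroup.det P).ne_zero
  have hGdet : (Matrix.of G).det = d ^ 2 * (gramMatrix (polar Q)).det := by
    rw [hG, Matrix.det_mul, Matrix.det_mul, Matrix.det_transpose]; ring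
  obtain ⟨a, b, hab⟩ : ∃ a b, G a b ≠ 0 := by
    by_contra h
    push Not at h
    exact mul_ne_zero (pow_ne_zero 2 hd0) hG0det
      (by rw [← hGdet, show Matrix.of G = 0 by ext i j; exact h i j]; exact Matrix.det_zero)
  set ζ := G a b with hζ
  have hΦ : ∀ i j, G i j / ζ ∈ F₁ := fun i j => hθF' (by
    rw [map_div₀, hGθ, hGθ, mul_div_mul_left _ _ μ.ne_zero])
  obtain ⟨X, hX⟩ := (rat_range_mem_iff (M := Matrix.of fun i j => G i j / ζ)).1 hΦ
  have hdφ : (Matrix.of G).det = ζ ^ Fintype.card ι * (X.det : F) := by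
    rw [show (X.det : F) = (F₁.subtype : F₁ →+* F) X.det from rfl, RingHom.map_det, hX, ← Matrix.det_smul]
    congr 1
    ext i j
    simp [mul_div_cancel₀ _ hab]
  obtain ⟨k, hk⟩ := hodd
  set l := ζ ^ k / d with hl
  have hl0 : l ≠ 0 := div_ne_zero (pow_ne_zero _ hab) hd0
  have hφ0 : (X.det : F) ≠ 0 := fun h => by
    rw [h, mul_zero, hGdet] at hdφ
    exact mul_ne_zero (pow_ne_zero 2 hd0) hG0det hdφ
  have hlζ : l ^ 2 * ζ = (gramMatrix (polar Q)).det / (X.det : F) := by
    rw [hGdet, hk] at hdφ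
    rw [hl, div_pow, eq_div_iff hφ0, div_mul_eq_mul_div, div_mul_eq_mul_div, div_eq_iff (pow_ne_zero 2 hd0)]
    linear_combination (norm := ring_nf) -hdφ
  let S : GL ι F := Units.map (Matrix.scalar ι : F →+* Matrix ι ι F).toMonoidHom (Units.mk0 l hl0)
  have hS : S ∈ scalars ι F := ⟨_, rfl⟩
  have hPS : ∀ u, ((P * S : GL ι F) : Matrix ι ι F) *ᵥ u = l • ((P : Matrix ι ι F) *ᵥ u) := fun u => by
    rw [← scalars_comm hS, Units.val_mul, ← Matrix.mulVec_mulVec]
    show Matrix.scalar ι l *ᵥ _ = _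
    rw [Matrix.scalar_apply, ← Matrix.smul_one_eq_diagonal, Matrix.smul_mulVec, Matrix.one_mulVec]
  refine ⟨P * S, ?_, fun u hu => quad_mem_of_gram hQ h2 (fun i j => ?_) hu⟩
  · have hconj : (MulAut.conj (P * S)).toMonoidHom = (MulAut.conj P).toMonoidHom := by
      refine MonoidHom.ext fun y => ?_
      show P * S * y * (P * S)⁻¹ = P * y * P⁻¹
      rw [mul_assoc P S y, scalars_comm hS y]
      group
    simp only [subfieldSubgroup, hconj]
  · rw [hPS, hPS, hs.smul_left, hs.smul_right, RingHom.id_apply, ← mul_assoc, ← _root_.sq,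
      ← mul_div_cancel₀ (polar Q _ _) hab, ← mul_assoc, hlζ]
    exact F₁.mul_mem (F₁.div_mem (det_gram_mem hQ0 F₁) (X.det).2) (hΦ i j)

/-- Maximal subgroups of Ω in prime dimension at least 7. -/
theorem orth_prime_cases {n : ℕ} (hn : Fintype.card ι = n) (hp : n.Prime) (h7 : 7 ≤ n)
    (hq : Odd (Fintype.card F)) (hQ : IsNondegenerateQuadraticForm Q)
    (hQ0 : ∀ (F₀ : Subfield F) (v : ι → F), (∀ i, v i ∈ F₀) → Q v ∈ F₀)
    {H : Subgroup (GL ι F)} (hH : IsMaximalIn (omegaGL Q) H) :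
    (∃ W : Submodule F (ι → F), W ≠ ⊥ ∧ IsTotallySingularQuad Q W ∧ H = subspaceStabilizer W ⊓ omegaGL Q) ∨
    (∃ W : Submodule F (ι → F), W ≠ ⊥ ∧ Even (Module.finrank F W) ∧ IsNondegenerateOn (polar Q) W ∧
      ¬ (Fintype.card F = 3 ∧ Module.finrank F W = 2 ∧ IsPlusTypeOn Q W) ∧
      H = subspaceStabilizer W ⊓ omegaGL Q) ∨
    ((Fintype.card F).Prime ∧ ∃ D : Fin n → Submodule F (ι → F), IsOrthogonalMDecomposition Q 1 D ∧
      H = decompositionStabilizer D ⊓ omegaGL Q) ∨
    (∃ (F₀ : Subfield F) (r : ℕ) (P : GL ι F), r.Prime ∧ Fintype.card F = Nat.card F₀ ^ r ∧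
      IsQuadFormRationalStructure Q F₀ P ∧ H = subfieldSubgroup F₀ P ⊓ omegaGL Q) ∨
    InOrthogonalResidualClass H := by
  classical
  haveI : Nonempty ι := Fintype.card_pos_iff.1 (by omega)
  have hpι : (Fintype.card ι).Prime := hn ▸ hp
  have hodd : Odd (Fintype.card ι) := hn ▸ hp.odd_of_ne_two (by omega)
  have h7' : 7 ≤ Fintype.card ι := hn ▸ h7
  have h2 : (2 : F) ≠ 0 := two_ne_zero_of_odd hq
  have hs := polar_isSesq hQ
  have hqd := OrthTools.quadOf_nondegenerate hQ
  have hHΩ : H ≤ omegaGL Q := hH.1.le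
  have hHf : ∀ g ∈ H, ∀ u v, polar Q ((g : Matrix ι ι F) *ᵥ u) ((g : Matrix ι ι F) *ᵥ v) = polar Q u v :=
    fun g hg => omega_polar hQ (hHΩ hg)
  have hHQ : ∀ g ∈ H, ∀ u, Q ((g : Matrix ι ι F) *ᵥ u) = Q u := fun g hg u => by
    have h1 := hHf g hg u u
    rw [quad_polar_self hQ, quad_polar_self hQ] at h1
    exact mul_left_cancel₀ h2 h1
  by_cases hirr : ActsIrreducibly (matrixSet H)
  swap
  · obtain ⟨W, hW, hW1, hW2⟩ : ∃ W : Submodule F (ι → F),
        (∀ s ∈ matrixSet H, W.map (Matrix.toLin' s) ≤ W) ∧ W ≠ ⊥ ∧ W ≠ ⊤ := by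
      unfold ActsIrreducibly at hirr
      push Not at hirr
      exact hirr
    let o := OrthTools.orth (quadOf hQ)
    have hmo : ∀ {X : Submodule F (ι → F)} {x}, x ∈ o X ↔ ∀ y ∈ X, polar Q y x = 0 := fun {X x} => OrthTools.mem_orth
    have hdim : ∀ X : Submodule F (ι → F), Module.finrank F X + Module.finrank F (o X) = n := fun X => by
      have := OrthTools.finrank_orth hqd X
      have h' := Submodule.finrank_le X
      rw [Module.finrank_fintype_fun_eq_card] at h'
      show _ + Module.finrank F (OrthTools.orth (quadOf hQ) X) = n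
      omega
    have hinvo : ∀ X : Submodule F (ι → F), (∀ g ∈ H, ∀ v ∈ X, (g : Matrix ι ι F) *ᵥ v ∈ X) →
        ∀ g ∈ H, ∀ v ∈ o X, (g : Matrix ι ι F) *ᵥ v ∈ o X := fun X hX g hg v hv => by
      rw [hmo] at hv ⊢
      intro y hy
      rw [← gl_mulVec_inv_mulVec g y, hHf g hg]
      exact hv _ (hX _ (H.inv_mem hg) y hy)
    have hmk : ∀ X : Submodule F (ι → F), (∀ g ∈ H, ∀ v ∈ X, (g : Matrix ι ι F) *ᵥ v ∈ X) → X ≠ ⊥ → X ≠ ⊤ →
        H = subspaceStabilizer X ⊓ omegaGL Q := fun X hX h1 h3 =>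
      eq_inf_of_le hH (fun g hg => mem_subspaceStabilizer.2 (hX g hg)) (omega_not_le_subspace hQ h7' h1 h3)
    have hWinv : ∀ g ∈ H, ∀ v ∈ W, (g : Matrix ι ι F) *ᵥ v ∈ W := fun g hg v hv =>
      invariant_map_mem hW ⟨g, hg, rfl⟩ hv
    by_cases hR : W ⊓ o W = ⊥
    swap
    · refine Or.inl ⟨_, hR, fun v hv => ?_, hmk _ (fun g hg v hv => ⟨hWinv g hg v hv.1, hinvo W hWinv g hg v hv.2⟩) hR
        (fun h => hW2 (top_le_iff.1 (h ▸ inf_le_left)))⟩
      have h1 := hmo.1 hv.2 v hv.1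
      rw [quad_polar_self hQ] at h1
      exact (mul_eq_zero.1 h1).resolve_left h2
    refine Or.inr (Or.inl ?_)
    have hnd : ∀ x ∈ W, x ≠ 0 → ∃ y ∈ W, polar Q x y ≠ 0 := by
      intro x hx hx0
      by_contra hc
      push Not at hc
      exact hx0 ((Submodule.eq_bot_iff _).1 hR x ⟨hx, hmo.2 fun y hy => by rw [polar_comm]; exact hc y hy⟩)
    have hon : ∀ X : Submodule F (ι → F), (∀ x ∈ X, x ≠ 0 → ∃ y ∈ X, polar Q x y ≠ 0) →
        IsNondegenerateOn (polar Q) X := fun X hX w hw hw0 => by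
      obtain ⟨y, hy, hne⟩ := hX w hw hw0
      exact ⟨⟨y, hy, by rwa [polar_comm]⟩, ⟨y, hy, hne⟩⟩
    have hWlt := Submodule.finrank_lt hW2
    rw [Module.finrank_fintype_fun_eq_card, hn] at hWlt
    have hWpos : 0 < Module.finrank F W := Nat.pos_of_ne_zero fun h => hW1 (Submodule.finrank_eq_zero.1 h)
    have hne : ∀ X : Submodule F (ι → F), 0 < Module.finrank F X → Module.finrank F X < n → X ≠ ⊥ ∧ X ≠ ⊤ :=
      fun X h1 h3 => ⟨fun h => by rw [h, finrank_bot] at h1; omega,
        fun h => by rw [h, finrank_top, Module.finrank_fintype_fun_eq_card, hn] at h3; omega⟩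
    have key : ∀ U : Submodule F (ι → F), (∀ g ∈ H, ∀ v ∈ U, (g : Matrix ι ι F) *ᵥ v ∈ U) →
        (∀ x ∈ U, x ≠ 0 → ∃ y ∈ U, polar Q x y ≠ 0) → Even (Module.finrank F U) → 0 < Module.finrank F U →
        Module.finrank F U < n →
        ∃ W : Submodule F (ι → F), W ≠ ⊥ ∧ Even (Module.finrank F W) ∧ IsNondegenerateOn (polar Q) W ∧
          ¬ (Fintype.card F = 3 ∧ Module.finrank F W = 2 ∧ IsPlusTypeOn Q W) ∧
          H = subspaceStabilizer W ⊓ omegaGL Q := by
      intro U hU hUn hUe hU0 hUlt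
      by_cases hbad : Fintype.card F = 3 ∧ Module.finrank F U = 2 ∧ IsPlusTypeOn Q U
      swap
      · exact ⟨U, (hne U hU0 hUlt).1, hUe, hon U hUn, hbad, hmk U hU (hne U hU0 hUlt).1 (hne U hU0 hUlt).2⟩
      obtain ⟨h3, hU2, U₁, hU₁, hts, hU₁d⟩ := hbad
      rw [hU2] at hU₁d
      obtain ⟨e, he, he0⟩ := Submodule.exists_mem_ne_zero_of_ne_bot (p := U₁)
        (fun h => by rw [h, finrank_bot] at hU₁d; omega)
      obtain ⟨f, hf, hqf, hef⟩ := OrthTools.exists_partner (q := quadOf hQ) hUn (hU₁ he) he0 (hts e he)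
      change Q f = 0 at hqf
      change polar Q e f = 1 at hef
      have hqe : Q e = 0 := hts e he
      have hcomb : ∀ a b : F, Q (a • e + b • f) = a * b := fun a b => by
        have h1 : polar Q (a • e) (b • f) = a * b := by
          rw [hs.smul_left, hs.smul_right, hef, RingHom.id_apply, mul_one]
        rw [polar, hQ.smul, hQ.smul, hqe, hqf] at h1
        simp only [mul_zero, sub_zero] at h1
        exact h1
      have hli : LinearIndependent F ![e, f] := by
        rw [LinearIndependent.pair_iff]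
        intro a b hab
        have h1 := congrArg (fun z => polar Q z f) hab
        have h1' := congrArg (fun z => polar Q z e) hab
        have hff : polar Q f f = 0 := by rw [quad_polar_self hQ, hqf, mul_zero]
        have hee : polar Q e e = 0 := by rw [quad_polar_self hQ, hqe, mul_zero]
        simp only [hs.add_left, hs.smul_left, hs.zero_left, hef, hff, hee, polar_comm (f := Q) f e] at h1 h1'
        exact ⟨by linear_combination h1, by linear_combination h1'⟩
      have hspan : Submodule.span F (Set.range ![e, f]) = U := by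
        refine Submodule.eq_of_le_of_finrank_eq (Submodule.span_le.2 ?_) ?_
        · rintro _ ⟨i, rfl⟩
          fin_cases i
          · exact hU₁ he
          · exact hf
        · rw [finrank_span_eq_card hli, Fintype.card_fin, hU2]
      set z := e + f with hz
      have hqz : Q z = 1 := by simpa [hz] using hcomb 1 1
      have hzz : polar Q z z ≠ 0 := by rw [quad_polar_self hQ, hqz, mul_one]; exact h2
      have hz0 : z ≠ 0 := fun h => hzz (by rw [h, hs.zero_left])
      set L := Submodule.span F {z} with hL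
      have hLinv : ∀ g ∈ H, ∀ v ∈ L, (g : Matrix ι ι F) *ᵥ v ∈ L := by
        intro g hg v hv
        obtain ⟨c, rfl⟩ := Submodule.mem_span_singleton.1 hv
        rw [Matrix.mulVec_smul]
        refine L.smul_mem _ ?_
        have hmem : (g : Matrix ι ι F) *ᵥ z ∈ U := hU g hg z (U.add_mem (hU₁ he) hf)
        rw [← hspan, Matrix.range_cons, Matrix.range_cons, Matrix.range_empty, Set.union_empty,
          Set.singleton_union, Submodule.mem_span_pair] at hmem
        obtain ⟨a, b, hab⟩ := hmem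
        have h1 := hHQ g hg z
        rw [hqz, ← hab, hcomb] at h1
        have ha0 : a ≠ 0 := fun h => by rw [h, zero_mul] at h1; exact zero_ne_one h1
        have ha2 := FiniteField.pow_card_sub_one_eq_one a ha0
        rw [h3, _root_.sq] at ha2
        have hba : b = a := mul_left_cancel₀ ha0 (h1.trans ha2.symm)
        rw [← hab, hba, ← smul_add]
        exact L.smul_mem _ (Submodule.mem_span_singleton_self z)
      have hLn : ∀ x ∈ L, x ≠ 0 → ∃ y ∈ L, polar Q x y ≠ 0 := by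
        intro x hx hx0
        obtain ⟨c, rfl⟩ := Submodule.mem_span_singleton.1 hx
        refine ⟨z, Submodule.mem_span_singleton_self z, ?_⟩
        rw [hs.smul_left]
        exact mul_ne_zero (fun h => hx0 (by rw [h, zero_smul])) hzz
      have hL1 : Module.finrank F L = 1 := finrank_span_singleton hz0
      have h4 := hdim L
      rw [hL1] at h4
      have he' : Even (Module.finrank F (o L)) := by
        obtain ⟨k, hk⟩ := hn ▸ hodd
        exact ⟨k, by omega⟩
      obtain ⟨h5, h6⟩ := hne (o L) (by omega) (by omega)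
      exact ⟨o L, h5, he', hon _ (OrthTools.orth_nondegenerate hqd hLn), fun h => by have := h.2.1; omega,
        hmk _ (hinvo L hLinv) h5 h6⟩
    have h4 := hdim W
    rcases Nat.even_or_odd (Module.finrank F W) with he | ⟨k, hk⟩
    · exact key W hWinv hnd he hWpos hWlt
    · obtain ⟨m, hm⟩ := hn ▸ hodd
      exact key (o W) (hinvo W hWinv) (OrthTools.orth_nondegenerate hqd hnd) ⟨m - k, by omega⟩ (by omega) (by omega)
  refine Or.inr (Or.inr ?_)
  let Pr : Subgroup (GL ι F) → Prop :=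
    fun K => K ≤ H ∧ (∀ g ∈ H, ∀ x ∈ K, g * x * g⁻¹ ∈ K) ∧ ¬ K ≤ scalars ι F
  obtain ⟨N, ⟨hNH, hinv, hns⟩, hNmin⟩ := (Set.toFinite {K | Pr K}).exists_minimal
    ⟨H, le_rfl, fun g hg x hx => H.mul_mem (H.mul_mem hg hx) (H.inv_mem hg),
      not_le_scalars_of_irreducible hirr (by omega)⟩
  have hmin : ∀ K : Subgroup (GL ι F), K ≤ N → (∀ g ∈ H, ∀ x ∈ K, g * x * g⁻¹ ∈ K) →
      ¬ K ≤ scalars ι F → K = N :=
    fun K h1 h2 h3 => le_antisymm h1 (hNmin ⟨h1.trans hNH, h2, h3⟩ h1)
  have hNf : FixesForm (matrixSet N) (polar Q) := by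
    rintro _ ⟨g, hg, rfl⟩ u v
    exact hHf g (hNH hg) u v
  by_cases hab : ∀ x ∈ N, ∀ y ∈ N, x * y = y * x
  · have hNred : ¬ ActsIrreducibly (matrixSet N) := fun h =>
      hns (abelian_irreducible_false hQ hodd h2 (fun g hg => hHf g (hNH hg)) hab h)
    obtain ⟨t, D, χ, ht, hD, hχ, hact, hle⟩ := exists_eigen_lines hpι hirr hinv hns
      ((irreducible_or_eigen hpι hirr hinv).resolve_left hNred)
    have hnd := nondegenerate_eigen_lines_orth hQ hodd hirr hHf hNH ht hD hχ hact hle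
    rw [hn] at ht
    subst ht
    haveI : NeZero t := ⟨by omega⟩
    have hDne : ∀ i, D i ≠ ⊥ := fun i h => by
      have := hD.finrank_eq i
      rw [h, finrank_bot] at this
      omega
    -- transitivity
    have htrans : ∀ j, ∃ g ∈ H, (D 0).map (Matrix.toLin' (g : Matrix ι ι F)) = D j := by
      intro j
      by_contra hno
      push Not at hno
      let S : Submodule F (ι → F) := ⨆ (g : GL ι F) (_ : g ∈ H), (D 0).map (Matrix.toLin' (g : Matrix ι ι F))
      have hS : S = ⊤ := by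
        refine (hirr S ?_).resolve_left ?_
        · rintro _ ⟨k, hk, rfl⟩
          simp only [S, Submodule.map_iSup]
          refine iSup₂_le fun g hg => le_iSup₂_of_le (k * g) (H.mul_mem hk hg) (le_of_eq ?_)
          simp only [← Submodule.map_comp, Units.val_mul, Matrix.toLin'_mul]
        · intro h0
          have h1 : (D 0).map (Matrix.toLin' ((1 : GL ι F) : Matrix ι ι F)) ≤ S :=
            le_iSup₂_of_le 1 H.one_mem le_rfl
          rw [h0] at h1
          simp at h1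
          exact hDne 0 h1
      have hle' : S ≤ ⨆ (i : Fin t) (_ : i ≠ j), D i := by
        refine iSup₂_le fun g hg => ?_
        obtain ⟨τ, hτ⟩ := hle hg
        rw [hτ]
        exact le_iSup₂_of_le (τ 0) (fun h => hno g hg (h ▸ hτ 0)) le_rfl
      have hd := iSupIndep_def.1 hD.indep j
      rw [hS, top_le_iff] at hle'
      rw [hle', disjoint_top] at hd
      exact hDne j hd
    choose gs hgsH hgs using htrans
    have hiso : ∀ i j, AreIsometricFor Q (D i) (D j) := by
      intro i j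
      have hm : (D i).map (Matrix.toLin' ((gs j * (gs i)⁻¹ : GL ι F) : Matrix ι ι F)) = D j := by
        rw [← hgs i, ← Submodule.map_comp, ← Matrix.toLin'_mul, ← Units.val_mul, inv_mul_cancel_right, hgs j]
      refine ⟨(Submodule.equivMapOfInjective _ (toLin'_unit_injective _) (D i)).trans (LinearEquiv.ofEq _ _ hm),
        fun w => ?_⟩
      show Q (Matrix.toLin' _ (w : ι → F)) = _
      rw [Matrix.toLin'_apply]
      exact hHQ _ (H.mul_mem (hgsH j) (H.inv_mem (hgsH i))) _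
    by_cases hqp : (Fintype.card F).Prime
    · exact Or.inl ⟨hqp, D, ⟨hnd, hiso⟩, eq_inf_of_le hH hle (omega_not_le_decomposition hQ h7' h2 hD)⟩
    refine Or.inr (Or.inl ?_)
    obtain ⟨F₀, r, hr, hcard⟩ := exists_prime_index hqp
    obtain ⟨v₀, hv₀, hv₀0⟩ := Submodule.exists_mem_ne_zero_of_ne_bot (hDne 0)
    let v : Fin t → ι → F := fun j => (gs j : Matrix ι ι F) *ᵥ v₀
    have hvD : ∀ j, v j ∈ D j := fun j => hgs j ▸ ⟨v₀, hv₀, Matrix.toLin'_apply _ _⟩
    have hv0 : ∀ j, v j ≠ 0 := fun j => gl_mulVec_ne_zero _ hv₀0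
    set c := polar Q v₀ v₀ with hc
    have hvc : ∀ j, polar Q (v j) (v j) = c := fun j => hHf _ (hgsH j) _ _
    have hline : ∀ {j x}, x ∈ D j → ∃ a : F, x = a • v j := fun {j x} hx => by
      obtain ⟨z, -, hz⟩ := finrank_eq_one_iff'.1 (hD.finrank_eq j)
      obtain ⟨a, ha⟩ := hz ⟨x, hx⟩
      obtain ⟨b, hb⟩ := hz ⟨v j, hvD j⟩
      have ha' : a • (z : ι → F) = x := congrArg Subtype.val ha
      have hb' : b • (z : ι → F) = v j := congrArg Subtype.val hb
      have hb0 : b ≠ 0 := fun h => hv0 j (by rw [← hb', h, zero_smul])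
      exact ⟨a / b, by rw [← ha', ← hb', smul_smul, div_mul_cancel₀ _ hb0]⟩
    have hc0 : c ≠ 0 := fun h => by
      obtain ⟨-, y, hy, hne⟩ := hnd.nondegenerate 0 (v 0) (hvD 0) (hv0 0)
      obtain ⟨a, rfl⟩ := hline hy
      rw [hs.smul_right, hvc, h, mul_zero] at hne
      exact hne rfl
    let e : ι ≃ Fin t := Fintype.equivFinOfCardEq hn
    let V : Matrix ι ι F := Matrix.of fun a b => v (e b) a
    have hVcol : ∀ b, V *ᵥ Pi.single b 1 = v (e b) := fun b => by funext a; simp [V]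
    have hgram : ∀ a b, polar Q (V *ᵥ Pi.single a 1) (V *ᵥ Pi.single b 1) = if a = b then c else 0 := fun a b => by
      rw [hVcol, hVcol]
      split_ifs with h
      · rw [h, hvc]
      · exact hnd.orthogonal _ _ (fun h' => h (e.injective h')) _ (hvD _) _ (hvD _)
    set g0 := (gramMatrix (polar Q)).det with hg0
    have hdetV : V.det ^ 2 * g0 = c ^ t := by
      have h1 : Vᵀ * gramMatrix (polar Q) * V = c • (1 : Matrix ι ι F) := by
        ext a b; rw [gram_conj hQ, hgram, Matrix.smul_apply, Matrix.one_apply]; simp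
      have h2 := congrArg Matrix.det h1
      rw [Matrix.det_mul, Matrix.det_mul, Matrix.det_transpose, Matrix.det_smul, Matrix.det_one, mul_one, hn] at h2
      rw [← h2]; ring
    have hV0 : V.det ≠ 0 := fun h => pow_ne_zero t hc0 (by rw [← hdetV, h]; ring)
    obtain ⟨k, hk⟩ : Odd t := hn ▸ hodd
    set l := c ^ k / V.det with hl
    have hl0 : l ≠ 0 := div_ne_zero (pow_ne_zero _ hc0) hV0
    have hlc : l ^ 2 * c = g0 := by
      rw [hl, div_pow, div_mul_eq_mul_div, div_eq_iff (pow_ne_zero 2 hV0), mul_comm g0, hdetV, hk]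
      ring
    let P : GL ι F := Matrix.GeneralLinearGroup.mkOfDetNeZero (l • V)
      (by rw [Matrix.det_smul]; exact mul_ne_zero (pow_ne_zero _ hl0) hV0)
    have hP : ∀ b, (P : Matrix ι ι F) *ᵥ Pi.single b 1 = l • v (e b) := fun b => by
      show (l • V) *ᵥ _ = _
      rw [Matrix.smul_mulVec, hVcol]
    refine ⟨F₀, r, P, hr, hcard, fun u hu => quad_mem_of_gram hQ h2 (fun a b => ?_) hu, ?_⟩
    · rw [hP, hP, ← hVcol, ← hVcol, hs.smul_left, hs.smul_right, RingHom.id_apply, ← mul_assoc, ← _root_.sq, hgram]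
      split_ifs
      · rw [hlc]; exact det_gram_mem hQ0 F₀
      · rw [mul_zero]; exact F₀.zero_mem
    refine eq_inf_of_le hH (fun g hg => mem_subfieldSubgroup_of_entries fun i j => ?_)
      (omega_not_le_subfield hQ h7' (subfield_ne_top hr hcard) P)
    obtain ⟨τ, hτ⟩ := hle hg
    obtain ⟨a, ha⟩ := hline (hτ (e j) ▸ ⟨_, hvD _, Matrix.toLin'_apply _ _⟩ :
      (g : Matrix ι ι F) *ᵥ v (e j) ∈ D (τ (e j)))
    have ha2 : a = 1 ∨ a = -1 := by
      have h1 := hHf g hg (v (e j)) (v (e j))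
      rw [ha, hs.smul_left, hs.smul_right, RingHom.id_apply, hvc, hvc] at h1
      exact mul_self_eq_one_iff.1 (mul_right_cancel₀ hc0 (by rw [one_mul, mul_assoc, h1]))
    have h1 : (g : Matrix ι ι F) *ᵥ ((P : Matrix ι ι F) *ᵥ Pi.single j 1) =
        (P : Matrix ι ι F) *ᵥ (a • Pi.single (e.symm (τ (e j))) 1) := by
      rw [hP, Matrix.mulVec_smul, ha, Matrix.mulVec_smul, hP, Equiv.apply_symm_apply, smul_comm]
    have h3 : ((P⁻¹ * g * P : GL ι F) : Matrix ι ι F) *ᵥ Pi.single j 1 =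
        a • (Pi.single (e.symm (τ (e j))) 1 : ι → F) := by
      rw [Units.val_mul, Units.val_mul, ← Matrix.mulVec_mulVec, ← Matrix.mulVec_mulVec, h1, gl_inv_mulVec_mulVec]
    have h4 := congrFun h3 i
    simp only [Matrix.mulVec_single_one, Matrix.col_apply, Pi.smul_apply, smul_eq_mul] at h4
    rw [h4]
    refine F₀.mul_mem ?_ (by by_cases h : i = e.symm (τ (e j)) <;> simp [h, F₀.one_mem, F₀.zero_mem])
    rcases ha2 with rfl | rfl
    · exact F₀.one_mem
    · exact F₀.neg_mem F₀.one_mem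
  refine Or.inr ?_
  have hNirr : ActsIrreducibly (matrixSet N) :=
    (irreducible_or_eigen hpι hirr hinv).resolve_right fun h => hab (commute_of_eigen h)
  have hspan := algOf_eq_top_of_prime hpι hNirr hab
  by_cases hreal : ∃ F₀ : Subfield F, F₀ ≠ ⊤ ∧ RealisableOver F₀ (matrixSet N)
  · obtain ⟨F₀, h0, hr⟩ := hreal
    obtain ⟨F₁, r, P, hrp, hc, hle, hrat⟩ := exists_rational_subfield hspan hinv h0 hr
    obtain ⟨P', hPP, hform⟩ := exists_quad_rational hQ h2 hodd hQ0 hspan hNf F₁ P hrat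
    exact Or.inl ⟨F₁, r, P', hrp, hc, hform, eq_inf_of_le hH (hPP ▸ hle)
      (omega_not_le_subfield hQ h7' (subfield_ne_top hrp hc) P')⟩
  refine Or.inr ?_
  have hcl : ¬ ∀ x ∈ N, ∀ y ∈ N, x * y * x⁻¹ * y⁻¹ ∈ scalars ι F := by
    intro hcl
    refine hab fun x hx y hy => ?_
    obtain ⟨c, hc⟩ := (mem_scalars_iff _).1 (hcl x hx y hy)
    have hmem : x * y * x⁻¹ * y⁻¹ ∈ N := N.mul_mem (N.mul_mem (N.mul_mem hx hy) (N.inv_mem hx)) (N.inv_mem hy)
    have hdet : (c : F) ^ n = 1 := by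
      have h1 : Matrix.GeneralLinearGroup.det (x * y * x⁻¹ * y⁻¹) = 1 := by simp [mul_comm]
      have h2 := congrArg Units.val h1
      rw [Matrix.GeneralLinearGroup.val_det_apply, hc, Matrix.det_smul, Matrix.det_one, mul_one, hn, Units.val_one] at h2
      exact h2
    obtain ⟨v, hv⟩ := exists_ne (0 : ι → F)
    obtain ⟨-, w, hw⟩ := hQ.nondegenerate v hv
    have hc2 : (c : F) * c = 1 := by
      have h1 := hHf _ (hNH hmem) v w
      rw [hc, Matrix.smul_mulVec, Matrix.smul_mulVec, Matrix.one_mulVec, Matrix.one_mulVec, hs.smul_left,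
        hs.smul_right, RingHom.id_apply, ← mul_assoc] at h1
      exact mul_right_cancel₀ hw (h1.trans (one_mul _).symm)
    obtain ⟨k, hk⟩ := hn ▸ hodd
    have hc1 : (c : F) = 1 := by
      rw [hk, pow_succ, pow_mul, _root_.sq, hc2, one_pow, one_mul] at hdet
      exact hdet
    have h1 : x * y * x⁻¹ * y⁻¹ = 1 := Units.ext (by rw [hc, hc1, one_smul, Units.val_one])
    calc x * y = (x * y * x⁻¹ * y⁻¹) * (y * x) := by group
      _ = y * x := by rw [h1, one_mul]
  have hperf : ⁅N, N⁆ = N := by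
    refine hmin _ (Subgroup.commutator_le_self N) ?_ ?_
    · intro g hg x hx
      have hmap : (⁅N, N⁆).map (MulAut.conj g).toMonoidHom ≤ ⁅N, N⁆ := by
        rw [Subgroup.map_commutator]
        apply Subgroup.commutator_mono <;>
        · rintro _ ⟨a, ha, rfl⟩; exact hinv g hg a ha
      exact hmap ⟨x, hx, rfl⟩
    · intro hle
      exact hcl fun x hx y hy => hle (Subgroup.commutator_mem_commutator hx hy)
  rcases simple_or_power hNH hinv hspan hcl hmin with h | ⟨a, t, -, ht, hat⟩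
  swap
  · exact absurd (hat ▸ hpι) (Nat.Prime.not_prime_pow ht)
  refine ⟨N, residualCore_of_simple hNH hinv hspan hperf hns h (fun F₀ h0 hr => hreal ⟨F₀, h0, hr⟩), ?_⟩
  rintro ⟨σ, f, hf, hfix⟩
  exact hreal (realisable_of_bilinear hspan hf hfix hs hQ.nondegenerate hNf)

end CfsgLib.Geo.Asch
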