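import Mathlib
import Cfsg.Prelude.Def_GeometricClasses
import Cfsg.Agent.Lib.Geo.AschEvenProper
import Cfsg.Agent.Lib.Geo.AschEvenClasses
import Cfsg.Agent.Lib.Geo.AschOrth
import Cfsg.Agent.Lib.Geo.AschFormField
import Cfsg.Agent.Lib.GeomClasses.OrthFramesTwo

/-! Orthogonal decompositions stabilised by a maximal subgroup of Ω in even dimension. -/

set_option autoImplicit false
set_option linter.unusedSectionVars false

namespace CfsgLib.Geo.AschEven

open Cfsg Cfsg.Geo Matrix QuadraticMap CfsgLib.GeomClasses CfsgLib.Maximal.TensorTools CfsgLib.Geo.Asch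
open scoped MatrixGroups

variable {ι : Type} [Fintype ι] [DecidableEq ι] {F : Type*} [Field F] [Fintype F] {Q : (ι → F) → F}

theorem two_ne_zero_of_odd_nondegenerate [Nonempty ι] (hQ : IsNondegenerateQuadraticForm Q)
    {W : Submodule F (ι → F)} (hW : IsNondegenerateOn (polar Q) W) (hd : Odd (Module.finrank F W)) :
    (2 : F) ≠ 0 := fun h =>
  Nat.not_even_iff_odd.2 hd (even_iff_two_dvd.2 (two_dvd_finrank_of_nondegenerate (polar_symplectic hQ h) hW))

theorem odd_card_of_two_ne_zero (h2 : (2 : F) ≠ 0) : Odd (Fintype.card F) := by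
  by_contra h
  exact h2 (two_eq_zero_of_not_odd h)

theorem quad_sum_orth (hQ : IsNondegenerateQuadraticForm Q) {κ : Type} [DecidableEq κ] {x : κ → ι → F}
    (s : Finset κ) (h : ∀ i j, i ≠ j → polar Q (x i) (x j) = 0) : Q (∑ i ∈ s, x i) = ∑ i ∈ s, Q (x i) := by
  induction s using Finset.induction_on with
  | empty => simpa using hQ.smul 0 0
  | insert a s ha ih =>
    rw [Finset.sum_insert ha, Finset.sum_insert ha, ← ih]
    have h1 : polar Q (x a) (∑ i ∈ s, x i) = 0 := by
      rw [(polar_isSesq hQ).sum_right]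
      exact Finset.sum_eq_zero fun i hi => h a i fun e => ha (e ▸ hi)
    rw [QuadraticMap.polar] at h1
    linear_combination h1

/-- A decomposition stabilised irreducibly by isometries has isometric members. -/
theorem isometric_of_irreducible [Nonempty ι] {H : Subgroup (GL ι F)}
    (hHΩ : H ≤ omegaGL Q) (hirr : ActsIrreducibly (matrixSet H)) {t m : ℕ} {D : Fin t → Submodule F (ι → F)}
    (hD : IsNondegenerateMDecomposition (polar Q) m D) (hle : H ≤ decompositionStabilizer D) :
    IsOrthogonalMDecomposition Q m D := by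
  classical
  refine ⟨hD, fun i₁ j => ?_⟩
  obtain ⟨g, hg, hgj⟩ : ∃ g ∈ H, (D i₁).map (Matrix.toLin' (g : Matrix ι ι F)) = D j := by
    by_contra hno
    push Not at hno
    let S : Submodule F (ι → F) := ⨆ (g : GL ι F) (_ : g ∈ H), (D i₁).map (Matrix.toLin' (g : Matrix ι ι F))
    have hS : S = ⊤ := by
      refine eq_top_of_invariant hirr S (fun k hk => ?_) ?_
      · simp only [S, Submodule.map_iSup]
        refine iSup₂_le fun g hg => le_iSup₂_of_le (k * g) (H.mul_mem hk hg) (le_of_eq ?_)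
        simp only [← Submodule.map_comp, Units.val_mul, Matrix.toLin'_mul]
      · intro h0
        have h1 : (D i₁).map (Matrix.toLin' ((1 : GL ι F) : Matrix ι ι F)) ≤ S :=
          le_iSup₂_of_le 1 H.one_mem le_rfl
        rw [h0] at h1
        simp at h1
        have := hD.decomp.finrank_eq i₁
        rw [h1, finrank_bot] at this
        exact hD.decomp.pos.ne this
    have hle' : S ≤ ⨆ (i : Fin t) (_ : i ≠ j), D i := by
      refine iSup₂_le fun g hg => ?_
      obtain ⟨τ, hτ⟩ := hle hg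
      rw [hτ]
      exact le_iSup₂_of_le (τ i₁) (fun h => hno g hg (h ▸ hτ i₁)) le_rfl
    have hd := iSupIndep_def.1 hD.decomp.indep j
    rw [hS, top_le_iff] at hle'
    rw [hle', disjoint_top] at hd
    have := hD.decomp.finrank_eq j
    rw [hd, finrank_bot] at this
    exact hD.decomp.pos.ne this
  refine ⟨(Submodule.equivMapOfInjective _ (toLin'_unit_injective _) (D i₁)).trans (LinearEquiv.ofEq _ _ hgj),
    fun w => ?_⟩
  show Q (Matrix.toLin' _ (w : ι → F)) = _
  rw [Matrix.toLin'_apply]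
  exact omega_quad (hHΩ hg) _

theorem no_between {H M : Subgroup (GL ι F)} (hH : IsMaximalIn (omegaGL Q) H) (hle : H ≤ M)
    (h : ∃ K, M ⊓ omegaGL Q < K ∧ K < omegaGL Q) : False := by
  obtain ⟨K, h1, h2⟩ := h
  have hHM : H ≤ M ⊓ omegaGL Q := le_inf hle hH.1.le
  rcases hH.2 K (hHM.trans h1.le) h2.le with h | h
  · subst h
    exact lt_irrefl _ (lt_of_lt_of_le h1 hHM)
  · exact h2.ne h

theorem decomposition_eq (hQ : IsNondegenerateQuadraticForm Q) (hn : 7 ≤ Fintype.card ι) {H : Subgroup (GL ι F)}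
    (hH : IsMaximalIn (omegaGL Q) H) {t m : ℕ} {D : Fin t → Submodule F (ι → F)}
    (hD : IsNondegenerateMDecomposition (polar Q) m D) (hm : 2 ≤ m) (hmt : m = 2 → 4 ≤ t)
    (hle : H ≤ decompositionStabilizer D) : H = decompositionStabilizer D ⊓ omegaGL Q :=
  eq_inf_of_le hH hle (omega_not_le_blocks hQ hn hD hm hmt)

theorem plus_of_isometric (hQ : IsNondegenerateQuadraticForm Q) {W W' : Submodule F (ι → F)}
    (h : AreIsometricFor Q W W') (hp : IsPlusTypeOn Q W) : IsPlusTypeOn Q W' := by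
  obtain ⟨e, he⟩ := h
  obtain ⟨U, hUW, hU, hUd⟩ := hp
  let φ : U →ₗ[F] (ι → F) := W'.subtype.comp (e.toLinearMap.comp (Submodule.inclusion hUW))
  refine ⟨LinearMap.range φ, ?_, ?_, ?_⟩
  · rintro _ ⟨u, rfl⟩; exact (e _).2
  · rintro _ ⟨u, rfl⟩
    exact (he _).trans (hU _ u.2)
  · rw [LinearMap.finrank_range_of_inj, hUd, e.finrank_eq]
    exact Subtype.val_injective.comp (e.injective.comp (Submodule.inclusion_injective hUW))

theorem plus_iff_of_isometric (hQ : IsNondegenerateQuadraticForm Q) {W W' : Submodule F (ι → F)}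
    (h : AreIsometricFor Q W W') : IsPlusTypeOn Q W ↔ IsPlusTypeOn Q W' :=
  ⟨plus_of_isometric hQ h, plus_of_isometric hQ (by
    obtain ⟨e, he⟩ := h
    exact ⟨e.symm, fun w => by rw [← he (e.symm w), e.apply_symm_apply]⟩)⟩

/-- The type of an orthogonal sum of isometric members of even dimension. -/
theorem plus_iff_of_even_members (hQ : IsNondegenerateQuadraticForm Q) {t k : ℕ}
    {D : Fin t → Submodule F (ι → F)} (hD : IsOrthogonalMDecomposition Q (2 * k) D) (i : Fin t) :
    IsPlusTypeOn Q ⊤ ↔ (Even t ∨ IsPlusTypeOn Q (D i)) := by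
  have h := plus_iff_of_blocks (q := quadOf hQ) (IsPlusTypeOn Q (D i)) hD.decomp.nondegenerate hD.decomp.orthogonal
    hD.decomp.decomp.finrank_eq (fun j => plus_iff_of_isometric hQ (hD.isometric j i))
  rw [hD.decomp.decomp.iSup_eq_top, Fintype.card_fin] at h
  exact h

/-- The type of an orthogonal sum of isometric members of odd dimension. -/
theorem plus_iff_of_odd_members (hQ : IsNondegenerateQuadraticForm Q) (h2 : (2 : F) ≠ 0) {t k m : ℕ}
    (ht : t = 2 * k) (hm : Odd m)
    {D : Fin t → Submodule F (ι → F)} (hD : IsOrthogonalMDecomposition Q m D) :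
    IsPlusTypeOn Q ⊤ ↔ (Even k ∨ IsSquare (-1 : F)) := by
  classical
  subst ht
  let a : Fin k → Fin (2 * k) := fun i => ⟨2 * i.1, by omega⟩
  let b : Fin k → Fin (2 * k) := fun i => ⟨2 * i.1 + 1, by omega⟩
  let P : Fin k → Submodule F (ι → F) := fun i => D (a i) ⊔ D (b i)
  have hab : ∀ i, a i ≠ b i := fun i h => by simp [a, b, Fin.ext_iff] at h
  have hpair : ∀ i, OrthPair (quadOf hQ) (D (a i)) (D (b i)) := fun i =>
    ⟨hD.decomp.nondegenerate _, hD.decomp.nondegenerate _, hD.decomp.orthogonal _ _ (hab i)⟩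
  have hplus : ∀ i, IsPlusTypeOn ⇑(quadOf hQ) (P i) ↔ IsSquare (-1 : F) := fun i => by
    obtain ⟨e, he⟩ := hD.isometric (a i) (b i)
    exact plus_scaled_pair h2 (hpair i) hm (hD.decomp.decomp.finrank_eq _) e
      fun w => (he w).trans (one_mul _).symm
  have horth : ∀ i j, i ≠ j → AreOrthogonalFor (polar ⇑(quadOf hQ)) (P i) (P j) := by
    intro i j hij u hu v hv
    obtain ⟨x, hx, y, hy, rfl⟩ := Submodule.mem_sup.1 hu
    obtain ⟨z, hz, w, hw, rfl⟩ := Submodule.mem_sup.1 hv
    have hne : a i ≠ a j ∧ a i ≠ b j ∧ b i ≠ a j ∧ b i ≠ b j := by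
      have := Fin.val_ne_of_ne hij
      refine ⟨?_, ?_, ?_, ?_⟩ <;> intro h <;> simp [a, b, Fin.ext_iff] at h <;> omega
    have e1 : polar (quadOf hQ) x z = 0 := hD.decomp.orthogonal _ _ hne.1 x hx z hz
    have e2 : polar (quadOf hQ) x w = 0 := hD.decomp.orthogonal _ _ hne.2.1 x hx w hw
    have e3 : polar (quadOf hQ) y z = 0 := hD.decomp.orthogonal _ _ hne.2.2.1 y hy z hz
    have e4 : polar (quadOf hQ) y w = 0 := hD.decomp.orthogonal _ _ hne.2.2.2 y hy w hw
    simp only [polar_add_left, polar_add_right, e1, e2, e3, e4, add_zero]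
  have htop : iSup P = ⊤ := by
    rw [eq_top_iff, ← hD.decomp.decomp.iSup_eq_top]
    refine iSup_le fun j => ?_
    have hj : D j ≤ P ⟨j.1 / 2, by omega⟩ := by
      rcases Nat.mod_two_eq_zero_or_one j.1 with h | h
      · exact le_sup_of_le_left (le_of_eq (congrArg D (Fin.ext (by simp [a]; omega))))
      · exact le_sup_of_le_right (le_of_eq (congrArg D (Fin.ext (by simp [b]; omega))))
    exact hj.trans (le_iSup P _)
  have h := plus_iff_of_blocks (q := quadOf hQ) (k := m) (IsSquare (-1 : F))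
    (fun i => (hpair i).nondegenerateOn_sup) horth
    (fun i => by rw [(hpair i).finrank_sup, hD.decomp.decomp.finrank_eq, hD.decomp.decomp.finrank_eq, two_mul])
    hplus
  rw [htop, Fintype.card_fin] at h
  exact h

/-- Vectors of one value, orthogonal or proportional, give a decomposition into lines. -/
theorem frame_of_vectors [Nonempty ι] (hQ : IsNondegenerateQuadraticForm Q) (h2 : (2 : F) ≠ 0) {n : ℕ}
    (hn : Fintype.card ι = n) (hn2 : 2 ≤ n) {H : Subgroup (GL ι F)} (hirr : ActsIrreducibly (matrixSet H))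
    {S : Set (ι → F)} {δ : F} (hδ : δ ≠ 0) (hS0 : S.Nonempty) (hval : ∀ v ∈ S, Q v = δ)
    (hinv : ∀ g ∈ H, ∀ v ∈ S, (g : Matrix ι ι F) *ᵥ v ∈ S)
    (hrig : ∀ v ∈ S, ∀ w ∈ S, polar Q v w ≠ 0 → w ∈ Submodule.span F {v}) :
    ∃ D : Fin n → Submodule F (ι → F), IsOrthogonalMDecomposition Q 1 D ∧ H ≤ decompositionStabilizer D := by
  classical
  have hs := polar_isSesq hQ
  have hne : ∀ v ∈ S, v ≠ 0 := fun v hv h => hδ (by
    rw [← hval v hv, h]; simpa using hQ.smul 0 0)
  have hself : ∀ v ∈ S, polar Q v v = 2 * δ := fun v hv => by rw [quad_polar_self hQ, hval v hv]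
  let T : Set (Submodule F (ι → F)) := (fun v => Submodule.span F {v}) '' S
  haveI : Fintype T := Fintype.ofFinite _
  let en : Fin (Fintype.card T) ≃ T := (Fintype.equivFin T).symm
  choose v hvS hv using fun i => (en i).2
  have hvE : ∀ i, (en i : Submodule F (ι → F)) = Submodule.span F {v i} := fun i => (hv i).symm
  have horth : ∀ i j, i ≠ j → polar Q (v i) (v j) = 0 := by
    intro i j hij
    by_contra h
    refine hij (en.injective (Subtype.ext ?_))
    rw [hvE, hvE]
    refine (Submodule.eq_of_le_of_finrank_eq ((Submodule.span_singleton_le_iff_mem _ _).2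
      (hrig _ (hvS i) _ (hvS j) h)) ?_).symm
    rw [finrank_span_singleton (hne _ (hvS i)), finrank_span_singleton (hne _ (hvS j))]
  have hli : LinearIndependent F v := by
    rw [Fintype.linearIndependent_iff]
    intro c hc i
    have h := congrArg (fun x => polar Q x (v i)) hc
    simp only [hs.sum_left, hs.smul_left, hs.zero_left] at h
    rw [Finset.sum_eq_single i (fun j _ hj => by rw [horth j i hj, mul_zero]) (by simp), hself _ (hvS i)] at h
    exact (mul_eq_zero.1 h).resolve_right (mul_ne_zero h2 hδ)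
  have hinvL : ∀ g ∈ H, ∀ i, ∃ j, (Submodule.span F {v i}).map (Matrix.toLin' (g : Matrix ι ι F)) =
      Submodule.span F {v j} := fun g hg i => by
    refine ⟨en.symm ⟨_, _, hinv g hg _ (hvS i), rfl⟩, ?_⟩
    rw [← hvE (en.symm _), en.apply_symm_apply, Submodule.map_span, Set.image_singleton, Matrix.toLin'_apply]
  have htop : ⨆ i, Submodule.span F {v i} = ⊤ := by
    refine eq_top_of_invariant hirr _ (fun g hg => ?_) fun h => ?_
    · rw [Submodule.map_iSup]
      exact iSup_le fun i => by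
        obtain ⟨j, hj⟩ := hinvL g hg i
        rw [hj]
        exact le_iSup (fun i => Submodule.span F {v i}) j
    · obtain ⟨w, hw⟩ := hS0
      have h1 := le_iSup (fun i => Submodule.span F {v i}) (en.symm ⟨_, w, hw, rfl⟩)
      rw [h, le_bot_iff, Submodule.span_singleton_eq_bot] at h1
      exact hne _ (hvS _) h1
  have hk : Fintype.card T = n := by
    have h := finrank_span_eq_card hli
    rw [Submodule.span_range_eq_iSup, htop, finrank_top, Module.finrank_fintype_fun_eq_card,
      Fintype.card_fin, hn] at h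
    exact h.symm
  let c : Fin n ≃ Fin (Fintype.card T) := finCongr hk.symm
  refine ⟨fun i => Submodule.span F {v (c i)},
    ⟨⟨⟨hn2, one_pos, fun i => finrank_span_singleton (hne _ (hvS _)), ?_, ?_⟩, fun i => ?_, fun i j hij => ?_⟩,
      fun i j => ?_⟩, fun g hg => ?_⟩
  · exact (hli.iSupIndep_span_singleton).comp c.injective
  · exact (c.iSup_comp (g := fun j => Submodule.span F {v j})).trans htop
  · refine nondegenerateOn_of_right (q := quadOf hQ) fun x hx hx0 => ⟨v (c i), Submodule.mem_span_singleton_self _, ?_⟩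
    obtain ⟨a, rfl⟩ := Submodule.mem_span_singleton.1 hx
    show polar Q _ _ ≠ 0
    rw [hs.smul_left, hself _ (hvS _)]
    exact mul_ne_zero (fun h => hx0 (by rw [h, zero_smul])) (mul_ne_zero h2 hδ)
  · intro x hx y hy
    obtain ⟨a, rfl⟩ := Submodule.mem_span_singleton.1 hx
    obtain ⟨b, rfl⟩ := Submodule.mem_span_singleton.1 hy
    rw [hs.smul_left, hs.smul_right, horth _ _ (fun h => hij (c.injective h)), mul_zero, mul_zero]
  · refine ⟨(LinearEquiv.toSpanNonzeroSingleton F (ι → F) _ (hne _ (hvS (c i)))).symm.trans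
      (LinearEquiv.toSpanNonzeroSingleton F (ι → F) _ (hne _ (hvS (c j)))), fun w => ?_⟩
    obtain ⟨a, rfl⟩ := (LinearEquiv.toSpanNonzeroSingleton F (ι → F) _ (hne _ (hvS (c i)))).surjective w
    rw [LinearEquiv.trans_apply, LinearEquiv.symm_apply_apply]
    show Q (a • v (c j)) = Q (a • v (c i))
    rw [hQ.smul, hQ.smul, hval _ (hvS _), hval _ (hvS _)]
  · choose σ hσ using hinvL g hg
    have hinj : Function.Injective fun i => c.symm (σ (c i)) := by
      intro i j hij
      have h1 : σ (c i) = σ (c j) := c.symm.injective hij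
      have h3 := (hσ (c i)).trans (h1 ▸ (hσ (c j)).symm)
      have h4 := Submodule.map_injective_of_injective (toLin'_unit_injective g) h3
      rw [← hvE, ← hvE] at h4
      exact c.injective (en.injective (Subtype.ext h4))
    refine ⟨Equiv.ofBijective _ (Finite.injective_iff_bijective.1 hinj), fun i => ?_⟩
    show (Submodule.span F {v (c i)}).map _ = Submodule.span F {v (c (c.symm (σ (c i))))}
    rw [c.apply_symm_apply]
    exact hσ (c i)

/-- Over three elements a decomposition into three spaces refines to one into lines. -/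
theorem frame_of_three [Nonempty ι] (hQ : IsNondegenerateQuadraticForm Q) (h3 : Fintype.card F = 3) {n : ℕ}
    (hn : Fintype.card ι = n) (hn2 : 2 ≤ n) {H : Subgroup (GL ι F)} (hHΩ : H ≤ omegaGL Q)
    (hirr : ActsIrreducibly (matrixSet H)) {t : ℕ} {D : Fin t → Submodule F (ι → F)}
    (hD : IsOrthogonalMDecomposition Q 3 D) (hle : H ≤ decompositionStabilizer D) :
    ∃ D' : Fin n → Submodule F (ι → F), IsOrthogonalMDecomposition Q 1 D' ∧ H ≤ decompositionStabilizer D' := by
  let i₀ : Fin t := ⟨0, lt_of_lt_of_le two_pos hD.decomp.decomp.two_le⟩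
  obtain ⟨δ, hδ, ⟨u, hu, huδ⟩, hrig⟩ := OrthFrames.rigid_three hQ h3 (OrthFrames.nondeg_block hD i₀)
    (hD.decomp.decomp.finrank_eq i₀)
  refine frame_of_vectors hQ (CfsgLib.Maximal.TensorThree.two_ne h3) hn hn2 hirr hδ (S := OrthFrames.shell Q D δ)
    ⟨u, i₀, hu, huδ⟩ (fun v ⟨_, _, h⟩ => h) (fun g hg v hv => OrthFrames.shell_invariant hQ δ ⟨hle hg, hHΩ hg⟩ hv)
    ?_
  rintro v ⟨i, hi, hvδ⟩ w ⟨j, hj, hwδ⟩ hne
  have hij : i = j := by
    by_contra h
    exact hne (OrthFrames.orth_blocks hD h hi hj)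
  subst hij
  exact OrthFrames.rigid_transport hD i₀ hrig i v hi w hj hvδ hwδ hne

/-- Over a non-prime field the stabiliser of a decomposition into lines lies in a subfield group. -/
theorem exists_subfield_of_lines [Nonempty ι] (hQ : IsNondegenerateQuadraticForm Q) (h2 : (2 : F) ≠ 0) {n : ℕ}
    (hn : Fintype.card ι = n) {H : Subgroup (GL ι F)} (hHΩ : H ≤ omegaGL Q) {D : Fin n → Submodule F (ι → F)}
    (hD : IsOrthogonalMDecomposition Q 1 D) (hle : H ≤ decompositionStabilizer D)
    (hqp : ¬ (Fintype.card F).Prime) :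
    ∃ (F₀ : Subfield F) (r : ℕ) (P : GL ι F) (ζ : F), r.Prime ∧ Fintype.card F = Nat.card F₀ ^ r ∧ ζ ≠ 0 ∧
      IsQuadFormRationalStructure (fun v => ζ * Q v) F₀ P ∧ H ≤ subfieldSubgroup F₀ P := by
  classical
  have hs := polar_isSesq hQ
  obtain ⟨F₀, r, hr, hcard⟩ := exists_prime_index hqp
  let i₀ : Fin n := ⟨0, lt_of_lt_of_le two_pos hD.decomp.decomp.two_le⟩
  obtain ⟨v₀, hv₀, hv₀0⟩ := Decomp.exists_ne_zero hD.decomp.decomp i₀
  have hc : Q v₀ ≠ 0 := by
    intro h
    obtain ⟨-, y, hy, hne⟩ := hD.decomp.nondegenerate i₀ v₀ hv₀ hv₀0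
    obtain ⟨a, ha⟩ := (finrank_eq_one_iff_of_nonzero' (⟨v₀, hv₀⟩ : D i₀) fun e => hv₀0 (congrArg Subtype.val e)).1
      (hD.decomp.decomp.finrank_eq i₀) ⟨y, hy⟩
    apply hne
    rw [show y = a • v₀ from (congrArg Subtype.val ha).symm, hs.smul_right, quad_polar_self hQ, h]
    simp
  choose ψ hψ using fun j => hD.isometric i₀ j
  let v : Fin n → ι → F := fun j => (ψ j ⟨v₀, hv₀⟩ : D j)
  have hvD : ∀ j, v j ∈ D j := fun j => (ψ j ⟨v₀, hv₀⟩).2
  have hvQ : ∀ j, Q (v j) = Q v₀ := fun j => hψ j ⟨v₀, hv₀⟩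
  have hv0 : ∀ j, v j ≠ 0 := fun j h => hc (by rw [← hvQ j, h]; simpa using hQ.smul 0 0)
  have horth : ∀ i j, i ≠ j → polar Q (v i) (v j) = 0 := fun i j h =>
    hD.decomp.orthogonal i j h _ (hvD i) _ (hvD j)
  have hline : ∀ {j x}, x ∈ D j → ∃ a : F, x = a • v j := fun {j x} hx => by
    obtain ⟨a, ha⟩ := (finrank_eq_one_iff_of_nonzero' (⟨v j, hvD j⟩ : D j) fun e => hv0 j (congrArg Subtype.val e)).1
      (hD.decomp.decomp.finrank_eq j) ⟨x, hx⟩
    exact ⟨a, (congrArg Subtype.val ha).symm⟩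
  let e : ι ≃ Fin n := Fintype.equivFinOfCardEq hn
  let V : Matrix ι ι F := Matrix.of fun a b => v (e b) a
  have hVcol : ∀ b, V *ᵥ Pi.single b 1 = v (e b) := fun b => by funext a; simp [V]
  have hVu : ∀ u, V *ᵥ u = ∑ b, u b • v (e b) := fun u => by
    conv_lhs => rw [pi_eq_sum_univ' u]
    simp only [Matrix.mulVec_sum, Matrix.mulVec_smul, hVcol]
  have hdet : V.det ≠ 0 := fun h0 => by
    obtain ⟨w, hw0, hw⟩ := Matrix.exists_mulVec_eq_zero_iff.2 h0
    obtain ⟨b, hb⟩ := Function.ne_iff.1 hw0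
    have h1 := congrArg (fun z => polar Q z (v (e b))) hw
    simp only [hVu, hs.sum_left, hs.smul_left, hs.zero_left] at h1
    rw [Finset.sum_eq_single b (fun a _ ha => by rw [horth _ _ fun h => ha (e.injective h), mul_zero]) (by simp),
      quad_polar_self hQ, hvQ] at h1
    exact hb ((mul_eq_zero.1 h1).resolve_right (mul_ne_zero h2 hc))
  let P : GL ι F := Matrix.GeneralLinearGroup.mkOfDetNeZero V hdet
  refine ⟨F₀, r, P, (Q v₀)⁻¹, hr, hcard, inv_ne_zero hc, fun u hu => ?_, fun g hg =>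
    mem_subfieldSubgroup_of_entries fun i j => ?_⟩
  · show (Q v₀)⁻¹ * Q (V *ᵥ u) ∈ F₀
    rw [hVu, quad_sum_orth hQ Finset.univ fun a b hab => by
      rw [hs.smul_left, hs.smul_right, horth _ _ fun h => hab (e.injective h), mul_zero, mul_zero], Finset.mul_sum]
    refine F₀.sum_mem fun b _ => ?_
    rw [hQ.smul, hvQ, mul_left_comm, inv_mul_cancel₀ hc, mul_one]
    exact F₀.pow_mem (hu b) 2
  obtain ⟨τ, hτ⟩ := hle hg
  obtain ⟨a, ha⟩ := hline (hτ (e j) ▸ ⟨_, hvD _, Matrix.toLin'_apply _ _⟩ :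
    (g : Matrix ι ι F) *ᵥ v (e j) ∈ D (τ (e j)))
  have ha2 : a = 1 ∨ a = -1 := by
    have h1 := omega_quad (hHΩ hg) (v (e j))
    rw [ha, hQ.smul, hvQ, hvQ] at h1
    exact sq_eq_one_iff.1 (mul_right_cancel₀ hc (by rw [h1, one_mul]))
  have h1 : (g : Matrix ι ι F) *ᵥ ((P : Matrix ι ι F) *ᵥ Pi.single j 1) =
      (P : Matrix ι ι F) *ᵥ (a • Pi.single (e.symm (τ (e j))) 1) := by
    show (g : Matrix ι ι F) *ᵥ (V *ᵥ _) = V *ᵥ _
    rw [Matrix.mulVec_smul, hVcol, hVcol, ha, Equiv.apply_symm_apply]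
  have h3 : ((P⁻¹ * g * P : GL ι F) : Matrix ι ι F) *ᵥ Pi.single j 1 =
      a • (Pi.single (e.symm (τ (e j))) 1 : ι → F) := by
    rw [Units.val_mul, Units.val_mul, ← Matrix.mulVec_mulVec, ← Matrix.mulVec_mulVec, h1, gl_inv_mulVec_mulVec]
  have h4 := congrFun h3 i
  simp only [Matrix.mulVec_single_one, Matrix.col_apply, Pi.smul_apply, smul_eq_mul] at h4
  rw [h4]
  refine F₀.mul_mem ?_ (by by_cases h : i = e.symm (τ (e j)) <;> simp [h, F₀.one_mem, F₀.zero_mem])
  rcases ha2 with rfl | rfl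
  · exact F₀.one_mem
  · exact F₀.neg_mem F₀.one_mem

/-- Planes over small fields do not give maximal subgroups. -/
theorem small_planes_false (hQ : IsNondegenerateQuadraticForm Q) {H : Subgroup (GL ι F)}
    (hH : IsMaximalIn (omegaGL Q) H) {t : ℕ} (ht : 5 ≤ t) {D : Fin t → Submodule F (ι → F)}
    (hD : IsOrthogonalMDecomposition Q 2 D) (hle : H ≤ decompositionStabilizer D)
    (hsmall : ((∀ i, IsPlusTypeOn Q (D i)) ∧ Fintype.card F < 7) ∨ Fintype.card F = 3) : False := by
  classical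
  let i₀ : Fin t := ⟨0, by omega⟩
  refine no_between hH hle ?_
  by_cases h3 : Fintype.card F = 3
  · obtain ⟨u, hu, -, huv⟩ := exists_value hQ (hD.decomp.nondegenerate i₀)
      (by rw [hD.decomp.decomp.finrank_eq]) (c := 1) one_ne_zero
    exact OrthFrames.case_odd hQ (CfsgLib.Maximal.TensorThree.two_ne h3) hD ht le_rfl one_ne_zero i₀ hu huv
      (OrthFrames.rigid_plane_three hQ h3 (OrthFrames.nondeg_block hD i₀) (hD.decomp.decomp.finrank_eq i₀) one_ne_zero)
  obtain ⟨hp, hlt⟩ := hsmall.resolve_right h3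
  have h6 : Fintype.card F ≠ 6 := fun h => by
    obtain ⟨p, _⟩ := CharP.exists F
    obtain ⟨k, hpp, hk⟩ := FiniteField.card F p
    have h2d : 2 ∣ p := Nat.Prime.dvd_of_dvd_pow Nat.prime_two (n := k) (by rw [← hk, h]; norm_num)
    have h3d : 3 ∣ p := Nat.Prime.dvd_of_dvd_pow Nat.prime_three (n := k) (by rw [← hk, h]; norm_num)
    have := (Nat.prime_dvd_prime_iff_eq Nat.prime_two hpp).1 h2d
    have := (Nat.prime_dvd_prime_iff_eq Nat.prime_three hpp).1 h3d
    omega
  have h1 := Fintype.one_lt_card (α := F)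
  by_cases h5 : Fintype.card F = 5
  · obtain ⟨⟨u, hu, huv⟩, hrig⟩ := OrthFrames.rigid_plane_five hQ h5 (OrthFrames.nondeg_block hD i₀)
      (hD.decomp.decomp.finrank_eq i₀) (hp i₀)
    exact OrthFrames.case_odd hQ (two_ne_zero_of_odd (by rw [h5]; decide)) hD ht le_rfl one_ne_zero i₀ hu huv hrig
  have h20 : (2 : F) = 0 := two_eq_zero_of_not_odd (by
    rw [Nat.not_odd_iff_even]
    have : Fintype.card F = 2 ∨ Fintype.card F = 4 := by omega
    rcases this with h | h <;> rw [h] <;> decide)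
  have hneg : ∀ x : F, -x = x := fun x => by linear_combination (-x) * h20
  by_cases h22 : Fintype.card F = 2
  · refine OrthFrames.case_two_plane hQ h20 hD ht hp ⊥ (fun c hc => Or.inl ((AddSubgroup.mem_bot).1 hc))
      (fun r s h => ?_) 1 (by simp)
    have hone : ∀ x : F, x ≠ 0 → x = 1 := fun x hx => by
      simpa [h22] using FiniteField.pow_card_sub_one_eq_one x hx
    rw [AddSubgroup.mem_bot, hone r (left_ne_zero_of_mul_eq_one h), hone s (right_ne_zero_of_mul_eq_one h)]
    linear_combination h20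
  have h4 : Fintype.card F = 4 := by omega
  let P : AddSubgroup F :=
    { carrier := {x | x = 0 ∨ x = 1}
      zero_mem' := Or.inl rfl
      add_mem' := fun {a b} ha hb => by
        rcases ha with rfl | rfl <;> rcases hb with rfl | rfl
        · exact Or.inl (add_zero 0)
        · exact Or.inr (zero_add 1)
        · exact Or.inr (add_zero 1)
        · exact Or.inl (by linear_combination h20)
      neg_mem' := fun {a} ha => by show -a = 0 ∨ -a = 1; rw [hneg]; exact ha }
  obtain ⟨ω, hω⟩ : ∃ ω : F, ω ∉ P := by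
    by_contra hc
    push Not at hc
    have hsub : (Finset.univ : Finset F) ⊆ {0, 1} := fun x _ => by
      rcases hc x with h | h <;> simp [h]
    have := (Finset.card_le_card hsub).trans Finset.card_le_two
    rw [Finset.card_univ] at this
    omega
  refine OrthFrames.case_two_plane hQ h20 hD ht hp P (fun c hc => hc) (fun r s h => ?_) ω hω
  have hr := FiniteField.pow_card_sub_one_eq_one r (left_ne_zero_of_mul_eq_one h)
  rw [h4] at hr
  have hs : s = r * r := by linear_combination (r * r) * h - s * hr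
  show r + s = 0 ∨ r + s = 1
  have hi : (r + s) * ((r + s) - 1) = 0 := by
    rw [hs]
    linear_combination r * hr + (r * r * r) * h20
  rcases mul_eq_zero.1 hi with h | h
  · exact Or.inl h
  · exact Or.inr (sub_eq_zero.1 h)

/-- Plus type four-spaces over two elements do not give maximal subgroups. -/
theorem small_fours_false (hQ : IsNondegenerateQuadraticForm Q) {H : Subgroup (GL ι F)}
    (hH : IsMaximalIn (omegaGL Q) H) {t : ℕ} (ht : 3 ≤ t) {D : Fin t → Submodule F (ι → F)}
    (hD : IsOrthogonalMDecomposition Q 4 D) (hle : H ≤ decompositionStabilizer D)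
    (hp : ∀ i, IsPlusTypeOn Q (D i)) (h2 : Fintype.card F = 2) : False :=
  no_between hH hle (OrthFrames.case_four hQ h2 hD ht hp)

end CfsgLib.Geo.AschEven
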