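import Mathlib
import Cfsg.Prelude.Def_GeometricClasses
import Cfsg.Agent.Lib.Geo.AschEvenDecomp

/-! Reducible maximal subgroups of Ω in dimensions ten and twelve. -/

set_option autoImplicit false
set_option linter.unusedSectionVars false

namespace CfsgLib.Geo.AschEven

open Cfsg Cfsg.Geo Matrix QuadraticMap CfsgLib.GeomClasses CfsgLib.Maximal.TensorTools CfsgLib.Geo.Asch
open scoped MatrixGroups

variable {ι : Type} [Fintype ι] [DecidableEq ι] {F : Type*} [Field F] [Fintype F] {Q : (ι → F) → F}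

theorem stab_perp {H : Subgroup (GL ι F)} (hQ : IsNondegenerateQuadraticForm Q) (hHΩ : H ≤ omegaGL Q)
    {W : Submodule F (ι → F)} (h : H ≤ subspaceStabilizer W) :
    H ≤ subspaceStabilizer ((herm_polar hQ).perp W) := fun g hg =>
  mem_subspaceStabilizer.2 fun v hv => (herm_polar hQ).mem_perp'.2 fun y hy => by
    rw [← gl_mulVec_inv_mulVec g y, omega_polar hQ (hHΩ hg)]
    exact (herm_polar hQ).mem_perp'.1 hv _ (mem_subspaceStabilizer.1 (h (H.inv_mem hg)) y hy)

theorem subspace_eq (hQ : IsNondegenerateQuadraticForm Q) (hn : 7 ≤ Fintype.card ι) {H : Subgroup (GL ι F)}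
    (hH : IsMaximalIn (omegaGL Q) H) {W : Submodule F (ι → F)} (h : H ≤ subspaceStabilizer W) (h0 : W ≠ ⊥)
    (h1 : W ≠ ⊤) : H = subspaceStabilizer W ⊓ omegaGL Q :=
  eq_inf_of_le hH h (omega_not_le_subspace hQ hn h0 h1)

theorem ne_bot_top_of_finrank {W : Submodule F (ι → F)} (h0 : 0 < Module.finrank F W)
    (h1 : Module.finrank F W < Fintype.card ι) : W ≠ ⊥ ∧ W ≠ ⊤ := by
  refine ⟨?_, ?_⟩ <;> rintro rfl
  · rw [finrank_bot] at h0; omega
  · rw [finrank_top, Module.finrank_fintype_fun_eq_card] at h1; omega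

/-- A plus type plane over two or three elements has an invariant non-singular line. -/
theorem line_of_small_plane (hQ : IsNondegenerateQuadraticForm Q) {H : Subgroup (GL ι F)} (hHΩ : H ≤ omegaGL Q)
    {W : Submodule F (ι → F)} (hW : IsNondegenerateOn (polar Q) W) (hd : Module.finrank F W = 2)
    (hp : IsPlusTypeOn Q W) (hq : Fintype.card F < 4) (hle : H ≤ subspaceStabilizer W) :
    ∃ v, Q v ≠ 0 ∧ H ≤ subspaceStabilizer (Submodule.span F {v}) := by
  obtain ⟨x, y, hx, hy, hqx, hqy, hxy, hexp⟩ :=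
    OrthFrames.plus_plane hQ (fun w hw h0 => (hW w hw h0).2) hd hp
  have hh := herm_polar hQ
  have hval : ∀ a b : F, Q (a • x + b • y) = a * b := fun a b => by
    have h : polar Q (a • x) (b • y) = a * b := by
      rw [hh.smul_left, hh.smul_right, hxy, RingEquiv.refl_apply, mul_one]
    rw [QuadraticMap.polar, hQ.smul, hQ.smul, hqx, hqy] at h
    linear_combination h
  have hqv : Q (x + y) = 1 := by simpa using hval 1 1
  refine ⟨x + y, by rw [hqv]; exact one_ne_zero, fun g hg => mem_subspaceStabilizer.2 fun v hv => ?_⟩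
  obtain ⟨c, rfl⟩ := Submodule.mem_span_singleton.1 hv
  rw [Matrix.mulVec_smul]
  refine Submodule.smul_mem _ _ ?_
  have hmem := hexp _ (mem_subspaceStabilizer.1 (hle hg) _ (W.add_mem hx hy))
  generalize polar Q ((g : Matrix ι ι F) *ᵥ (x + y)) y = a at hmem
  generalize polar Q ((g : Matrix ι ι F) *ᵥ (x + y)) x = b at hmem
  have h1 := omega_quad (hHΩ hg) (x + y)
  rw [hmem, hval, hqv] at h1
  have ha : a ≠ 0 := left_ne_zero_of_mul_eq_one h1
  have hab : a = b := by
    have h := FiniteField.pow_card_sub_one_eq_one a ha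
    have h2 : Fintype.card F = 2 ∨ Fintype.card F = 3 := by
      have := Fintype.one_lt_card (α := F); omega
    rcases h2 with h2 | h2 <;> rw [h2] at h
    · simp only [Nat.add_one_sub_one, pow_one] at h
      rw [h, one_mul] at h1
      rw [h, h1]
    · exact mul_left_cancel₀ ha ((show a * a = 1 by linear_combination h).trans h1.symm)
  rw [hmem, ← hab, ← smul_add]
  exact Submodule.smul_mem _ _ (Submodule.mem_span_singleton_self _)

/-- The outcomes for a reducible maximal subgroup; `m` is half the dimension. -/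
def ReducibleOutcome (Q : (ι → F) → F) (m : ℕ) (H : Subgroup (GL ι F)) : Prop :=
  (∃ W : Submodule F (ι → F), W ≠ ⊥ ∧ IsTotallySingularQuad Q W ∧ (IsPlusTypeOn Q ⊤ → Module.finrank F W + 1 ≠ m) ∧
    H = subspaceStabilizer W ⊓ omegaGL Q) ∨
  (Odd (Fintype.card F) ∧ ∃ W : Submodule F (ι → F), W ≠ ⊥ ∧ W ≠ ⊤ ∧ Odd (Module.finrank F W) ∧
    Module.finrank F W ≠ m ∧ IsNondegenerateOn (polar Q) W ∧ H = subspaceStabilizer W ⊓ omegaGL Q) ∨
  (∃ W : Submodule F (ι → F), Module.finrank F W = 2 ∧ IsNondegenerateOn (polar Q) W ∧ ¬ IsPlusTypeOn Q W ∧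
    H = subspaceStabilizer W ⊓ omegaGL Q) ∨
  (4 ≤ Fintype.card F ∧ ∃ W : Submodule F (ι → F), Module.finrank F W = 2 ∧ IsNondegenerateOn (polar Q) W ∧
    IsPlusTypeOn Q W ∧ H = subspaceStabilizer W ⊓ omegaGL Q) ∨
  (∃ W : Submodule F (ι → F), Module.finrank F W = 4 ∧ IsNondegenerateOn (polar Q) W ∧
    H = subspaceStabilizer W ⊓ omegaGL Q) ∨
  (¬ Odd (Fintype.card F) ∧ ∃ v : ι → F, Q v ≠ 0 ∧ H = subspaceStabilizer (Submodule.span F {v}) ⊓ omegaGL Q) ∨
  (∃ W : Submodule F (ι → F), Module.finrank F W = m ∧ IsNondegenerateOn (polar Q) W ∧ H ≤ subspaceStabilizer W ∧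
    H = subspaceStabilizer W ⊓ omegaGL Q)

/-- The stabiliser of a line spanned by a non-singular vector. -/
theorem vector_outcome [Nonempty ι] (hQ : IsNondegenerateQuadraticForm Q) {m : ℕ} (hι : Fintype.card ι = 2 * m)
    (hm : 5 ≤ m) {H : Subgroup (GL ι F)} (hH : IsMaximalIn (omegaGL Q) H) {v : ι → F} (hv : Q v ≠ 0)
    (hle : H ≤ subspaceStabilizer (Submodule.span F {v})) : ReducibleOutcome Q m H := by
  have hv0 : v ≠ 0 := fun h => hv (by rw [h]; simpa using hQ.smul 0 0)
  have hd : Module.finrank F (Submodule.span F {v}) = 1 := finrank_span_singleton hv0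
  obtain ⟨h0, h1⟩ := ne_bot_top_of_finrank (W := Submodule.span F {v}) (by omega) (by omega)
  have he := subspace_eq hQ (by omega) hH hle h0 h1
  by_cases hodd : Odd (Fintype.card F)
  · refine Or.inr (Or.inl ⟨hodd, _, h0, h1, by rw [hd]; exact odd_one, by omega, ?_, he⟩)
    refine nondegenerateOn_of_right (q := quadOf hQ) fun x hx hx0 => ⟨v, Submodule.mem_span_singleton_self v, ?_⟩
    obtain ⟨c, rfl⟩ := Submodule.mem_span_singleton.1 hx
    show polar Q _ _ ≠ 0
    rw [(herm_polar hQ).smul_left, quad_polar_self hQ]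
    exact mul_ne_zero (fun h => hx0 (by rw [h, zero_smul])) (mul_ne_zero (two_ne_zero_of_odd hodd) hv)
  · exact Or.inr (Or.inr (Or.inr (Or.inr (Or.inr (Or.inl ⟨hodd, v, hv, he⟩)))))

/-- The reducible case in dimension ten or twelve. -/
theorem reducible_outcome [Nonempty ι] (hQ : IsNondegenerateQuadraticForm Q) {m : ℕ} (hι : Fintype.card ι = 2 * m)
    (hm : m = 5 ∨ m = 6) {H : Subgroup (GL ι F)} (hH : IsMaximalIn (omegaGL Q) H)
    (hred : ¬ ActsIrreducibly (matrixSet H)) : ReducibleOutcome Q m H := by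
  classical
  have hh := herm_polar hQ
  have hHΩ : H ≤ omegaGL Q := hH.1.le
  have hn : 7 ≤ Fintype.card ι := by omega
  obtain ⟨W, hW, hW1, hW2⟩ : ∃ W : Submodule F (ι → F),
      (∀ s ∈ matrixSet H, W.map (Matrix.toLin' s) ≤ W) ∧ W ≠ ⊥ ∧ W ≠ ⊤ := by
    unfold ActsIrreducibly at hred
    push Not at hred
    exact hred
  have hWst : H ≤ subspaceStabilizer W := fun g hg =>
    mem_subspaceStabilizer.2 fun v hv => invariant_map_mem hW ⟨g, hg, rfl⟩ hv
  by_cases hR : W ⊓ hh.perp W = ⊥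
  swap
  · set X := W ⊓ hh.perp W with hX
    have hXst : ∀ g ∈ H, ∀ v ∈ X, (g : Matrix ι ι F) *ᵥ v ∈ X := fun g hg v hv =>
      ⟨mem_subspaceStabilizer.1 (hWst hg) v hv.1, mem_subspaceStabilizer.1 (stab_perp hQ hHΩ hWst hg) v hv.2⟩
    have hXts : IsTotallySingularFor (polar Q) X := fun u hu v hv => hh.mem_perp'.1 hv.2 u hu.1
    obtain ⟨X₀, hX₀le, hX₀, hX₀mem, hX₀d⟩ := exists_singular_kernel hQ hXts
    by_cases h0 : X₀ = ⊥
    · rw [h0, finrank_bot] at hX₀d
      obtain ⟨v, hvX, hv0⟩ := Submodule.exists_mem_ne_zero_of_ne_bot hR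
      have hv : Q v ≠ 0 := fun h => hv0 (by
        have := hX₀mem v hvX h
        rw [h0, Submodule.mem_bot] at this
        exact this)
      refine vector_outcome hQ hι (by omega) hH hv fun g hg => mem_subspaceStabilizer.2 ?_
      have hXv : Submodule.span F {v} = X := Submodule.eq_of_le_of_finrank_le
        ((Submodule.span_singleton_le_iff_mem _ _).2 hvX) (by rw [finrank_span_singleton hv0]; omega)
      rw [hXv]
      exact hXst g hg
    have hX₀st : H ≤ subspaceStabilizer X₀ := fun g hg => mem_subspaceStabilizer.2 fun v hv =>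
      hX₀mem _ (hXst g hg v (hX₀le hv)) (by rw [omega_quad (hHΩ hg)]; exact hX₀ v hv)
    by_cases hspec : IsPlusTypeOn Q ⊤ ∧ Module.finrank F X₀ + 1 = m
    · obtain ⟨hplus, hd⟩ := hspec
      obtain ⟨U, hUd, hU, hUst⟩ := exists_fixed_half hQ hι (by omega) hplus hHΩ hX₀ hd hX₀st
      obtain ⟨hU0, hU1⟩ := ne_bot_top_of_finrank (W := U) (by omega) (by omega)
      exact Or.inl ⟨U, hU0, hU, fun _ => by omega, subspace_eq hQ hn hH hUst hU0 hU1⟩
    exact Or.inl ⟨X₀, h0, hX₀, fun hp he => hspec ⟨hp, he⟩, subspace_eq hQ hn hH hX₀st h0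
      fun h => hW2 (top_le_iff.1 (h ▸ hX₀le.trans inf_le_left))⟩
  -- a non-degenerate subspace
  have hWn := hh.nondegenerateOn_of_disjoint hR
  have hdim : Module.finrank F W + Module.finrank F (hh.perp W) = 2 * m := by
    have := hh.finrank_perp W
    have h1 := Submodule.finrank_le W
    rw [Module.finrank_fintype_fun_eq_card] at h1
    omega
  have hWlt := Submodule.finrank_lt hW2
  rw [Module.finrank_fintype_fun_eq_card] at hWlt
  have hWpos : 0 < Module.finrank F W := Nat.pos_of_ne_zero fun h => hW1 (Submodule.finrank_eq_zero.1 h)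
  suffices key : ∀ U : Submodule F (ι → F), IsNondegenerateOn (polar Q) U → H ≤ subspaceStabilizer U →
      (Module.finrank F U = 2 ∨ Module.finrank F U = 4 ∨ Module.finrank F U = m ∨
        Odd (Module.finrank F U)) → 0 < Module.finrank F U → Module.finrank F U < 2 * m → ReducibleOutcome Q m H by
    by_cases hodd : Odd (Module.finrank F W)
    · exact key W hWn hWst (Or.inr (Or.inr (Or.inr hodd))) hWpos (by omega)
    obtain ⟨k, hk⟩ := Nat.not_odd_iff_even.1 hodd
    have : Module.finrank F W = 2 ∨ Module.finrank F W = 4 ∨ Module.finrank F W = m ∨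
        Module.finrank F (hh.perp W) = 2 ∨ Module.finrank F (hh.perp W) = 4 := by
      rcases hm with rfl | rfl <;> omega
    rcases this with h | h | h | h | h
    · exact key W hWn hWst (Or.inl h) hWpos (by omega)
    · exact key W hWn hWst (Or.inr (Or.inl h)) hWpos (by omega)
    · exact key W hWn hWst (Or.inr (Or.inr (Or.inl h))) hWpos (by omega)
    · exact key _ (hh.nondegenerateOn_perp hWn) (stab_perp hQ hHΩ hWst) (Or.inl h) (by omega) (by omega)
    · exact key _ (hh.nondegenerateOn_perp hWn) (stab_perp hQ hHΩ hWst) (Or.inr (Or.inl h)) (by omega) (by omega)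
  intro U hUn hUst hU hU0 hU1
  obtain ⟨hb, ht⟩ := ne_bot_top_of_finrank (W := U) hU0 (by omega)
  have he := subspace_eq hQ hn hH hUst hb ht
  by_cases hUm : Module.finrank F U = m
  · exact Or.inr (Or.inr (Or.inr (Or.inr (Or.inr (Or.inr ⟨U, hUm, hUn, hUst, he⟩)))))
  rcases hU with h | h | h | h
  · by_cases hp : IsPlusTypeOn Q U
    swap
    · exact Or.inr (Or.inr (Or.inl ⟨U, h, hUn, hp, he⟩))
    by_cases hq : 4 ≤ Fintype.card F
    · exact Or.inr (Or.inr (Or.inr (Or.inl ⟨hq, U, h, hUn, hp, he⟩)))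
    obtain ⟨v, hv, hvst⟩ := line_of_small_plane hQ hHΩ hUn h hp (by omega) hUst
    exact vector_outcome hQ hι (by omega) hH hv hvst
  · exact Or.inr (Or.inr (Or.inr (Or.inr (Or.inl ⟨U, h, hUn, he⟩))))
  · exact absurd h hUm
  · exact Or.inr (Or.inl ⟨odd_card_of_two_ne_zero (two_ne_zero_of_odd_nondegenerate hQ hUn h), U, hb, ht, h, hUm,
      hUn, he⟩)

/-- A non-degenerate half and its perpendicular form a decomposition. -/
theorem halves_decomposition [Nonempty ι] (hQ : IsNondegenerateQuadraticForm Q) {m : ℕ} (hι : Fintype.card ι = 2 * m)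
    (hm : 1 ≤ m) {H : Subgroup (GL ι F)} (hHΩ : H ≤ omegaGL Q) {W : Submodule F (ι → F)}
    (hW : IsNondegenerateOn (polar Q) W) (hd : Module.finrank F W = m) (hle : H ≤ subspaceStabilizer W) :
    ∃ D : Fin 2 → Submodule F (ι → F), D 0 = W ∧ IsNondegenerateMDecomposition (polar Q) m D ∧
      OrthPair (quadOf hQ) (D 0) (D 1) ∧ D 0 ⊔ D 1 = ⊤ ∧ H ≤ decompositionStabilizer D := by
  have hh := herm_polar hQ
  have hpd : Module.finrank F (hh.perp W) = m := by
    have := hh.finrank_perp W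
    omega
  have hdisj := hh.disjoint_perp hW
  let D : Fin 2 → Submodule F (ι → F) := ![W, hh.perp W]
  have hsup : W ⊔ hh.perp W = ⊤ := by
    refine Submodule.eq_top_of_finrank_eq ?_
    have h := Submodule.finrank_sup_add_finrank_inf_eq W (hh.perp W)
    rw [disjoint_iff.1 hdisj, finrank_bot, hd, hpd] at h
    rw [Module.finrank_fintype_fun_eq_card]
    omega
  have horth : AreOrthogonalFor (polar Q) W (hh.perp W) := fun u hu v hv => hh.mem_perp'.1 hv u hu
  refine ⟨D, rfl, ⟨⟨le_rfl, hm, fun i => ?_, ?_, ?_⟩, fun i => ?_, fun i j hij => ?_⟩,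
    ⟨hW, hh.nondegenerateOn_perp hW, horth⟩, hsup, fun g hg => ⟨1, fun i => ?_⟩⟩
  · fin_cases i
    · exact hd
    · exact hpd
  · exact (iSupIndep_pair (i := (0 : Fin 2)) (j := 1) (by decide) (by decide)).2 hdisj
  · rw [eq_top_iff, ← hsup]
    exact sup_le (le_iSup D 0) (le_iSup D 1)
  · fin_cases i
    · exact hW
    · exact hh.nondegenerateOn_perp hW
  · fin_cases i <;> fin_cases j
    · exact absurd rfl hij
    · exact horth
    · exact fun u hu v hv => by rw [QuadraticMap.polar_comm]; exact horth v hv u hu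
    · exact absurd rfl hij
  · fin_cases i
    · exact map_eq_of_mem_stab (mem_subspaceStabilizer.1 (hle hg))
    · exact map_eq_of_mem_stab (mem_subspaceStabilizer.1 (stab_perp hQ hHΩ hle hg))

theorem isometric_refl (W : Submodule F (ι → F)) : AreIsometricFor Q W W :=
  ⟨LinearEquiv.refl F W, fun _ => rfl⟩

theorem isometric_symm {W W' : Submodule F (ι → F)} (h : AreIsometricFor Q W W') : AreIsometricFor Q W' W := by
  obtain ⟨e, he⟩ := h
  exact ⟨e.symm, fun w => by rw [← he (e.symm w), e.apply_symm_apply]⟩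

theorem isOrth_two {m : ℕ} {D : Fin 2 → Submodule F (ι → F)} (hD : IsNondegenerateMDecomposition (polar Q) m D)
    (h : AreIsometricFor Q (D 0) (D 1)) : IsOrthogonalMDecomposition Q m D :=
  ⟨hD, fun i j => by
    fin_cases i <;> fin_cases j
    exacts [isometric_refl _, h, isometric_symm h, isometric_refl _]⟩

/-- Non-isometric halves of odd dimension give plus type exactly when minus one is no square. -/
theorem plus_iff_of_nonisometric (hQ : IsNondegenerateQuadraticForm Q) (h2 : (2 : F) ≠ 0) {m : ℕ} (hm : Odd m)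
    {D : Fin 2 → Submodule F (ι → F)} (hp : OrthPair (quadOf hQ) (D 0) (D 1)) (hsup : D 0 ⊔ D 1 = ⊤)
    (hd0 : Module.finrank F (D 0) = m) (hd1 : Module.finrank F (D 1) = m) (hne : ¬ AreIsometricFor Q (D 0) (D 1)) :
    IsPlusTypeOn Q ⊤ ↔ ¬ IsSquare (-1 : F) := by
  classical
  obtain ⟨ν, φ, hν, hφ⟩ := scaled_of_odd (q := quadOf hQ) h2 hp.1 hp.2.1 hm hd0 hd1 hne
  have h := plus_scaled_pair h2 hp hm hd0 φ hφ
  rw [hsup] at h
  rw [show IsPlusTypeOn Q ⊤ ↔ IsSquare (-ν) from h]
  constructor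
  · rintro ⟨c, hc⟩ ⟨d, hd⟩
    have hd0' : d ≠ 0 := fun e => by rw [e, mul_zero, neg_eq_zero] at hd; exact one_ne_zero hd
    exact hν ⟨c / d, by field_simp; linear_combination ν * hd.symm + hc⟩
  · intro h1
    rw [show -ν = (-1 : F) * ν by ring]
    exact isSquare_mul_of_not h1 hν

end CfsgLib.Geo.AschEven
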