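import Mathlib
import Cfsg.Prelude.Def_GeometricClasses
import Cfsg.Agent.Lib.Geo.AschEvenProper

/-! Ω is contained in no tensor stabiliser of shape two by at least five, or three by four (odd q). -/

set_option autoImplicit false
set_option linter.unusedSectionVars false

namespace CfsgLib.Geo.AschEven

open Cfsg Cfsg.Geo Matrix QuadraticMap CfsgLib.GeomClasses CfsgLib.Maximal.TensorTools CfsgLib.Geo.Asch
open scoped MatrixGroups

variable {ι : Type} [Fintype ι] [DecidableEq ι] {F : Type*} [Field F] [Fintype F] {Q : (ι → F) → F}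

local notation "tp" => CfsgLib.Maximal.TensorTools.pure

theorem scalar_or_moves {n : ℕ} (A : Matrix (Fin n) (Fin n) F) :
    (∃ c : F, ∀ x, A *ᵥ x = c • x) ∨ ∃ x, A *ᵥ x ∉ Submodule.span F {x} := by
  classical
  rcases Nat.eq_zero_or_pos n with rfl | hn
  · exact Or.inl ⟨0, fun x => Subsingleton.elim _ _⟩
  by_contra hc
  push Not at hc
  obtain ⟨h1, h2⟩ := hc
  choose c hc using fun x => Submodule.mem_span_singleton.1 (h2 x)
  let i₀ : Fin n := ⟨0, hn⟩
  have hall : ∀ i, c (Pi.single i 1) = c (Pi.single i₀ 1) := by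
    intro i
    by_cases hi : i = i₀
    · rw [hi]
    have h := hc (Pi.single i 1 + Pi.single i₀ 1)
    rw [Matrix.mulVec_add, ← hc, ← hc, smul_add] at h
    have e1 := congrFun h i
    have e2 := congrFun h i₀
    simp [hi, Ne.symm hi] at e1 e2
    rw [← e1, ← e2]
  obtain ⟨x, hx⟩ := h1 (c (Pi.single i₀ 1))
  apply hx
  rw [pi_eq_sum_univ' x, Matrix.mulVec_sum, Finset.smul_sum]
  refine Finset.sum_congr rfl fun i _ => ?_
  rw [Matrix.mulVec_smul, ← hc, hall, smul_comm]

/-- The linear map `y ↦ x ⊗ y`. -/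
noncomputable def blockMapR {a b : ℕ} (e : ι ≃ Fin a × Fin b) (P : GL ι F) (x : Fin a → F) :
    (Fin b → F) →ₗ[F] (ι → F) where
  toFun y := coord e P (tp x y)
  map_add' y y' := by rw [pure_add_right, map_add]
  map_smul' c y := by rw [pure_smul_right, map_smul]; rfl

theorem blockMapR_injective {a b : ℕ} {e : ι ≃ Fin a × Fin b} {P : GL ι F} {x : Fin a → F} (hx : x ≠ 0) :
    Function.Injective (blockMapR e P x) := by
  intro y y' h
  obtain ⟨i, hi⟩ := Function.ne_iff.1 hx
  funext j
  exact mul_left_cancel₀ (show x i ≠ 0 from hi) (congrFun ((coord e P).injective h) (i, j))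

theorem le_two_of_range {a : ℕ} (hQ : IsNondegenerateQuadraticForm Q) {u b : ι → F} {g : GL ι F}
    (hg : IsSiegel hQ u b g) (φ : (Fin a → F) →ₗ[F] (ι → F)) (hφ : Function.Injective φ)
    (h : ∀ y, ∃ x, (g : Matrix ι ι F) *ᵥ x - x = φ y) : a ≤ 2 := by
  have hle : LinearMap.range φ ≤ Submodule.span F ({u, b} : Set (ι → F)) := by
    rintro _ ⟨y, rfl⟩
    obtain ⟨x, hx⟩ := h y
    rw [← hx, hg, add_sub_cancel_left]
    exact sieg_mem_span hQ u b x
  have := (Submodule.finrank_mono hle).trans (finrank_span_pair_le u b)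
  rwa [LinearMap.finrank_range_of_inj hφ, Module.finrank_fin_fun] at this

theorem scalar_of_siegel_tensor (hQ : IsNondegenerateQuadraticForm Q) {a b : ℕ} (hb : 5 ≤ b)
    {e : ι ≃ Fin a × Fin b} {P : GL ι F} {u v : ι → F} {g : GL ι F} (hg : IsSiegel hQ u v g)
    {A : GL (Fin a) F} {B : GL (Fin b) F}
    (hAB : ∀ x y, (g : Matrix ι ι F) *ᵥ coord e P (tp x y) =
      coord e P (tp ((A : Matrix (Fin a) (Fin a) F) *ᵥ x) ((B : Matrix (Fin b) (Fin b) F) *ᵥ y))) :
    ∃ c : F, ∀ x, (A : Matrix (Fin a) (Fin a) F) *ᵥ x = c • x := by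
  classical
  rcases scalar_or_moves (A : Matrix (Fin a) (Fin a) F) with h | ⟨x, hx⟩
  · exact h
  exfalso
  set Ax := (A : Matrix (Fin a) (Fin a) F) *ᵥ x with hAx
  have hx0 : x ≠ 0 := fun h => hx (by rw [hAx, h, Matrix.mulVec_zero]; exact zero_mem _)
  have hxA : x ∉ Submodule.span F {Ax} := by
    intro h
    obtain ⟨c, hc⟩ := Submodule.mem_span_singleton.1 h
    have hc0 : c ≠ 0 := fun e => hx0 (by rw [← hc, e, zero_smul])
    exact hx (Submodule.mem_span_singleton.2 ⟨c⁻¹, by conv_lhs => rw [← hc, inv_smul_smul₀ hc0]⟩)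
  obtain ⟨φ, hφx, hφA⟩ := Submodule.exists_dual_map_eq_bot_of_notMem hxA inferInstance
  have hφ0 : φ Ax = 0 := by
    have : φ Ax ∈ (Submodule.span F {Ax}).map φ := ⟨Ax, Submodule.mem_span_singleton_self _, rfl⟩
    rwa [hφA, Submodule.mem_bot] at this
  let Z : Matrix (Fin a) (Fin a) F := LinearMap.toMatrix' (φ.smulRight x)
  have hZ : ∀ y, Z *ᵥ y = φ y • x := fun y => LinearMap.toMatrix'_mulVec _ _
  let X := tensorEmb a b e P Z
  let w := φ x • Ax
  have hw : w ≠ 0 := smul_ne_zero hφx fun h => hx (by rw [h]; exact zero_mem _)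
  let S := Submodule.span F ({u, v} : Set (ι → F)) ⊔ (Submodule.span F ({u, v} : Set (ι → F))).map (Matrix.toLin' X)
  have hS : Module.finrank F S ≤ 4 := by
    refine (Submodule.finrank_add_le_finrank_add_finrank _ _).trans ?_
    have h1 := finrank_span_pair_le (F := F) u v
    have h2 := (Submodule.finrank_map_le (Matrix.toLin' X) (Submodule.span F ({u, v} : Set (ι → F)))).trans h1
    omega
  have hle : LinearMap.range ((blockMapR e P w).comp (Matrix.toLin' (B : Matrix (Fin b) (Fin b) F))) ≤ S := by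
    rintro _ ⟨y, rfl⟩
    show coord e P (tp w _) ∈ S
    rw [Matrix.toLin'_apply]
    set p := coord e P (tp x y)
    have h1 : coord e P (tp w ((B : Matrix (Fin b) (Fin b) F) *ᵥ y)) =
        (g : Matrix ι ι F) *ᵥ (X *ᵥ p) - X *ᵥ ((g : Matrix ι ι F) *ᵥ p) := by
      rw [hAB, Asch.tensorEmb_pure, Asch.tensorEmb_pure, hAB, hZ, hZ, Matrix.mulVec_smul, ← hAx, hφ0, zero_smul,
        show tp (0 : Fin a → F) ((B : Matrix (Fin b) (Fin b) F) *ᵥ y) = 0 from funext fun q => zero_mul _,
        map_zero, sub_zero]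
    rw [h1, hg, hg, Matrix.mulVec_add, add_sub_add_left_eq_sub]
    exact sub_mem (Submodule.mem_sup_left (sieg_mem_span hQ u v _))
      (Submodule.mem_sup_right ⟨_, sieg_mem_span hQ u v p, Matrix.toLin'_apply _ _⟩)
  have h3 := (Submodule.finrank_mono hle).trans hS
  rw [LinearMap.finrank_range_of_inj (f := (blockMapR e P w).comp (Matrix.toLin' (B : Matrix (Fin b) (Fin b) F)))
    ((blockMapR_injective hw).comp (by
    simpa [Function.Injective] using gl_mulVec_injective B)), Module.finrank_fin_fun] at h3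
  omega

/-- Shape two by at least five, pure tensors singular. -/
theorem omega_not_le_tensor_two (hQ : IsNondegenerateQuadraticForm Q) {b : ℕ} (hb : 5 ≤ b)
    (e : ι ≃ Fin 2 × Fin b) (P : GL ι F) (hpure : ∀ x y, Q (coord e P (tp x y)) = 0) :
    ¬ omegaGL Q ≤ tensorProductSubgroup 2 b e P := by
  classical
  intro hle
  have hcard : Fintype.card ι = 2 * b := by simpa using Fintype.card_congr e
  let D : Fin 2 → Submodule F (ι → F) := fun i => LinearMap.range (blockMapR e P (Pi.single i 1))
  have hne : ∀ i : Fin 2, (Pi.single i (1 : F) : Fin 2 → F) ≠ 0 := fun i => by simp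
  have hfr : ∀ i, Module.finrank F (D i) = b := fun i => by
    rw [LinearMap.finrank_range_of_inj (blockMapR_injective (hne i)), Module.finrank_fin_fun]
  have hdec : ∀ z : Fin 2 × Fin b → F, coord e P z = ∑ i, blockMapR e P (Pi.single i 1) (fun j => z (i, j)) := by
    intro z
    show _ = ∑ i, coord e P (tp _ _)
    rw [← map_sum]
    congr 1
    funext p
    rw [Finset.sum_apply, Finset.sum_eq_single p.1 (fun i _ hi => by
      simp [CfsgLib.Maximal.TensorTools.pure, hi.symm]) (by simp)]
    simp [CfsgLib.Maximal.TensorTools.pure]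
  have htop : iSup D = ⊤ := by
    rw [eq_top_iff]
    intro v _
    obtain ⟨z, rfl⟩ := (coord e P).surjective v
    rw [hdec]
    exact sum_mem fun i _ => Submodule.mem_iSup_of_mem i ⟨_, rfl⟩
  have hdisj : Disjoint (D 0) (D 1) := by
    rw [Submodule.disjoint_def]
    rintro _ ⟨y, rfl⟩ ⟨y', hy'⟩
    have h := (coord e P).injective hy'
    have hy : y = 0 := funext fun j => by
      have := congrFun h (0, j)
      simpa [CfsgLib.Maximal.TensorTools.pure] using this.symm
    rw [hy, map_zero]
  have hD : IsMDecomposition b D := ⟨le_rfl, by omega, hfr,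
    (iSupIndep_pair (show (0 : Fin 2) ≠ 1 by decide) (fun k => by fin_cases k <;> simp)).2 hdisj, htop⟩
  let y : Fin b → F := Pi.single ⟨0, by omega⟩ 1
  have hy : y ≠ 0 := by simp [y]
  obtain ⟨g, hg, ⟨u, v, hgx⟩, hgn⟩ := exists_not_mem_decomposition hQ (by omega) hD (by omega) Finset.univ
    (by simp) (by simp) (fun h => by omega) (fun i => blockMapR e P (Pi.single i 1) y)
    (fun i _ => ⟨⟨y, rfl⟩, fun h => hy (blockMapR_injective (hne i) (h.trans (map_zero _).symm))⟩) (by
      rw [Fin.sum_univ_two]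
      show Q (coord e P _ + coord e P _) = 0
      rw [← map_add, ← pure_add_left]
      exact hpure _ _)
  obtain ⟨A, B, hAB⟩ := exists_factors (hle hg)
  obtain ⟨c, hc⟩ := scalar_of_siegel_tensor hQ hb hgx hAB
  apply hgn
  refine Decomp.mem_stabilizer_of_image hD fun i => ⟨i, ?_⟩
  rintro _ ⟨z, rfl⟩
  refine ⟨c • ((B : Matrix (Fin b) (Fin b) F) *ᵥ z), ?_⟩
  show coord e P _ = (g : Matrix ι ι F) *ᵥ coord e P _
  rw [hAB, hc, pure_smul_right, pure_smul_left]

/-- Shape three by four in odd characteristic. -/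
theorem omega_not_le_tensor_three_four (hQ : IsNondegenerateQuadraticForm Q) (h2 : (2 : F) ≠ 0)
    (e : ι ≃ Fin 3 × Fin 4) (P : GL ι F) : ¬ omegaGL Q ≤ tensorProductSubgroup 3 4 e P := by
  classical
  intro hle
  have hcard : Fintype.card ι = 12 := by simpa using Fintype.card_congr e
  obtain ⟨u, -, hu0, hu⟩ := OrthTools.exists_singular (q := quadOf hQ) (OrthTools.quadOf_nondegenerate hQ) ⊤
    (by rw [finrank_top, Module.finrank_fintype_fun_eq_card]; omega)
  obtain ⟨v, -, hvu, ⟨hqv, huv⟩, g, hg, hgx⟩ := exists_siegel_avoid hQ (by omega) hu0 hu (S := ⊥)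
    (by rw [finrank_bot]; omega)
  have hLu : sieg hQ u v u = 0 := by
    rw [sieg_apply, quad_polar_self hQ, show Q u = 0 from hu, huv]; simp
  have hLv : sieg hQ u v v = 0 := by
    rw [sieg_apply, quad_polar_self hQ, hqv, polar_comm (f := Q) v u, huv]; simp
  obtain ⟨A, B, hAB⟩ := exists_factors (hle hg)
  have key : ∀ p, (g : Matrix ι ι F) *ᵥ ((g : Matrix ι ι F) *ᵥ p) - (2 : F) • ((g : Matrix ι ι F) *ᵥ p) + p =
      sieg hQ u v (sieg hQ u v p) := fun p => by
    rw [hgx, hgx, map_add, two_smul]; abel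
  have hsq : ∀ p, sieg hQ u v (sieg hQ u v p) = -(polar Q p u) • sieg hQ u v v := fun p => by
    rw [sieg_apply hQ u v p, map_sub, map_smul, map_smul, hLu, smul_zero, zero_sub, neg_smul]
  have hsmall : ∀ (a : ℕ) (φ : (Fin a → F) →ₗ[F] (ι → F)), Function.Injective φ →
      (∀ y, ∃ x, (g : Matrix ι ι F) *ᵥ x - x = φ y) → a ≤ 2 := fun a φ hφ h => le_two_of_range hQ hgx φ hφ h
  obtain ⟨z, hz⟩ := exists_sieg_eq hQ hvu
  rcases scalar_or_moves (A : Matrix (Fin 3) (Fin 3) F) with ⟨c, hc⟩ | ⟨x, hx⟩
  · rcases scalar_or_moves (c • (B : Matrix (Fin 4) (Fin 4) F) - 1) with ⟨d, hd⟩ | ⟨y, hy⟩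
    · have hB : ∀ y, c • ((B : Matrix (Fin 4) (Fin 4) F) *ᵥ y) = (d + 1) • y := fun y => by
        have := hd y
        rw [Matrix.sub_mulVec, Matrix.smul_mulVec, Matrix.one_mulVec, sub_eq_iff_eq_add] at this
        rw [this, add_smul, one_smul]
      by_cases hd0 : d = 0
      · have hc0 : c ≠ 0 := fun h => by
          have := hB (Pi.single 0 1)
          rw [h, zero_smul, hd0, zero_add, one_smul] at this
          exact one_ne_zero (Pi.single_eq_zero_iff.1 this.symm)
        -- then `g` is trivial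
        have hall : ∀ p, (g : Matrix ι ι F) *ᵥ p = p := by
          intro p
          obtain ⟨w, rfl⟩ := (coord e P).surjective p
          have hw : w = ∑ i, tp (Pi.single i (1 : F)) (fun j => w (i, j)) := by
            funext q
            rw [Finset.sum_apply, Finset.sum_eq_single q.1 (fun i _ hi => by
              simp [CfsgLib.Maximal.TensorTools.pure, hi.symm]) (by simp)]
            simp [CfsgLib.Maximal.TensorTools.pure]
          rw [hw, map_sum, Matrix.mulVec_sum]
          exact Finset.sum_congr rfl fun i _ => by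
            rw [hAB, hc, pure_smul_left, ← pure_smul_right, hB, hd0, zero_add, one_smul]
        have := hgx z
        rw [hall, hz] at this
        exact hu0 (by simpa using this)
      · have := hsmall 3 (blockMap e P (d • Pi.single 0 (1 : F))) (blockMap_injective (by simp [hd0]))
          (fun x => ⟨coord e P (tp x (Pi.single 0 1)), by
            show _ = coord e P (tp x _)
            rw [hAB, hc, pure_smul_left, ← pure_smul_right, hB, add_smul, one_smul, pure_add_right, map_add,
              add_sub_cancel_right]⟩)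
        omega
    · set w := (c • (B : Matrix (Fin 4) (Fin 4) F) - 1) *ᵥ y with hw
      have := hsmall 3 (blockMap e P w) (blockMap_injective (fun h => hy (by rw [h]; exact zero_mem _)))
        (fun x => ⟨coord e P (tp x y), by
          show _ = coord e P (tp x w)
          rw [hAB, hc, pure_smul_left, ← pure_smul_right, hw, Matrix.sub_mulVec, Matrix.smul_mulVec, Matrix.one_mulVec,
            show tp x (c • ((B : Matrix (Fin 4) (Fin 4) F) *ᵥ y) - y) =
              tp x (c • ((B : Matrix (Fin 4) (Fin 4) F) *ᵥ y)) - tp x y from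
              funext fun q => mul_sub _ _ _, map_sub]⟩)
      omega
  set Ax := (A : Matrix (Fin 3) (Fin 3) F) *ᵥ x with hAx
  have hx0 : x ≠ 0 := fun h => hx (by rw [hAx, h, Matrix.mulVec_zero]; exact zero_mem _)
  have hAx0 : Ax ≠ 0 := fun h => hx (by rw [h]; exact zero_mem _)
  rcases scalar_or_moves (B : Matrix (Fin 4) (Fin 4) F) with ⟨c, hc⟩ | ⟨y, hy⟩
  · have hw : c • Ax - x ≠ 0 := fun h => by
      rw [sub_eq_zero] at h
      refine hx (Submodule.mem_span_singleton.2 ⟨c⁻¹, ?_⟩)
      have hc0 : c ≠ 0 := fun e => hx0 (by rw [← h, e, zero_smul])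
      conv_lhs => rw [← h, inv_smul_smul₀ hc0]
    have := hsmall 4 (blockMapR e P (c • Ax - x)) (blockMapR_injective hw)
      (fun y => ⟨coord e P (tp x y), by
        show _ = coord e P (tp _ y)
        rw [hAB, hc, pure_smul_right, ← pure_smul_left, ← hAx,
          show tp (c • Ax - x) y = tp (c • Ax) y - tp x y from funext fun q => sub_mul _ _ _, map_sub]⟩)
    omega
  -- both factors move
  set By := (B : Matrix (Fin 4) (Fin 4) F) *ᵥ y with hBy
  have hy0 : y ≠ 0 := fun h => hy (by rw [hBy, h, Matrix.mulVec_zero]; exact zero_mem _)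
  have hz0 : sieg hQ u v (sieg hQ u v (coord e P (tp x y))) = 0 := by rw [hsq, hLv, smul_zero]
  have hrel := key (coord e P (tp x y))
  rw [hz0, hAB, hAB, ← hAx, ← hBy, ← map_smul, ← map_sub, ← map_add, ← map_zero (coord e P)] at hrel
  have hfun := (coord e P).injective hrel
  -- coordinates against the independent pairs
  set A2 := (A : Matrix (Fin 3) (Fin 3) F) *ᵥ Ax
  set B2 := (B : Matrix (Fin 4) (Fin 4) F) *ᵥ By
  have hB2 : B2 ≠ 0 := gl_mulVec_ne_zero B (gl_mulVec_ne_zero B hy0)
  have hA2 : A2 ∈ Submodule.span F {x, Ax} := by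
    obtain ⟨j, hj⟩ := Function.ne_iff.1 hB2
    have hj' : B2 j ≠ 0 := hj
    refine Submodule.mem_span_pair.2 ⟨-(y j) / B2 j, 2 * By j / B2 j, funext fun i => ?_⟩
    have h := congrFun hfun (i, j)
    simp [CfsgLib.Maximal.TensorTools.pure] at h
    simp only [Pi.add_apply, Pi.smul_apply, smul_eq_mul]
    field_simp
    linear_combination -h
  obtain ⟨α, β, hαβ⟩ := Submodule.mem_span_pair.1 hA2
  have hli : LinearIndependent F ![x, Ax] := by
    rw [LinearIndependent.pair_iff]
    intro s t hst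
    by_cases ht : t = 0
    · rw [ht, zero_smul, add_zero] at hst
      exact ⟨(smul_eq_zero.1 hst).resolve_right hx0, ht⟩
    · exfalso
      refine hx (Submodule.mem_span_singleton.2 ⟨-s / t, ?_⟩)
      rw [div_eq_inv_mul, mul_smul, neg_smul, eq_neg_of_add_eq_zero_left hst, neg_neg, inv_smul_smul₀ ht]
  have hco : ∀ j, α * B2 j + y j = 0 ∧ β * B2 j - 2 * By j = 0 := fun j => by
    refine LinearIndependent.pair_iff.1 hli _ _ (funext fun i => ?_)
    have h := congrFun hfun (i, j)
    have h' := congrFun hαβ i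
    simp [CfsgLib.Maximal.TensorTools.pure] at h
    simp only [Pi.add_apply, Pi.smul_apply, smul_eq_mul, Pi.zero_apply] at h' ⊢
    linear_combination h + B2 j * h'
  have hα : α ≠ 0 := fun h => hy0 (funext fun j => by simpa [h] using (hco j).1)
  apply hy
  refine Submodule.mem_span_singleton.2 ⟨-β / (2 * α), funext fun j => ?_⟩
  obtain ⟨e1, e2⟩ := hco j
  show -β / (2 * α) * y j = By j
  field_simp
  linear_combination -β * e1 + α * e2

end CfsgLib.Geo.AschEven
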