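import Mathlib
import Cfsg.Prelude.Def_GeometricClasses
import Cfsg.Agent.Lib.Geo.AschFormFactor
import Cfsg.Agent.Lib.Geo.AschFormCore

/-! Quadratic forms preserved in characteristic two. -/

set_option autoImplicit false
set_option linter.unusedSectionVars false

namespace CfsgLib.Geo.Asch

open Cfsg Cfsg.Geo Matrix CfsgLib.GeomClasses CfsgLib.Maximal.TensorTools
open scoped MatrixGroups Kronecker

variable {ι : Type} [Fintype ι] [DecidableEq ι] {F : Type*} [Field F] [Fintype F]
  {f : (ι → F) → (ι → F) → F}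

/-- The group preserves a quadratic form polarising to `f`, up to scalars. -/
def HasQuad (f : (ι → F) → (ι → F) → F) (H : Subgroup (GL ι F)) : Prop :=
  ∃ Q : (ι → F) → F, IsNondegenerateQuadraticForm Q ∧ (∀ u v, QuadraticMap.polar Q u v = f u v) ∧
    H ≤ quadSimilarityGroup Q

theorem hasQuad_mk (hf : IsSymplecticForm f) {H : Subgroup (GL ι F)} (Q : (ι → F) → F)
    (hsm : ∀ (c : F) v, Q (c • v) = c ^ 2 * Q v) (hpol : ∀ u v, QuadraticMap.polar Q u v = f u v)
    (hQ : ∀ g ∈ H, ∀ v, Q ((g : Matrix ι ι F) *ᵥ v) = Q v) : HasQuad f H := by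
  have hpol' : QuadraticMap.polar Q = f := funext fun u => funext fun v => hpol u v
  exact ⟨Q, ⟨hsm, hpol' ▸ hf.bilinear, hpol' ▸ hf.nondegenerate⟩, hpol,
    fun g hg => ⟨1, fun v => by rw [Units.val_one, one_mul, hQ g hg]⟩⟩

/-- Two complementary totally singular subspaces in characteristic two give a quadratic form. -/
theorem hasQuad_of_pair (h2 : (2 : F) = 0) (hf : IsSymplecticForm f) {H : Subgroup (GL ι F)} (hH : IsoGrp f H)
    {m : ℕ} {D : Fin 2 → Submodule F (ι → F)} (hD : IsMDecomposition m D)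
    (hTS : ∀ i, IsTotallySingularFor f (D i)) (hle : H ≤ decompositionStabilizer D) : HasQuad f H := by
  have hneg : ∀ x : F, -x = x := fun x => by linear_combination (-x) * h2
  have hsymm : ∀ u v, f u v = f v u := fun u v => by rw [hf.skew, hneg]
  have hh := herm_symplectic hf
  let c := fun i v => Decomp.comp hD i v
  have hsum : ∀ v, c 0 v + c 1 v = v := fun v => by
    have := Decomp.sum_comp hD v
    rwa [Fin.sum_univ_two] at this
  have hts : ∀ i u v, f (c i u) (c i v) = 0 := fun i u v =>
    hTS i _ (Decomp.comp_mem hD i u) _ (Decomp.comp_mem hD i v)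
  refine hasQuad_mk hf (fun v => f (c 0 v) (c 1 v)) (fun a v => ?_) (fun u v => ?_) (fun g hg v => ?_)
  · simp only [c, map_smul, hh.smul_left, hh.smul_right]
    show a * (a * _) = _
    ring
  · have h1 : f u v = f (c 0 u) (c 1 v) + f (c 0 v) (c 1 u) := by
      conv_lhs => rw [← hsum u, ← hsum v]
      simp only [hh.add_left, hh.add_right, hts, zero_add, add_zero]
      rw [hsymm (c 1 u) (c 0 v)]
    rw [h1]
    simp only [QuadraticMap.polar, c, map_add, hh.add_left, hh.add_right]
    ring
  · obtain ⟨τ, hτ⟩ := hle hg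
    have hc := fun i => Decomp.comp_mulVec hD hτ i v
    rcases show (τ 0 = 0 ∧ τ 1 = 1) ∨ (τ 0 = 1 ∧ τ 1 = 0) by
      have h := τ.injective.ne (show (0 : Fin 2) ≠ 1 by decide)
      revert h
      generalize τ 0 = x, τ 1 = y
      revert x y
      decide with ⟨h0, h1⟩ | ⟨h0, h1⟩
    · show f (c 0 _) (c 1 _) = _
      have e0 := hc 0; have e1 := hc 1
      rw [h0] at e0; rw [h1] at e1
      simp only [c, e0, e1, hH g hg]
    · show f (c 0 _) (c 1 _) = _
      have e0 := hc 1; have e1 := hc 0
      rw [h1] at e0; rw [h0] at e1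
      simp only [c, e0, e1, hH g hg]
      exact hsymm _ _

/-- Over two elements an orthogonal decomposition into planes gives a quadratic form. -/
theorem hasQuad_of_planes [Nonempty ι] (hF : Fintype.card F = 2) (hf : IsSymplecticForm f) {H : Subgroup (GL ι F)}
    {t : ℕ} {D : Fin t → Submodule F (ι → F)} (hD : IsNondegenerateMDecomposition f 2 D)
    (hle : H ≤ decompositionStabilizer D) : HasQuad f H := by
  classical
  have h2 : (2 : F) = 0 := two_eq_zero_of_not_odd (by rw [hF]; decide)
  have hall : ∀ x : F, x = 0 ∨ x = 1 := by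
    intro x
    by_contra h
    push Not at h
    have : ({0, 1, x} : Finset F).card ≤ Fintype.card F := Finset.card_le_univ _
    rw [Finset.card_insert_of_notMem (by simp [Ne.symm h.1]),
      Finset.card_pair (Ne.symm h.2), hF] at this
    omega
  have hh := herm_symplectic hf
  let q0 : (ι → F) → F := fun v => if v = 0 then 0 else 1
  have hblock : ∀ i, ∀ x ∈ D i, ∀ y ∈ D i, q0 (x + y) - q0 x - q0 y = f x y := by
    intro i x hx y hy
    by_cases hx0 : x = 0
    · subst hx0; simp [q0, hh.zero_left]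
    by_cases hy0 : y = 0
    · subst hy0; simp [q0, hh.zero_right]
    by_cases hxy : x + y = 0
    · have hyx : y = x := by
        rw [eq_neg_of_add_eq_zero_right hxy]
        funext k
        show -x k = x k
        linear_combination (-x k) * h2
      subst hyx
      simp only [q0, hxy, hx0, if_true, if_false, hf.alternating]
      linear_combination (-1 : F) * h2
    simp only [q0, hx0, hy0, hxy, if_false]
    rcases hall (f x y) with h | h
    swap
    · rw [h]; linear_combination (-1 : F) * h2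
    exfalso
    obtain ⟨z, hz, hxz⟩ := (hD.nondegenerate i x hx hx0).2
    have hli : LinearIndependent F ![x, y] := by
      rw [LinearIndependent.pair_iff]
      intro s r hsr
      rcases hall s with rfl | rfl <;> rcases hall r with rfl | rfl <;> simp_all
    have hspan : Submodule.span F (Set.range ![x, y]) = D i := by
      refine Submodule.eq_of_le_of_finrank_eq (Submodule.span_le.2 ?_) ?_
      · rintro _ ⟨k, rfl⟩; fin_cases k <;> assumption
      · rw [finrank_span_eq_card hli, hD.decomp.finrank_eq, Fintype.card_fin]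
    rw [← hspan, Submodule.mem_span_range_iff_exists_fun] at hz
    obtain ⟨c, hc⟩ := hz
    apply hxz
    rw [← hc, Fin.sum_univ_two]
    simp [hh.add_right, hh.smul_right, hf.alternating, h]
  refine hasQuad_mk hf (fun v => ∑ i, q0 (Decomp.comp hD.decomp i v)) (fun a v => ?_) (fun u v => ?_)
    (fun g hg v => ?_)
  · rcases hall a with rfl | rfl <;> simp [q0]
  · rw [Decomp.form_eq_sum hD.decomp hh.sesq hD.orthogonal u v, QuadraticMap.polar]
    simp only [map_add, ← Finset.sum_sub_distrib]
    exact Finset.sum_congr rfl fun i _ => hblock i _ (Decomp.comp_mem _ i u) _ (Decomp.comp_mem _ i v)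
  · obtain ⟨τ, hτ⟩ := hle hg
    refine (Fintype.sum_equiv τ _ _ fun i => ?_).symm
    rw [Decomp.comp_mulVec hD.decomp hτ i v]
    have hiff : (g : Matrix ι ι F) *ᵥ Decomp.comp hD.decomp i v = 0 ↔ Decomp.comp hD.decomp i v = 0 :=
      ⟨fun h => by_contra fun h' => gl_mulVec_ne_zero g h' h, fun h => by rw [h, Matrix.mulVec_zero]⟩
    simp only [q0, hiff]

theorem upper_add_transpose (h2 : (2 : F) = 0) {κ : Type} [Fintype κ] [DecidableEq κ] [LinearOrder κ]
    {G : Matrix κ κ F} (hs : ∀ a b, G b a = G a b) (hd : ∀ a, G a a = 0) (a b : κ) :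
    (if a < b then G a b else 0) + (if b < a then G b a else 0) = G a b := by
  rcases lt_trichotomy a b with h | h | h
  · simp [h, h.not_gt]
  · subst h; simp [hd]
  · simp [h, h.not_gt, hs a b]

/-- In characteristic two a symmetric factor of an irreducibly preserved tensor form is alternating. -/
theorem factor_alternating [Nonempty ι] (h2 : (2 : F) = 0) {H : Subgroup (GL ι F)}
    (hH : IsoGrp f H) (hirr : ActsIrreducibly (matrixSet H)) {a b : ℕ} (ha : 1 ≤ a) (hb : 2 ≤ b)
    {e : ι ≃ Fin a × Fin b} {P : GL ι F} {f₁ : (Fin a → F) → (Fin a → F) → F} {f₂ : (Fin b → F) → (Fin b → F) → F}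
    {η₁ η₂ : F} (k₁ : Herm (RingEquiv.refl F) η₁ f₁) (k₂ : Herm (RingEquiv.refl F) η₂ f₂)
    (ksymm : ∀ x y, f₂ y x = f₂ x y) (kT : IsTensorFormStructure ((RingEquiv.refl F : F ≃+* F) : F → F) f f₁ f₂ e P)
    (kle : H ≤ tensorProductSubgroup a b e P) (y : Fin b → F) : f₂ y y = 0 := by
  classical
  haveI : CharP F 2 := CharTwo.of_one_ne_zero_of_two_eq_zero one_ne_zero h2
  by_contra hy
  let W : Submodule F (Fin b → F) :=
    { carrier := {z | f₂ z z = 0}
      zero_mem' := k₂.zero_left 0
      add_mem' := fun {z w} hz hw => by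
        show f₂ (z + w) (z + w) = 0
        rw [k₂.add_left, k₂.add_right, k₂.add_right, hz, hw, ksymm z w]
        linear_combination (f₂ z w) * h2
      smul_mem' := fun c z hz => by
        show f₂ (c • z) (c • z) = 0
        rw [k₂.smul_left, k₂.smul_right, hz, mul_zero, mul_zero] }
  obtain ⟨w, hw, hw0⟩ : ∃ w ∈ W, w ≠ 0 := by
    obtain ⟨j, k, hjk⟩ := Fintype.exists_pair_of_one_lt_card (α := Fin b) (by rw [Fintype.card_fin]; omega)
    by_cases hj : f₂ (Pi.single j 1) (Pi.single j 1) = 0
    · exact ⟨Pi.single j 1, hj, by simp⟩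
    obtain ⟨x, hx⟩ := FiniteField.isSquare_of_char_two (ringChar.eq F 2)
      (f₂ (Pi.single k 1) (Pi.single k 1) / f₂ (Pi.single j 1) (Pi.single j 1))
    refine ⟨x • Pi.single j 1 + Pi.single k 1, ?_, fun h => ?_⟩
    · show f₂ _ _ = 0
      simp only [k₂.add_left, k₂.add_right, k₂.smul_left, k₂.smul_right, RingEquiv.refl_apply,
        ksymm (Pi.single j 1) (Pi.single k 1)]
      rw [← mul_assoc x x, ← hx, div_mul_cancel₀ _ hj]
      linear_combination (f₂ (Pi.single k 1) (Pi.single k 1) + x * f₂ (Pi.single j 1) (Pi.single k 1)) * h2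
    · have := congrFun h k
      simp [Ne.symm hjk] at this
  let z : (ι → F) → Fin a → Fin b → F := fun v i j => (coord e P).symm v (i, j)
  let U : Submodule F (ι → F) :=
    { carrier := {v | ∀ i, z v i ∈ W}
      zero_mem' := fun i => by
        rw [show z 0 i = 0 by funext j; show (coord e P).symm 0 (i, j) = 0; rw [map_zero]; rfl]
        exact W.zero_mem
      add_mem' := fun {v v'} hv hv' i => by
        rw [show z (v + v') i = z v i + z v' i by funext j; show (coord e P).symm (v + v') (i, j) = _; rw [map_add]; rfl]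
        exact W.add_mem (hv i) (hv' i)
      smul_mem' := fun c v hv i => by
        rw [show z (c • v) i = c • z v i by funext j; show (coord e P).symm (c • v) (i, j) = _; rw [map_smul]; rfl]
        exact W.smul_mem c (hv i) }
  have hzp : ∀ x y i, z (coord e P (CfsgLib.Maximal.TensorTools.pure x y)) i = x i • y := fun x y i => by
    funext j
    show (coord e P).symm (coord e P _) (i, j) = _
    rw [LinearEquiv.symm_apply_apply]
    rfl
  rcases hirr U (by
    rintro _ ⟨g, hg, rfl⟩ _ ⟨v, hv, rfl⟩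
    rw [Matrix.toLin'_apply]
    obtain ⟨A, B, μ, -, hAB, hB⟩ := exists_factor_scale kT k₁ k₂ (kle hg) (hH g hg)
    have hdec : v = ∑ i, coord e P (CfsgLib.Maximal.TensorTools.pure (Pi.single i (1 : F)) (z v i)) := by
      rw [← map_sum, ← LinearEquiv.symm_apply_eq]
      funext p
      rw [Finset.sum_apply]
      simp only [CfsgLib.Maximal.TensorTools.pure, z]
      rw [Finset.sum_eq_single p.1 (fun i _ hi => by simp [hi.symm]) (by simp)]
      simp
    rw [hdec, Matrix.mulVec_sum]
    refine U.sum_mem fun i _ => ?_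
    rw [hAB]
    intro l
    rw [hzp]
    refine W.smul_mem _ ?_
    show f₂ _ _ = 0
    rw [hB, show f₂ (z v i) (z v i) = 0 from hv i, mul_zero]) with h | h
  · have hv : coord e P (CfsgLib.Maximal.TensorTools.pure (fun _ => (1 : F)) w) ∈ U := fun i => by
      rw [hzp, one_smul]; exact hw
    rw [h, Submodule.mem_bot] at hv
    have := hzp (fun _ => (1 : F)) w ⟨0, by omega⟩
    rw [hv, one_smul] at this
    apply hw0
    rw [← this]
    funext j
    show (coord e P).symm 0 _ = _
    rw [map_zero]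
    rfl
  · have hv : coord e P (CfsgLib.Maximal.TensorTools.pure (fun _ => (1 : F)) y) ∈ U := h ▸ Submodule.mem_top
    have := hv ⟨0, by omega⟩
    rw [hzp, one_smul] at this
    exact hy this

/-- A tensor product in characteristic two gives an invariant quadratic form vanishing on pure tensors. -/
theorem exists_tensor_quad [Nonempty ι] (h2 : (2 : F) = 0) (hf : IsSymplecticForm f) {H : Subgroup (GL ι F)}
    (hH : IsoGrp f H) (hirr : ActsIrreducibly (matrixSet H)) {a b : ℕ} (ha : 2 ≤ a) (hb : 2 ≤ b)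
    {e : ι ≃ Fin a × Fin b} {P : GL ι F} {ε₁ ε₂ : F} {f₁ : (Fin a → F) → (Fin a → F) → F}
    {f₂ : (Fin b → F) → (Fin b → F) → F} (h₁ : Herm (RingEquiv.refl F) ε₁ f₁) (h₂ : Herm (RingEquiv.refl F) ε₂ f₂)
    (hT : IsTensorFormStructure ((RingEquiv.refl F : F ≃+* F) : F → F) f f₁ f₂ e P)
    (hle : H ≤ tensorProductSubgroup a b e P) :
    ∃ Q : (ι → F) → F, (∀ (r : F) v, Q (r • v) = r ^ 2 * Q v) ∧ (∀ u v, QuadraticMap.polar Q u v = f u v) ∧
      (∀ g ∈ H, ∀ v, Q ((g : Matrix ι ι F) *ᵥ v) = Q v) ∧
      ∀ x y, Q (coord e P (CfsgLib.Maximal.TensorTools.pure x y)) = 0 := by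
  classical
  have hneg : ∀ x : F, -x = x := fun x => by linear_combination (-x) * h2
  haveI : CharP F 2 := CharTwo.of_one_ne_zero_of_two_eq_zero one_ne_zero h2
  haveI : Fact (Nat.Prime 2) := ⟨Nat.prime_two⟩
  have hone : ∀ ε : F, ε * ((RingEquiv.refl F : F ≃+* F) ε) = 1 → ε = 1 := fun ε h => by
    have h1 : ε * ε = 1 := h
    rcases mul_self_eq_one_iff.1 h1 with h | h
    · exact h
    · rw [h, hneg]
  haveI : Nonempty (Fin a) := ⟨⟨0, by omega⟩⟩
  haveI : Nonempty (Fin b) := ⟨⟨0, by omega⟩⟩
  have hs1 : ∀ x y, f₁ y x = f₁ x y := fun x y => by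
    rw [h₁.symm x y, hone _ h₁.eps_mul, one_mul]; rfl
  have hs2 : ∀ x y, f₂ y x = f₂ x y := fun x y => by
    rw [h₂.symm x y, hone _ h₂.eps_mul, one_mul]; rfl
  have halt2 := factor_alternating h2 hH hirr (by omega) hb h₁ h₂ hs2 hT hle
  have halt1 := factor_alternating h2 hH hirr (a := b) (b := a) (by omega) ha h₂ h₁ hs1
    (isTensorFormStructure_swap hT) (tensorProductSubgroup_swap e P ▸ hle)
  obtain ⟨c, hc, hTc⟩ := hT
  let G1 : Matrix (Fin a) (Fin a) F := gramMatrix f₁
  let G2 : Matrix (Fin b) (Fin b) F := gramMatrix f₂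
  let L : Fin a × Fin b → Fin a × Fin b → F := fun p p' =>
    (if p.1 < p'.1 then G1 p.1 p'.1 else 0) * G2 p.2 p'.2
  have hL : ∀ p p', L p p' + L p' p = G1 p.1 p'.1 * G2 p.2 p'.2 := fun p p' => by
    simp only [L, show G2 p'.2 p.2 = G2 p.2 p'.2 from hs2 (Pi.single p.2 1) (Pi.single p'.2 1), ← add_mul]
    rw [upper_add_transpose h2 (G := G1) (fun x y => hs1 (Pi.single x 1) (Pi.single y 1)) (fun x => halt1 (Pi.single x 1))]
  let Qz : (Fin a × Fin b → F) → F := fun z => c * ∑ p, ∑ p', z p * L p p' * z p'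
  have hpol : ∀ z w, Qz (z + w) - Qz z - Qz w =
      f (coord e P z) (coord e P w) := fun z w => by
    rw [coord_apply, coord_apply, hTc, ← mul_sub, ← mul_sub]
    congr 1
    simp only [formOfGram, Matrix.kroneckerMap_apply, RingEquiv.refl_apply]
    rw [show (∑ p, ∑ p', z p * (gramMatrix f₁ p.1 p'.1 * gramMatrix f₂ p.2 p'.2) * w p') =
      ∑ p, ∑ p', z p * (L p p' + L p' p) * w p' from
      Finset.sum_congr rfl fun p _ => Finset.sum_congr rfl fun p' _ => by rw [hL]]
    rw [show (∑ p, ∑ p', z p * (L p p' + L p' p) * w p') =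
      (∑ p, ∑ p', z p * L p p' * w p') + ∑ p, ∑ p', w p * L p p' * z p' by
      rw [Finset.sum_comm (f := fun p p' => w p * L p p' * z p')]
      simp only [← Finset.sum_add_distrib]
      exact Finset.sum_congr rfl fun _ _ => Finset.sum_congr rfl fun _ _ => by ring]
    simp only [Pi.add_apply, ← Finset.sum_sub_distrib, ← Finset.sum_add_distrib]
    exact Finset.sum_congr rfl fun _ _ => Finset.sum_congr rfl fun _ _ => by ring
  have hpure : ∀ x y, Qz (CfsgLib.Maximal.TensorTools.pure x y) = 0 := by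
    intro x y
    have h0 : (∑ j, ∑ j', y j * y j' * G2 j j') = 0 := by
      rw [quad_diag h2 (M := G2) (fun i j => (hs2 (Pi.single i 1) (Pi.single j 1)).symm)]
      exact Finset.sum_eq_zero fun j _ => by
        show _ * f₂ _ _ = 0
        rw [halt2, mul_zero]
    show c * _ = 0
    rw [mul_eq_zero]
    refine Or.inr ?_
    simp only [L, CfsgLib.Maximal.TensorTools.pure, Fintype.sum_prod_type]
    calc (∑ i, ∑ j, ∑ i', ∑ j', x i * y j * ((if i < i' then G1 i i' else 0) * G2 j j') * (x i' * y j'))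
        = ∑ i, ∑ i', x i * (if i < i' then G1 i i' else 0) * x i' * ∑ j, ∑ j', y j * y j' * G2 j j' := by
          simp only [Finset.mul_sum]
          refine Finset.sum_congr rfl fun i _ => ?_
          rw [Finset.sum_comm]
          exact Finset.sum_congr rfl fun i' _ => Finset.sum_congr rfl fun j _ =>
            Finset.sum_congr rfl fun j' _ => by ring
      _ = 0 := by simp [h0]
  let Q : (ι → F) → F := fun v => Qz ((coord e P).symm v)
  have hsm : ∀ (r : F) v, Q (r • v) = r ^ 2 * Q v := fun r v => by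
    simp only [Q, Qz, map_smul, Pi.smul_apply, smul_eq_mul, Finset.mul_sum]
    exact Finset.sum_congr rfl fun _ _ => Finset.sum_congr rfl fun _ _ => by ring
  have hpolQ : ∀ u v, QuadraticMap.polar Q u v = f u v := fun u v => by
    rw [QuadraticMap.polar]
    simp only [Q, map_add]
    rw [hpol, LinearEquiv.apply_symm_apply, LinearEquiv.apply_symm_apply]
  refine ⟨Q, hsm, hpolQ, fun g hg v => ?_, fun x y => by simp only [Q, LinearEquiv.symm_apply_apply, hpure]⟩
  obtain ⟨A, B, hAB⟩ := exists_factors (hle hg)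
  have hadd : ∀ u w, Q (u + w) = Q u + Q w + f u w := fun u w => by
    rw [← hpolQ u w, QuadraticMap.polar]; ring
  let K : Submodule F (ι → F) :=
    { carrier := {v | Q ((g : Matrix ι ι F) *ᵥ v) = Q v}
      zero_mem' := by show Q _ = Q 0; rw [Matrix.mulVec_zero]
      add_mem' := fun {u w} hu hw => by
        show Q _ = Q _
        rw [Matrix.mulVec_add, hadd, hadd, hu, hw, hH g hg]
      smul_mem' := fun r u hu => by
        show Q _ = Q _
        rw [Matrix.mulVec_smul, hsm, hsm, hu] }
  have hK : ∀ x y, coord e P (CfsgLib.Maximal.TensorTools.pure x y) ∈ K := fun x y => by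
    show Q _ = Q _
    rw [hAB]
    simp only [Q, LinearEquiv.symm_apply_apply, hpure]
  obtain ⟨z, rfl⟩ := (coord e P).surjective v
  show coord e P z ∈ K
  rw [show z = ∑ i, CfsgLib.Maximal.TensorTools.pure (Pi.single i (1 : F)) (fun j => z (i, j)) by
    funext p
    rw [Finset.sum_apply, Finset.sum_eq_single p.1 (fun i _ hi => by
      simp [CfsgLib.Maximal.TensorTools.pure, hi.symm]) (by simp)]
    simp [CfsgLib.Maximal.TensorTools.pure], map_sum]
  exact K.sum_mem fun i _ => hK _ _

/-- A tensor product in characteristic two gives a quadratic form. -/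
theorem hasQuad_of_tensor [Nonempty ι] (h2 : (2 : F) = 0) (hf : IsSymplecticForm f) {H : Subgroup (GL ι F)}
    (hH : IsoGrp f H) (hirr : ActsIrreducibly (matrixSet H)) {a b : ℕ} (ha : 2 ≤ a) (hb : 2 ≤ b)
    {e : ι ≃ Fin a × Fin b} {P : GL ι F} {ε₁ ε₂ : F} {f₁ : (Fin a → F) → (Fin a → F) → F}
    {f₂ : (Fin b → F) → (Fin b → F) → F} (h₁ : Herm (RingEquiv.refl F) ε₁ f₁) (h₂ : Herm (RingEquiv.refl F) ε₂ f₂)
    (hT : IsTensorFormStructure ((RingEquiv.refl F : F ≃+* F) : F → F) f f₁ f₂ e P)
    (hle : H ≤ tensorProductSubgroup a b e P) : HasQuad f H := by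
  obtain ⟨Q, hsm, hpol, hinv, -⟩ := exists_tensor_quad h2 hf hH hirr ha hb h₁ h₂ hT hle
  exact hasQuad_mk hf Q hsm hpol hinv

end CfsgLib.Geo.Asch
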