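import Mathlib
import Cfsg.Prelude.Def_GeometricClasses
import Cfsg.Agent.Lib.Geo.AschEvenReducible
import Cfsg.Agent.Lib.Geo.AschFormQuad
import Cfsg.Agent.Lib.Geo.AschFormSkew
import Cfsg.Agent.Lib.Geo.AschFormResidual
import Cfsg.Agent.Lib.Geo.AschEvenTensorProper

/-! Totally singular pairs and tensor products with a factor of dimension two. -/

set_option autoImplicit false
set_option linter.unusedSectionVars false

namespace CfsgLib.Geo.AschEven

open Cfsg Cfsg.Geo Matrix QuadraticMap CfsgLib.GeomClasses CfsgLib.Maximal.TensorTools CfsgLib.Geo.Asch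
open scoped MatrixGroups Kronecker

variable {ι : Type} [Fintype ι] [DecidableEq ι] {F : Type*} [Field F] [Fintype F] {Q : (ι → F) → F}

local notation "tp" => CfsgLib.Maximal.TensorTools.pure

/-- Members of a totally isotropic pair preserved irreducibly are totally singular. -/
theorem pair_singular [Nonempty ι] (hQ : IsNondegenerateQuadraticForm Q) {H : Subgroup (GL ι F)}
    (hHΩ : H ≤ omegaGL Q) (hirr : ActsIrreducibly (matrixSet H)) {m : ℕ} (hm : 2 ≤ m)
    {D : Fin 2 → Submodule F (ι → F)} (hD : IsMDecomposition m D) (hTS : ∀ i, IsTotallySingularFor (polar Q) (D i))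
    (hle : H ≤ decompositionStabilizer D) : ∀ i, IsTotallySingularQuad Q (D i) := by
  classical
  choose K hKle hK hKmem hKd using fun i => exists_singular_kernel hQ (hTS i)
  have hS : iSup K = ⊤ := by
    refine eq_top_of_invariant hirr _ (fun g hg => ?_) fun h => ?_
    · rw [Submodule.map_iSup]
      obtain ⟨τ, hτ⟩ := hle hg
      refine iSup_le fun i => le_iSup_of_le (τ i) ?_
      rintro _ ⟨x, hx, rfl⟩
      refine hKmem (τ i) _ (hτ i ▸ ⟨x, hKle i hx, rfl⟩) ?_
      rw [Matrix.toLin'_apply, omega_quad (hHΩ hg)]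
      exact hK i x hx
    · have h1 : K 0 = ⊥ := le_bot_iff.1 (h ▸ le_iSup K 0)
      have h2 := hKd 0
      rw [h1, finrank_bot, hD.finrank_eq] at h2
      omega
  intro i x hx
  have hxS : x ∈ iSup K := hS ▸ Submodule.mem_top
  rw [Submodule.mem_iSup_iff_exists_finsupp] at hxS
  obtain ⟨c, hc, hsum⟩ := hxS
  rw [Finsupp.sum_fintype _ _ (fun _ => rfl)] at hsum
  have h1 : Decomp.comp hD i x = c i := by
    rw [← hsum]
    exact Decomp.comp_sum hD _ (fun j => hKle j (hc j)) i
  rw [Decomp.comp_of_mem hD hx] at h1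
  rw [h1]
  exact hK i _ (hc i)

theorem pair_plus (hι : ∀ {m : ℕ} {D : Fin 2 → Submodule F (ι → F)}, IsMDecomposition m D → Fintype.card ι = 2 * m)
    {m : ℕ} {D : Fin 2 → Submodule F (ι → F)} (hD : IsMDecomposition m D) (hTS : IsTotallySingularQuad Q (D 0)) :
    IsPlusTypeOn Q ⊤ :=
  ⟨D 0, le_top, hTS, by rw [hD.finrank_eq, finrank_top, Module.finrank_fintype_fun_eq_card, hι hD]⟩

theorem card_of_pair {m : ℕ} {D : Fin 2 → Submodule F (ι → F)} (hD : IsMDecomposition m D) :
    Fintype.card ι = 2 * m := by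
  have h := Submodule.finrank_sup_add_finrank_inf_eq (D 0) (D 1)
  have htop : D 0 ⊔ D 1 = ⊤ := by
    rw [eq_top_iff, ← hD.iSup_eq_top]
    refine iSup_le fun i => ?_
    fin_cases i
    · exact le_sup_left
    · exact le_sup_right
  rw [htop, disjoint_iff.1 (hD.indep.pairwiseDisjoint (show (0 : Fin 2) ≠ 1 by decide)), finrank_top, finrank_bot,
    Module.finrank_fintype_fun_eq_card, hD.finrank_eq, hD.finrank_eq] at h
  omega

/-- Two totally singular halves of odd dimension are not preserved irreducibly. -/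
theorem pair_odd_false [Nonempty ι] (hQ : IsNondegenerateQuadraticForm Q) {H : Subgroup (GL ι F)}
    (hHΩ : H ≤ omegaGL Q) (hirr : ActsIrreducibly (matrixSet H)) {m : ℕ} (hm : 3 ≤ m) (hodd : Odd m)
    {D : Fin 2 → Submodule F (ι → F)} (hD : IsMDecomposition m D) (hTS : IsTotallySingularQuad Q (D 0))
    (hle : H ≤ decompositionStabilizer D) : False := by
  have hι := card_of_pair hD
  have h0 : (D 0).map (Matrix.toLin' ((1 : GL ι F) : Matrix ι ι F)) = D 0 := by simp
  have := eq_top_of_invariant hirr (D 0) (fun g hg => ?_) fun h => by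
    have := hD.finrank_eq 0; rw [h, finrank_bot] at this; omega
  · have h1 := hD.finrank_eq 0
    rw [this, finrank_top, Module.finrank_fintype_fun_eq_card, hι] at h1
    omega
  obtain ⟨τ, hτ⟩ := hle hg
  rw [hτ 0]
  rcases (show τ 0 = 0 ∨ τ 0 = 1 by omega) with h | h
  · rw [h]
  · exact absurd ((hτ 0).trans (congrArg D h)) (no_swap_of_odd hQ hι hm hodd (hD.finrank_eq 0) hTS
      (hD.indep.pairwiseDisjoint (show (0 : Fin 2) ≠ 1 by decide)) (hHΩ hg))

/-- A decomposition, an isotropic pair or a field. -/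
def Trio (Q : (ι → F) → F) (H : Subgroup (GL ι F)) : Prop :=
  (∃ (t m : ℕ) (D : Fin t → Submodule F (ι → F)), IsNondegenerateMDecomposition (polar Q) m D ∧
    H ≤ decompositionStabilizer D) ∨
  (∃ (m : ℕ) (D : Fin 2 → Submodule F (ι → F)), IsMDecomposition m D ∧
    (∀ i, IsTotallySingularFor (polar Q) (D i)) ∧ H ≤ decompositionStabilizer D) ∨
  (∃ (s : ℕ) (K : Subalgebra F (Matrix ι ι F)), s.Prime ∧ IsFieldSubalgebra s K ∧
    IsAdjointClosedFor (polar Q) K ∧ Normalized H K)

theorem symplectic_of_herm {κ : Type} [Fintype κ] [DecidableEq κ] {ε : F} {f : (κ → F) → (κ → F) → F}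
    (h : Herm (RingEquiv.refl F) ε f) (hε : ε = -1) (halt : ∀ v, f v v = 0) : IsSymplecticForm f :=
  ⟨⟨h.add_left, h.smul_left, h.add_right, fun c v x => h.smul_right c v x⟩,
    fun v w => by rw [h.symm w v, hε, RingEquiv.refl_apply, neg_one_mul], halt, h.nondeg⟩

theorem symmetric_of_herm {κ : Type} [Fintype κ] [DecidableEq κ] {f : (κ → F) → (κ → F) → F}
    (h : Herm (RingEquiv.refl F) 1 f) : IsSymmetricForm f :=
  ⟨⟨h.add_left, h.smul_left, h.add_right, fun c v x => h.smul_right c v x⟩,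
    fun v w => by rw [h.symm w v, one_mul, RingEquiv.refl_apply], h.nondeg⟩

theorem eps_pm {κ : Type} [Fintype κ] [DecidableEq κ] [Nonempty κ] {ε : F} {f : (κ → F) → (κ → F) → F}
    (h : Herm (RingEquiv.refl F) ε f) : ε = 1 ∨ ε = -1 := mul_self_eq_one_iff.1 h.eps_mul

theorem alternating_of_skew {κ : Type} [Fintype κ] [DecidableEq κ] (h2 : (2 : F) ≠ 0) {f : (κ → F) → (κ → F) → F}
    (h : Herm (RingEquiv.refl F) (-1) f) (v : κ → F) : f v v = 0 := by
  have h1 := h.symm v v
  rw [RingEquiv.refl_apply] at h1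
  exact (mul_eq_zero.1 (show (2 : F) * f v v = 0 by linear_combination h1)).resolve_left h2

theorem eps_one_of_odd {k : ℕ} (hk : Odd k) (h2 : (2 : F) ≠ 0) {ε : F} {f : (Fin k → F) → (Fin k → F) → F}
    (h : Herm (RingEquiv.refl F) ε f) : ε = 1 := by
  haveI : Nonempty (Fin k) := ⟨⟨0, hk.pos⟩⟩
  refine (eps_pm h).resolve_right fun he => ?_
  subst he
  exact not_symplectic_of_odd (by rwa [Fintype.card_fin]) (symplectic_of_herm h rfl (alternating_of_skew h2 h))

theorem factors_alternating_two [Nonempty ι] (h2 : (2 : F) = 0) {H : Subgroup (GL ι F)} {f : (ι → F) → (ι → F) → F}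
    (hH : IsoGrp f H) (hirr : ActsIrreducibly (matrixSet H)) {a b : ℕ} (ha : 2 ≤ a) (hb : 2 ≤ b)
    {e : ι ≃ Fin a × Fin b} {P : GL ι F} {ε₁ ε₂ : F} {f₁ : (Fin a → F) → (Fin a → F) → F}
    {f₂ : (Fin b → F) → (Fin b → F) → F} (h₁ : Herm (RingEquiv.refl F) ε₁ f₁) (h₂ : Herm (RingEquiv.refl F) ε₂ f₂)
    (hT : IsTensorFormStructure ((RingEquiv.refl F : F ≃+* F) : F → F) f f₁ f₂ e P)
    (hle : H ≤ tensorProductSubgroup a b e P) : IsSymplecticForm f₁ ∧ IsSymplecticForm f₂ := by
  haveI : Nonempty (Fin a) := ⟨⟨0, by omega⟩⟩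
  haveI : Nonempty (Fin b) := ⟨⟨0, by omega⟩⟩
  have hneg : (-1 : F) = 1 := by linear_combination (-1 : F) * h2
  have hone : ∀ {ε : F}, ε = 1 ∨ ε = -1 → ε = -1 ∧ ε = 1 := fun h => by
    rcases h with h | h
    · exact ⟨h.trans hneg.symm, h⟩
    · exact ⟨h, h.trans hneg⟩
  obtain ⟨e1, e1'⟩ := hone (eps_pm h₁)
  obtain ⟨e2, e2'⟩ := hone (eps_pm h₂)
  exact ⟨symplectic_of_herm h₁ e1 (factor_alternating h2 hH hirr (a := b) (b := a) (by omega) ha h₂ h₁
      (fun x y => by rw [h₁.symm x y, e1', one_mul]; rfl) (isTensorFormStructure_swap hT)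
      (tensorProductSubgroup_swap e P ▸ hle)),
    symplectic_of_herm h₂ e2 (factor_alternating h2 hH hirr (by omega) hb h₁ h₂
      (fun x y => by rw [h₂.symm x y, e2', one_mul]; rfl) hT hle)⟩

/-- A tensor product with a two dimensional factor. -/
theorem tensor_two_cases [Nonempty ι] (hQ : IsNondegenerateQuadraticForm Q) {H : Subgroup (GL ι F)}
    (hHΩ : H ≤ omegaGL Q) (hirr : ActsIrreducibly (matrixSet H)) {b : ℕ} (hb : 2 ≤ b)
    {e : ι ≃ Fin 2 × Fin b} {P : GL ι F} {ε₁ ε₂ : F} {f₁ : (Fin 2 → F) → (Fin 2 → F) → F}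
    {f₂ : (Fin b → F) → (Fin b → F) → F} (h₁ : Herm (RingEquiv.refl F) ε₁ f₁) (h₂ : Herm (RingEquiv.refl F) ε₂ f₂)
    (heps : ε₁ * ε₂ = 1) (hT : IsTensorFormStructure ((RingEquiv.refl F : F ≃+* F) : F → F) (polar Q) f₁ f₂ e P)
    (hle : H ≤ tensorProductSubgroup 2 b e P) :
    Trio Q H ∨ (IsSymplecticForm f₁ ∧ IsSymplecticForm f₂ ∧ ∀ x y, Q (coord e P (tp x y)) = 0) := by
  have hh := herm_polar hQ
  have hH := isoGrp_of_le hQ hHΩ
  by_cases h2 : (2 : F) = 0
  · obtain ⟨s1, s2⟩ := factors_alternating_two h2 hH hirr le_rfl hb h₁ h₂ hT hle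
    obtain ⟨Q', hsm, hpol, hinv, hpure⟩ :=
      exists_tensor_quad h2 (polar_symplectic hQ h2) hH hirr le_rfl hb h₁ h₂ hT hle
    refine Or.inr ⟨s1, s2, fun x y => ?_⟩
    have hcard : Fintype.card ι = 2 * b := by simpa using Fintype.card_congr e
    have h := quadratic_defect_eq_zero (by omega) h2 hirr (fun v => Q v - Q' v)
      (fun u v => by
        have h := hpol u v
        simp only [QuadraticMap.polar] at h
        linear_combination -h)
      (fun c v => by rw [hQ.smul, hsm]; ring)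
      (fun g hg v => by rw [omega_quad (hHΩ hg), hinv g hg]) (coord e P (tp x y))
    rw [hpure, sub_zero] at h
    exact h
  haveI : Nonempty (Fin b) := ⟨⟨0, by omega⟩⟩
  rcases eps_pm h₁ with he | he
  · subst he
    exact Or.inl (comm_of_symmetric_plane hh h2 hH hirr h₁ h₂ hT hle)
  · have he2 : ε₂ = -1 := by rw [he] at heps; linear_combination -heps
    subst he he2
    refine Or.inr ⟨symplectic_of_herm h₁ rfl (alternating_of_skew h2 h₁),
      symplectic_of_herm h₂ rfl (alternating_of_skew h2 h₂), fun x y => ?_⟩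
    obtain ⟨c, -, hform⟩ := form_coord hT h₁ h₂
    have h := hform x y x y
    rw [quad_polar_self hQ, alternating_of_skew h2 h₁, zero_mul, mul_zero] at h
    exact (mul_eq_zero.1 h).resolve_left h2

/-- Pure tensors singular with a two dimensional factor give plus type. -/
theorem plus_of_pure {b : ℕ} (e : ι ≃ Fin 2 × Fin b) (P : GL ι F) (hpure : ∀ x y, Q (coord e P (tp x y)) = 0) :
    IsPlusTypeOn Q ⊤ := by
  have hx : (Pi.single 0 1 : Fin 2 → F) ≠ 0 := by simp
  refine ⟨LinearMap.range (blockMapR e P (Pi.single 0 1)), le_top, ?_, ?_⟩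
  · rintro _ ⟨y, rfl⟩
    exact hpure _ y
  · rw [LinearMap.finrank_range_of_inj (blockMapR_injective hx), Module.finrank_fin_fun, finrank_top,
      Module.finrank_fintype_fun_eq_card, Fintype.card_congr e]
    simp

/-- Over two elements the first factor carries a normalised field of degree two. -/
theorem exists_field_of_two [Nonempty ι] (hF : Fintype.card F = 2) {b : ℕ} [NeZero b] (e : ι ≃ Fin 2 × Fin b)
    (P : GL ι F) :
    ∃ K : Subalgebra F (Matrix ι ι F), IsFieldSubalgebra 2 K ∧ Normalized (tensorProductSubgroup 2 b e P) K := by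
  classical
  have hall : ∀ x : F, x = 0 ∨ x = 1 := fun x => (em (x = 0)).imp id fun hx => by
    simpa [hF] using FiniteField.pow_card_sub_one_eq_one x hx
  have h20 : (2 : F) = 0 := two_eq_zero_of_not_odd (by rw [hF]; decide)
  set ω : Matrix (Fin 2) (Fin 2) F := !![0, 1; 1, 1] with hω
  have h11 : (1 : F) + 1 = 0 := by linear_combination h20
  have hωω : ω * ω = 1 + ω := by
    ext i j; fin_cases i <;> fin_cases j <;> simp [hω, Matrix.mul_apply, Fin.sum_univ_two]
  have hsol : ∀ M : Matrix (Fin 2) (Fin 2) F, M * M = 1 + M → M = ω ∨ M = 1 + ω := by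
    intro M h
    have e00 := congrFun (congrFun h 0) 0
    have e01 := congrFun (congrFun h 0) 1
    have e10 := congrFun (congrFun h 1) 0
    have e11 := congrFun (congrFun h 1) 1
    simp [Matrix.mul_apply, Fin.sum_univ_two] at e00 e01 e10 e11
    rcases hall (M 0 0) with a | a <;> rcases hall (M 0 1) with b | b <;> rcases hall (M 1 0) with c | c <;>
      rcases hall (M 1 1) with d | d <;> simp [a, b, c, d, h11] at e00 e01 e10 e11 <;>
      first
        | (refine Or.inl (Matrix.ext fun i j => ?_); fin_cases i <;> fin_cases j <;> simp [hω, a, b, c, d] <;> done)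
        | (refine Or.inr (Matrix.ext fun i j => ?_); fin_cases i <;> fin_cases j <;> simp [hω, a, b, c, d, h11] <;> done)
  let S : Subalgebra F (Matrix (Fin 2) (Fin 2) F) :=
    { carrier := {M | ∃ x y : F, M = x • 1 + y • ω}
      mul_mem' := by
        rintro _ _ ⟨x, y, rfl⟩ ⟨x', y', rfl⟩
        refine ⟨x * x' + y * y', x * y' + y * x' + y * y', ?_⟩
        simp only [add_mul, mul_add, Matrix.smul_mul, Matrix.mul_smul, one_mul, mul_one, hωω, smul_add, smul_smul]
        module
      add_mem' := by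
        rintro _ _ ⟨x, y, rfl⟩ ⟨x', y', rfl⟩
        exact ⟨x + x', y + y', by module⟩
      algebraMap_mem' := fun c => ⟨c, 0, by rw [Algebra.algebraMap_eq_smul_one, zero_smul, add_zero]⟩ }
  have hωS : ω ∈ S := ⟨0, 1, by module⟩
  have hfr : Module.finrank F S = 2 := by
    have hli : LinearIndependent F ![(1 : Matrix (Fin 2) (Fin 2) F), ω] := by
      rw [LinearIndependent.pair_iff]
      intro s t hst
      have := congrFun (congrFun hst 0) 1
      have h0 := congrFun (congrFun hst 0) 0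
      simp [hω] at this h0
      exact ⟨h0, this⟩
    have hspan : Submodule.span F (Set.range ![(1 : Matrix (Fin 2) (Fin 2) F), ω]) = S.toSubmodule := by
      refine le_antisymm (Submodule.span_le.2 ?_) ?_
      · rintro _ ⟨i, rfl⟩
        fin_cases i
        · exact S.one_mem
        · exact hωS
      · rintro _ ⟨x, y, rfl⟩
        exact add_mem (Submodule.smul_mem _ _ (Submodule.subset_span ⟨0, rfl⟩))
          (Submodule.smul_mem _ _ (Submodule.subset_span ⟨1, rfl⟩))
    show Module.finrank F S.toSubmodule = 2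
    rw [← hspan, finrank_span_eq_card hli, Fintype.card_fin]
  have hinv : ∀ M ∈ S, M ≠ 0 → ∃ M' ∈ S, M * M' = 1 := by
    rintro _ ⟨x, y, rfl⟩ hne
    have hω1 : ω * (1 + ω) = 1 := by
      rw [mul_add, mul_one, hωω]
      ext i j
      fin_cases i <;> fin_cases j <;> simp [hω, h11]
    rcases hall x with rfl | rfl <;> rcases hall y with rfl | rfl
    · exact absurd (by module) hne
    · exact ⟨1 + ω, add_mem S.one_mem hωS, by rw [zero_smul, zero_add, one_smul, hω1]⟩
    · exact ⟨1, S.one_mem, by rw [zero_smul, add_zero, one_smul, one_mul]⟩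
    · refine ⟨ω, hωS, ?_⟩
      rw [one_smul, one_smul, add_mul, one_mul, hωω]
      rw [mul_add, mul_one, hωω] at hω1
      exact hω1
  set φ := tensorEmb 2 b e P with hφ
  have hφi : Function.Injective φ := by
    intro X Y h
    refine Matrix.ext_of_mulVec_single fun k => blockMap_injective (e := e) (P := P)
      (show (fun _ => (1 : F) : Fin b → F) ≠ 0 from fun h => one_ne_zero (congrFun h 0)) ?_
    show coord e P _ = coord e P _
    rw [← tensorEmb_pure, ← tensorEmb_pure, ← hφ, h]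
  refine ⟨S.map φ, ⟨?_, ?_, ?_⟩, ?_⟩
  · rintro _ ⟨M, hM, rfl⟩ _ ⟨M', hM', rfl⟩
    obtain ⟨x, y, rfl⟩ := hM
    obtain ⟨x', y', rfl⟩ := hM'
    show φ _ * φ _ = φ _ * φ _
    rw [← map_mul, ← map_mul]
    congr 1
    simp only [add_mul, mul_add, Matrix.smul_mul, Matrix.mul_smul, one_mul, mul_one, hωω, smul_add, smul_smul]
    module
  · rintro _ ⟨M, hM, rfl⟩ hne
    obtain ⟨M', hM', h⟩ := hinv M hM (fun h => hne (by rw [h]; exact map_zero φ))
    exact ⟨φ M', ⟨M', hM', rfl⟩, by show φ M * φ M' = 1; rw [← map_mul, h, map_one]⟩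
  · exact (Submodule.equivMapOfInjective φ.toLinearMap hφi S.toSubmodule).finrank_eq.symm.trans hfr
  · rintro g hg _ ⟨M, ⟨x, y, rfl⟩, rfl⟩
    obtain ⟨A, B, hAB⟩ := exists_factors hg
    have hA : conjHom A ω ∈ S := by
      rcases hsol (conjHom A ω) (by rw [← map_mul, hωω, map_add, map_one]) with h | h <;> rw [h]
      · exact hωS
      · exact add_mem S.one_mem hωS
    show conjHom g (φ _) ∈ S.map φ
    rw [hφ, conj_tensorEmb e P A B hAB, map_add, map_smul, map_smul, map_one]
    exact ⟨_, add_mem (S.smul_mem S.one_mem x) (S.smul_mem hA y), rfl⟩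

end CfsgLib.Geo.AschEven
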