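import Mathlib
import Cfsg.Prelude.Def_GeometricClasses
import Cfsg.Agent.Lib.Geo.AschGroup
import Cfsg.Agent.Lib.Geo.AschForms
import Cfsg.Agent.Lib.Geo.AschProper
import Cfsg.Agent.Lib.Maximal.TensorPower

/-! Tensor powers: from commuting conjugate matrix algebras to the tensor wreath groups. -/

set_option autoImplicit false
set_option linter.unusedSectionVars false

namespace CfsgLib.Geo.Asch

open Cfsg Cfsg.Geo Matrix
open scoped MatrixGroups commutatorElement

variable {ι : Type} [Fintype ι] [DecidableEq ι] {F : Type*} [Field F]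

theorem commute_algOf_algOf {M L : Subgroup (GL ι F)} (h : ∀ x ∈ M, ∀ y ∈ L, x * y = y * x)
    {X Y : Matrix ι ι F} (hX : X ∈ algOf M) (hY : Y ∈ algOf L) : Commute X Y := by
  refine (commute_algOf (N := M) (M := Y) ?_ hX).symm
  rintro _ ⟨x, hx, rfl⟩
  refine (commute_algOf (N := L) (M := (x : Matrix ι ι F)) ?_ hY).symm
  rintro _ ⟨y, hy, rfl⟩
  show (x : Matrix ι ι F) * y = y * x
  rw [← Units.val_mul, h x hx y hy, Units.val_mul]

theorem conj_mem_algOf_map (g : GL ι F) {M : Subgroup (GL ι F)} {X : Matrix ι ι F} (hX : X ∈ algOf M) :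
    conjHom g X ∈ algOf (M.map (MulAut.conj g).toMonoidHom) := by
  have hle : algOf M ≤ (algOf (M.map (MulAut.conj g).toMonoidHom)).comap (conjHom g) := by
    refine Algebra.adjoin_le ?_
    rintro _ ⟨x, hx, rfl⟩
    show conjHom g (x : Matrix ι ι F) ∈ algOf (M.map (MulAut.conj g).toMonoidHom)
    rw [conjHom_apply, ← Units.val_mul, ← Units.val_mul]
    exact mem_algOf ⟨x, hx, rfl⟩
  exact hle hX

/-- A minimal normal spanning subgroup is simple modulo scalars or gives commuting conjugate matrix algebras. -/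
theorem simple_or_family_groups [Fintype F] [Nonempty ι] {H N : Subgroup (GL ι F)} (hNH : N ≤ H)
    (hNinv : ∀ g ∈ H, ∀ x ∈ N, g * x * g⁻¹ ∈ N) (hspan : algOf N = ⊤)
    (hperf : ¬ ∀ x ∈ N, ∀ y ∈ N, x * y * x⁻¹ * y⁻¹ ∈ scalars ι F)
    (hmin : ∀ K : Subgroup (GL ι F), K ≤ N → (∀ g ∈ H, ∀ x ∈ K, g * x * g⁻¹ ∈ K) → ¬ K ≤ scalars ι F → K = N) :
    (∀ K : Subgroup (GL ι F), K ≤ N → (∀ g ∈ N, ∀ x ∈ K, g * x * g⁻¹ ∈ K) → ¬ K ≤ scalars ι F → K = N) ∨
      ∃ (a t : ℕ) (ψ : Fin t → (Matrix (Fin a) (Fin a) F →ₐ[F] Matrix ι ι F)), 2 ≤ a ∧ 2 ≤ t ∧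
        Fintype.card ι = a ^ t ∧ (∀ i j, i ≠ j → ∀ X Y, Commute (ψ i X) (ψ j Y)) ∧
        (∀ i, ∃ K : Subgroup (GL ι F), K ≤ N ∧ algOf K = (ψ i).range) ∧
        ∀ g ∈ H, ∃ τ : Equiv.Perm (Fin t), ∀ i X, ∃ Y, conjHom g (ψ i X) = ψ (τ i) Y := by
  classical
  haveI := scalars_normal (ι := ι) (F := F)
  by_cases hall : ∀ K : Subgroup (GL ι F), K ≤ N → (∀ g ∈ N, ∀ x ∈ K, g * x * g⁻¹ ∈ K) → ¬ K ≤ scalars ι F → K = N
  · exact Or.inl hall
  right
  push Not at hall
  obtain ⟨K0, hK0N, hK0inv, hK0ns, hK0ne⟩ := hall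
  let P : Subgroup (GL ι F) → Prop :=
    fun K => K ≤ K0 ∧ (∀ g ∈ N, ∀ x ∈ K, g * x * g⁻¹ ∈ K) ∧ ¬ K ≤ scalars ι F
  obtain ⟨M, ⟨hMK0, hMinv, hMns⟩, hMmin⟩ := (Set.toFinite {K | P K}).exists_minimal ⟨K0, le_rfl, hK0inv, hK0ns⟩
  have hMN : M ≤ N := hMK0.trans hK0N
  have hMne : M ≠ N := fun h => hK0ne (le_antisymm hK0N (h ▸ hMK0))
  -- minimality among all normalised subgroups of N
  have hMmin' : ∀ K, K ≤ M → (∀ g ∈ N, ∀ x ∈ K, g * x * g⁻¹ ∈ K) → ¬ K ≤ scalars ι F → K = M :=
    fun K h1 h2 h3 => le_antisymm h1 (hMmin ⟨h1.trans hMK0, h2, h3⟩ h1)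
  let cj : GL ι F → Subgroup (GL ι F) → Subgroup (GL ι F) := fun g K => K.map (MulAut.conj g).toMonoidHom
  let C : Finset (Subgroup (GL ι F)) := (Set.toFinite {K | ∃ h ∈ H, K = cj h M}).toFinset
  have hC : ∀ {K}, K ∈ C ↔ ∃ h ∈ H, K = cj h M := fun {K} => by simp [C]
  have hMC : M ∈ C := hC.2 ⟨1, one_mem _, by ext; simp [cj]⟩
  have hCN : ∀ K ∈ C, K ≤ N := by
    intro K hK
    obtain ⟨h, hh, rfl⟩ := hC.1 hK
    rintro _ ⟨x, hx, rfl⟩
    exact hNinv h hh x (hMN hx)
  have hCinv : ∀ K ∈ C, ∀ g ∈ N, ∀ x ∈ K, g * x * g⁻¹ ∈ K := by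
    intro K hK g hg x hx
    obtain ⟨h, hh, rfl⟩ := hC.1 hK
    rw [conj_map_mem_iff] at hx ⊢
    have h1 := hMinv (h⁻¹ * g * h) (by
      have := hNinv h⁻¹ (inv_mem hh) g hg; rwa [inv_inv] at this) _ hx
    simpa [mul_assoc] using h1
  have hCns : ∀ K ∈ C, ¬ K ≤ scalars ι F := by
    intro K hK hle
    obtain ⟨h, hh, rfl⟩ := hC.1 hK
    refine hMns fun x hx => ?_
    have h1 := (scalars_normal (ι := ι) (F := F)).conj_mem _ (hle ⟨x, hx, rfl⟩) h⁻¹
    simpa [mul_assoc] using h1
  have hCmin : ∀ K ∈ C, ∀ L, L ≤ K → (∀ g ∈ N, ∀ x ∈ L, g * x * g⁻¹ ∈ L) → ¬ L ≤ scalars ι F → L = K := by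
    intro K hK L hL hLinv hLns
    obtain ⟨h, hh, rfl⟩ := hC.1 hK
    have h1 : cj h⁻¹ L = M := by
      refine hMmin' _ ?_ ?_ ?_
      · rintro _ ⟨x, hx, rfl⟩
        have := conj_map_mem_iff.1 (hL hx)
        simpa using this
      · intro g hg x hx
        rw [conj_map_mem_iff] at hx ⊢
        have h2 := hLinv (h * g * h⁻¹) (hNinv h hh g hg) _ hx
        simpa [mul_assoc] using h2
      · intro hle
        refine hLns fun x hx => ?_
        have h1 := (scalars_normal (ι := ι) (F := F)).conj_mem _ (hle ⟨x, hx, rfl⟩) h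
        simpa [mul_assoc] using h1
    refine le_antisymm hL ?_
    rw [← h1]
    rintro _ ⟨_, ⟨x, hx, rfl⟩, rfl⟩
    simpa [mul_assoc] using hx
  have hpair : ∀ K ∈ C, ∀ L ∈ C, K ≠ L → ∀ x ∈ K, ∀ y ∈ L, x * y * x⁻¹ * y⁻¹ ∈ scalars ι F := by
    intro K hK L hL hne x hx y hy
    by_contra hns
    have h1 : x * y * x⁻¹ * y⁻¹ ∈ K ⊓ L := by
      refine ⟨?_, ?_⟩
      · rw [show x * y * x⁻¹ * y⁻¹ = x * (y * x⁻¹ * y⁻¹) by group]
        exact K.mul_mem hx (hCinv K hK y (hCN L hL hy) _ (inv_mem hx))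
      · exact L.mul_mem (hCinv L hL x (hCN K hK hx) y hy) (inv_mem hy)
    have hinvKL : ∀ g ∈ N, ∀ z ∈ K ⊓ L, g * z * g⁻¹ ∈ K ⊓ L := fun g hg z hz =>
      ⟨hCinv K hK g hg z hz.1, hCinv L hL g hg z hz.2⟩
    have hns' : ¬ K ⊓ L ≤ scalars ι F := fun h => hns (h h1)
    exact hne ((hCmin K hK _ inf_le_left hinvKL hns').symm.trans (hCmin L hL _ inf_le_right hinvKL hns'))
  have hsup : C.sup id = N := by
    refine hmin _ (Finset.sup_le hCN) ?_ ?_
    · intro g hg x hx
      have hmap : (C.sup id).map (MulAut.conj g).toMonoidHom ≤ C.sup id := by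
        rw [Subgroup.map_le_iff_le_comap]
        refine Finset.sup_le fun K hK => ?_
        rw [← Subgroup.map_le_iff_le_comap]
        obtain ⟨h, hh, rfl⟩ := hC.1 hK
        have : cj g (cj h M) = cj (g * h) M := by
          ext y; simp only [cj, conj_map_mem_iff, _root_.mul_inv_rev]; simp [mul_assoc]
        show cj g (cj h M) ≤ _
        rw [this]
        exact Finset.le_sup (f := id) (hC.2 ⟨g * h, mul_mem hg hh, rfl⟩)
      exact hmap ⟨x, hx, rfl⟩
    · exact fun h => hMns (le_trans (Finset.le_sup (f := id) hMC) h)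
  -- M is perfect
  have hMperf : ⁅M, M⁆ = M := by
    refine hMmin' _ (Subgroup.commutator_le_self M) ?_ ?_
    · intro g hg x hx
      have hmap : (⁅M, M⁆).map (MulAut.conj g).toMonoidHom ≤ ⁅M, M⁆ := by
        rw [Subgroup.map_commutator]
        apply Subgroup.commutator_mono <;>
        · rintro _ ⟨a, ha, rfl⟩; exact hMinv g hg a ha
      exact hmap ⟨x, hx, rfl⟩
    · intro hle
      apply hperf
      let π : GL ι F →* GL ι F ⧸ scalars ι F := QuotientGroup.mk' _
      have hπ : ∀ a b : GL ι F, Commute (π a) (π b) ↔ a * b * a⁻¹ * b⁻¹ ∈ scalars ι F := by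
        intro a b
        rw [← QuotientGroup.eq_one_iff (N := scalars ι F), Commute, SemiconjBy]
        change _ ↔ π (a * b * a⁻¹ * b⁻¹) = 1
        rw [map_mul, map_mul, map_mul, map_inv, map_inv, mul_inv_eq_one, mul_inv_eq_iff_eq_mul]
      have hKK : ∀ K ∈ C, ∀ x ∈ K, ∀ y ∈ K, x * y * x⁻¹ * y⁻¹ ∈ scalars ι F := by
        intro K hK x hx y hy
        obtain ⟨h, hh, rfl⟩ := hC.1 hK
        obtain ⟨a, ha, rfl⟩ := hx
        obtain ⟨b, hb, rfl⟩ := hy
        have h1 := (scalars_normal (ι := ι) (F := F)).conj_mem _ (hle (Subgroup.commutator_mem_commutator ha hb)) h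
        simpa [mul_assoc, commutatorElement_def] using h1
      have hall : ∀ K ∈ C, ∀ L ∈ C, ∀ x ∈ K, ∀ y ∈ L, Commute (π x) (π y) := by
        intro K hK L hL x hx y hy
        rw [hπ]
        by_cases h : K = L
        · subst h; exact hKK K hK x hx y hy
        · exact hpair K hK L hL h x hx y hy
      intro x hx y hy
      rw [← hπ]
      have h1 : N ≤ (Subgroup.centralizer (π '' (N : Set (GL ι F)))).comap π := by
        have h2 : ∀ K ∈ C, N ≤ (Subgroup.centralizer (π '' (K : Set (GL ι F)))).comap π := by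
          intro K hK
          conv_lhs => rw [← hsup]
          refine Finset.sup_le fun L hL => fun z hz => ?_
          rw [Subgroup.mem_comap, Subgroup.mem_centralizer_iff]
          rintro _ ⟨w, hw, rfl⟩
          exact hall K hK L hL w hw z hz
        intro z hz
        rw [Subgroup.mem_comap, Subgroup.mem_centralizer_iff]
        rintro _ ⟨w, hw, rfl⟩
        have h3 : N ≤ (Subgroup.centralizer {π z}).comap π := by
          conv_lhs => rw [← hsup]
          refine Finset.sup_le fun K hK => fun v hv => ?_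
          rw [Subgroup.mem_comap, Subgroup.mem_centralizer_iff]
          rintro _ rfl
          exact (Subgroup.mem_centralizer_iff.1 (h2 K hK hz) (π v) ⟨v, hv, rfl⟩).symm
        exact (Subgroup.mem_centralizer_iff.1 (h3 hw) (π z) rfl).symm
      exact (Subgroup.mem_centralizer_iff.1 (h1 hy) (π x) ⟨x, hx, rfl⟩)
  have hcommM : ∀ K ∈ C, K ≠ M → ∀ x ∈ M, ∀ y ∈ K, x * y = y * x := by
    intro K hK hne x hx y hy
    have h1 : ⁅M, K⁆ ≤ scalars ι F := Subgroup.commutator_le.2 fun a ha b hb => hpair M hMC K hK (Ne.symm hne) a ha b hb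
    have hcen : ∀ X : Subgroup (GL ι F), X ≤ scalars ι F → ⁅X, M⁆ = ⊥ := by
      intro X hX
      rw [Subgroup.commutator_eq_bot_iff_le_centralizer]
      exact fun a ha => Subgroup.mem_centralizer_iff.2 fun b _ => (scalars_comm (hX ha) b).symm
    have h2 : ⁅⁅M, M⁆, K⁆ = ⊥ := Subgroup.commutator_commutator_eq_bot_of_rotate
      (hcen _ h1) (hcen _ (by rw [Subgroup.commutator_comm]; exact h1))
    rw [hMperf, Subgroup.commutator_eq_bot_iff_le_centralizer] at h2
    exact (Subgroup.mem_centralizer_iff.1 (h2 hx) y hy).symm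
  have hMnorm : Normalized N (algOf M) := normalized_algOf hMinv
  have hNirr : ActsIrreducibly (matrixSet N) := irreducible_of_algOf_eq_top hspan
  obtain ⟨a, ha, φ, hφi, hφr⟩ := exists_matrix_hom hNirr hMnorm (fun z hz hc => by
    have hNc : N ≤ { carrier := {g : GL ι F | z * g = g * z}
                     mul_mem' := fun {g h} hg hh => by
                       simp only [Set.mem_setOf_eq, Units.val_mul] at hg hh ⊢
                       rw [← mul_assoc, hg, mul_assoc, hh, mul_assoc]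
                     one_mem' := by simp
                     inv_mem' := fun {g} hg => by
                       simp only [Set.mem_setOf_eq] at hg ⊢
                       calc z * ((g⁻¹ : GL ι F) : Matrix ι ι F)
                           = ((g⁻¹ : GL ι F) : Matrix ι ι F) * ((g : Matrix ι ι F) * z) * ((g⁻¹ : GL ι F) : Matrix ι ι F) := by
                             rw [← mul_assoc ((g⁻¹ : GL ι F) : Matrix ι ι F), Units.inv_mul, one_mul]
                         _ = ((g⁻¹ : GL ι F) : Matrix ι ι F) * z := by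
                             rw [← hg, mul_assoc, mul_assoc, Units.mul_inv, mul_one] } := by
      conv_lhs => rw [← hsup]
      refine Finset.sup_le fun K hK => fun y hy => ?_
      show z * (y : Matrix ι ι F) = y * z
      by_cases hKM : K = M
      · subst hKM; exact hc _ (mem_algOf hy)
      · refine (commute_algOf (N := M) (M := (y : Matrix ι ι F)) ?_ hz).symm
        rintro _ ⟨x, hx, rfl⟩
        show (y : Matrix ι ι F) * x = x * y
        rw [← Units.val_mul, ← hcommM K hK hKM x hx y hy, Units.val_mul]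
    obtain ⟨c, hc'⟩ := scalar_of_commute hspan (M := z) (by rintro _ ⟨g, hg, rfl⟩; exact hNc hg)
    exact Algebra.mem_bot.2 ⟨c, by rw [hc', Algebra.algebraMap_eq_smul_one]⟩)
  haveI := ha
  -- conjugate embeddings
  have hconj : ∀ K ∈ C, ∃ ψ : Matrix (Fin a) (Fin a) F →ₐ[F] Matrix ι ι F, ψ.range = algOf K := by
    intro K hK
    obtain ⟨h, hh, rfl⟩ := hC.1 hK
    refine ⟨(conjHom h).comp φ, ?_⟩
    rw [AlgHom.range_comp, hφr, algOf, AlgHom.map_adjoin]
    congr 1
    ext X
    constructor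
    · rintro ⟨_, ⟨x, hx, rfl⟩, rfl⟩; exact ⟨h * x * h⁻¹, ⟨x, hx, rfl⟩, by simp [conjHom_apply]⟩
    · rintro ⟨_, ⟨x, hx, rfl⟩, rfl⟩; exact ⟨_, ⟨x, hx, rfl⟩, by simp [conjHom_apply]⟩
  have hcommC : ∀ K ∈ C, ∀ L ∈ C, K ≠ L → ∀ x ∈ K, ∀ y ∈ L, x * y = y * x := by
    intro K hK L hL hne
    obtain ⟨h, hh, rfl⟩ := hC.1 hK
    obtain ⟨k, hk, rfl⟩ := hC.1 hL
    intro x hx y hy
    have hL' : cj (h⁻¹ * k) M ∈ C := hC.2 ⟨_, mul_mem (inv_mem hh) hk, rfl⟩
    have hne' : cj (h⁻¹ * k) M ≠ M := by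
      intro e
      apply hne
      have e2 : cj h (cj (h⁻¹ * k) M) = cj k M := by
        ext z; simp only [cj, conj_map_mem_iff, _root_.mul_inv_rev]; simp [mul_assoc]
      rw [e] at e2
      exact e2
    have h1 := hcommM _ hL' hne' (h⁻¹ * x * h) (conj_map_mem_iff.1 hx) (h⁻¹ * y * h)
      (conj_map_mem_iff.2 (by simpa [mul_assoc] using conj_map_mem_iff.1 hy))
    have h2 := congrArg (fun u => h * u * h⁻¹) h1
    simpa [mul_assoc] using h2
  have hdim : ∀ T ⊆ C, Module.finrank F (algOf (T.sup id)) = (a * a) ^ T.card := by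
    intro T
    induction T using Finset.induction with
    | empty =>
      intro _
      have : algOf ((∅ : Finset (Subgroup (GL ι F))).sup id) = ⊥ := by
        rw [Finset.sup_empty, algOf, eq_bot_iff]
        refine Algebra.adjoin_le ?_
        rintro _ ⟨g, hg, rfl⟩
        rw [SetLike.mem_coe, Subgroup.mem_bot] at hg
        rw [hg]; exact one_mem _
      rw [this, Subalgebra.finrank_bot, Finset.card_empty, pow_zero]
    | insert K T hK ih =>
      intro hT
      obtain ⟨ψ, hψ⟩ := hconj K (hT (Finset.mem_insert_self K T))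
      have hcomm : ∀ x ∈ K, ∀ y ∈ T.sup id, x * y = y * x := by
        intro x hx
        have : T.sup id ≤ Subgroup.centralizer {x} := Finset.sup_le fun L hL y hy => by
          rw [Subgroup.mem_centralizer_iff]
          rintro _ rfl
          exact hcommC K (hT (Finset.mem_insert_self K T)) L (hT (Finset.mem_insert_of_mem hL))
            (fun e => hK (e ▸ hL)) _ hx y hy
        exact fun y hy => Subgroup.mem_centralizer_iff.1 (this hy) x rfl
      rw [Finset.sup_insert, id, finrank_algOf_sup ψ hψ hcomm, ih (fun L hL => hT (Finset.mem_insert_of_mem hL)),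
        Finset.card_insert_of_notMem hK, pow_succ']
  have h := hdim C subset_rfl
  rw [hsup, hspan] at h
  have htop : Module.finrank F (⊤ : Subalgebra F (Matrix ι ι F)) = Fintype.card ι * Fintype.card ι := by
    rw [show Module.finrank F (⊤ : Subalgebra F (Matrix ι ι F)) = Module.finrank F (Matrix ι ι F) from
      LinearEquiv.finrank_eq Subalgebra.topEquiv.toLinearEquiv, Module.finrank_matrix, Module.finrank_self, mul_one]
  rw [htop] at h
  choose Ψ hΨ using fun i : Fin C.card => hconj (C.equivFin.symm i : Subgroup (GL ι F)) (C.equivFin.symm i).2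
  refine ⟨a, C.card, Ψ, ?_, ?_, ?_, ?_, fun i => ⟨_, hCN _ (C.equivFin.symm i).2, (hΨ i).symm⟩, ?_⟩
  · by_contra h2
    have ha1 : a = 1 := by have := NeZero.ne a; omega
    subst ha1
    refine hMns fun x hx => mem_scalars_of_mem_bot ?_
    obtain ⟨X, hX⟩ : (x : Matrix ι ι F) ∈ φ.range := hφr ▸ mem_algOf hx
    rw [← hX, show X = algebraMap F _ (X 0 0) by
      ext i j; rw [Subsingleton.elim i 0, Subsingleton.elim j 0]; simp [Matrix.algebraMap_eq_diagonal]]
    show φ (algebraMap F _ (X 0 0)) ∈ (⊥ : Subalgebra F (Matrix ι ι F))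
    rw [AlgHom.commutes]
    exact Algebra.mem_bot.2 ⟨_, rfl⟩
  · by_contra h2
    have hC1 : C.card ≤ 1 := by omega
    refine hMne (le_antisymm hMN ?_)
    rw [← hsup]
    exact Finset.sup_le fun K hK => le_of_eq (Finset.card_le_one.1 hC1 K hK M hMC)
  · rw [mul_pow] at h
    exact Nat.mul_self_inj.1 h
  · intro i j hij X Y
    have hne : (C.equivFin.symm i : Subgroup (GL ι F)) ≠ C.equivFin.symm j :=
      fun e => hij (C.equivFin.symm.injective (Subtype.ext e))
    refine commute_algOf_algOf (fun x hx y hy => hcommC _ (C.equivFin.symm i).2 _ (C.equivFin.symm j).2 hne x hx y hy)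
      (hΨ i ▸ ⟨X, rfl⟩) (hΨ j ▸ ⟨Y, rfl⟩)
  · intro g hg
    have hmem : ∀ K ∈ C, cj g K ∈ C := by
      intro K hK
      obtain ⟨h, hh, rfl⟩ := hC.1 hK
      refine hC.2 ⟨g * h, mul_mem hg hh, ?_⟩
      ext y; simp only [cj, conj_map_mem_iff, _root_.mul_inv_rev]; simp [mul_assoc]
    let τf : Fin C.card → Fin C.card := fun i => C.equivFin ⟨_, hmem _ (C.equivFin.symm i).2⟩
    have hτ : Function.Injective τf := fun i j h => C.equivFin.symm.injective (Subtype.ext
      (Subgroup.map_injective (MulAut.conj g).injective (congrArg Subtype.val (C.equivFin.injective h))))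
    refine ⟨Equiv.ofBijective τf (Finite.injective_iff_bijective.1 hτ), fun i X => ?_⟩
    have h1 := conj_mem_algOf_map g (hΨ i ▸ ⟨X, rfl⟩ : Ψ i X ∈ algOf (C.equivFin.symm i : Subgroup (GL ι F)))
    have h2 : (C.equivFin.symm (τf i) : Subgroup (GL ι F)) = cj g (C.equivFin.symm i) := by
      simp [τf]
    change _ ∈ algOf (cj g _) at h1
    rw [← h2, ← hΨ] at h1
    obtain ⟨Y, hY⟩ := h1
    exact ⟨Y, hY.symm⟩

/-- The same without the subgroups. -/
theorem simple_or_family [Fintype F] [Nonempty ι] {H N : Subgroup (GL ι F)} (hNH : N ≤ H)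
    (hNinv : ∀ g ∈ H, ∀ x ∈ N, g * x * g⁻¹ ∈ N) (hspan : algOf N = ⊤)
    (hperf : ¬ ∀ x ∈ N, ∀ y ∈ N, x * y * x⁻¹ * y⁻¹ ∈ scalars ι F)
    (hmin : ∀ K : Subgroup (GL ι F), K ≤ N → (∀ g ∈ H, ∀ x ∈ K, g * x * g⁻¹ ∈ K) → ¬ K ≤ scalars ι F → K = N) :
    (∀ K : Subgroup (GL ι F), K ≤ N → (∀ g ∈ N, ∀ x ∈ K, g * x * g⁻¹ ∈ K) → ¬ K ≤ scalars ι F → K = N) ∨
      ∃ (a t : ℕ) (ψ : Fin t → (Matrix (Fin a) (Fin a) F →ₐ[F] Matrix ι ι F)), 2 ≤ a ∧ 2 ≤ t ∧
        Fintype.card ι = a ^ t ∧ (∀ i j, i ≠ j → ∀ X Y, Commute (ψ i X) (ψ j Y)) ∧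
        ∀ g ∈ H, ∃ τ : Equiv.Perm (Fin t), ∀ i X, ∃ Y, conjHom g (ψ i X) = ψ (τ i) Y := by
  exact (simple_or_family_groups hNH hNinv hspan hperf hmin).imp_right
    fun ⟨a, t, ψ, ha, ht, hcard, hcomm, _, hperm⟩ => ⟨a, t, ψ, ha, ht, hcard, hcomm, hperm⟩

theorem prod_ofFn_mul {M : Type*} [Monoid M] : ∀ {t : ℕ} (A B : Fin t → M), (∀ i j, i ≠ j → Commute (A i) (B j)) →
    (List.ofFn fun i => A i * B i).prod = (List.ofFn A).prod * (List.ofFn B).prod
  | 0, _, _, _ => by simp
  | t + 1, A, B, h => by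
    rw [List.ofFn_succ, List.ofFn_succ, List.ofFn_succ, List.prod_cons, List.prod_cons, List.prod_cons,
      prod_ofFn_mul (fun i => A i.succ) (fun i => B i.succ)
        (fun i j hij => h _ _ ((Fin.succ_injective _).ne hij))]
    have hc : Commute (B 0) (List.ofFn fun i : Fin t => A i.succ).prod := by
      refine Commute.list_prod_right _ _ fun x hx => ?_
      obtain ⟨i, rfl⟩ := List.mem_ofFn.1 hx
      exact (h _ _ (Fin.succ_ne_zero i)).symm
    calc A 0 * B 0 * ((List.ofFn fun i : Fin t => A i.succ).prod * (List.ofFn fun i : Fin t => B i.succ).prod)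
        = A 0 * (B 0 * (List.ofFn fun i : Fin t => A i.succ).prod) * (List.ofFn fun i : Fin t => B i.succ).prod := by
          simp only [mul_assoc]
      _ = _ := by rw [hc.eq]; simp only [mul_assoc]

theorem prod_ofFn_update_one {M : Type*} [Monoid M] : ∀ {t : ℕ} (i : Fin t) (X : M),
    (List.ofFn (Function.update (1 : Fin t → M) i X)).prod = X
  | 0, i, _ => i.elim0
  | t + 1, i, X => by
    rw [List.ofFn_succ, List.prod_cons]
    refine Fin.cases ?_ ?_ i
    · rw [Function.update_self]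
      have h1 : (fun j : Fin t => Function.update (1 : Fin (t + 1) → M) 0 X j.succ) = 1 :=
        funext fun j => Function.update_of_ne (Fin.succ_ne_zero j) _ _
      rw [h1, List.prod_eq_one (fun x hx => by obtain ⟨j, rfl⟩ := List.mem_ofFn.1 hx; rfl), mul_one]
    · intro i
      have h1 : (fun j : Fin t => Function.update (1 : Fin (t + 1) → M) i.succ X j.succ) =
          Function.update (1 : Fin t → M) i X := by
        funext j
        by_cases hj : j = i
        · subst hj; simp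
        · rw [Function.update_of_ne ((Fin.succ_injective _).ne hj), Function.update_of_ne hj]; rfl
      rw [Function.update_of_ne (Fin.succ_ne_zero i).symm, h1, prod_ofFn_update_one i X, Pi.one_apply, one_mul]

open CfsgLib.Maximal.TensorPower in
/-- Commuting matrix algebras of full dimension assemble to a tensor power. -/
theorem exists_powerEmb [Nonempty ι] {a t : ℕ} (ha : 0 < a) (hcard : Fintype.card ι = a ^ t)
    (ψ : Fin t → (Matrix (Fin a) (Fin a) F →ₐ[F] Matrix ι ι F))
    (hψ : ∀ i j, i ≠ j → ∀ X Y, Commute (ψ i X) (ψ j Y)) :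
    ∃ (e : ι ≃ (Fin t → Fin a)) (P : GL ι F), ∀ i X,
      ψ i X = conjHom P (Matrix.reindexAlgEquiv F F e.symm (slot i X)) := by
  classical
  let T := Fin t → Fin a
  haveI : Nonempty T := ⟨fun _ => ⟨0, ha⟩⟩
  let m : MultilinearMap F (fun _ : Fin t => Matrix (Fin a) (Fin a) F) (Matrix ι ι F) :=
    (MultilinearMap.mkPiAlgebraFin F t (Matrix ι ι F)).compLinearMap fun i => (ψ i).toLinearMap
  have hm : ∀ A, m A = (List.ofFn fun i => ψ i (A i)).prod := fun A => rfl
  have hmul : ∀ A B, m A * m B = m (A * B) := by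
    intro A B
    rw [hm, hm, hm, ← prod_ofFn_mul (fun i => ψ i (A i)) (fun i => ψ i (B i)) (fun i j hij => hψ i j hij _ _)]
    congr 2
    funext i
    rw [Pi.mul_apply, map_mul]
  have hm1 : m 1 = 1 := by
    rw [hm]
    simp
  have hslot : ∀ i X, m (Function.update 1 i X) = ψ i X := by
    intro i X
    rw [hm]
    have h1 : (fun j => ψ j (Function.update (1 : Fin t → Matrix (Fin a) (Fin a) F) i X j)) =
        Function.update (1 : Fin t → Matrix ι ι F) i (ψ i X) := by
      funext j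
      by_cases hj : j = i
      · subst hj; simp
      · rw [Function.update_of_ne hj, Function.update_of_ne hj]; simp
    rw [h1, prod_ofFn_update_one]
  let S : T → T → Matrix ι ι F := fun x y => m fun i => Matrix.single (x i) (y i) 1
  have hS : ∀ x y y' z, S x y * S y' z = if y = y' then S x z else 0 := by
    intro x y y' z
    simp only [S, hmul]
    by_cases h : y = y'
    · subst h
      rw [if_pos rfl]
      congr 1
      funext i
      simp
    · rw [if_neg h]
      obtain ⟨i, hi⟩ := Function.ne_iff.1 h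
      exact m.map_coord_zero i (Matrix.single_mul_single_of_ne _ _ _ _ hi _)
  let Φ : Matrix T T F →ₗ[F] Matrix ι ι F :=
    { toFun := fun X => ∑ x, ∑ y, X x y • S x y
      map_add' := fun X Y => by simp only [Matrix.add_apply, add_smul, Finset.sum_add_distrib]
      map_smul' := fun c X => by simp only [Matrix.smul_apply, smul_eq_mul, mul_smul, Finset.smul_sum, RingHom.id_apply] }
  have hΦpm : ∀ as, Φ (pm as) = m as := by
    intro as
    have h1 : as = fun i => ∑ p : Fin a × Fin a, as i p.1 p.2 • Matrix.single p.1 p.2 (1 : F) := by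
      funext i
      conv_lhs => rw [Matrix.matrix_eq_sum_single (as i)]
      rw [Fintype.sum_prod_type]
      exact Finset.sum_congr rfl fun k _ => Finset.sum_congr rfl fun l _ => by
        rw [Matrix.smul_single, smul_eq_mul, mul_one]
    conv_rhs => rw [h1, m.map_sum]
    simp only [m.map_smul_univ]
    show (∑ x, ∑ y, pm as x y • S x y) = _
    rw [← Fintype.sum_prod_type']
    exact Fintype.sum_equiv (Equiv.arrowProdEquivProdArrow (Fin t) (fun _ => Fin a) (fun _ => Fin a)).symm _ _ fun q => rfl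
  have hΦmul : ∀ X Y, Φ (X * Y) = Φ X * Φ Y := by
    intro X Y
    show (∑ x, ∑ z, (X * Y) x z • S x z) = (∑ x, ∑ y, X x y • S x y) * (∑ y', ∑ z, Y y' z • S y' z)
    rw [Finset.sum_mul]
    refine Finset.sum_congr rfl fun x _ => ?_
    rw [Finset.sum_mul]
    have h1 : ∀ y : T, (X x y • S x y) * (∑ y', ∑ z, Y y' z • S y' z) = ∑ z, (X x y * Y y z) • S x z := by
      intro y
      rw [Finset.mul_sum, Finset.sum_eq_single y]
      · rw [Finset.mul_sum]
        exact Finset.sum_congr rfl fun z _ => by rw [smul_mul_smul_comm, hS, if_pos rfl]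
      · intro y' _ hy'
        rw [Finset.mul_sum]
        exact Finset.sum_eq_zero fun z _ => by rw [smul_mul_smul_comm, hS, if_neg (Ne.symm hy'), smul_zero]
      · simp
    rw [Finset.sum_congr rfl fun y _ => h1 y, Finset.sum_comm]
    exact Finset.sum_congr rfl fun z _ => by rw [Matrix.mul_apply, Finset.sum_smul]
  have hΦone : Φ 1 = 1 := by rw [← pm_one, hΦpm]; exact hm1
  let Φa : Matrix T T F →ₐ[F] Matrix ι ι F := AlgHom.ofLinearMap Φ hΦone hΦmul
  have hcardT : Fintype.card ι = Fintype.card T := by simp [T, hcard]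
  let e : ι ≃ T := Fintype.equivOfCardEq hcardT
  obtain ⟨P, hP⟩ := exists_conj_eq' (Φa.comp (Matrix.reindexAlgEquiv F F e).toAlgHom)
  refine ⟨e, P, fun i X => ?_⟩
  rw [← hP, ← hslot, ← hΦpm]
  show Φ _ = Φ (Matrix.reindexAlgEquiv F F e (Matrix.reindexAlgEquiv F F e.symm (slot i X)))
  congr 1
  ext x y
  simp [slot_apply]

open CfsgLib.Maximal.TensorPower in
theorem factorPerm_conj {a t : ℕ} (τ : Equiv.Perm (Fin t)) :
    ∃ p : GL (Fin t → Fin a) F, IsFactorPermutation a t p ∧
      ∀ i X, (p : Matrix (Fin t → Fin a) (Fin t → Fin a) F) * slot i X = slot (τ i) X * (p : Matrix (Fin t → Fin a) (Fin t → Fin a) F) := by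
  classical
  let π : Equiv.Perm (Fin t → Fin a) := Equiv.arrowCongr τ (Equiv.refl _) |>.symm
  have hπ : ∀ x, π x = x ∘ τ := fun x => by funext i; simp [π, Equiv.arrowCongr]
  let p : GL (Fin t → Fin a) F :=
    ⟨π.toPEquiv.toMatrix, π.symm.toPEquiv.toMatrix,
      by rw [← PEquiv.toMatrix_trans, ← Equiv.toPEquiv_trans]; simp,
      by rw [← PEquiv.toMatrix_trans, ← Equiv.toPEquiv_trans]; simp⟩
  have hp : ∀ x y, (p : Matrix (Fin t → Fin a) (Fin t → Fin a) F) x y = if y = x ∘ τ then 1 else 0 := by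
    intro x y
    simp [p, PEquiv.toMatrix_apply, hπ, eq_comm]
  refine ⟨p, ⟨τ, hp⟩, fun i X => ?_⟩
  show π.toPEquiv.toMatrix * _ = _ * π.toPEquiv.toMatrix
  rw [PEquiv.toMatrix_toPEquiv_mul, PEquiv.mul_toMatrix_toPEquiv]
  ext x y
  simp only [Matrix.submatrix_apply, id_eq, slot_apply, pm]
  conv_rhs => rw [← Equiv.prod_comp τ]
  refine Finset.prod_congr rfl fun j _ => ?_
  have h1 : π.symm y (τ j) = y j := by
    have h := congrFun (hπ (π.symm y)) j
    rw [Equiv.apply_symm_apply] at h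
    exact h.symm
  rw [h1, hπ]
  by_cases hj : j = i
  · subst hj; simp
  · rw [Function.update_of_ne hj, Function.update_of_ne (τ.injective.ne hj)]; rfl

open CfsgLib.Maximal.TensorPower in
/-- Elements permuting the factors of a tensor power lie in the tensor wreath subgroup. -/
theorem mem_tensorWreath_of_family [Nonempty ι] {a t : ℕ} (ha : 0 < a) (ht : 0 < t)
    {ψ : Fin t → (Matrix (Fin a) (Fin a) F →ₐ[F] Matrix ι ι F)} (e : ι ≃ (Fin t → Fin a)) (P : GL ι F)
    (hψ : ∀ i X, ψ i X = conjHom P (Matrix.reindexAlgEquiv F F e.symm (slot i X)))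
    {g : GL ι F} {τ : Equiv.Perm (Fin t)} (hg : ∀ i X, ∃ Y, conjHom g (ψ i X) = ψ (τ i) Y) :
    g ∈ tensorWreathSubgroup a t e P := by
  classical
  haveI : NeZero a := ⟨ha.ne'⟩
  choose β hβ using hg
  have hinj : ∀ i, Function.Injective (ψ i) := fun i => (ψ i).toRingHom.injective
  have hconj : ∀ i, ∃ c : GL (Fin a) F, ∀ X, β i X = conjHom c X := by
    intro i
    refine exists_conj_eq (AlgHom.ofLinearMap
      { toFun := β i
        map_add' := fun X Y => hinj (τ i) (by rw [map_add, ← hβ, ← hβ, ← hβ, map_add, map_add])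
        map_smul' := fun k X => hinj (τ i) (by rw [RingHom.id_apply, map_smul, ← hβ, ← hβ, map_smul, map_smul]) }
      (hinj (τ i) ?_) fun X Y => hinj (τ i) ?_)
    · show ψ (τ i) (β i 1) = ψ (τ i) 1
      rw [← hβ]; simp
    · show ψ (τ i) (β i (X * Y)) = ψ (τ i) (β i X * β i Y)
      rw [map_mul, ← hβ, ← hβ, ← hβ, map_mul, map_mul]
  choose c hc using hconj
  obtain ⟨p, hp, hpc⟩ := factorPerm_conj (F := F) (a := a) τ
  -- the pure tensor of the factor maps
  let C : GL (Fin t → Fin a) F :=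
    ⟨pm fun j => (c (τ.symm j) : Matrix (Fin a) (Fin a) F),
      pm fun j => (((c (τ.symm j))⁻¹ : GL (Fin a) F) : Matrix (Fin a) (Fin a) F),
      by
        rw [pm_mul]; simp only [← Units.val_mul, mul_inv_cancel, Units.val_one]
        exact pm_one,
      by
        rw [pm_mul]; simp only [← Units.val_mul, inv_mul_cancel, Units.val_one]
        exact pm_one⟩
  let u := C * p
  have hu : ∀ i X, conjHom u (slot i X) = slot (τ i) (β i X) := by
    intro i X
    have h1 : conjHom p (slot i X) = slot (τ i) X := by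
      rw [conjHom_apply, hpc, mul_assoc, Units.mul_inv, mul_one]
    rw [conjHom_mul, h1, conjHom_apply]
    show pm _ * slot (τ i) X * pm _ = _
    rw [slot_apply, slot_apply, pm_mul, pm_mul, hc]
    congr 1
    funext j
    by_cases hj : j = τ i
    · subst hj; simp [conjHom_apply]
    · rw [Function.update_of_ne hj, Function.update_of_ne hj]; simp
  -- compare
  set R := glReindex (F := F) e.symm with hR
  have hre : ∀ v : GL (Fin t → Fin a) F, ∀ M, conjHom (R v) (Matrix.reindexAlgEquiv F F e.symm M) =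
      Matrix.reindexAlgEquiv F F e.symm (conjHom v M) := by
    intro v M
    rw [conjHom_apply, conjHom_apply, map_mul, map_mul, ← map_inv R]
    rfl
  let g₀ := P * R u * P⁻¹
  have hg₀ : ∀ i X, conjHom (g₀⁻¹ * g) (ψ i X) = ψ i X := by
    intro i X
    have h1 : conjHom g₀ (ψ i X) = ψ (τ i) (β i X) := by
      rw [conjHom_mul, conjHom_mul, hψ, conjHom_inv_cancel, hre, hu, ← hψ]
    rw [conjHom_mul, hβ, ← h1, conjHom_inv_cancel]
  set h := R.symm (P⁻¹ * (g₀⁻¹ * g) * P) with hhdef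
  have hh : ∀ i X, conjHom h (slot i X) = slot i X := by
    intro i X
    apply (Matrix.reindexAlgEquiv F F e.symm).injective
    rw [← hre, hhdef, MulEquiv.apply_symm_apply, conjHom_mul, conjHom_mul, ← hψ, hg₀, hψ, conjHom_inv_cancel]
  obtain ⟨k, hk⟩ := Matrix.mem_range_scalar_of_commute_single (M := (h : Matrix (Fin t → Fin a) (Fin t → Fin a) F))
    (fun x y _ => (commute_all (Z := (h : Matrix (Fin t → Fin a) (Fin t → Fin a) F)) (fun i X => by
      conv_rhs => rw [← hh i X, conjHom_apply, mul_assoc, Units.inv_mul, mul_one]) (Matrix.single x y 1)).symm)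
  haveI : Nonempty (Fin t → Fin a) := ⟨fun _ => ⟨0, ha⟩⟩
  have hk0 : k ≠ 0 := by
    rintro rfl
    rw [map_zero] at hk
    exact one_ne_zero (α := Matrix (Fin t → Fin a) (Fin t → Fin a) F) (by rw [← Units.mul_inv h, ← hk, zero_mul])
  have hpure : IsPureTensor a t (C : GL (Fin t → Fin a) F) := ⟨fun j => c (τ.symm j), fun _ _ => rfl⟩
  have hscal : IsPureTensor a t h := by
    refine ⟨Function.update 1 ⟨0, ht⟩ (Units.map (Matrix.scalar (Fin a) : F →+* Matrix (Fin a) (Fin a) F).toMonoidHom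
      (Units.mk0 k hk0)), fun x y => ?_⟩
    rw [← hk]
    have h1 : ∀ j, (((Function.update (1 : Fin t → GL (Fin a) F) ⟨0, ht⟩ (Units.map
        (Matrix.scalar (Fin a) : F →+* Matrix (Fin a) (Fin a) F).toMonoidHom (Units.mk0 k hk0))) j : GL (Fin a) F) :
        Matrix (Fin a) (Fin a) F) (x j) (y j) =
        (if j = ⟨0, ht⟩ then k else 1) * (if x j = y j then 1 else 0) := by
      intro j
      by_cases hj : j = ⟨0, ht⟩
      · subst hj; simp [Matrix.diagonal_apply]
      · rw [Function.update_of_ne hj, if_neg hj]; simp [Matrix.one_apply]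
    rw [Finset.prod_congr rfl fun j _ => h1 j, Finset.prod_mul_distrib, Finset.prod_eq_single (⟨0, ht⟩ : Fin t) (fun j _ hj => if_neg hj) (fun h => absurd (Finset.mem_univ _) h), if_pos rfl,
      Fintype.prod_boole]
    simp [Matrix.diagonal_apply, funext_iff]
  refine ⟨R (C * p * h), ⟨C * p * h, mul_mem (mul_mem (Subgroup.subset_closure (Or.inl hpure))
    (Subgroup.subset_closure (Or.inr hp))) (Subgroup.subset_closure (Or.inl hscal)), rfl⟩, ?_⟩
  show P * R (u * h) * P⁻¹ = g
  rw [map_mul, hhdef, MulEquiv.apply_symm_apply]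
  simp [g₀, mul_assoc]

/-- A minimal normal spanning subgroup is simple modulo scalars or gives a tensor power decomposition. -/
theorem simple_or_wreath [Fintype F] [Nonempty ι] {H N : Subgroup (GL ι F)} (hNH : N ≤ H)
    (hNinv : ∀ g ∈ H, ∀ x ∈ N, g * x * g⁻¹ ∈ N) (hspan : algOf N = ⊤)
    (hperf : ¬ ∀ x ∈ N, ∀ y ∈ N, x * y * x⁻¹ * y⁻¹ ∈ scalars ι F)
    (hmin : ∀ K : Subgroup (GL ι F), K ≤ N → (∀ g ∈ H, ∀ x ∈ K, g * x * g⁻¹ ∈ K) → ¬ K ≤ scalars ι F → K = N) :
    (∀ K : Subgroup (GL ι F), K ≤ N → (∀ g ∈ N, ∀ x ∈ K, g * x * g⁻¹ ∈ K) → ¬ K ≤ scalars ι F → K = N) ∨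
      ∃ (a t : ℕ) (e : ι ≃ (Fin t → Fin a)) (P : GL ι F), 2 ≤ a ∧ 2 ≤ t ∧ Fintype.card ι = a ^ t ∧
        H ≤ tensorWreathSubgroup a t e P := by
  refine (simple_or_family hNH hNinv hspan hperf hmin).imp_right ?_
  rintro ⟨a, t, ψ, ha, ht, hcard, hcomm, hperm⟩
  obtain ⟨e, P, hψ⟩ := exists_powerEmb (show 0 < a by omega) hcard ψ hcomm
  refine ⟨a, t, e, P, ha, ht, hcard, fun g hg => ?_⟩
  obtain ⟨τ, hτ⟩ := hperm g hg
  exact mem_tensorWreath_of_family (by omega) (by omega) e P hψ hτ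

open CfsgLib.Maximal.TensorPower in
/-- The tensor wreath group does not contain the special linear group. -/
theorem not_specialLinear_le_wreath {a t : ℕ} (ha : 2 ≤ a) (ht : 2 ≤ t) (e : ι ≃ (Fin t → Fin a)) (P : GL ι F) :
    ¬ specialLinear ι F ≤ tensorWreathSubgroup a t e P := by
  classical
  intro hle
  let i₀ : Fin t := ⟨0, by omega⟩
  let i₁ : Fin t := ⟨1, by omega⟩
  let p : Fin t → Fin a := fun _ => ⟨0, by omega⟩
  let q : Fin t → Fin a := fun _ => ⟨1, by omega⟩
  have hpq : ∀ i, p i ≠ q i := fun i => by simp [p, q]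
  let r : Fin t → Fin a := Function.update q i₀ (p i₀)
  have hrp : r ≠ p := fun h => hpq i₁ (by
    have h1 := congrFun h i₁
    rwa [show r i₁ = q i₁ from Function.update_of_ne (by simp [i₀, i₁]) _ _, eq_comm] at h1)
  have hrq : r ≠ q := fun h => hpq i₀ (by
    have h1 := congrFun h i₀
    rwa [show r i₀ = p i₀ from Function.update_self _ _ _] at h1)
  have hne : p ≠ q := fun h => hpq i₀ (congrFun h i₀)
  have hdot : (Pi.single (e.symm q) (1 : F) : ι → F) ⬝ᵥ Pi.single (e.symm p) (1 : F) = 0 := by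
    simp [single_dotProduct, Pi.single_apply, hne.symm]
  obtain ⟨y, hy, hyx⟩ := le_of_le_conj P hle
    (GeomClasses.tv_mem_specialLinear (Pi.single (e.symm p) (1 : F)) (Pi.single (e.symm q) (1 : F)))
  obtain ⟨σ, as, hmon⟩ := isMonomial_of_mem hy
  let ys : Fin t → Fin a → F := fun i => (as i : Matrix (Fin a) (Fin a) F) *ᵥ Pi.single (q (σ i)) 1
  have hval : ∀ x, tp ys x = (if x = p then 1 else 0) + (if x = q then 1 else 0) := by
    intro x
    rw [← hmon fun i => Pi.single (q i) 1, tp_single]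
    have h2 := congrArg (fun g : GL ι F => (g : Matrix ι ι F) (e.symm x) (e.symm q)) hyx
    simp only [GeomClasses.tv_val hdot] at h2
    have h4 : ((glReindex (F := F) e.symm).toMonoidHom y : Matrix ι ι F) (e.symm x) (e.symm q) =
        (y : Matrix _ _ F) x q := by simp [glReindex]
    rw [h4, Matrix.add_apply, Matrix.vecMulVec_apply] at h2
    rw [Matrix.mulVec_single_one, Matrix.col_apply, h2, Matrix.one_apply]
    simp only [Pi.single_apply, EmbeddingLike.apply_eq_iff_eq, if_true, mul_one]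
    exact add_comm _ _
  have hp := hval p
  have hq := hval q
  rw [if_pos rfl, if_neg hne, add_zero] at hp
  rw [if_neg hne.symm, if_pos rfl, zero_add] at hq
  have hr := hval r
  rw [if_neg hrp, if_neg hrq, add_zero] at hr
  obtain ⟨i, -, hi⟩ := Finset.prod_eq_zero_iff.1 (show ∏ i, ys i (r i) = 0 from hr)
  by_cases h : i = i₀
  · subst h
    rw [show r i₀ = p i₀ from Function.update_self _ _ _] at hi
    exact one_ne_zero (α := F) (by rw [← hp]; exact Finset.prod_eq_zero (Finset.mem_univ _) hi)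
  · rw [show r i = q i from Function.update_of_ne h _ _] at hi
    exact one_ne_zero (α := F) (by rw [← hq]; exact Finset.prod_eq_zero (Finset.mem_univ _) hi)

open CfsgLib.Maximal.TensorPower in
/-- A tensor decomposition with equal factors lies in a tensor wreath group. -/
theorem tensorProductSubgroup_le_wreath {a : ℕ} (e : ι ≃ Fin a × Fin a) (P : GL ι F) :
    tensorProductSubgroup a a e P ≤ tensorWreathSubgroup a 2 (e.trans (finTwoArrowEquiv _).symm) P := by
  rintro _ ⟨_, ⟨y, ⟨A, B, hy⟩, rfl⟩, rfl⟩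
  refine ⟨_, ⟨glReindex (F := F) (finTwoArrowEquiv (Fin a)).symm y, Subgroup.subset_closure (Or.inl ⟨![A, B], fun x z => ?_⟩), rfl⟩, ?_⟩
  · simp [glReindex, hy, Fin.prod_univ_two]
  · simp only [MulEquiv.coe_toMonoidHom]
    congr 1

end CfsgLib.Geo.Asch
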