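import Mathlib
import Cfsg.Prelude.Def_GeometricClasses
import Cfsg.Agent.Lib.Geo.AschFormRational
import Cfsg.Agent.Lib.Geo.AschWreath

/-! Tensor powers of planes preserve a bilinear form up to scalars. -/

set_option autoImplicit false
set_option linter.unusedSectionVars false

namespace CfsgLib.Geo.Asch

open Cfsg Cfsg.Geo Matrix CfsgLib.Maximal.TensorPower
open scoped MatrixGroups

variable {ι : Type} [Fintype ι] [DecidableEq ι] {F : Type*} [Field F]

/-- The alternating plane form as a matrix. -/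
def planeJ : Matrix (Fin 2) (Fin 2) F := !![0, 1; -1, 0]

theorem planeJ_similar (A : Matrix (Fin 2) (Fin 2) F) : Aᵀ * planeJ * A = A.det • planeJ := by
  ext i j
  fin_cases i <;> fin_cases j <;>
    simp [planeJ, Matrix.mul_apply, Fin.sum_univ_two, Matrix.det_fin_two] <;> ring

theorem planeJ_sq : (planeJ : Matrix (Fin 2) (Fin 2) F) * -planeJ = 1 := by
  ext i j
  fin_cases i <;> fin_cases j <;> simp [planeJ, Matrix.mul_apply, Fin.sum_univ_two]

theorem pm_smul {k t : ℕ} (c : Fin t → F) (as : Fin t → Matrix (Fin k) (Fin k) F) :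
    pm (fun i => c i • as i) = (∏ i, c i) • pm as := by
  ext x y
  simp [pm, Finset.prod_mul_distrib]

theorem pm_transpose {k t : ℕ} (as : Fin t → Matrix (Fin k) (Fin k) F) : (pm as)ᵀ = pm fun i => (as i)ᵀ := by
  ext x y
  simp [pm]

/-- The tensor wreath group of planes preserves a symplectic or a quadratic form up to scalars. -/
theorem wreath_two_le_form [Fintype F] [Nonempty ι] {t : ℕ} (ht : 0 < t) (e : ι ≃ (Fin t → Fin 2)) (P : GL ι F) :
    (∃ f : (ι → F) → (ι → F) → F, IsSymplecticForm f ∧ tensorWreathSubgroup 2 t e P ≤ similarityGroup f) ∨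
    (Odd (Fintype.card F) ∧ ∃ Q : (ι → F) → F, IsNondegenerateQuadraticForm Q ∧
      tensorWreathSubgroup 2 t e P ≤ quadSimilarityGroup Q) := by
  classical
  let G : Matrix (Fin t → Fin 2) (Fin t → Fin 2) F := pm fun _ => planeJ
  let G' : Matrix (Fin t → Fin 2) (Fin t → Fin 2) F := pm fun _ => -planeJ
  have hGG : G * G' = 1 := by
    simp only [G, G', pm_mul, planeJ_sq]
    exact pm_one
  have hGT : Gᵀ = ((-1 : F) ^ t) • G := by
    simp only [G, pm_transpose]
    rw [show (fun _ : Fin t => (planeJ : Matrix (Fin 2) (Fin 2) F)ᵀ) = fun _ => (-1 : F) • planeJ from funext fun _ => by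
      ext i j; fin_cases i <;> fin_cases j <;> simp [planeJ], pm_smul, Finset.prod_const, Finset.card_univ, Fintype.card_fin]
  have hdiag : ∀ x, G x x = 0 := fun x => by
    refine Finset.prod_eq_zero (Finset.mem_univ ⟨0, ht⟩) ?_
    generalize x ⟨0, ht⟩ = i
    fin_cases i <;> simp [planeJ]
  -- the generators preserve the form up to scalars
  have hgen : ∀ y ∈ tensorWreathStandard 2 t F, ∃ c : Fˣ,
      (y : Matrix (Fin t → Fin 2) (Fin t → Fin 2) F)ᵀ * G * y = (c : F) • G := by
    intro y hy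
    induction hy using Subgroup.closure_induction with
    | mem y hy =>
      rcases hy with ⟨gs, hgs⟩ | ⟨σ, hσ⟩
      · refine ⟨∏ i, Matrix.GeneralLinearGroup.det (gs i), ?_⟩
        rw [show (y : Matrix (Fin t → Fin 2) (Fin t → Fin 2) F) = pm fun i => (gs i : Matrix (Fin 2) (Fin 2) F) from
          Matrix.ext hgs, pm_transpose]
        simp only [G, pm_mul, planeJ_similar, pm_smul, Units.coe_prod]
        rfl
      · refine ⟨1, ?_⟩
        have hy' : (y : Matrix (Fin t → Fin 2) (Fin t → Fin 2) F) =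
            (Equiv.arrowCongr σ (Equiv.refl (Fin 2))).symm.toPEquiv.toMatrix := by
          ext x z
          rw [hσ, PEquiv.toMatrix_apply]
          simp [Equiv.arrowCongr, eq_comm]
        set π : Equiv.Perm (Fin t → Fin 2) := (Equiv.arrowCongr σ (Equiv.refl (Fin 2))).symm
        have hπ : (π.toPEquiv.toMatrix : Matrix _ _ F)ᵀ = π.symm.toPEquiv.toMatrix := by
          rw [← PEquiv.toMatrix_symm]; rfl
        rw [hy', hπ, PEquiv.toMatrix_toPEquiv_mul, PEquiv.mul_toMatrix_toPEquiv, Units.val_one, one_smul]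
        ext x z
        simp only [Matrix.submatrix_apply, id_eq, G, pm]
        exact Fintype.prod_equiv σ.symm _ _ fun i => by simp [π, Equiv.arrowCongr]
    | one => exact ⟨1, by simp⟩
    | mul y z _ _ hy hz =>
      obtain ⟨c, hc⟩ := hy
      obtain ⟨d, hd⟩ := hz
      refine ⟨c * d, ?_⟩
      calc ((y * z : GL (Fin t → Fin 2) F) : Matrix (Fin t → Fin 2) (Fin t → Fin 2) F)ᵀ * G * (y * z : GL (Fin t → Fin 2) F)
          = (z : Matrix (Fin t → Fin 2) (Fin t → Fin 2) F)ᵀ *
              ((y : Matrix (Fin t → Fin 2) (Fin t → Fin 2) F)ᵀ * G * y) * z := by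
            rw [Units.val_mul, Matrix.transpose_mul]; simp only [Matrix.mul_assoc]
        _ = _ := by rw [hc, Matrix.mul_smul, Matrix.smul_mul, hd, smul_smul, Units.val_mul]
    | inv y _ hy =>
      obtain ⟨c, hc⟩ := hy
      refine ⟨c⁻¹, ?_⟩
      set yi := ((y⁻¹ : GL (Fin t → Fin 2) F) : Matrix (Fin t → Fin 2) (Fin t → Fin 2) F) with hyi
      have h2 : yiᵀ * ((y : Matrix (Fin t → Fin 2) (Fin t → Fin 2) F)ᵀ * G * y) * yi = G := by
        calc _ = ((y : Matrix (Fin t → Fin 2) (Fin t → Fin 2) F) * yi)ᵀ * G *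
              ((y : Matrix (Fin t → Fin 2) (Fin t → Fin 2) F) * yi) := by
              rw [Matrix.transpose_mul]; simp only [Matrix.mul_assoc]
          _ = G := by rw [hyi, ← Units.val_mul, mul_inv_cancel, Units.val_one, Matrix.transpose_one, one_mul, mul_one]
      rw [hc, Matrix.mul_smul, Matrix.smul_mul] at h2
      conv_rhs => rw [← h2]
      rw [smul_smul, Units.inv_mul, one_smul]
  -- transport to ι
  let z : (ι → F) →ₗ[F] ((Fin t → Fin 2) → F) :=
    (LinearMap.funLeft F F e.symm).comp (Matrix.toLin' ((P⁻¹ : GL ι F) : Matrix ι ι F))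
  have hz : ∀ u x, z u x = (((P⁻¹ : GL ι F) : Matrix ι ι F) *ᵥ u) (e.symm x) := fun u x => rfl
  have hzinj : Function.Injective z := fun u v h => by
    refine GeomClasses.gl_mulVec_injective P⁻¹ (funext fun i => ?_)
    have := congrFun h (e i)
    rwa [hz, hz, e.symm_apply_apply] at this
  have hzsurj : ∀ w, ∃ u, z u = w := fun w => ⟨(P : Matrix ι ι F) *ᵥ (w ∘ e), funext fun x => by
    rw [hz, Matrix.mulVec_mulVec, Units.inv_mul, Matrix.one_mulVec, Function.comp_apply, e.apply_symm_apply]⟩
  let f : (ι → F) → (ι → F) → F := fun u v => z u ⬝ᵥ G *ᵥ z v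
  have hsymm : ∀ u v, f v u = (-1 : F) ^ t * f u v := fun u v => by
    show z v ⬝ᵥ G *ᵥ z u = _
    rw [Matrix.dotProduct_mulVec, ← Matrix.mulVec_transpose, hGT, Matrix.smul_mulVec, smul_dotProduct, dotProduct_comm,
      smul_eq_mul]
  have hfb : IsBilinearForm f :=
    ⟨fun x y v => by simp only [f, map_add, add_dotProduct], fun c x v => by simp only [f, map_smul, smul_dotProduct, smul_eq_mul],
      fun v x y => by simp only [f, map_add, Matrix.mulVec_add, dotProduct_add],
      fun c v x => by simp only [f, map_smul, Matrix.mulVec_smul, dotProduct_smul, smul_eq_mul]⟩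
  have hfn : IsNondegenerateForm f := by
    intro v hv
    obtain ⟨j, hj⟩ : ∃ j, (G *ᵥ z v) j ≠ 0 := Function.ne_iff.1 fun h => hv (hzinj (by
      rw [map_zero]
      have h1 := congrArg (fun w => G' *ᵥ w) h
      simp only [Matrix.mulVec_mulVec, mul_eq_one_comm.1 hGG, Matrix.one_mulVec] at h1
      exact h1.trans (Matrix.mulVec_zero G')))
    obtain ⟨x, hx⟩ := hzsurj (Pi.single j 1)
    have h1 : f x v ≠ 0 := by
      show z x ⬝ᵥ G *ᵥ z v ≠ 0
      rw [hx, single_dotProduct, one_mul]
      exact hj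
    exact ⟨⟨x, h1⟩, ⟨x, by rw [hsymm]; exact mul_ne_zero (pow_ne_zero _ (by simp)) h1⟩⟩
  have hle : tensorWreathSubgroup 2 t e P ≤ similarityGroup f := by
    rintro _ ⟨_, ⟨y, hy, rfl⟩, rfl⟩
    obtain ⟨c, hc⟩ := hgen y hy
    refine ⟨c, fun u v => ?_⟩
    have hzg : ∀ u, z (((MulAut.conj P).toMonoidHom ((glReindex (F := F) e.symm).toMonoidHom y) : GL ι F) *ᵥ u) =
        (y : Matrix _ _ F) *ᵥ z u := by
      intro u
      funext x
      rw [hz, MulEquiv.coe_toMonoidHom, MulEquiv.coe_toMonoidHom, MulAut.conj_apply, Units.val_mul, Units.val_mul,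
        Matrix.mulVec_mulVec, ← mul_assoc, ← mul_assoc, Units.inv_mul, one_mul, ← Matrix.mulVec_mulVec]
      simp only [Matrix.mulVec, dotProduct, hz]
      exact Fintype.sum_equiv e _ _ fun i => by simp [glReindex]
    show z _ ⬝ᵥ G *ᵥ z _ = (c : F) * f u v
    rw [hzg, hzg, ← Matrix.vecMul_transpose, ← Matrix.dotProduct_mulVec, Matrix.mulVec_mulVec, Matrix.mulVec_mulVec, hc,
      Matrix.smul_mulVec, dotProduct_smul, smul_eq_mul]
  by_cases h2 : (2 : F) = 0
  · refine Or.inl ⟨f, ⟨hfb, fun v w => ?_, fun v => ?_, hfn⟩, hle⟩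
    · have h1 : (-1 : F) = 1 := by linear_combination -h2
      rw [hsymm w v, h1, one_pow, one_mul]
      linear_combination f w v * h2
    · show z v ⬝ᵥ G *ᵥ z v = 0
      simp only [dotProduct, Matrix.mulVec, Finset.mul_sum]
      rw [show (∑ x, ∑ y, z v x * (G x y * z v y)) = ∑ x, ∑ y, z v x * z v y * G x y from
        Finset.sum_congr rfl fun x _ => Finset.sum_congr rfl fun y _ => by ring,
        quad_diag h2 (M := G) (fun x y => by
          have h1 := congrFun (congrFun hGT x) y
          rw [Matrix.smul_apply, smul_eq_mul, show (-1 : F) = 1 by linear_combination -h2, one_pow, one_mul] at h1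
          exact h1.symm)]
      exact Finset.sum_eq_zero fun x _ => by rw [hdiag, mul_zero]
  · rcases Nat.even_or_odd t with hev | hodd
    · have hs : ∀ u v, f v u = f u v := fun u v => by rw [hsymm u v, hev.neg_one_pow, one_mul]
      let Q : (ι → F) → F := fun v => f v v / 2
      have hpol : QuadraticMap.polar Q = f := by
        funext u v
        simp only [QuadraticMap.polar, Q, hfb.add_left, hfb.add_right, hs u v]
        field_simp
        ring
      refine Or.inr ⟨Nat.not_even_iff_odd.1 fun h => h2 (two_eq_zero_of_not_odd (Nat.not_odd_iff_even.2 h)), Q,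
        ⟨fun k v => by simp only [Q, hfb.smul_left, hfb.smul_right]; ring, hpol ▸ hfb, hpol ▸ hfn⟩, fun g hg => ?_⟩
      obtain ⟨c, hc⟩ := hle hg
      exact ⟨c, fun v => by simp only [Q, hc]; ring⟩
    · refine Or.inl ⟨f, ⟨hfb, fun v w => by rw [hsymm w v, hodd.neg_one_pow, neg_one_mul], fun v => ?_, hfn⟩, hle⟩
      have h1 := hsymm v v
      rw [hodd.neg_one_pow] at h1
      exact (mul_eq_zero.1 (show (2 : F) * f v v = 0 by linear_combination h1)).resolve_left h2

end CfsgLib.Geo.Asch
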