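import Mathlib
import Cfsg.Prelude.Def_GeometricClasses
import Cfsg.Agent.Lib.Geo.AschFormFactor
import Cfsg.Agent.Lib.Geo.AschForms
import Cfsg.Agent.Lib.Geo.AschWreath
import Cfsg.Agent.Lib.Geo.AschWreathForms

/-! A tensor product with a plus type factor of degree four is a tensor cube of planes. -/

set_option autoImplicit false
set_option linter.unusedSectionVars false

namespace CfsgLib.Geo.Asch

open Cfsg Cfsg.Geo Matrix CfsgLib.Maximal.TensorPower
open scoped MatrixGroups Kronecker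

variable {ι : Type} [Fintype ι] [DecidableEq ι] {F : Type*} [Field F] [Fintype F]

/-- The alternating plane form. -/
def planeForm (F : Type*) [Field F] : (Fin 2 → F) → (Fin 2 → F) → F := fun u v => u 0 * v 1 - u 1 * v 0

theorem planeForm_symplectic : IsSymplecticForm (planeForm F) := by
  refine ⟨⟨fun x y v => ?_, fun c x v => ?_, fun v x y => ?_, fun c v x => ?_⟩, fun v w => ?_, fun v => ?_, ?_⟩
  · simp [planeForm]; ring
  · simp [planeForm]; ring
  · simp [planeForm]; ring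
  · simp [planeForm]; ring
  · simp [planeForm]; ring
  · simp [planeForm]; ring
  · intro v hv
    by_cases h0 : v 0 = 0
    · have h1 : v 1 ≠ 0 := fun h1 => hv (funext fun i => by fin_cases i <;> assumption)
      exact ⟨⟨Pi.single 0 1, by simpa [planeForm] using h1⟩, ⟨Pi.single 0 1, by simpa [planeForm] using h1⟩⟩
    · exact ⟨⟨Pi.single 1 1, by simpa [planeForm] using h0⟩, ⟨Pi.single 1 1, by simpa [planeForm] using h0⟩⟩

theorem gram_planeForm : gramMatrix (planeForm F) = planeJ := by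
  ext i j
  fin_cases i <;> fin_cases j <;> simp [gramMatrix, planeForm, planeJ]

/-- The tensor square of the plane form. -/
def hypFour : Matrix (Fin 2 × Fin 2) (Fin 2 × Fin 2) F := planeJ ⊗ₖ planeJ

theorem hypFour_inv : (hypFour : Matrix (Fin 2 × Fin 2) (Fin 2 × Fin 2) F) * hypFour = 1 := by
  rw [hypFour, ← Matrix.mul_kronecker_mul]
  have h : (planeJ : Matrix (Fin 2) (Fin 2) F) * planeJ = (-1 : F) • 1 := by
    rw [neg_one_smul, ← neg_eq_iff_eq_neg, ← Matrix.mul_neg, planeJ_sq]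
  rw [h, Matrix.smul_kronecker, Matrix.kronecker_smul, Matrix.one_kronecker_one, smul_smul, neg_one_mul, neg_neg,
    one_smul]

/-- Pairs of two indices as four indices. -/
def fin22 : Fin 2 × Fin 2 ≃ Fin 4 := finProdFinEquiv

/-- A skew element with scalar square lies in one of the two factors. -/
theorem skew_square_factor (h2 : (2 : F) ≠ 0) {Z : Matrix (Fin 2 × Fin 2) (Fin 2 × Fin 2) F}
    (hskew : Zᵀ * hypFour = -(hypFour * Z)) {s : F} (hsq : Z * Z = s • 1) :
    (∃ A : Matrix (Fin 2) (Fin 2) F, Z = A ⊗ₖ 1) ∨ (∃ B : Matrix (Fin 2) (Fin 2) F, Z = 1 ⊗ₖ B) := by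
  have hs : ∀ p q, (Zᵀ * (hypFour : Matrix (Fin 2 × Fin 2) (Fin 2 × Fin 2) F)) p q + ((hypFour : Matrix (Fin 2 × Fin 2) (Fin 2 × Fin 2) F) * Z) p q = 0 :=
    fun p q => by rw [hskew, Matrix.neg_apply, neg_add_cancel]
  have e1 := hs (0, 0) (0, 0)
  have e2 := hs (0, 1) (0, 1)
  have e3 := hs (1, 0) (1, 0)
  have e4 := hs (1, 1) (1, 1)
  have e5 := hs (0, 0) (0, 1)
  have e6 := hs (0, 0) (1, 0)
  have e7 := hs (0, 0) (1, 1)
  have e8 := hs (0, 1) (1, 0)
  have e9 := hs (0, 1) (1, 1)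
  have e10 := hs (1, 0) (1, 1)
  simp [hypFour, planeJ, Matrix.mul_apply, Fintype.sum_prod_type, Fin.sum_univ_two] at e1 e2 e3 e4 e5 e6 e7 e8 e9 e10
  set a := (Z (0, 0) (0, 0) + Z (0, 1) (0, 1)) / 2 with ha
  set b := (Z (0, 0) (0, 0) - Z (0, 1) (0, 1)) / 2 with hb
  set A : Matrix (Fin 2) (Fin 2) F := !![a, Z (0, 0) (1, 0); Z (1, 0) (0, 0), -a] with hA
  set B : Matrix (Fin 2) (Fin 2) F := !![b, Z (0, 0) (0, 1); Z (0, 1) (0, 0), -b] with hB
  have z1 : Z (1, 1) (0, 0) = 0 := mul_left_cancel₀ h2 (by linear_combination e1)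
  have z2 : Z (1, 0) (0, 1) = 0 := mul_left_cancel₀ h2 (by linear_combination -e2)
  have z3 : Z (0, 1) (1, 0) = 0 := mul_left_cancel₀ h2 (by linear_combination -e3)
  have z4 : Z (0, 0) (1, 1) = 0 := mul_left_cancel₀ h2 (by linear_combination e4)
  have hZ : Z = A ⊗ₖ 1 + 1 ⊗ₖ B := by
    ext ⟨i, j⟩ ⟨k, l⟩
    fin_cases i <;> fin_cases j <;> fin_cases k <;> fin_cases l <;>
      simp [hA, hB, ha, hb, z1, z2, z3, z4]
    all_goals first
      | (field_simp; ring1)
      | linear_combination (2 : F) * e7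
      | linear_combination (-2 : F) * e7
      | linear_combination (2 : F) * e8
      | linear_combination (-2 : F) * e8
      | linear_combination e5
      | linear_combination -e5
      | linear_combination e6
      | linear_combination -e6
      | linear_combination e9
      | linear_combination -e9
      | linear_combination e10
      | linear_combination -e10
      | (field_simp; linear_combination 2 * e7)
      | (field_simp; linear_combination -2 * e7)
      | (field_simp; linear_combination 2 * e8)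
      | (field_simp; linear_combination -2 * e8)
  have hprod : ∀ i j k l, A i j * B k l = 0 := by
    have hd : ∀ p q, (Z * Z) p q = if p = q then s else 0 := fun p q => by
      rw [hsq, Matrix.smul_apply, Matrix.one_apply]
      split <;> simp
    rw [hZ] at hd
    have f1 := hd (0, 0) (0, 0)
    have f2 := hd (0, 1) (0, 1)
    have f3 := hd (0, 0) (0, 1)
    have f4 := hd (0, 1) (0, 0)
    have f5 := hd (0, 0) (1, 0)
    have f6 := hd (1, 0) (0, 0)
    have f7 := hd (0, 0) (1, 1)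
    have f8 := hd (0, 1) (1, 0)
    have f9 := hd (1, 0) (0, 1)
    have f10 := hd (1, 1) (0, 0)
    simp [hA, hB, Matrix.mul_apply, Fintype.sum_prod_type, Fin.sum_univ_two, Matrix.one_apply] at f1 f2 f3 f4 f5 f6 f7 f8 f9 f10
    have h4 : (2 : F) * 2 ≠ 0 := mul_ne_zero h2 h2
    have g00 : a * b = 0 := mul_left_cancel₀ h4 (by linear_combination f1 - f2)
    have g01 : a * Z (0, 0) (0, 1) = 0 := mul_left_cancel₀ h2 (by linear_combination f3)
    have g02 : a * Z (0, 1) (0, 0) = 0 := mul_left_cancel₀ h2 (by linear_combination f4)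
    have g10 : Z (0, 0) (1, 0) * b = 0 := mul_left_cancel₀ h2 (by linear_combination f5)
    have g20 : Z (1, 0) (0, 0) * b = 0 := mul_left_cancel₀ h2 (by linear_combination f6)
    have g11 : Z (0, 0) (1, 0) * Z (0, 0) (0, 1) = 0 := mul_left_cancel₀ h2 (by linear_combination f7)
    have g12 : Z (0, 0) (1, 0) * Z (0, 1) (0, 0) = 0 := mul_left_cancel₀ h2 (by linear_combination f8)
    have g21 : Z (1, 0) (0, 0) * Z (0, 0) (0, 1) = 0 := mul_left_cancel₀ h2 (by linear_combination f9)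
    have g22 : Z (1, 0) (0, 0) * Z (0, 1) (0, 0) = 0 := mul_left_cancel₀ h2 (by linear_combination f10)
    intro i j k l
    fin_cases i <;> fin_cases j <;> fin_cases k <;> fin_cases l <;>
      simp [hA, hB, neg_mul, mul_neg, g00, g01, g02, g10, g20, g11, g12, g21, g22]
  by_cases hA0 : A = 0
  · exact Or.inr ⟨B, by rw [hZ, hA0, Matrix.zero_kronecker, zero_add]⟩
  · obtain ⟨i, j, hij⟩ : ∃ i j, A i j ≠ 0 := by
      by_contra hall
      push Not at hall
      exact hA0 (Matrix.ext hall)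
    have hB0 : B = 0 := Matrix.ext fun k l => (mul_eq_zero.1 (hprod i j k l)).resolve_left hij
    exact Or.inl ⟨A, by rw [hZ, hB0, Matrix.kronecker_zero, add_zero]⟩

/-- The two factors of the tensor square of a plane. -/
def factorEmb (r : Fin 2) (X : Matrix (Fin 2) (Fin 2) F) : Matrix (Fin 2 × Fin 2) (Fin 2 × Fin 2) F :=
  if r = 0 then X ⊗ₖ 1 else 1 ⊗ₖ X

theorem factorEmb_add (r : Fin 2) (X Y : Matrix (Fin 2) (Fin 2) F) :
    factorEmb r (X + Y) = factorEmb r X + factorEmb r Y := by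
  unfold factorEmb; split
  · exact Matrix.add_kronecker X Y 1
  · exact Matrix.kronecker_add 1 X Y

theorem factorEmb_smul (r : Fin 2) (c : F) (X : Matrix (Fin 2) (Fin 2) F) :
    factorEmb r (c • X) = c • factorEmb r X := by
  unfold factorEmb; split
  · exact Matrix.smul_kronecker c X 1
  · exact Matrix.kronecker_smul c 1 X

theorem factorEmb_mul (r : Fin 2) (X Y : Matrix (Fin 2) (Fin 2) F) :
    factorEmb r (X * Y) = factorEmb r X * factorEmb r Y := by
  unfold factorEmb; split <;> rw [← Matrix.mul_kronecker_mul, one_mul]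

theorem factorEmb_one (r : Fin 2) : factorEmb r (1 : Matrix (Fin 2) (Fin 2) F) = 1 := by
  unfold factorEmb; split <;> rw [Matrix.one_kronecker_one]

theorem factorEmb_injective (r : Fin 2) : Function.Injective (factorEmb (F := F) r) := by
  intro X Y h
  ext i j
  unfold factorEmb at h
  split at h
  · simpa using congrFun (congrFun h (i, 0)) (j, 0)
  · simpa using congrFun (congrFun h (0, i)) (0, j)

theorem factorEmb_comm {r r' : Fin 2} (h : r ≠ r') (X Y : Matrix (Fin 2) (Fin 2) F) :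
    factorEmb r X * factorEmb r' Y = factorEmb r' Y * factorEmb r X := by
  fin_cases r <;> fin_cases r' <;>
    first
      | exact absurd rfl h
      | simp [factorEmb, ← Matrix.mul_kronecker_mul]

/-- A similarity of the hyperbolic form of degree four permutes the two factors. -/
theorem similitude_permutes_factors (h2 : (2 : F) ≠ 0) {b : GL (Fin 2 × Fin 2) F} {μ : F}
    (hb : (b : Matrix (Fin 2 × Fin 2) (Fin 2 × Fin 2) F)ᵀ * (hypFour : Matrix (Fin 2 × Fin 2) (Fin 2 × Fin 2) F) * (b : Matrix (Fin 2 × Fin 2) (Fin 2 × Fin 2) F) = μ • (hypFour : Matrix (Fin 2 × Fin 2) (Fin 2 × Fin 2) F)) :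
    ∃ π : Equiv.Perm (Fin 2), ∀ r X, ∃ Y, conjHom b (factorEmb r X) = factorEmb (π r) Y := by
  set B := (b : Matrix (Fin 2 × Fin 2) (Fin 2 × Fin 2) F) with hBdef
  set Bi := ((b⁻¹ : GL (Fin 2 × Fin 2) F) : Matrix (Fin 2 × Fin 2) (Fin 2 × Fin 2) F) with hBidef
  have hBBi : B * Bi = 1 := by rw [hBdef, hBidef, ← Units.val_mul, mul_inv_cancel, Units.val_one]
  have hBiB : Bi * B = 1 := by rw [hBdef, hBidef, ← Units.val_mul, inv_mul_cancel, Units.val_one]
  have hh : Biᵀ * (μ • hypFour) = hypFour * B := by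
    rw [← hb, ← Matrix.mul_assoc, ← Matrix.mul_assoc, ← Matrix.transpose_mul, hBBi, Matrix.transpose_one, one_mul]
  have hh' : (μ • hypFour) * Bi = Bᵀ * hypFour := by rw [← hb, Matrix.mul_assoc, hBBi, mul_one]
  have hμ : μ ≠ 0 := by
    rintro rfl
    rw [zero_smul, zero_mul] at hh'
    have h1 := congrArg (fun M => Biᵀ * M * hypFour) hh'
    simp only [mul_zero, zero_mul, Matrix.mul_assoc, hypFour_inv, mul_one, ← Matrix.transpose_mul, hBBi,
      Matrix.transpose_one] at h1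
    exact one_ne_zero h1.symm
  have hskew : ∀ (r : Fin 2) (X : Matrix (Fin 2) (Fin 2) F), X 0 0 + X 1 1 = 0 →
      (factorEmb r X)ᵀ * hypFour = -(hypFour * factorEmb r X) ∧ factorEmb r X * factorEmb r X = (-X.det) • 1 := by
    intro r X hX
    have hJ : Xᵀ * planeJ = -(planeJ * X) := by
      ext i j
      fin_cases i <;> fin_cases j <;> simp [planeJ, Matrix.mul_apply, Fin.sum_univ_two, Matrix.vecMul, dotProduct] <;>
        first | ring1 | linear_combination hX | linear_combination -hX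
    have hXX : X * X = (-X.det) • 1 := by
      have h11 : X 1 1 = -X 0 0 := by linear_combination hX
      ext i j
      fin_cases i <;> fin_cases j <;> simp [Matrix.det_fin_two, Matrix.mul_apply, Fin.sum_univ_two, h11] <;> ring
    refine ⟨?_, by rw [← factorEmb_mul, hXX, factorEmb_smul, factorEmb_one]⟩
    unfold factorEmb hypFour
    split
    · rw [← Matrix.kroneckerMap_transpose, Matrix.transpose_one, ← Matrix.mul_kronecker_mul, ← Matrix.mul_kronecker_mul,
        hJ, one_mul, mul_one, ← neg_one_smul F (planeJ * X), Matrix.smul_kronecker, neg_one_smul]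
    · rw [← Matrix.kroneckerMap_transpose, Matrix.transpose_one, ← Matrix.mul_kronecker_mul, ← Matrix.mul_kronecker_mul,
        hJ, one_mul, mul_one, ← neg_one_smul F (planeJ * X), Matrix.kronecker_smul, neg_one_smul]
  have hconj : ∀ (r : Fin 2) (X : Matrix (Fin 2) (Fin 2) F), X 0 0 + X 1 1 = 0 →
      ∃ r' Y, conjHom b (factorEmb r X) = factorEmb r' Y := by
    intro r X hX
    obtain ⟨hs, hq⟩ := hskew r X hX
    have h1 : (conjHom b (factorEmb r X))ᵀ * (hypFour : Matrix (Fin 2 × Fin 2) (Fin 2 × Fin 2) F) =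
        -(hypFour * conjHom b (factorEmb r X)) := by
      rw [conjHom_apply, ← hBdef, ← hBidef, Matrix.transpose_mul, Matrix.transpose_mul]
      refine smul_right_injective _ hμ ?_
      show μ • _ = μ • _
      calc μ • (Biᵀ * ((factorEmb r X)ᵀ * Bᵀ) * hypFour)
          = μ • (Biᵀ * ((factorEmb r X)ᵀ * (Bᵀ * hypFour))) := by simp only [Matrix.mul_assoc]
        _ = μ • (Biᵀ * ((factorEmb r X)ᵀ * ((μ • hypFour) * Bi))) := by rw [hh']
        _ = μ • (μ • (Biᵀ * (((factorEmb r X)ᵀ * hypFour) * Bi))) := by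
            simp only [Matrix.smul_mul, Matrix.mul_smul, Matrix.mul_assoc]
        _ = μ • (-((Biᵀ * (μ • hypFour)) * (factorEmb r X * Bi))) := by
            rw [hs]; simp only [Matrix.smul_mul, Matrix.mul_smul, Matrix.mul_assoc, Matrix.neg_mul, Matrix.mul_neg, smul_neg]
        _ = μ • (-(hypFour * (B * factorEmb r X * Bi))) := by rw [hh]; simp only [Matrix.mul_assoc]
    have h3 : conjHom b (factorEmb r X) * conjHom b (factorEmb r X) = (-X.det) • 1 := by
      rw [← map_mul, hq, map_smul, map_one]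
    rcases skew_square_factor h2 h1 h3 with ⟨A, hA⟩ | ⟨A, hA⟩
    · exact ⟨0, A, by rw [hA]; rfl⟩
    · exact ⟨1, A, by rw [hA]; rfl⟩
  let S : Fin 2 → Fin 2 → Submodule F (Matrix (Fin 2) (Fin 2) F) := fun r r' =>
    { carrier := {X | ∃ Y, conjHom b (factorEmb r X) = factorEmb r' Y}
      add_mem' := by
        rintro X X' ⟨Y, hY⟩ ⟨Y', hY'⟩
        exact ⟨Y + Y', by rw [factorEmb_add, map_add, hY, hY', factorEmb_add]⟩
      zero_mem' := ⟨0, by
        have h0 : ∀ r, factorEmb r (0 : Matrix (Fin 2) (Fin 2) F) = 0 := fun r => by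
          have := factorEmb_smul r (0 : F) (0 : Matrix (Fin 2) (Fin 2) F); simpa using this
        rw [h0, map_zero, h0]⟩
      smul_mem' := by
        rintro c X ⟨Y, hY⟩
        exact ⟨c • Y, by rw [factorEmb_smul, map_smul, hY, factorEmb_smul]⟩ }
  have hone : ∀ r r', (1 : Matrix (Fin 2) (Fin 2) F) ∈ S r r' := fun r r' =>
    ⟨1, by rw [factorEmb_one, factorEmb_one, map_one]⟩
  have hsplit : ∀ X : Matrix (Fin 2) (Fin 2) F, ∃ (c : F) (X₀ : Matrix (Fin 2) (Fin 2) F),
      X₀ 0 0 + X₀ 1 1 = 0 ∧ X = c • 1 + X₀ := fun X =>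
    ⟨(X 0 0 + X 1 1) / 2, X - ((X 0 0 + X 1 1) / 2) • 1, by simp; field_simp; ring, by abel⟩
  have hex : ∀ r, ∃ r', S r r' = ⊤ := by
    intro r
    have hcover : ∀ X, X ∈ S r 0 ∨ X ∈ S r 1 := by
      intro X
      obtain ⟨c, X₀, h0, rfl⟩ := hsplit X
      obtain ⟨r', Y, hY⟩ := hconj r X₀ h0
      fin_cases r'
      · exact Or.inl (Submodule.add_mem _ (Submodule.smul_mem _ c (hone r 0)) ⟨Y, hY⟩)
      · exact Or.inr (Submodule.add_mem _ (Submodule.smul_mem _ c (hone r 1)) ⟨Y, hY⟩)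
    by_contra hno
    push Not at hno
    obtain ⟨x, hx⟩ : ∃ x, x ∉ S r 0 := by
      by_contra h; push Not at h; exact hno 0 (Submodule.eq_top_iff'.2 h)
    obtain ⟨y, hy⟩ : ∃ y, y ∉ S r 1 := by
      by_contra h; push Not at h; exact hno 1 (Submodule.eq_top_iff'.2 h)
    rcases hcover (x + y) with h | h
    · exact hx ((Submodule.add_mem_iff_left _ ((hcover y).resolve_right hy)).1 h)
    · exact hy ((Submodule.add_mem_iff_right _ ((hcover x).resolve_left hx)).1 h)
  choose π hπ using hex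
  have hmem : ∀ r X, ∃ Y, conjHom b (factorEmb r X) = factorEmb (π r) Y := fun r X => by
    have : X ∈ S r (π r) := by rw [hπ r]; trivial
    exact this
  have hinj : Function.Injective π := by
    intro r r' hrr
    by_contra hne
    choose Y hY using hmem r
    choose Y' hY' using hmem r'
    let L : Matrix (Fin 2) (Fin 2) F →ₗ[F] Matrix (Fin 2) (Fin 2) F :=
      { toFun := Y
        map_add' := fun A A' => factorEmb_injective (π r) (by
          rw [← hY, factorEmb_add, map_add, hY, hY, factorEmb_add])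
        map_smul' := fun c A => factorEmb_injective (π r) (by
          rw [RingHom.id_apply, ← hY, factorEmb_smul, map_smul, hY, factorEmb_smul]) }
    have hLi : Function.Injective L := fun A A' h => by
      apply factorEmb_injective r
      apply (conjHom b).toRingHom.injective
      show conjHom b (factorEmb r A) = conjHom b (factorEmb r A')
      rw [hY, hY, show Y A = Y A' from h]
    let L' : Matrix (Fin 2) (Fin 2) F →ₗ[F] Matrix (Fin 2) (Fin 2) F :=
      { toFun := Y'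
        map_add' := fun A A' => factorEmb_injective (π r') (by
          rw [← hY', factorEmb_add, map_add, hY', hY', factorEmb_add])
        map_smul' := fun c A => factorEmb_injective (π r') (by
          rw [RingHom.id_apply, ← hY', factorEmb_smul, map_smul, hY', factorEmb_smul]) }
    have hLi' : Function.Injective L' := fun A A' h => by
      apply factorEmb_injective r'
      apply (conjHom b).toRingHom.injective
      show conjHom b (factorEmb r' A) = conjHom b (factorEmb r' A')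
      rw [hY', hY', show Y' A = Y' A' from h]
    obtain ⟨A, hA⟩ := LinearMap.injective_iff_surjective.1 hLi (Matrix.single 0 1 1)
    obtain ⟨A', hA'⟩ := LinearMap.injective_iff_surjective.1 hLi' (Matrix.single 1 0 1)
    have h1 := congrArg (conjHom b) (factorEmb_comm hne A A')
    rw [map_mul, map_mul, hY, hY', ← hrr, show Y A = Matrix.single 0 1 1 from hA,
      show Y' A' = Matrix.single 1 0 1 from hA', ← factorEmb_mul, ← factorEmb_mul] at h1
    have := congrFun (congrFun (factorEmb_injective _ h1) 0) 0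
    simp [Matrix.mul_apply, Fin.sum_univ_two, Matrix.single] at this
  exact ⟨Equiv.ofBijective π (Finite.injective_iff_bijective.1 hinj), hmem⟩

/-- A hyperbolic basis of a plus type form of degree four. -/
theorem exists_hyperbolic_four (h2 : (2 : F) ≠ 0) {g : (Fin 4 → F) → (Fin 4 → F) → F} (hg : IsSymmetricForm g)
    (hplus : IsPlusTypeOn (fun v => g v v) ⊤) :
    ∃ T : GL (Fin 4) F, (T : Matrix (Fin 4) (Fin 4) F)ᵀ * gramMatrix g * T =
      Matrix.reindex fin22 fin22 (hypFour : Matrix (Fin 2 × Fin 2) (Fin 2 × Fin 2) F) := by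
  classical
  have hb := hg.bilinear
  obtain ⟨U, -, hU, hdim⟩ := hplus
  rw [finrank_top, Module.finrank_fin_fun] at hdim
  have hU0 : ∀ x ∈ U, ∀ y ∈ U, g x y = 0 := fun x hx y hy => by
    have hxx : g x x = 0 := hU x hx
    have hyy : g y y = 0 := hU y hy
    have hxy : g (x + y) (x + y) = 0 := hU _ (U.add_mem hx hy)
    rw [hb.add_left, hb.add_right, hb.add_right, hxx, hyy, hg.symm y x] at hxy
    exact mul_left_cancel₀ h2 (by linear_combination hxy)
  obtain ⟨bU⟩ : Nonempty (Module.Basis (Fin 2) F U) := ⟨Module.finBasisOfFinrankEq F U (by omega)⟩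
  set u₁ : Fin 4 → F := (bU 0 : Fin 4 → F) with hu₁
  set u₂ : Fin 4 → F := (bU 1 : Fin 4 → F) with hu₂
  let Φ : (Fin 4 → F) →ₗ[F] (Fin 2 → F) :=
    { toFun := fun v => ![g u₁ v, g u₂ v]
      map_add' := fun v w => by ext i; fin_cases i <;> simp [hb.add_right]
      map_smul' := fun c v => by ext i; fin_cases i <;> simp [hb.smul_right] }
  have hsurj : Function.Surjective Φ := by
    rw [← LinearMap.range_eq_top]
    by_contra hne
    obtain ⟨φ, hφ0, hφ⟩ := Submodule.exists_dual_map_eq_bot_of_lt_top (lt_top_iff_ne_top.2 hne) inferInstance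
    set c₁ := φ (Pi.single 0 1) with hc₁
    set c₂ := φ (Pi.single 1 1) with hc₂
    have hφv : ∀ w : Fin 2 → F, φ w = w 0 * c₁ + w 1 * c₂ := fun w => by
      conv_lhs => rw [show w = w 0 • Pi.single 0 1 + w 1 • Pi.single 1 1 by ext i; fin_cases i <;> simp]
      rw [map_add, map_smul, map_smul]; rfl
    have hzero : c₁ • u₁ + c₂ • u₂ = 0 := by
      by_contra hne0
      obtain ⟨-, ⟨x, hx⟩⟩ := hg.nondegenerate _ hne0
      apply hx
      have h1 : φ (Φ x) = 0 := by
        have : φ (Φ x) ∈ Submodule.map φ (LinearMap.range Φ) := ⟨_, ⟨x, rfl⟩, rfl⟩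
        rwa [hφ, Submodule.mem_bot] at this
      rw [hφv] at h1
      rw [hb.add_left, hb.smul_left, hb.smul_left]
      simp [Φ] at h1
      linear_combination h1
    have h1 : (c₁ • bU 0 + c₂ • bU 1 : U) = 0 := Subtype.ext hzero
    have h3 := Fintype.linearIndependent_iff.1 bU.linearIndependent ![c₁, c₂] (by simpa [Fin.sum_univ_two] using h1)
    have e1 : c₁ = 0 := by simpa using h3 0
    have e2 : c₂ = 0 := by simpa using h3 1
    exact hφ0 (LinearMap.ext fun w => by simp [hφv, e1, e2])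
  obtain ⟨w₁', hw₁'⟩ := hsurj ![1, 0]
  obtain ⟨w₂', hw₂'⟩ := hsurj ![0, 1]
  have p11 : g u₁ w₁' = 1 := by simpa [Φ] using congrFun hw₁' 0
  have p21 : g u₂ w₁' = 0 := by simpa [Φ] using congrFun hw₁' 1
  have p12 : g u₁ w₂' = 0 := by simpa [Φ] using congrFun hw₂' 0
  have p22 : g u₂ w₂' = 1 := by simpa [Φ] using congrFun hw₂' 1
  set w₁ := w₁' + (-(g w₁' w₁') / 2) • u₁ with hw₁
  set w₂ := w₂' + (-(g w₂' w₁)) • u₁ + (-(g w₂' w₂') / 2) • u₂ with hw₂
  have z11 : g u₁ u₁ = 0 := hU0 _ (bU 0).2 _ (bU 0).2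
  have z12 : g u₁ u₂ = 0 := hU0 _ (bU 0).2 _ (bU 1).2
  have z21 : g u₂ u₁ = 0 := hU0 _ (bU 1).2 _ (bU 0).2
  have z22 : g u₂ u₂ = 0 := hU0 _ (bU 1).2 _ (bU 1).2
  have q11 : g u₁ w₁ = 1 := by rw [hw₁, hb.add_right, hb.smul_right, p11, z11]; ring
  have q21 : g u₂ w₁ = 0 := by rw [hw₁, hb.add_right, hb.smul_right, p21, z21]; ring
  have q12 : g u₁ w₂ = 0 := by
    rw [hw₂, hb.add_right, hb.add_right, hb.smul_right, hb.smul_right, p12, z11, z12]; ring
  have q22 : g u₂ w₂ = 1 := by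
    rw [hw₂, hb.add_right, hb.add_right, hb.smul_right, hb.smul_right, p22, z21, z22]; ring
  have r11 : g w₁ w₁ = 0 := by
    rw [hw₁]; simp only [hb.add_left, hb.add_right, hb.smul_left, hb.smul_right]
    rw [hg.symm w₁' u₁, p11, z11]; field_simp; ring
  have r21 : g w₂ w₁ = 0 := by
    rw [hw₂, hb.add_left, hb.add_left, hb.smul_left, hb.smul_left, q11, q21]; ring
  have r22 : g w₂ w₂ = 0 := by
    rw [hw₂]; simp only [hb.add_left, hb.add_right, hb.smul_left, hb.smul_right]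
    rw [hg.symm w₂' u₁, hg.symm w₂' u₂, p12, p22, z11, z12, z21, z22]; field_simp; ring
  let cols : Fin 2 × Fin 2 → (Fin 4 → F) := fun p => ![![u₁, u₂], ![-w₂, w₁]] p.1 p.2
  let M : Matrix (Fin 4) (Fin 4) F := Matrix.of fun i j => cols (fin22.symm j) i
  have hneg : ∀ v w, g v (-w) = -(g v w) := fun v w => by rw [← neg_one_smul F w, hb.smul_right, neg_one_mul]
  have hneg' : ∀ v w, g (-v) w = -(g v w) := fun v w => by rw [← neg_one_smul F v, hb.smul_left, neg_one_mul]
  have hgram : ∀ p q, g (cols p) (cols q) = (hypFour : Matrix (Fin 2 × Fin 2) (Fin 2 × Fin 2) F) p q := by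
    rintro ⟨i, j⟩ ⟨k, l⟩
    fin_cases i <;> fin_cases j <;> fin_cases k <;> fin_cases l <;>
      simp [cols, hypFour, planeJ, hneg, hneg', z11, z12, z21, z22, q11, q12, q21, q22, r11, r21, r22,
        hg.symm w₁ u₁, hg.symm w₁ u₂, hg.symm w₂ u₁, hg.symm w₂ u₂, hg.symm w₁ w₂]
  set G4 := Matrix.reindex fin22 fin22 (hypFour : Matrix (Fin 2 × Fin 2) (Fin 2 × Fin 2) F) with hG4
  have hM : Mᵀ * gramMatrix g * M = G4 := by
    ext i j
    rw [hG4, Matrix.reindex_apply, Matrix.submatrix_apply, ← hgram,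
      CfsgLib.Maximal.TensorTools.bilinear_expand hb]
    simp only [Matrix.mul_apply, Matrix.transpose_apply, M, Matrix.of_apply, Finset.sum_mul]
    exact Finset.sum_comm
  have hunit : IsUnit M := by
    rw [Matrix.isUnit_iff_isUnit_det, isUnit_iff_ne_zero]
    intro h0
    have h1 : (Mᵀ * gramMatrix g * M).det = 0 := by rw [Matrix.det_mul, h0, mul_zero]
    rw [hM, hG4, Matrix.det_reindex_self] at h1
    have h3 := congrArg Matrix.det (hypFour_inv (F := F))
    rw [Matrix.det_mul, h1, mul_zero, Matrix.det_one] at h3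
    exact zero_ne_one h3
  exact ⟨hunit.unit, by rw [IsUnit.unit_spec]; exact hM⟩

theorem mem_wreath_of_slots [Nonempty ι] {a t : ℕ} (ha : 0 < a) (ht : 0 < t) (e : ι ≃ (Fin t → Fin a)) (P : GL ι F)
    {y : GL (Fin t → Fin a) F} {τ : Equiv.Perm (Fin t)}
    (h : ∀ i X, ∃ Y, conjHom y (slot i X) = slot (τ i) Y) :
    MulAut.conj P (glReindex e.symm y) ∈ tensorWreathSubgroup a t e P := by
  let S : Fin t → (Matrix (Fin a) (Fin a) F →ₐ[F] Matrix (Fin t → Fin a) (Fin t → Fin a) F) := fun i =>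
    AlgHom.ofLinearMap (slot i) (slot_one i) (fun A B => (slot_mul i A B).symm)
  let R : Matrix (Fin t → Fin a) (Fin t → Fin a) F →ₐ[F] Matrix ι ι F := (Matrix.reindexAlgEquiv F F e.symm).toAlgHom
  refine mem_tensorWreath_of_family ha ht (ψ := fun i => (conjHom P).comp (R.comp (S i))) e P (fun i X => rfl) (τ := τ)
    fun i X => ?_
  obtain ⟨Y, hY⟩ := h i X
  refine ⟨Y, ?_⟩
  have hR : ∀ M, conjHom (glReindex e.symm y) (R M) = R (conjHom y M) := fun M => by
    rw [conjHom_apply, conjHom_apply, map_mul, map_mul, ← map_inv]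
    rfl
  show conjHom (MulAut.conj P (glReindex e.symm y)) (conjHom P (R (slot i X))) = conjHom P (R (slot (τ i) Y))
  rw [← hY, ← hR, MulAut.conj_apply]
  simp only [conjHom_apply, _root_.mul_inv_rev, inv_inv, Units.val_mul, Matrix.mul_assoc, Units.inv_mul_cancel_left]

/-- The coordinates of a tensor cube inside a tensor product of a plane and a space of degree four. -/
def cubeEquiv : Fin 2 × Fin 4 ≃ (Fin 3 → Fin 2) where
  toFun p := ![p.1, (fin22.symm p.2).1, (fin22.symm p.2).2]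
  invFun x := (x 0, fin22 (x 1, x 2))
  left_inv p := by simp
  right_inv x := by funext i; fin_cases i <;> simp

theorem pm_cube (X Y Z : Matrix (Fin 2) (Fin 2) F) (p q : Fin 2 × Fin 4) :
    pm ![X, Y, Z] (cubeEquiv p) (cubeEquiv q) =
      (X ⊗ₖ Matrix.reindex fin22 fin22 (Y ⊗ₖ Z)) p q := by
  simp [pm, Fin.prod_univ_three, cubeEquiv, mul_assoc]

theorem reindex_mulVec_comp {κ : Type} [Fintype κ] [DecidableEq κ] (e : ι ≃ κ) (M : Matrix κ κ F) (x : κ → F) :
    Matrix.reindexAlgEquiv F F e.symm M *ᵥ (x ∘ e) = (M *ᵥ x) ∘ e := by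
  rw [Matrix.reindexAlgEquiv_apply, Matrix.reindex_apply, Matrix.submatrix_mulVec_equiv]
  simp [Function.comp_assoc]

set_option maxHeartbeats 1600000 in
/-- A tensor product of a symplectic plane and a plus type space of degree four is a tensor cube. -/
theorem plus_tensor_le_wreath [Nonempty ι] (h2 : (2 : F) ≠ 0) {f : (ι → F) → (ι → F) → F} {e : ι ≃ Fin 2 × Fin 4}
    {P : GL ι F} {f₁ : (Fin 2 → F) → (Fin 2 → F) → F} {f₂ : (Fin 4 → F) → (Fin 4 → F) → F}
    (h₁ : IsSymplecticForm f₁) (h₂ : IsSymmetricForm f₂) (hplus : IsPlusTypeOn (fun v => f₂ v v) ⊤)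
    (hT : IsTensorFormStructure id f f₁ f₂ e P) {H : Subgroup (GL ι F)} (hH : IsoGrp f H)
    (hle : H ≤ tensorProductSubgroup 2 4 e P) :
    ∃ (e' : ι ≃ (Fin 3 → Fin 2)) (P' : GL ι F),
      IsTensorPowerFormStructure id f (planeForm F) e' P' ∧ H ≤ tensorWreathSubgroup 2 3 e' P' ∧
      ∀ X, tensorEmb 2 4 e P X = conjHom P' (Matrix.reindexAlgEquiv F F e'.symm (slot 0 X)) := by
  classical
  obtain ⟨T, hT4⟩ := exists_hyperbolic_four h2 h₂ hplus
  obtain ⟨c, hc, hform⟩ := hT
  set α := f₁ (Pi.single 0 1) (Pi.single 1 1) with hα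
  have hG1 : gramMatrix f₁ = α • planeJ := by
    ext i j
    fin_cases i <;> fin_cases j <;> simp [gramMatrix, planeJ, hα, h₁.alternating]
    exact h₁.skew _ _
  have hα0 : α ≠ 0 := by
    intro h0
    obtain ⟨⟨x, hx⟩, -⟩ := h₁.nondegenerate (Pi.single 0 1) (fun h => by simpa using congrFun h 0)
    apply hx
    rw [CfsgLib.Maximal.TensorTools.bilinear_expand h₁.bilinear, hG1, h0, zero_smul]
    simp
  set G4 := Matrix.reindex fin22 fin22 (hypFour : Matrix (Fin 2 × Fin 2) (Fin 2 × Fin 2) F)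
  set W : Matrix (Fin 2 × Fin 4) (Fin 2 × Fin 4) F := planeJ ⊗ₖ G4 with hW
  let T2 : GL (Fin 2 × Fin 4) F :=
    ⟨(1 : Matrix (Fin 2) (Fin 2) F) ⊗ₖ (T : Matrix (Fin 4) (Fin 4) F),
      (1 : Matrix (Fin 2) (Fin 2) F) ⊗ₖ ((T⁻¹ : GL (Fin 4) F) : Matrix (Fin 4) (Fin 4) F),
      by rw [← Matrix.mul_kronecker_mul, ← Units.val_mul, mul_inv_cancel, Units.val_one, one_mul, Matrix.one_kronecker_one],
      by rw [← Matrix.mul_kronecker_mul, ← Units.val_mul, inv_mul_cancel, Units.val_one, one_mul, Matrix.one_kronecker_one]⟩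
  let P' : GL ι F := P * glReindex e.symm T2
  let e' : ι ≃ (Fin 3 → Fin 2) := e.trans cubeEquiv
  have hP' : ∀ x : Fin 2 × Fin 4 → F, (P' : Matrix ι ι F) *ᵥ (x ∘ e) =
      (P : Matrix ι ι F) *ᵥ (((T2 : Matrix _ _ F) *ᵥ x) ∘ e) := fun x => by
    show ((P : Matrix ι ι F) * Matrix.reindexAlgEquiv F F e.symm (T2 : Matrix _ _ F)) *ᵥ (x ∘ e) = _
    rw [← Matrix.mulVec_mulVec, reindex_mulVec_comp]
  have hform' : ∀ x y : Fin 2 × Fin 4 → F,
      f ((P' : Matrix ι ι F) *ᵥ (x ∘ e)) ((P' : Matrix ι ι F) *ᵥ (y ∘ e)) = c * α * (x ⬝ᵥ W *ᵥ y) := by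
    intro x y
    rw [hP', hP', hform, formOfGram_eq_dot]
    simp only [id_eq]
    have h1 : ((T2 : Matrix _ _ F))ᵀ * (gramMatrix f₁ ⊗ₖ gramMatrix f₂) * (T2 : Matrix _ _ F) = α • W := by
      show ((1 : Matrix (Fin 2) (Fin 2) F) ⊗ₖ (T : Matrix (Fin 4) (Fin 4) F))ᵀ * _ *
        ((1 : Matrix (Fin 2) (Fin 2) F) ⊗ₖ (T : Matrix (Fin 4) (Fin 4) F)) = _
      rw [← Matrix.kroneckerMap_transpose, Matrix.transpose_one, ← Matrix.mul_kronecker_mul, ← Matrix.mul_kronecker_mul,
        hT4, one_mul, mul_one, hG1, Matrix.smul_kronecker]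
    show c * (((T2 : Matrix _ _ F) *ᵥ x) ⬝ᵥ (gramMatrix f₁ ⊗ₖ gramMatrix f₂) *ᵥ ((T2 : Matrix _ _ F) *ᵥ y)) = _
    rw [Matrix.mulVec_mulVec,
      ← Matrix.vecMul_transpose, ← Matrix.dotProduct_mulVec, Matrix.mulVec_mulVec, ← Matrix.mul_assoc, h1,
      Matrix.smul_mulVec, dotProduct_smul, smul_eq_mul, mul_assoc]
  have hpmJ : ∀ p q, pm (fun _ : Fin 3 => (planeJ : Matrix (Fin 2) (Fin 2) F)) (cubeEquiv p) (cubeEquiv q) = W p q := by
    intro p q
    rw [show (fun _ : Fin 3 => (planeJ : Matrix (Fin 2) (Fin 2) F)) = ![planeJ, planeJ, planeJ] by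
      funext i; fin_cases i <;> rfl, pm_cube]
    rfl
  refine ⟨e', P', ⟨c * α, mul_ne_zero hc hα0, fun x y => ?_⟩, fun g hg => ?_, fun X => ?_⟩
  on_goal 3 =>
    have hs0 : slot (0 : Fin 3) X = Matrix.reindexAlgEquiv F F cubeEquiv (X ⊗ₖ (1 : Matrix (Fin 4) (Fin 4) F)) := by
      ext x y
      obtain ⟨p, rfl⟩ := cubeEquiv.surjective x
      obtain ⟨q, rfl⟩ := cubeEquiv.surjective y
      rw [slot_apply, show Function.update (1 : Fin 3 → Matrix (Fin 2) (Fin 2) F) 0 X = ![X, 1, 1] by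
        funext j; fin_cases j <;> simp, pm_cube]
      simp [Matrix.one_kronecker_one]
    have he : ∀ M : Matrix (Fin 2 × Fin 4) (Fin 2 × Fin 4) F,
        Matrix.reindexAlgEquiv F F e'.symm (Matrix.reindexAlgEquiv F F cubeEquiv M) =
          Matrix.reindexAlgEquiv F F e.symm M := fun M => by ext p q; simp [e']
    have hT2 : conjHom T2 (X ⊗ₖ (1 : Matrix (Fin 4) (Fin 4) F)) = X ⊗ₖ 1 := by
      rw [conjHom_apply]
      show ((1 : Matrix (Fin 2) (Fin 2) F) ⊗ₖ (T : Matrix (Fin 4) (Fin 4) F)) * (X ⊗ₖ 1) *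
        ((1 : Matrix (Fin 2) (Fin 2) F) ⊗ₖ ((T⁻¹ : GL (Fin 4) F) : Matrix (Fin 4) (Fin 4) F)) = _
      rw [← Matrix.mul_kronecker_mul, ← Matrix.mul_kronecker_mul, mul_one, one_mul, mul_one, ← Units.val_mul,
        mul_inv_cancel, Units.val_one]
    rw [hs0, he]
    show conjHom P (Matrix.reindexAlgEquiv F F e.symm (X ⊗ₖ (1 : Matrix (Fin 4) (Fin 4) F))) =
      conjHom (P * glReindex e.symm T2) _
    have hR : ∀ M, conjHom (glReindex e.symm T2) (Matrix.reindexAlgEquiv F F e.symm M) =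
        Matrix.reindexAlgEquiv F F e.symm (conjHom T2 M) := fun M => by
      rw [conjHom_apply, conjHom_apply, map_mul, map_mul, ← map_inv]
      rfl
    rw [conjHom_mul, hR, hT2]
  · show f ((P' : Matrix ι ι F) *ᵥ ((x ∘ cubeEquiv) ∘ e)) ((P' : Matrix ι ι F) *ᵥ ((y ∘ cubeEquiv) ∘ e)) = _
    rw [hform', gram_planeForm]
    simp only [dotProduct, Matrix.mulVec, Finset.mul_sum, id_eq]
    refine Fintype.sum_equiv cubeEquiv _ _ fun p => Fintype.sum_equiv cubeEquiv _ _ fun q => ?_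
    rw [← hpmJ]
    simp [pm, mul_assoc]
  obtain ⟨_, ⟨k₀, ⟨a, b₀, hk₀⟩, rfl⟩, hgk⟩ := hle hg
  simp only [MulEquiv.coe_toMonoidHom] at hgk
  set b : GL (Fin 4) F := T⁻¹ * b₀ * T with hb
  set k : GL (Fin 2 × Fin 4) F := T2⁻¹ * k₀ * T2 with hk
  have hgk' : g = MulAut.conj P' (glReindex e.symm k) := by
    rw [← hgk, MulAut.conj_apply, MulAut.conj_apply, hk, map_mul, map_mul, map_inv]
    show _ = P * glReindex e.symm T2 * _ * (P * glReindex e.symm T2)⁻¹
    group
  have hkv : (k : Matrix _ _ F) = (a : Matrix (Fin 2) (Fin 2) F) ⊗ₖ (b : Matrix (Fin 4) (Fin 4) F) := by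
    show ((1 : Matrix (Fin 2) (Fin 2) F) ⊗ₖ ((T⁻¹ : GL (Fin 4) F) : Matrix (Fin 4) (Fin 4) F)) *
      (k₀ : Matrix _ _ F) * ((1 : Matrix (Fin 2) (Fin 2) F) ⊗ₖ (T : Matrix (Fin 4) (Fin 4) F)) = _
    rw [hk₀, ← Matrix.mul_kronecker_mul, ← Matrix.mul_kronecker_mul, one_mul, mul_one, hb, Units.val_mul, Units.val_mul]
  have hkW : ((k : Matrix _ _ F))ᵀ * W * (k : Matrix _ _ F) = W := by
    have h1 : ∀ x y : Fin 2 × Fin 4 → F,
        x ⬝ᵥ (((k : Matrix _ _ F))ᵀ * W * (k : Matrix _ _ F)) *ᵥ y = x ⬝ᵥ W *ᵥ y := by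
      intro x y
      have h := hH g hg ((P' : Matrix ι ι F) *ᵥ (x ∘ e)) ((P' : Matrix ι ι F) *ᵥ (y ∘ e))
      rw [hgk', ← CfsgLib.Maximal.TensorTools.coord_apply, ← CfsgLib.Maximal.TensorTools.coord_apply,
        CfsgLib.Maximal.TensorTools.conj_reindex_mulVec, CfsgLib.Maximal.TensorTools.conj_reindex_mulVec,
        CfsgLib.Maximal.TensorTools.coord_apply, CfsgLib.Maximal.TensorTools.coord_apply,
        CfsgLib.Maximal.TensorTools.coord_apply, CfsgLib.Maximal.TensorTools.coord_apply, hform', hform'] at h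
      rw [← Matrix.mulVec_mulVec, ← Matrix.mulVec_mulVec, Matrix.dotProduct_mulVec, Matrix.vecMul_transpose]
      exact mul_left_cancel₀ (mul_ne_zero hc hα0) h
    ext p q
    simpa using h1 (Pi.single p 1) (Pi.single q 1)
  have hbsim : ((a : Matrix (Fin 2) (Fin 2) F).det) • ((b : Matrix (Fin 4) (Fin 4) F)ᵀ * G4 * b) = G4 := by
    rw [hW, hkv, ← Matrix.kroneckerMap_transpose, ← Matrix.mul_kronecker_mul, ← Matrix.mul_kronecker_mul,
      planeJ_similar] at hkW
    ext i j
    have h := congrFun (congrFun hkW (0, i)) (1, j)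
    simpa [planeJ] using h
  let b4 : GL (Fin 2 × Fin 2) F := glReindex fin22.symm b
  have hb4 : (b4 : Matrix _ _ F)ᵀ * (hypFour : Matrix (Fin 2 × Fin 2) (Fin 2 × Fin 2) F) * (b4 : Matrix (Fin 2 × Fin 2) (Fin 2 × Fin 2) F) = ((a : Matrix (Fin 2) (Fin 2) F).det)⁻¹ • hypFour := by
    have hadet : (a : Matrix (Fin 2) (Fin 2) F).det ≠ 0 :=
      ((Matrix.isUnit_iff_isUnit_det _).1 a.isUnit).ne_zero
    have hval : (b4 : Matrix _ _ F) = Matrix.reindexAlgEquiv F F fin22.symm (b : Matrix (Fin 4) (Fin 4) F) := rfl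
    have h2' : (hypFour : Matrix (Fin 2 × Fin 2) (Fin 2 × Fin 2) F) = Matrix.reindexAlgEquiv F F fin22.symm G4 := by
      ext p q; simp [G4]
    rw [hval, h2', show (Matrix.reindexAlgEquiv F F fin22.symm (b : Matrix (Fin 4) (Fin 4) F))ᵀ =
      Matrix.reindexAlgEquiv F F fin22.symm (b : Matrix (Fin 4) (Fin 4) F)ᵀ from by ext p q; simp,
      ← map_mul, ← map_mul, ← map_smul]
    congr 1
    conv_rhs => rw [← hbsim]
    rw [smul_smul, inv_mul_cancel₀ hadet, one_smul]
  obtain ⟨π, hπ⟩ := similitude_permutes_factors h2 hb4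
  -- the three slots
  let K : Fin 3 → Matrix (Fin 2) (Fin 2) F → Matrix (Fin 2 × Fin 4) (Fin 2 × Fin 4) F := fun i X =>
    ![X ⊗ₖ 1, 1 ⊗ₖ Matrix.reindexAlgEquiv F F fin22 (factorEmb 0 X),
      1 ⊗ₖ Matrix.reindexAlgEquiv F F fin22 (factorEmb 1 X)] i
  have hslot : ∀ i X, slot i X = Matrix.reindexAlgEquiv F F cubeEquiv (K i X) := by
    intro i X
    ext x y
    obtain ⟨p, rfl⟩ := cubeEquiv.surjective x
    obtain ⟨q, rfl⟩ := cubeEquiv.surjective y
    rw [slot_apply, show Function.update (1 : Fin 3 → Matrix (Fin 2) (Fin 2) F) i X =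
      ![if i = 0 then X else 1, if i = 1 then X else 1, if i = 2 then X else 1] by
        funext j; fin_cases i <;> fin_cases j <;> simp, pm_cube]
    simp only [Matrix.reindexAlgEquiv_apply, Matrix.reindex_apply, Matrix.submatrix_apply, Equiv.symm_apply_apply]
    fin_cases i <;> simp [K, factorEmb, Matrix.one_kronecker_one]
  let τ : Equiv.Perm (Fin 3) := finSuccEquiv 2 |>.trans (π.optionCongr) |>.trans (finSuccEquiv 2).symm
  have hK : ∀ i X, ∃ Y, conjHom k (K i X) = K (τ i) Y := by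
    intro i X
    rw [conjHom_apply, show ((k⁻¹ : GL (Fin 2 × Fin 4) F) : Matrix _ _ F) =
        ((a⁻¹ : GL (Fin 2) F) : Matrix (Fin 2) (Fin 2) F) ⊗ₖ ((b⁻¹ : GL (Fin 4) F) : Matrix (Fin 4) (Fin 4) F) from
      Units.inv_eq_of_mul_eq_one_right (by
        rw [hkv, ← Matrix.mul_kronecker_mul, ← Units.val_mul, ← Units.val_mul, mul_inv_cancel, mul_inv_cancel,
          Units.val_one, Units.val_one, Matrix.one_kronecker_one]), hkv]
    refine Fin.cases ?_ (fun j => ?_) i
    · refine ⟨conjHom a X, ?_⟩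
      show (_ ⊗ₖ _) * (X ⊗ₖ (1 : Matrix (Fin 4) (Fin 4) F)) * _ = K (τ 0) _
      rw [show τ 0 = 0 from rfl]
      show _ = conjHom a X ⊗ₖ (1 : Matrix (Fin 4) (Fin 4) F)
      rw [← Matrix.mul_kronecker_mul, ← Matrix.mul_kronecker_mul, mul_one, ← Units.val_mul b, mul_inv_cancel,
        Units.val_one, conjHom_apply]
    · obtain ⟨Y, hY⟩ := hπ j X
      refine ⟨Y, ?_⟩
      have hτ : τ j.succ = (π j).succ := by simp [τ]
      have hKs : ∀ (j : Fin 2) (Y : Matrix (Fin 2) (Fin 2) F),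
          K j.succ Y = 1 ⊗ₖ Matrix.reindexAlgEquiv F F fin22 (factorEmb j Y) := by
        intro j Y; fin_cases j <;> rfl
      rw [hτ, hKs, hKs, ← Matrix.mul_kronecker_mul, ← Matrix.mul_kronecker_mul, mul_one, ← Units.val_mul a,
        mul_inv_cancel, Units.val_one, ← hY, conjHom_apply, map_mul, map_mul]
      congr 2
      · congr 1
        ext p q; simp [b4, glReindex]
      · ext p q; simp [b4, glReindex]
  let y : GL (Fin 3 → Fin 2) F := glReindex cubeEquiv k
  have hgy : g = MulAut.conj P' (glReindex e'.symm y) := by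
    rw [hgk']
    congr 1
    exact Units.ext (Matrix.ext fun p q => by simp [y, e', glReindex])
  rw [hgy]
  refine mem_wreath_of_slots (by norm_num) (by norm_num) e' P' (τ := τ) fun i X => ?_
  obtain ⟨Y, hY⟩ := hK i X
  refine ⟨Y, ?_⟩
  rw [hslot, hslot, ← hY, conjHom_apply, conjHom_apply, map_mul, map_mul]
  rfl

end CfsgLib.Geo.Asch
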