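import Mathlib
import Cfsg.Prelude.Def_GeometricClasses
import Cfsg.Agent.Lib.Geo.AschEvenTensor
import Cfsg.Agent.Lib.Geo.AschPlusTensor

/-! Tensor products of symmetric forms of degrees three and four. -/

set_option autoImplicit false
set_option linter.unusedSectionVars false

namespace CfsgLib.Geo.AschEven

open Cfsg Cfsg.Geo Matrix QuadraticMap CfsgLib.GeomClasses CfsgLib.Maximal.TensorTools CfsgLib.Geo.Asch
open scoped MatrixGroups Kronecker

variable {ι : Type} [Fintype ι] [DecidableEq ι] {F : Type*} [Field F] [Fintype F] {Q : (ι → F) → F}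

local notation "tp" => CfsgLib.Maximal.TensorTools.pure

theorem form_mul {κ : Type} [Fintype κ] [DecidableEq κ] {ε : F} {f : (κ → F) → (κ → F) → F}
    (h : Herm (RingEquiv.refl F) ε f) (M M' : Matrix κ κ F) (x y : κ → F) :
    f (M *ᵥ x) (M' *ᵥ y) = x ⬝ᵥ (Mᵀ * gramMatrix f * M') *ᵥ y := by
  have h1 : ∀ x y : κ → F, f x y = x ⬝ᵥ gramMatrix f *ᵥ y := fun x y => by
    rw [Tensor.sesq_expand h.sesq]
    simp only [dotProduct, Matrix.mulVec, Finset.mul_sum]
    exact Finset.sum_congr rfl fun p _ => Finset.sum_congr rfl fun q _ => by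
      show x p * _ * y q = _
      ring
  rw [h1, ← Matrix.mulVec_mulVec, ← Matrix.mulVec_mulVec, Matrix.dotProduct_mulVec x, Matrix.vecMul_transpose]

theorem gram_of_scale {κ : Type} [Fintype κ] [DecidableEq κ] {ε : F} {f : (κ → F) → (κ → F) → F}
    (h : Herm (RingEquiv.refl F) ε f) {M : Matrix κ κ F} {μ : F}
    (hM : ∀ x y, f (M *ᵥ x) (M *ᵥ y) = μ * f x y) : Mᵀ * gramMatrix f * M = μ • gramMatrix f := by
  ext p q
  have h1 := hM (Pi.single p 1) (Pi.single q 1)
  rw [form_mul h] at h1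
  simpa [gramMatrix, Matrix.smul_apply] using h1

theorem coord_swap {a b : ℕ} (e : ι ≃ Fin a × Fin b) (P : GL ι F) (x : Fin a → F) (y : Fin b → F) :
    coord (e.trans (Equiv.prodComm _ _)) P (tp y x) = coord e P (tp x y) := by
  rw [coord_apply, coord_apply]
  congr 1
  funext k
  simp [CfsgLib.Maximal.TensorTools.pure, mul_comm]

/-- A row of coordinates. -/
noncomputable def rowMap {a b : ℕ} (e : ι ≃ Fin a × Fin b) (P : GL ι F) (i : Fin a) :
    (ι → F) →ₗ[F] (Fin b → F) :=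
  (LinearMap.funLeft F F fun j : Fin b => (i, j)).comp (coord e P).symm.toLinearMap

/-- The vectors whose rows lie in a subspace of the second factor. -/
noncomputable def facSub {a b : ℕ} (e : ι ≃ Fin a × Fin b) (P : GL ι F) (U : Submodule F (Fin b → F)) :
    Submodule F (ι → F) :=
  ⨅ i, U.comap (rowMap e P i)

theorem mem_facSub {a b : ℕ} {e : ι ≃ Fin a × Fin b} {P : GL ι F} {U : Submodule F (Fin b → F)} {v : ι → F} :
    v ∈ facSub e P U ↔ ∀ i, rowMap e P i v ∈ U := by
  simp [facSub, Submodule.mem_iInf]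

theorem rowMap_coord {a b : ℕ} (e : ι ≃ Fin a × Fin b) (P : GL ι F) (z : Fin a × Fin b → F) (i : Fin a) :
    rowMap e P i (coord e P z) = fun j => z (i, j) := by
  funext j
  simp [rowMap, LinearMap.funLeft_apply]

theorem pure_mem_facSub {a b : ℕ} (e : ι ≃ Fin a × Fin b) (P : GL ι F) {U : Submodule F (Fin b → F)}
    (x : Fin a → F) {y : Fin b → F} (hy : y ∈ U) : coord e P (tp x y) ∈ facSub e P U := by
  refine mem_facSub.2 fun i => ?_
  rw [rowMap_coord]
  show (fun j => x i * y j) ∈ U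
  exact U.smul_mem (x i) hy

theorem sum_rows {a b : ℕ} (e : ι ≃ Fin a × Fin b) (P : GL ι F) (v : ι → F) :
    ∑ i, coord e P (tp (Pi.single i (1 : F)) (rowMap e P i v)) = v := by
  obtain ⟨z, rfl⟩ := (coord e P).surjective v
  rw [← map_sum]
  congr 1
  funext p
  rw [Finset.sum_apply, Finset.sum_eq_single p.1 (fun i _ hi => by
    simp [CfsgLib.Maximal.TensorTools.pure, hi.symm]) (by simp)]
  simp [CfsgLib.Maximal.TensorTools.pure, rowMap_coord]

theorem finrank_facSub {a b : ℕ} (e : ι ≃ Fin a × Fin b) (P : GL ι F) (U : Submodule F (Fin b → F)) :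
    Module.finrank F (facSub e P U) = a * Module.finrank F U := by
  let L : (Fin a → U) ≃ₗ[F] facSub e P U :=
    { toFun := fun c => ⟨coord e P fun p => (c p.1 : Fin b → F) p.2, mem_facSub.2 fun i => by
        rw [rowMap_coord]; exact (c i).2⟩
      map_add' := fun c c' => Subtype.ext (by simp only [Submodule.coe_add]; rw [← map_add]; rfl)
      map_smul' := fun r c => Subtype.ext (by
        simp only [Submodule.coe_smul, RingHom.id_apply]; rw [← map_smul]; rfl)
      invFun := fun v i => ⟨rowMap e P i v, mem_facSub.1 v.2 i⟩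
      left_inv := fun c => funext fun i => Subtype.ext (by
        show rowMap e P i (coord e P _) = _
        rw [rowMap_coord])
      right_inv := fun v => Subtype.ext (by
        obtain ⟨z, hz⟩ := (coord e P).surjective (v : ι → F)
        show coord e P (fun p => rowMap e P p.1 (v : ι → F) p.2) = v
        rw [← hz]
        congr 1
        funext p
        rw [rowMap_coord]) }
  rw [← L.finrank_eq, Module.finrank_pi_fintype]
  simp

theorem facSub_map {a b : ℕ} {e : ι ≃ Fin a × Fin b} {P : GL ι F} {g : GL ι F} {A : GL (Fin a) F} {B : GL (Fin b) F}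
    (hAB : ∀ x y, (g : Matrix ι ι F) *ᵥ coord e P (tp x y) =
      coord e P (tp ((A : Matrix (Fin a) (Fin a) F) *ᵥ x) ((B : Matrix (Fin b) (Fin b) F) *ᵥ y)))
    (U : Submodule F (Fin b → F)) :
    (facSub e P U).map (Matrix.toLin' (g : Matrix ι ι F)) =
      facSub e P (U.map (Matrix.toLin' (B : Matrix (Fin b) (Fin b) F))) := by
  apply Submodule.eq_of_le_of_finrank_eq
  · rintro _ ⟨v, hv, rfl⟩
    rw [Matrix.toLin'_apply, ← sum_rows e P v, Matrix.mulVec_sum]
    refine Submodule.sum_mem _ fun i _ => ?_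
    rw [hAB]
    exact pure_mem_facSub e P _ ⟨_, mem_facSub.1 hv i, Matrix.toLin'_apply _ _⟩
  · rw [finrank_map_gl, finrank_facSub, finrank_facSub,
      ← (Submodule.equivMapOfInjective _ (toLin'_unit_injective B) U).finrank_eq]

theorem facSub_singular (hQ : IsNondegenerateQuadraticForm Q) (h2 : (2 : F) ≠ 0) {a b : ℕ} {e : ι ≃ Fin a × Fin b}
    {P : GL ι F} {ε₁ ε₂ : F} {f₁ : (Fin a → F) → (Fin a → F) → F} {f₂ : (Fin b → F) → (Fin b → F) → F}
    (h₁ : Herm (RingEquiv.refl F) ε₁ f₁) (h₂ : Herm (RingEquiv.refl F) ε₂ f₂)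
    (hT : IsTensorFormStructure ((RingEquiv.refl F : F ≃+* F) : F → F) (polar Q) f₁ f₂ e P)
    {U : Submodule F (Fin b → F)} (hU : ∀ y ∈ U, ∀ y' ∈ U, f₂ y y' = 0) :
    ∀ v ∈ facSub e P U, Q v = 0 := by
  intro v hv
  obtain ⟨c, -, hform⟩ := form_coord hT h₁ h₂
  have hh := herm_polar hQ
  have h : polar Q v v = 0 := by
    conv_lhs => rw [← sum_rows e P v]
    simp only [hh.sesq.sum_left, hh.sesq.sum_right, hform]
    refine Finset.sum_eq_zero fun i _ => Finset.sum_eq_zero fun j _ => ?_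
    rw [hU _ (mem_facSub.1 hv i) _ (mem_facSub.1 hv j), mul_zero, mul_zero]
  rw [quad_polar_self hQ] at h
  exact (mul_eq_zero.1 h).resolve_left h2

theorem isotropic_of_diag {κ : Type} [Fintype κ] [DecidableEq κ] (h2 : (2 : F) ≠ 0) {f : (κ → F) → (κ → F) → F}
    (h : Herm (RingEquiv.refl F) 1 f) {U : Submodule F (κ → F)} (hU : ∀ y ∈ U, f y y = 0) :
    ∀ y ∈ U, ∀ y' ∈ U, f y y' = 0 := fun y hy y' hy' => by
  have h1 := hU _ (U.add_mem hy hy')
  rw [h.add_left, h.add_right, h.add_right, hU y hy, hU y' hy', h.symm y y', RingEquiv.refl_apply] at h1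
  exact mul_left_cancel₀ h2 (by linear_combination h1)

/-- A plus type factor of degree four gives plus type. -/
theorem plus_of_factor_plus (hQ : IsNondegenerateQuadraticForm Q) (h2 : (2 : F) ≠ 0) {e : ι ≃ Fin 3 × Fin 4}
    {P : GL ι F} {f₁ : (Fin 3 → F) → (Fin 3 → F) → F} {f₂ : (Fin 4 → F) → (Fin 4 → F) → F}
    (h₁ : Herm (RingEquiv.refl F) 1 f₁) (h₂ : Herm (RingEquiv.refl F) 1 f₂)
    (hT : IsTensorFormStructure ((RingEquiv.refl F : F ≃+* F) : F → F) (polar Q) f₁ f₂ e P)
    (hplus : IsPlusTypeOn (fun v : Fin 4 → F => f₂ v v) ⊤) : IsPlusTypeOn Q ⊤ := by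
  obtain ⟨U, -, hU, hUd⟩ := hplus
  refine ⟨facSub e P U, le_top, facSub_singular hQ h2 h₁ h₂ hT (isotropic_of_diag h2 h₂ hU), ?_⟩
  rw [finrank_top, Module.finrank_fin_fun] at hUd
  rw [finrank_facSub, finrank_top, Module.finrank_fintype_fun_eq_card, Fintype.card_congr e]
  simp
  omega

/-- The blocks along an orthogonal basis of the factor of degree three. -/
theorem three_four_blocks [Nonempty ι] (hQ : IsNondegenerateQuadraticForm Q) (h2 : (2 : F) ≠ 0)
    {e : ι ≃ Fin 3 × Fin 4} {P : GL ι F} {f₁ : (Fin 3 → F) → (Fin 3 → F) → F} {f₂ : (Fin 4 → F) → (Fin 4 → F) → F}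
    (h₁ : Herm (RingEquiv.refl F) 1 f₁) (h₂ : Herm (RingEquiv.refl F) 1 f₂)
    (hT : IsTensorFormStructure ((RingEquiv.refl F : F ≃+* F) : F → F) (polar Q) f₁ f₂ e P)
    (w : Module.Basis (Fin 3) F (Fin 3 → F)) (hne : ∀ j, f₁ (w j) (w j) ≠ 0)
    (horth : ∀ j k, j ≠ k → f₁ (w j) (w k) = 0) :
    IsNondegenerateMDecomposition (polar Q) 4 (fun i => LinearMap.range (blockMapR e P (w i))) ∧
      ∀ i, IsPlusTypeOn Q (LinearMap.range (blockMapR e P (w i))) →
        IsPlusTypeOn (fun v : Fin 4 → F => f₂ v v) ⊤ := by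
  classical
  obtain ⟨c, hc, hform⟩ := form_coord hT h₁ h₂
  have hh := herm_polar hQ
  let D : Fin 3 → Submodule F (ι → F) := fun i => LinearMap.range (blockMapR e P (w i))
  have hfr : ∀ i, Module.finrank F (D i) = 4 := fun i => by
    rw [LinearMap.finrank_range_of_inj (blockMapR_injective (w.ne_zero i)), Module.finrank_fin_fun]
  have horth' : ∀ i j, i ≠ j → AreOrthogonalFor (polar Q) (D i) (D j) := by
    rintro i j hij _ ⟨y, rfl⟩ _ ⟨y', rfl⟩
    show polar Q (coord e P _) (coord e P _) = 0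
    rw [hform, horth i j hij, zero_mul, mul_zero]
  have hnd : ∀ i, IsNondegenerateOn (polar Q) (D i) := fun i => by
    refine nondegenerateOn_of_right (q := quadOf hQ) ?_
    rintro _ ⟨y, rfl⟩ hy
    obtain ⟨-, y', hy'⟩ := h₂.nondeg y fun h => hy (by rw [h, map_zero])
    refine ⟨_, ⟨y', rfl⟩, ?_⟩
    show polar Q (coord e P _) (coord e P _) ≠ 0
    rw [hform]
    exact mul_ne_zero hc (mul_ne_zero (hne i) hy')
  have htop : iSup D = ⊤ := by
    rw [eq_top_iff]
    intro v _
    obtain ⟨z, rfl⟩ := (coord e P).surjective v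
    have hz : z = ∑ i, tp (w i) (fun l => w.repr (fun k => z (k, l)) i) := by
      funext p
      have := congrFun (w.sum_repr (fun k => z (k, p.2))) p.1
      rw [Finset.sum_apply] at this ⊢
      rw [← this]
      exact Finset.sum_congr rfl fun i _ => mul_comm _ _
    rw [hz, map_sum]
    exact sum_mem fun i _ => Submodule.mem_iSup_of_mem i ⟨_, rfl⟩
  have hind : iSupIndep D := by
    rw [iSupIndep_def]
    intro k
    rw [Submodule.disjoint_def]
    intro v hv hv'
    by_contra hv0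
    obtain ⟨x, hx, hne'⟩ := (hnd k v hv hv0).2
    exact hne' (hh.mem_perp.1 ((iSup₂_le fun k' hk' u hu => hh.mem_perp.2 fun z hz => horth' k' k hk' u hu z hz :
      (⨆ k', ⨆ (_ : k' ≠ k), D k') ≤ hh.perp (D k)) hv') x hx)
  refine ⟨⟨⟨by norm_num, by norm_num, hfr, hind, htop⟩, hnd, horth'⟩, fun i hp => ?_⟩
  obtain ⟨U, hUD, hU, hUd⟩ := hp
  rw [show Module.finrank F (LinearMap.range (blockMapR e P (w i))) = 4 from hfr i] at hUd
  refine ⟨U.comap (blockMapR e P (w i)), le_top, fun y hy => ?_, ?_⟩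
  · have h := hU _ hy
    have h3 : polar Q (blockMapR e P (w i) y) (blockMapR e P (w i) y) = 0 := by rw [quad_polar_self hQ, h, mul_zero]
    change polar Q (coord e P _) (coord e P _) = 0 at h3
    rw [hform] at h3
    exact (mul_eq_zero.1 ((mul_eq_zero.1 h3).resolve_left hc)).resolve_left (hne i)
  · have hmap : (U.comap (blockMapR e P (w i))).map (blockMapR e P (w i)) = U := Submodule.map_comap_eq_self hUD
    have h := (Submodule.equivMapOfInjective (blockMapR e P (w i)) (blockMapR_injective (w.ne_zero i))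
      (U.comap (blockMapR e P (w i)))).finrank_eq
    rw [hmap] at h
    rw [h, finrank_top, Module.finrank_fin_fun]
    omega

theorem exists_orth_frame {n : ℕ} (h2 : (2 : F) ≠ 0) {f : (Fin n → F) → (Fin n → F) → F}
    (h : Herm (RingEquiv.refl F) 1 f) :
    ∃ w : Module.Basis (Fin n) F (Fin n → F), (∀ j, f (w j) (w j) ≠ 0) ∧ ∀ j k, j ≠ k → f (w j) (w k) = 0 := by
  classical
  let B : LinearMap.BilinForm F (Fin n → F) := LinearMap.mk₂ F f h.add_left
    (fun c x y => by rw [h.smul_left, smul_eq_mul]) (fun x y z => h.add_right x y z)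
    (fun c x y => by rw [h.smul_right, smul_eq_mul]; rfl)
  haveI : Invertible (2 : F) := invertibleOfNonzero h2
  obtain ⟨v0, hv0⟩ := LinearMap.BilinForm.exists_orthogonal_basis (B := B)
    ⟨fun x y => by show f x y = f y x; rw [h.symm x y, one_mul]; rfl⟩
  let v := v0.reindex (finCongr (Module.finrank_fin_fun F (n := n)))
  have ho : ∀ i j, i ≠ j → f (v i) (v j) = 0 := fun i j hij => by
    simp only [v, Module.Basis.reindex_apply]
    exact hv0 (fun h => hij ((finCongr _).symm.injective h))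
  refine ⟨v, fun i h0 => ?_, ho⟩
  obtain ⟨x, hx⟩ := (h.nondeg (v i) (v.ne_zero i)).1
  apply hx
  rw [← v.sum_repr x, h.sesq.sum_left]
  refine Finset.sum_eq_zero fun j _ => ?_
  rw [h.smul_left]
  by_cases hji : j = i
  · rw [hji, h0, mul_zero]
  · rw [ho j i hji, mul_zero]

theorem factor_plus_of_plus [Nonempty ι] (hQ : IsNondegenerateQuadraticForm Q) (h2 : (2 : F) ≠ 0)
    {e : ι ≃ Fin 3 × Fin 4} {P : GL ι F} {f₁ : (Fin 3 → F) → (Fin 3 → F) → F} {f₂ : (Fin 4 → F) → (Fin 4 → F) → F}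
    (h₁ : Herm (RingEquiv.refl F) 1 f₁) (h₂ : Herm (RingEquiv.refl F) 1 f₂)
    (hT : IsTensorFormStructure ((RingEquiv.refl F : F ≃+* F) : F → F) (polar Q) f₁ f₂ e P)
    (hplus : IsPlusTypeOn Q ⊤) : IsPlusTypeOn (fun v : Fin 4 → F => f₂ v v) ⊤ := by
  by_contra hno
  obtain ⟨w, hne, horth⟩ := exists_orth_frame h2 h₁
  obtain ⟨hD, hblk⟩ := three_four_blocks hQ h2 h₁ h₂ hT w hne horth
  have h := plus_iff_of_blocks (q := quadOf hQ) (k := 2) False hD.nondegenerate hD.orthogonal hD.decomp.finrank_eq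
    fun i => iff_false_intro fun hp => hno (hblk i hp)
  rw [hD.decomp.iSup_eq_top, Fintype.card_fin, or_false] at h
  exact absurd (h.1 hplus) (by decide)

/-- Over three elements the frame of the factor of degree three gives a decomposition. -/
theorem three_four_frame [Nonempty ι] (hQ : IsNondegenerateQuadraticForm Q) (h3 : Fintype.card F = 3)
    {H : Subgroup (GL ι F)} (hHΩ : H ≤ omegaGL Q)
    {e : ι ≃ Fin 3 × Fin 4} {P : GL ι F} {f₁ : (Fin 3 → F) → (Fin 3 → F) → F} {f₂ : (Fin 4 → F) → (Fin 4 → F) → F}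
    (h₁ : Herm (RingEquiv.refl F) 1 f₁) (h₂ : Herm (RingEquiv.refl F) 1 f₂)
    (hT : IsTensorFormStructure ((RingEquiv.refl F : F ≃+* F) : F → F) (polar Q) f₁ f₂ e P)
    (hle : H ≤ tensorProductSubgroup 3 4 e P) :
    ∃ D : Fin 3 → Submodule F (ι → F), IsNondegenerateMDecomposition (polar Q) 4 D ∧
      H ≤ decompositionStabilizer D := by
  have h2 : (2 : F) ≠ 0 := two_ne_zero_of_odd (by rw [h3]; decide)
  obtain ⟨w, hne, horth, hframe⟩ := orth_three_frame h3 h₁
  obtain ⟨hD, -⟩ := three_four_blocks hQ h2 h₁ h₂ hT w hne horth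
  refine ⟨_, hD, fun g hg => Decomp.mem_stabilizer_of_image hD.decomp fun j => ?_⟩
  obtain ⟨B, A, μ, hμ, hBA, hA⟩ := exists_factor_scale (isTensorFormStructure_swap hT) h₂ h₁
    (tensorProductSubgroup_swap e P ▸ hle hg) (isoGrp_of_le hQ hHΩ g hg)
  obtain ⟨k, r, hk⟩ := hframe A μ hμ hA j
  refine ⟨k, ?_⟩
  rintro _ ⟨y, rfl⟩
  refine ⟨r • ((B : Matrix (Fin 4) (Fin 4) F) *ᵥ y), ?_⟩
  show coord e P _ = (g : Matrix ι ι F) *ᵥ coord e P _
  rw [← coord_swap e P (w j) y, hBA, hk, coord_swap, pure_smul_left, pure_smul_right]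

set_option maxHeartbeats 1000000 in
/-- A plus type factor of degree four regroups to a factor of degree two. -/
theorem three_four_regroup [Nonempty ι] (hQ : IsNondegenerateQuadraticForm Q) (h2 : (2 : F) ≠ 0)
    {H : Subgroup (GL ι F)} (hHΩ : H ≤ omegaGL Q)
    {e : ι ≃ Fin 3 × Fin 4} {P : GL ι F} {f₁ : (Fin 3 → F) → (Fin 3 → F) → F} {f₂ : (Fin 4 → F) → (Fin 4 → F) → F}
    (h₁ : Herm (RingEquiv.refl F) 1 f₁) (h₂ : Herm (RingEquiv.refl F) 1 f₂)
    (hT : IsTensorFormStructure ((RingEquiv.refl F : F ≃+* F) : F → F) (polar Q) f₁ f₂ e P)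
    (hle : H ≤ tensorProductSubgroup 3 4 e P) (hplus : IsPlusTypeOn (fun v : Fin 4 → F => f₂ v v) ⊤) :
    ∃ (e' : ι ≃ Fin 2 × Fin 6) (P' : GL ι F) (ε₁ ε₂ : F) (g₁ : (Fin 2 → F) → (Fin 2 → F) → F)
      (g₂ : (Fin 6 → F) → (Fin 6 → F) → F), Herm (RingEquiv.refl F) ε₁ g₁ ∧ Herm (RingEquiv.refl F) ε₂ g₂ ∧
      ε₁ * ε₂ = 1 ∧ IsTensorFormStructure ((RingEquiv.refl F : F ≃+* F) : F → F) (polar Q) g₁ g₂ e' P' ∧
      H ≤ tensorProductSubgroup 2 6 e' P' := by
  classical
  have hcard : Fintype.card ι = 12 := by simpa using Fintype.card_congr e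
  have hh := herm_polar hQ
  obtain ⟨c, hc, hform⟩ := form_coord hT h₁ h₂
  obtain ⟨T, hTG⟩ := exists_hyperbolic_four h2 (symmetric_of_herm h₂) hplus
  set G2 := gramMatrix f₂ with hG2
  set T1 := (T : Matrix (Fin 4) (Fin 4) F) with hT1
  set T2 := ((T⁻¹ : GL (Fin 4) F) : Matrix (Fin 4) (Fin 4) F) with hT2
  have hT12 : T1 * T2 = 1 := T.mul_inv
  set G4 := Matrix.reindex fin22 fin22 (hypFour : Matrix (Fin 2 × Fin 2) (Fin 2 × Fin 2) F) with hG4
  have hG2' : G2 = T2ᵀ * G4 * T2 := by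
    rw [← hTG]
    calc G2 = (T1 * T2)ᵀ * G2 * (T1 * T2) := by rw [hT12, Matrix.transpose_one, one_mul, mul_one]
      _ = T2ᵀ * (T1ᵀ * G2 * T1) * T2 := by rw [Matrix.transpose_mul]; simp only [mul_assoc]
  let R : Matrix (Fin 2 × Fin 2) (Fin 2 × Fin 2) F →ₐ[F] Matrix (Fin 4) (Fin 4) F :=
    (conjHom T).comp (Matrix.reindexAlgEquiv F F fin22).toAlgHom
  have hR : ∀ Z, R Z = T1 * Matrix.reindex fin22 fin22 Z * T2 := fun Z => conjHom_apply T _
  -- products against the form
  have hRform : ∀ Z Z' : Matrix (Fin 2 × Fin 2) (Fin 2 × Fin 2) F,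
      (R Z)ᵀ * G2 * R Z' = T2ᵀ * Matrix.reindexAlgEquiv F F fin22 (Zᵀ * hypFour * Z') * T2 := by
    intro Z Z'
    have h21 : T2 * T1 = 1 := T.inv_mul
    rw [hG2', hR, hR, Matrix.transpose_mul, Matrix.transpose_mul, map_mul, map_mul]
    have e1 : T1ᵀ * T2ᵀ = 1 := by rw [← Matrix.transpose_mul, h21, Matrix.transpose_one]
    calc _ = T2ᵀ * ((Matrix.reindex fin22 fin22 Z)ᵀ * (T1ᵀ * T2ᵀ) * G4 * (T2 * T1) * Matrix.reindex fin22 fin22 Z') * T2 := by
          simp only [mul_assoc]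
      _ = _ := by
          rw [e1, h21, mul_one, mul_one]
          rfl
  let M : Fin 2 → Matrix (Fin 2) (Fin 2) F → Matrix (Fin 4) (Fin 4) F := fun r X => R (factorEmb r X)
  have hMmul : ∀ r X Y, M r X * M r Y = M r (X * Y) := fun r X Y => by
    simp only [M]; rw [← map_mul, ← factorEmb_mul]
  -- similitudes act on the two factors
  have hperm : ∀ {B : GL (Fin 4) F} {μ : F},
      (∀ y y', f₂ ((B : Matrix (Fin 4) (Fin 4) F) *ᵥ y) ((B : Matrix (Fin 4) (Fin 4) F) *ᵥ y') = μ * f₂ y y') →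
      ∃ π : Equiv.Perm (Fin 2), ∀ r X, ∃ Y, conjHom B (M r X) = M (π r) Y := by
    intro B μ hB
    let b4 : GL (Fin 2 × Fin 2) F := glReindex fin22.symm (T⁻¹ * B * T)
    have hb : Matrix.reindexAlgEquiv F F fin22 (b4 : Matrix (Fin 2 × Fin 2) (Fin 2 × Fin 2) F) =
        T2 * (B : Matrix (Fin 4) (Fin 4) F) * T1 := by
      ext p q; simp [b4, glReindex, T1, T2]
    have hsim : (b4 : Matrix (Fin 2 × Fin 2) (Fin 2 × Fin 2) F)ᵀ *
        (hypFour : Matrix (Fin 2 × Fin 2) (Fin 2 × Fin 2) F) * (b4 : Matrix (Fin 2 × Fin 2) (Fin 2 × Fin 2) F) =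
        μ • (hypFour : Matrix (Fin 2 × Fin 2) (Fin 2 × Fin 2) F) := by
      refine (Matrix.reindexAlgEquiv F F fin22).injective ?_
      rw [map_mul, map_mul, map_smul, show (Matrix.reindexAlgEquiv F F fin22) (b4 : Matrix (Fin 2 × Fin 2) (Fin 2 × Fin 2) F)ᵀ =
        (Matrix.reindexAlgEquiv F F fin22 (b4 : Matrix (Fin 2 × Fin 2) (Fin 2 × Fin 2) F))ᵀ from rfl, hb,
        show (Matrix.reindexAlgEquiv F F fin22) (hypFour : Matrix (Fin 2 × Fin 2) (Fin 2 × Fin 2) F) = T1ᵀ * G2 * T1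
          from hTG.symm]
      rw [Matrix.transpose_mul, Matrix.transpose_mul]
      calc T1ᵀ * ((B : Matrix (Fin 4) (Fin 4) F)ᵀ * T2ᵀ) * (T1ᵀ * G2 * T1) * (T2 * B * T1)
          = T1ᵀ * ((B : Matrix (Fin 4) (Fin 4) F)ᵀ * (T2ᵀ * T1ᵀ) * G2 * (T1 * T2) * B) * T1 := by
            simp only [mul_assoc]
        _ = T1ᵀ * (μ • G2) * T1 := by
            rw [← Matrix.transpose_mul, hT12, Matrix.transpose_one, mul_one, mul_one, gram_of_scale h₂ hB]
        _ = μ • (T1ᵀ * G2 * T1) := by rw [Matrix.mul_smul, Matrix.smul_mul]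
    obtain ⟨π, hπ⟩ := similitude_permutes_factors h2 hsim
    refine ⟨π, fun r X => ?_⟩
    obtain ⟨Y, hY⟩ := hπ r X
    refine ⟨Y, ?_⟩
    simp only [M, R, AlgHom.comp_apply, ← hY]
    rw [← conjHom_mul, conjHom_apply b4]
    show conjHom _ (Matrix.reindexAlgEquiv F F fin22 _) = conjHom T (Matrix.reindexAlgEquiv F F fin22 _)
    rw [map_mul (Matrix.reindexAlgEquiv F F fin22), map_mul (Matrix.reindexAlgEquiv F F fin22), hb,
      show Matrix.reindexAlgEquiv F F fin22 ((b4⁻¹ : GL (Fin 2 × Fin 2) F) : Matrix (Fin 2 × Fin 2) (Fin 2 × Fin 2) F) =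
        T2 * ((B⁻¹ : GL (Fin 4) F) : Matrix (Fin 4) (Fin 4) F) * T1 by
          ext p q; simp [b4, glReindex, T1, T2, mul_assoc],
      conjHom_apply, conjHom_apply, _root_.mul_inv_rev, Units.val_mul, Units.val_mul]
    calc ((B : Matrix (Fin 4) (Fin 4) F) * T1) * _ * (T2 * ((B⁻¹ : GL (Fin 4) F) : Matrix (Fin 4) (Fin 4) F))
        = (T1 * T2) * ((B : Matrix (Fin 4) (Fin 4) F) * T1 *
            Matrix.reindexAlgEquiv F F fin22 (factorEmb r X) * (T2 * ((B⁻¹ : GL (Fin 4) F) : Matrix (Fin 4) (Fin 4) F))) *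
            (T1 * T2) := by rw [hT12, one_mul, mul_one]
      _ = T1 * (T2 * (B : Matrix (Fin 4) (Fin 4) F) * T1 * Matrix.reindexAlgEquiv F F fin22 (factorEmb r X) *
            (T2 * ((B⁻¹ : GL (Fin 4) F) : Matrix (Fin 4) (Fin 4) F) * T1)) * T2 := by simp only [mul_assoc]
  -- no member exchanges the factors
  have hfix : ∀ {g : GL ι F}, g ∈ H → ∀ {A : GL (Fin 3) F} {B : GL (Fin 4) F} {μ : F},
      (∀ x y, (g : Matrix ι ι F) *ᵥ coord e P (tp x y) =
        coord e P (tp ((A : Matrix (Fin 3) (Fin 3) F) *ᵥ x) ((B : Matrix (Fin 4) (Fin 4) F) *ᵥ y))) →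
      (∀ y y', f₂ ((B : Matrix (Fin 4) (Fin 4) F) *ᵥ y) ((B : Matrix (Fin 4) (Fin 4) F) *ᵥ y') = μ * f₂ y y') →
      ∀ X, ∃ Y, conjHom B (M 0 X) = M 0 Y := by
    intro g hg A B μ hAB hB
    obtain ⟨π, hπ⟩ := hperm hB
    by_cases h0 : π 0 = 0
    · intro X
      have h := hπ 0 X
      rwa [h0] at h
    exfalso
    have h01 : π 0 = 1 := by omega
    set p₀ : Matrix (Fin 2) (Fin 2) F := Matrix.single 0 0 1 with hp₀
    obtain ⟨Y, hY⟩ := hπ 0 p₀
    rw [h01] at hY
    set P0 := M 0 p₀ with hP0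
    set P1 := M 1 Y with hP1
    have hid0 : P0 * P0 = P0 := by rw [hP0, hMmul, hp₀, Matrix.single_mul_single_same, mul_one]
    have hid1 : P1 * P1 = P1 := by rw [← hY, ← map_mul, hid0]
    have hcomm : P0 * P1 = P1 * P0 := by
      simp only [hP0, hP1, M]; rw [← map_mul, ← map_mul, factorEmb_comm (by decide)]
    have hneg : planeJ (F := F) 0 0 = 0 ∧ planeJ (F := F) 1 1 = 0 := by simp [planeJ]
    have hiso : ∀ i : Fin 2, ∀ y y', f₂ (M 0 (Matrix.single i i 1) *ᵥ y) (M 0 (Matrix.single i i 1) *ᵥ y') = 0 := by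
      intro i y y'
      rw [form_mul h₂, ← hG2, hRform,
        show (factorEmb 0 (Matrix.single i i (1 : F)))ᵀ * hypFour * factorEmb 0 (Matrix.single i i (1 : F)) = 0 by
          simp only [factorEmb, if_true, hypFour]
          rw [← Matrix.kroneckerMap_transpose, ← Matrix.mul_kronecker_mul, ← Matrix.mul_kronecker_mul,
            show (Matrix.single i i (1 : F))ᵀ * planeJ * Matrix.single i i (1 : F) = 0 by
              ext a b; fin_cases i <;> fin_cases a <;> fin_cases b <;>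
                simp [planeJ, Matrix.mul_apply, Fin.sum_univ_two, Matrix.single],
            Matrix.zero_kronecker]]
      simp
    let U : Submodule F (Fin 4 → F) := LinearMap.range (Matrix.toLin' P0)
    have hUiso : ∀ y ∈ U, ∀ y' ∈ U, f₂ y y' = 0 := by
      rintro _ ⟨y, rfl⟩ _ ⟨y', rfl⟩
      simp only [Matrix.toLin'_apply]
      exact hiso 0 y y'
    have hUd : Module.finrank F U = 2 := by
      let U' : Submodule F (Fin 4 → F) := LinearMap.range (Matrix.toLin' (M 0 (Matrix.single 1 1 1)))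
      have hU'iso : ∀ y ∈ U', ∀ y' ∈ U', f₂ y y' = 0 := by
        rintro _ ⟨y, rfl⟩ _ ⟨y', rfl⟩
        simp only [Matrix.toLin'_apply]
        exact hiso 1 y y'
      have hsum : U ⊔ U' = ⊤ := by
        rw [eq_top_iff]
        intro y _
        refine Submodule.mem_sup.2 ⟨_, ⟨y, rfl⟩, _, ⟨y, rfl⟩, ?_⟩
        rw [Matrix.toLin'_apply, Matrix.toLin'_apply, ← Matrix.add_mulVec]
        simp only [hP0, hp₀, M]
        rw [← map_add, ← factorEmb_add, show Matrix.single (0 : Fin 2) (0 : Fin 2) (1 : F) + Matrix.single 1 1 1 = 1 by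
          ext a b; fin_cases a <;> fin_cases b <;> simp [Matrix.single], factorEmb_one, map_one, Matrix.one_mulVec]
      have hle2 : ∀ W : Submodule F (Fin 4 → F), (∀ y ∈ W, ∀ y' ∈ W, f₂ y y' = 0) → Module.finrank F W ≤ 2 := by
        intro W hW
        have h := h₂.finrank_perp W
        have h' := Submodule.finrank_mono (show W ≤ h₂.perp W from fun y hy => h₂.mem_perp.2 fun z hz => hW y hy z hz)
        rw [Fintype.card_fin] at h
        omega
      have h := Submodule.finrank_add_le_finrank_add_finrank U U'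
      rw [hsum, finrank_top, Module.finrank_fin_fun] at h
      have := hle2 U hUiso
      have := hle2 U' hU'iso
      omega
    have hmapU : U.map (Matrix.toLin' (B : Matrix (Fin 4) (Fin 4) F)) = LinearMap.range (Matrix.toLin' P1) := by
      rw [← hY]
      ext y
      constructor
      · rintro ⟨_, ⟨z, rfl⟩, rfl⟩
        exact ⟨(B : Matrix (Fin 4) (Fin 4) F) *ᵥ z, by
          simp [conjHom_apply, Matrix.mulVec_mulVec, mul_assoc]⟩
      · rintro ⟨z, rfl⟩
        exact ⟨_, ⟨((B⁻¹ : GL (Fin 4) F) : Matrix (Fin 4) (Fin 4) F) *ᵥ z, rfl⟩, by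
          simp [conjHom_apply, Matrix.mulVec_mulVec, mul_assoc]⟩
    have hTS := facSub_singular hQ h2 h₁ h₂ hT hUiso
    have hev := omega_parity hQ (m := 6) (by omega) (by norm_num) (by rw [finrank_facSub, hUd]) hTS (hHΩ hg)
    rw [facSub_map hAB] at hev
    set U₁ := U.map (Matrix.toLin' (B : Matrix (Fin 4) (Fin 4) F)) with hU₁
    have hinf : facSub e P U ⊓ facSub e P U₁ = facSub e P (U ⊓ U₁) := by
      ext v; simp [mem_facSub, forall_and]
    rw [hinf, finrank_facSub] at hev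
    have hle' := Submodule.finrank_mono (inf_le_left : U ⊓ U₁ ≤ U)
    rw [hUd] at hle'
    have hcases : Module.finrank F ↥(U ⊓ U₁) = 0 ∨ Module.finrank F ↥(U ⊓ U₁) = 2 := by
      obtain ⟨k, hk⟩ := hev
      omega
    have hinjM : ∀ r, Function.Injective (M r) := fun r X X' h => factorEmb_injective r (by
      simp only [M, hR] at h
      have h' := congrArg (fun Z => T2 * Z * T1) h
      simp only [← mul_assoc, show T2 * T1 = 1 from T.inv_mul, one_mul] at h'
      simp only [mul_assoc, show T2 * T1 = 1 from T.inv_mul, mul_one] at h'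
      exact (Matrix.reindexAlgEquiv F F fin22).injective h')
    have hM1 : ∀ r, M r 1 = 1 := fun r => by simp only [M]; rw [factorEmb_one, map_one]
    have hp1 : p₀ ≠ 1 := fun h => by simpa [hp₀, Matrix.single] using congrFun (congrFun h 1) 1
    rcases hcases with hd | hd
    · have hbot : U ⊓ U₁ = ⊥ := Submodule.finrank_eq_zero.1 hd
      have h0 : P0 * P1 = 0 := Matrix.ext_of_mulVec_single fun i => by
        rw [Matrix.zero_mulVec, ← Submodule.mem_bot F, ← hbot]
        refine ⟨⟨P1 *ᵥ Pi.single i 1, by rw [Matrix.toLin'_apply, Matrix.mulVec_mulVec]⟩, ?_⟩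
        rw [hcomm, hmapU]
        exact ⟨P0 *ᵥ Pi.single i 1, by rw [Matrix.toLin'_apply, Matrix.mulVec_mulVec]⟩
      have hY0 : Y = 0 := by
        ext k l
        have h := h0
        simp only [hP0, hP1, M] at h
        rw [← map_mul] at h
        have h' : factorEmb 0 p₀ * factorEmb 1 Y = 0 := by
          simp only [hR] at h
          have h'' := congrArg (fun Z => T2 * Z * T1) h
          simp only [← mul_assoc, show T2 * T1 = 1 from T.inv_mul, one_mul] at h''
          simp only [mul_assoc, show T2 * T1 = 1 from T.inv_mul, mul_one, mul_zero, zero_mul] at h''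
          exact (Matrix.reindexAlgEquiv F F fin22).injective (h''.trans (map_zero _).symm)
        simp only [factorEmb, if_true, if_neg (show ¬ (1 : Fin 2) = 0 by decide)] at h'
        rw [← Matrix.mul_kronecker_mul, mul_one, one_mul] at h'
        simpa [hp₀] using congrFun (congrFun h' (0, k)) (0, l)
      rw [hP1, hY0, show M 1 0 = 0 by simp only [M]; rw [show factorEmb 1 (0 : Matrix (Fin 2) (Fin 2) F) = 0 by
        simpa using factorEmb_smul 1 (0 : F) (0 : Matrix (Fin 2) (Fin 2) F), map_zero]] at hY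
      have hP00 : P0 = 0 := (conjHom B).toRingHom.injective (hY.trans (map_zero (conjHom B)).symm)
      rw [show U = ⊥ from by simp [U, hP00]] at hUd
      simp at hUd
    · have hsub : U ≤ U₁ := by
        have := Submodule.eq_of_le_of_finrank_eq (inf_le_left : U ⊓ U₁ ≤ U) (hd.trans hUd.symm)
        exact this.ge.trans inf_le_right
      have hfix1 : P1 * P0 = P0 := Matrix.ext_of_mulVec_single fun i => by
        obtain ⟨z, hz⟩ := hmapU ▸ hsub (LinearMap.mem_range_self (Matrix.toLin' P0) (Pi.single i 1))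
        rw [Matrix.toLin'_apply, Matrix.toLin'_apply] at hz
        rw [← Matrix.mulVec_mulVec, ← hz, Matrix.mulVec_mulVec, hid1]
      have hY1 : Y = 1 := by
        ext k l
        have h : factorEmb 0 p₀ * factorEmb 1 Y = factorEmb 0 p₀ := by
          refine (Matrix.reindexAlgEquiv F F fin22).injective ?_
          have h := hcomm.trans hfix1
          simp only [hP0, hP1, M] at h
          rw [← map_mul] at h
          simp only [hR] at h
          have h'' := congrArg (fun Z => T2 * Z * T1) h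
          simp only [← mul_assoc, show T2 * T1 = 1 from T.inv_mul, one_mul] at h''
          simp only [mul_assoc, show T2 * T1 = 1 from T.inv_mul, mul_one] at h''
          exact h''
        simp only [factorEmb, if_true, if_neg (show ¬ (1 : Fin 2) = 0 by decide)] at h
        rw [← Matrix.mul_kronecker_mul, mul_one, one_mul] at h
        simpa [hp₀, Matrix.one_apply] using congrFun (congrFun h (0, k)) (0, l)
      rw [hP1, hY1, hM1] at hY
      exact hp1 (hinjM 0 ((conjHom B).toRingHom.injective (hY.trans (map_one (conjHom B)).symm) |>.trans (hM1 0).symm))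
  -- the regrouped algebra
  let ψ : Matrix (Fin 2) (Fin 2) F →ₐ[F] Matrix ι ι F :=
    (tensorEmb 4 3 (e.trans (Equiv.prodComm _ _)) P).comp (R.comp (kroneckerHom 2 2))
  have hψ : ∀ X, ψ X = tensorEmb 4 3 (e.trans (Equiv.prodComm _ _)) P (M 0 X) := fun X => rfl
  obtain ⟨b, e', P', hb, hψe⟩ := exists_tensorEmb ψ
  have hb6 : b = 6 := by
    have := Fintype.card_congr e'
    simp at this
    omega
  subst hb6
  have hadj : IsAdjointClosedFor (polar Q) (tensorEmb 2 6 e' P').range := by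
    rw [← hψe]
    rintro _ ⟨X, rfl⟩
    refine ⟨ψ (-planeJ * Xᵀ * planeJ), ⟨_, rfl⟩, ?_⟩
    have hgram : (M 0 X)ᵀ * G2 = G2 * M 0 (-planeJ * Xᵀ * planeJ) := by
      have h1 := hRform (factorEmb 0 X) 1
      have h2' := hRform 1 (factorEmb 0 (-planeJ * Xᵀ * planeJ))
      rw [map_one, mul_one, mul_one] at h1
      rw [map_one, Matrix.transpose_one, one_mul, Matrix.transpose_one, one_mul] at h2'
      simp only [M]
      rw [h1, h2']
      congr 3
      simp only [factorEmb, if_true, hypFour]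
      rw [← Matrix.kroneckerMap_transpose, Matrix.transpose_one, ← Matrix.mul_kronecker_mul,
        ← Matrix.mul_kronecker_mul, one_mul, mul_one, ← mul_assoc, ← mul_assoc, planeJ_sq, one_mul]
    intro u v
    show polar Q (ψ X *ᵥ u) v = polar Q u (ψ _ *ᵥ v)
    rw [← sum_rows (e.trans (Equiv.prodComm _ _)) P u, ← sum_rows (e.trans (Equiv.prodComm _ _)) P v,
      Matrix.mulVec_sum, Matrix.mulVec_sum]
    simp only [hh.sesq.sum_left, hh.sesq.sum_right, hψ, tensorEmb_pure]
    refine Finset.sum_congr rfl fun i _ => Finset.sum_congr rfl fun j _ => ?_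
    have key : ∀ y y', f₂ (M 0 X *ᵥ y) y' = f₂ y (M 0 (-planeJ * Xᵀ * planeJ) *ᵥ y') := fun y y' => by
      have e1 := form_mul h₂ (M 0 X) 1 y y'
      have e2 := form_mul h₂ 1 (M 0 (-planeJ * Xᵀ * planeJ)) y y'
      simp only [Matrix.one_mulVec, Matrix.transpose_one, one_mul, mul_one] at e1 e2
      rw [e1, e2, ← hG2, hgram]
    simp only [coord_swap e P, hform, key]
  obtain ⟨ε₁, ε₂, g₁, g₂, k1, k2, k3, -, k5⟩ := exists_tensor_form hh e' P' hadj
  refine ⟨e', P', ε₁, ε₂, g₁, g₂, k1, k2, k3, k5, fun g hg => mem_tensorProductSubgroup e' P' g fun X => ?_⟩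
  obtain ⟨A, B, μ, -, hAB, hB⟩ := exists_factor_scale hT h₁ h₂ (hle hg) (isoGrp_of_le hQ hHΩ g hg)
  obtain ⟨Y, hY⟩ := hfix hg hAB hB X
  refine ⟨Y, ?_⟩
  rw [← hψe, hψ, hψ, conj_tensorEmb (e.trans (Equiv.prodComm _ _)) P B A (fun y x => by
    rw [coord_swap, hAB, coord_swap]), hY]

end CfsgLib.Geo.AschEven
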