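import Mathlib
import Cfsg.Prelude.Def_GeometricClasses
import Cfsg.Agent.Lib.Geo.AschEvenTensorThree
import Cfsg.Agent.Lib.Geo.AschEvenField
import Cfsg.Agent.Lib.Geo.AschEvenRat

/-! Maximal subgroups of Ω in dimensions ten and twelve: the irreducible ones. -/

set_option autoImplicit false
set_option linter.unusedSectionVars false

namespace CfsgLib.Geo.AschEven

open Cfsg Cfsg.Geo Matrix QuadraticMap CfsgLib.GeomClasses CfsgLib.Maximal.TensorTools CfsgLib.Geo.Asch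
open scoped MatrixGroups

variable {ι : Type} [Fintype ι] [DecidableEq ι] {F : Type*} [Field F] [Fintype F] {Q : (ι → F) → F}

local notation "tp" => CfsgLib.Maximal.TensorTools.pure

theorem not_power {n a t : ℕ} (hn : n = 10 ∨ n = 12) (ha : 2 ≤ a) (ht : 2 ≤ t) : a ^ t ≠ n := by
  intro h
  have h1 : a ^ 2 ≤ a ^ t := Nat.pow_le_pow_right (by omega) ht
  have h2 : 2 ^ t ≤ a ^ t := Nat.pow_le_pow_left ha t
  have ha3 : a ≤ 3 := by
    by_contra hc
    have : 4 ^ 2 ≤ a ^ 2 := Nat.pow_le_pow_left (by omega) 2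
    omega
  have ht3 : t ≤ 3 := by
    by_contra hc
    have : 2 ^ 4 ≤ 2 ^ t := Nat.pow_le_pow_right (by norm_num) (by omega)
    omega
  interval_cases a <;> interval_cases t <;> omega

theorem not_isPrimePow {n : ℕ} (hn : n = 10 ∨ n = 12) : ¬ IsPrimePow n := by
  intro h
  obtain ⟨p, k, hp, hk, hpk⟩ := (isPrimePow_nat_iff n).1 h
  rcases Nat.lt_or_ge k 2 with hk2 | hk2
  · have hk1 : k = 1 := by omega
    rw [hk1, pow_one] at hpk
    rcases hn with rfl | rfl <;> subst hpk <;> norm_num at hp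
  · exact not_power hn hp.two_le hk2 hpk

/-- A minimal spanning normal subgroup gives a subfield group or the residual class. -/
theorem residual_cases [Nonempty ι] (hn2 : 7 ≤ Fintype.card ι) (hQ : IsNondegenerateQuadraticForm Q)
    (hpow : ∀ a t : ℕ, 2 ≤ a → 2 ≤ t → a ^ t ≠ Fintype.card ι) {H : Subgroup (GL ι F)}
    (hH : IsMaximalIn (omegaGL Q) H) {N : Subgroup (GL ι F)} (hNH : N ≤ H)
    (hinv : ∀ g ∈ H, ∀ x ∈ N, g * x * g⁻¹ ∈ N) (hns : ¬ N ≤ scalars ι F) (hspan : algOf N = ⊤)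
    (hmin : ∀ K : Subgroup (GL ι F), K ≤ N → (∀ g ∈ H, ∀ x ∈ K, g * x * g⁻¹ ∈ K) → ¬ K ≤ scalars ι F → K = N)
    (hperf : ⁅N, N⁆ = N) (hcl : ¬ ∀ x ∈ N, ∀ y ∈ N, x * y * x⁻¹ * y⁻¹ ∈ scalars ι F) :
    (∃ (F₀ : Subfield F) (r : ℕ) (P : GL ι F) (ζ : F), r.Prime ∧ Fintype.card F = Nat.card F₀ ^ r ∧ ζ ≠ 0 ∧
      IsQuadFormRationalStructure (fun v => ζ * Q v) F₀ P ∧ H = subfieldSubgroup F₀ P ⊓ omegaGL Q) ∨
    InOrthogonalResidualClass H := by
  have hNQ : ∀ s ∈ N, ∀ v, Q ((s : Matrix ι ι F) *ᵥ v) = Q v := fun s hs v => omega_quad (hH.1.le (hNH hs)) v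
  by_cases hreal : ∃ F₀ : Subfield F, F₀ ≠ ⊤ ∧ RealisableOver F₀ (matrixSet N)
  · obtain ⟨F₀, h0, hr⟩ := hreal
    obtain ⟨F₁, r, P, hrp, hc, hle, hrat⟩ := exists_rational_subfield hspan hinv h0 hr
    obtain ⟨ζ, hζ, hform⟩ := exists_quad_rational (by omega) hQ hspan hNQ P hrat
    exact Or.inl ⟨F₁, r, P, ζ, hrp, hc, hζ, hform, eq_inf_of_le hH hle
      (omega_not_le_subfield hQ hn2 (subfield_ne_top hrp hc) P)⟩
  refine Or.inr ?_
  rcases simple_or_power hNH hinv hspan hcl hmin with h | ⟨a, t, ha, ht, hat⟩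
  swap
  · exact absurd hat.symm (hpow a t ha ht)
  refine ⟨N, residualCore_of_simple hNH hinv hspan hperf hns h (fun F₀ h0 hr => hreal ⟨F₀, h0, hr⟩), ?_⟩
  rintro ⟨σ, f, hf, hfix⟩
  refine hreal (realisable_of_bilinear hspan hf hfix (polar_isSesq hQ) hQ.nondegenerate ?_)
  rintro _ ⟨g, hg, rfl⟩ u v
  exact omega_polar hQ (hH.1.le (hNH hg)) u v

/-- The outcomes for an irreducible maximal subgroup; `m` is half the dimension. -/
def IrreducibleOutcome (Q : (ι → F) → F) (m : ℕ) (H : Subgroup (GL ι F)) : Prop :=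
  (∃ (t k : ℕ) (D : Fin t → Submodule F (ι → F)), t * k = 2 * m ∧ IsOrthogonalMDecomposition Q k D ∧
    H ≤ decompositionStabilizer D) ∨
  (m = 6 ∧ IsPlusTypeOn Q ⊤ ∧ ∃ D : Fin 2 → Submodule F (ι → F), IsMDecomposition m D ∧
    (∀ i, IsTotallySingularQuad Q (D i)) ∧ H = decompositionStabilizer D ⊓ omegaGL Q) ∨
  (∃ (s : ℕ) (K : Subalgebra F (Matrix ι ι F)), s.Prime ∧ s ∣ 2 * m ∧ IsFieldSubalgebra s K ∧
    (m = 5 → IsAdjointClosedFor (polar Q) K) ∧ Normalized H K ∧ H = subalgebraNormalizer K ⊓ omegaGL Q) ∨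
  (m = 6 ∧ IsPlusTypeOn Q ⊤ ∧ 3 ≤ Fintype.card F ∧ ∃ (e : ι ≃ Fin 2 × Fin 6) (P : GL ι F)
    (f₁ : (Fin 2 → F) → (Fin 2 → F) → F) (f₂ : (Fin 6 → F) → (Fin 6 → F) → F),
      IsSymplecticForm f₁ ∧ IsSymplecticForm f₂ ∧ IsTensorFormStructure id (polar Q) f₁ f₂ e P ∧
      (∀ (x₁ : Fin 2 → F) (x₂ : Fin 6 → F),
        Q ((P : Matrix ι ι F) *ᵥ ((fun a : Fin 2 × Fin 6 => x₁ a.1 * x₂ a.2) ∘ e)) = 0) ∧
      H = tensorProductSubgroup 2 6 e P ⊓ omegaGL Q) ∨
  (m = 6 ∧ ¬ IsPlusTypeOn Q ⊤ ∧ Odd (Fintype.card F) ∧ 5 ≤ Fintype.card F ∧ ∃ (e : ι ≃ Fin 3 × Fin 4) (P : GL ι F)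
    (f₁ : (Fin 3 → F) → (Fin 3 → F) → F) (f₂ : (Fin 4 → F) → (Fin 4 → F) → F),
      IsSymmetricForm f₁ ∧ IsSymmetricForm f₂ ∧ ¬ IsPlusTypeOn (fun v : Fin 4 → F => f₂ v v) ⊤ ∧
      IsTensorFormStructure id (polar Q) f₁ f₂ e P ∧ H = tensorProductSubgroup 3 4 e P ⊓ omegaGL Q) ∨
  (∃ (F₀ : Subfield F) (r : ℕ) (P : GL ι F) (ζ : F), r.Prime ∧ Fintype.card F = Nat.card F₀ ^ r ∧ ζ ≠ 0 ∧
    IsQuadFormRationalStructure (fun v => ζ * Q v) F₀ P ∧ H = subfieldSubgroup F₀ P ⊓ omegaGL Q) ∨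
  InOrthogonalResidualClass H

theorem card_decomposition {t k : ℕ} {D : Fin t → Submodule F (ι → F)}
    (hD : IsOrthogonalMDecomposition Q k D) : t * k = Fintype.card ι := by
  have h1 := OrthFrames.card_le hD
  have h2 : ∀ s : Finset (Fin t), s.card * k ≤ Module.finrank F ↥(s.sup D) := by
    intro s
    induction s using Finset.induction_on with
    | empty => simp
    | insert a s ha ih =>
      rw [Finset.sup_insert, Finset.card_insert_of_notMem ha]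
      have h := Submodule.finrank_sup_add_finrank_inf_eq (D a) (s.sup D)
      have hd : Disjoint (D a) (s.sup D) := hD.decomp.decomp.indep.disjoint_biSup (y := (s : Set (Fin t)))
        (by simpa using ha) |>.mono_right (by rw [Finset.sup_eq_iSup]; exact le_rfl)
      rw [disjoint_iff.1 hd, finrank_bot, hD.decomp.decomp.finrank_eq] at h
      rw [Nat.succ_mul]
      omega
  have h3 := h2 Finset.univ
  rw [Finset.sup_univ_eq_iSup, hD.decomp.decomp.iSup_eq_top, finrank_top, Module.finrank_fintype_fun_eq_card,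
    Finset.card_univ, Fintype.card_fin] at h3
  omega

theorem outcome_of_trio [Nonempty ι] (hQ : IsNondegenerateQuadraticForm Q) {m : ℕ} (hι : Fintype.card ι = 2 * m)
    (hm : m = 5 ∨ m = 6) {H : Subgroup (GL ι F)} (hH : IsMaximalIn (omegaGL Q) H)
    (hirr : ActsIrreducibly (matrixSet H)) (h : Trio Q H) : IrreducibleOutcome Q m H := by
  have hHΩ : H ≤ omegaGL Q := hH.1.le
  have hn : 7 ≤ Fintype.card ι := by omega
  rcases h with ⟨t, k, D, hD, hle⟩ | ⟨k, D, hD, hTS, hle⟩ | ⟨s, K, hs, hK, hKa, hHK⟩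
  · have hO := isometric_of_irreducible hHΩ hirr hD hle
    exact Or.inl ⟨t, k, D, (card_decomposition hO).trans hι, hO, hle⟩
  · have hc := card_of_pair hD
    have hk : k = m := by omega
    subst hk
    have hS := pair_singular hQ hHΩ hirr (by omega) hD hTS hle
    rcases hm with rfl | rfl
    · exact (pair_odd_false hQ hHΩ hirr (by norm_num) (by decide) hD (hS 0) hle).elim
    · exact Or.inr (Or.inl ⟨rfl, pair_plus (fun h => card_of_pair h) hD (hS 0), D, hD, hS,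
        eq_inf_of_le hH hle (omega_not_le_pair hQ hn hD (by norm_num) hS)⟩)
  · exact Or.inr (Or.inr (Or.inl ⟨s, K, hs, hι ▸ isFieldSubalgebra_dvd hK, hK, fun _ => hKa, hHK,
      eq_inf_of_le hH (le_subalgebraNormalizer hHK) (omega_not_le_field hQ hn hs.one_lt hK)⟩))

theorem outcome_of_tensor_two [Nonempty ι] (hQ : IsNondegenerateQuadraticForm Q) {m : ℕ}
    (hι : Fintype.card ι = 2 * m) (hm : m = 5 ∨ m = 6) {H : Subgroup (GL ι F)} (hH : IsMaximalIn (omegaGL Q) H)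
    (hirr : ActsIrreducibly (matrixSet H)) {e : ι ≃ Fin 2 × Fin m} {P : GL ι F} {ε₁ ε₂ : F}
    {f₁ : (Fin 2 → F) → (Fin 2 → F) → F} {f₂ : (Fin m → F) → (Fin m → F) → F}
    (h₁ : Herm (RingEquiv.refl F) ε₁ f₁) (h₂ : Herm (RingEquiv.refl F) ε₂ f₂) (heps : ε₁ * ε₂ = 1)
    (hT : IsTensorFormStructure ((RingEquiv.refl F : F ≃+* F) : F → F) (polar Q) f₁ f₂ e P)
    (hle : H ≤ tensorProductSubgroup 2 m e P) : IrreducibleOutcome Q m H := by
  have hHΩ : H ≤ omegaGL Q := hH.1.le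
  have hn : 7 ≤ Fintype.card ι := by omega
  rcases tensor_two_cases hQ hHΩ hirr (by omega) h₁ h₂ heps hT hle with h | ⟨s1, s2, hpure⟩
  · exact outcome_of_trio hQ hι hm hH hirr h
  rcases hm with rfl | rfl
  · exact absurd s2 (not_symplectic_of_odd (by rw [Fintype.card_fin]; decide))
  by_cases hq : 3 ≤ Fintype.card F
  · refine Or.inr (Or.inr (Or.inr (Or.inl ⟨rfl, plus_of_pure e P hpure, hq, e, P, f₁, f₂, s1, s2, hT,
      fun x y => hpure x y, eq_inf_of_le hH hle (omega_not_le_tensor_two hQ (by norm_num) e P hpure)⟩)))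
  · have hF : Fintype.card F = 2 := by have := Fintype.one_lt_card (α := F); omega
    obtain ⟨K, hK, hn'⟩ := exists_field_of_two hF e P
    have hHK : Normalized H K := fun g hg => hn' g (hle hg)
    exact Or.inr (Or.inr (Or.inl ⟨2, K, Nat.prime_two, by norm_num, hK, fun h => absurd h (by norm_num), hHK,
      eq_inf_of_le hH (le_subalgebraNormalizer hHK) (omega_not_le_field hQ hn one_lt_two hK)⟩))

theorem outcome_of_tensor_three [Nonempty ι] (hQ : IsNondegenerateQuadraticForm Q)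
    (hι : Fintype.card ι = 2 * 6) {H : Subgroup (GL ι F)} (hH : IsMaximalIn (omegaGL Q) H)
    (hirr : ActsIrreducibly (matrixSet H)) {e : ι ≃ Fin 3 × Fin 4} {P : GL ι F} {ε₁ ε₂ : F}
    {f₁ : (Fin 3 → F) → (Fin 3 → F) → F} {f₂ : (Fin 4 → F) → (Fin 4 → F) → F}
    (h₁ : Herm (RingEquiv.refl F) ε₁ f₁) (h₂ : Herm (RingEquiv.refl F) ε₂ f₂) (heps : ε₁ * ε₂ = 1)
    (hT : IsTensorFormStructure ((RingEquiv.refl F : F ≃+* F) : F → F) (polar Q) f₁ f₂ e P)
    (hle : H ≤ tensorProductSubgroup 3 4 e P) : IrreducibleOutcome Q 6 H := by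
  have hHΩ : H ≤ omegaGL Q := hH.1.le
  have h2 : (2 : F) ≠ 0 := fun h =>
    not_symplectic_of_odd (by rw [Fintype.card_fin]; decide)
      (factors_alternating_two h (isoGrp_of_le hQ hHΩ) hirr (by norm_num) (by norm_num) h₁ h₂ hT hle).1
  have he := eps_one_of_odd (by decide) h2 h₁
  subst he
  rw [one_mul] at heps
  subst heps
  by_cases hplus : IsPlusTypeOn Q ⊤
  · obtain ⟨e', P', a, b, g₁, g₂, k1, k2, k3, k4, k5⟩ :=
      three_four_regroup hQ h2 hHΩ h₁ h₂ hT hle (factor_plus_of_plus hQ h2 h₁ h₂ hT hplus)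
    exact outcome_of_tensor_two hQ hι (Or.inr rfl) hH hirr k1 k2 k3 k4 k5
  have hodd := odd_card_of_two_ne_zero h2
  by_cases h3 : Fintype.card F = 3
  · obtain ⟨D, hD, hDle⟩ := three_four_frame hQ h3 hHΩ h₁ h₂ hT hle
    exact outcome_of_trio hQ hι (Or.inr rfl) hH hirr (Or.inl ⟨_, _, D, hD, hDle⟩)
  have h5 : 5 ≤ Fintype.card F := by
    obtain ⟨k, hk⟩ := hodd
    have := Fintype.one_lt_card (α := F)
    omega
  exact Or.inr (Or.inr (Or.inr (Or.inr (Or.inl ⟨rfl, hplus, hodd, h5, e, P, f₁, f₂, symmetric_of_herm h₁,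
    symmetric_of_herm h₂, fun h => hplus (plus_of_factor_plus hQ h2 h₁ h₂ hT h), hT,
    eq_inf_of_le hH hle (omega_not_le_tensor_three_four hQ h2 e P)⟩))))

/-- The irreducible case in dimension ten or twelve. -/
theorem irreducible_outcome [Nonempty ι] (hQ : IsNondegenerateQuadraticForm Q) {m : ℕ}
    (hι : Fintype.card ι = 2 * m) (hm : m = 5 ∨ m = 6) {H : Subgroup (GL ι F)} (hH : IsMaximalIn (omegaGL Q) H)
    (hirr : ActsIrreducibly (matrixSet H)) : IrreducibleOutcome Q m H := by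
  have hHΩ : H ≤ omegaGL Q := hH.1.le
  have h1012 : Fintype.card ι = 10 ∨ Fintype.card ι = 12 := by omega
  rcases irreducible_cases (by omega) (herm_polar hQ) (isoGrp_of_le hQ hHΩ) hirr with hg | ⟨N, hNH, hinv, hns, hspan,
    hmin, hN⟩
  swap
  · rcases hN with ⟨-, hpp⟩ | ⟨hperf, hcl⟩
    · exact absurd hpp (not_isPrimePow h1012)
    rcases residual_cases (by omega) hQ (fun a t ha ht => not_power h1012 ha ht) hH hNH hinv hns hspan hmin hperf hcl
      with h | h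
    · exact Or.inr (Or.inr (Or.inr (Or.inr (Or.inr (Or.inl h)))))
    · exact Or.inr (Or.inr (Or.inr (Or.inr (Or.inr (Or.inr h)))))
  rcases hg with h | h | h | ⟨a, b, e, P, ε₁, ε₂, f₁, f₂, ha, hb, h₁, h₂, heps, -, hT, hle⟩
  · exact outcome_of_trio hQ hι hm hH hirr (Or.inl h)
  · exact outcome_of_trio hQ hι hm hH hirr (Or.inr (Or.inl h))
  · exact outcome_of_trio hQ hι hm hH hirr (Or.inr (Or.inr h))
  have hab : a * b = 2 * m := by
    rw [← hι]; simpa using (Fintype.card_congr e).symm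
  have ha' : a ≤ 6 := by
    have := Nat.mul_le_mul_left a hb
    omega
  have two : ∀ (b : ℕ) (e : ι ≃ Fin 2 × Fin b) (ε₁ ε₂ : F) (f₁ : (Fin 2 → F) → (Fin 2 → F) → F)
      (f₂ : (Fin b → F) → (Fin b → F) → F), b = m → Herm (RingEquiv.refl F) ε₁ f₁ → Herm (RingEquiv.refl F) ε₂ f₂ →
      ε₁ * ε₂ = 1 → IsTensorFormStructure ((RingEquiv.refl F : F ≃+* F) : F → F) (polar Q) f₁ f₂ e P →
      H ≤ tensorProductSubgroup 2 b e P → IrreducibleOutcome Q m H := by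
    rintro b e ε₁ ε₂ f₁ f₂ rfl k1 k2 k3 k4 k5
    exact outcome_of_tensor_two hQ hι hm hH hirr k1 k2 k3 k4 k5
  have three : ∀ (b : ℕ) (e : ι ≃ Fin 3 × Fin b) (ε₁ ε₂ : F) (f₁ : (Fin 3 → F) → (Fin 3 → F) → F)
      (f₂ : (Fin b → F) → (Fin b → F) → F), 3 * b = 2 * m → Herm (RingEquiv.refl F) ε₁ f₁ →
      Herm (RingEquiv.refl F) ε₂ f₂ → ε₁ * ε₂ = 1 →
      IsTensorFormStructure ((RingEquiv.refl F : F ≃+* F) : F → F) (polar Q) f₁ f₂ e P →
      H ≤ tensorProductSubgroup 3 b e P → IrreducibleOutcome Q m H := by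
    intro b e ε₁ ε₂ f₁ f₂ hb k1 k2 k3 k4 k5
    obtain rfl : m = 6 := by omega
    obtain rfl : b = 4 := by omega
    exact outcome_of_tensor_three hQ hι hH hirr k1 k2 k3 k4 k5
  have hswap := And.intro (isTensorFormStructure_swap hT) (tensorProductSubgroup_swap e P ▸ hle)
  interval_cases a
  · exact two b e ε₁ ε₂ f₁ f₂ (by omega) h₁ h₂ heps hT hle
  · exact three b e ε₁ ε₂ f₁ f₂ hab h₁ h₂ heps hT hle
  · obtain rfl : b = 3 := by omega
    exact three 4 _ ε₂ ε₁ f₂ f₁ (by omega) h₂ h₁ (by rw [mul_comm, heps]) hswap.1 hswap.2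
  · obtain rfl : b = 2 := by omega
    exact two 5 _ ε₂ ε₁ f₂ f₁ (by omega) h₂ h₁ (by rw [mul_comm, heps]) hswap.1 hswap.2
  · obtain rfl : b = 2 := by omega
    exact two 6 _ ε₂ ε₁ f₂ f₁ (by omega) h₂ h₁ (by rw [mul_comm, heps]) hswap.1 hswap.2

end CfsgLib.Geo.AschEven
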