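import Mathlib
import Cfsg.Prelude.Def_GeometricClasses
import Cfsg.Agent.Lib.Geo.AschEvenCases

/-! Refinements for the lists of maximal subgroups of Ω in dimensions ten and twelve. -/

set_option autoImplicit false
set_option linter.unusedSectionVars false

namespace CfsgLib.Geo.AschEven

open Cfsg Cfsg.Geo Matrix QuadraticMap CfsgLib.GeomClasses CfsgLib.Maximal.TensorTools CfsgLib.Geo.Asch
open scoped MatrixGroups

variable {ι : Type} [Fintype ι] [DecidableEq ι] {F : Type*} [Field F] [Fintype F] {Q : (ι → F) → F}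

/-- A decomposition into lines: a prime field or a subfield group. -/
theorem lines_cases [Nonempty ι] (hQ : IsNondegenerateQuadraticForm Q) (hn7 : 7 ≤ Fintype.card ι) {n : ℕ}
    (hn : Fintype.card ι = n) {H : Subgroup (GL ι F)} (hH : IsMaximalIn (omegaGL Q) H)
    {D : Fin n → Submodule F (ι → F)} (hD : IsOrthogonalMDecomposition Q 1 D) (hle : H ≤ decompositionStabilizer D) :
    (2 : F) ≠ 0 ∧ ((Nat.Prime (Fintype.card F) ∧ H = decompositionStabilizer D ⊓ omegaGL Q) ∨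
      ∃ (F₀ : Subfield F) (r : ℕ) (P : GL ι F) (ζ : F), r.Prime ∧ Fintype.card F = Nat.card F₀ ^ r ∧ ζ ≠ 0 ∧
        IsQuadFormRationalStructure (fun v => ζ * Q v) F₀ P ∧ H = subfieldSubgroup F₀ P ⊓ omegaGL Q) := by
  have h2 : (2 : F) ≠ 0 := two_ne_zero_of_odd_nondegenerate hQ
    (hD.decomp.nondegenerate ⟨0, lt_of_lt_of_le two_pos hD.decomp.decomp.two_le⟩)
    (by rw [hD.decomp.decomp.finrank_eq]; exact odd_one)
  refine ⟨h2, ?_⟩
  by_cases hp : (Fintype.card F).Prime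
  · exact Or.inl ⟨hp, eq_inf_of_le hH hle (omega_not_le_decomposition hQ hn7 h2 hD.decomp.decomp)⟩
  obtain ⟨F₀, r, P, ζ, hr, hc, hζ, hrat, hle'⟩ := exists_subfield_of_lines hQ h2 hn hH.1.le hD hle hp
  exact Or.inr ⟨F₀, r, P, ζ, hr, hc, hζ, hrat, eq_inf_of_le hH hle'
    (omega_not_le_subfield hQ hn7 (subfield_ne_top hr hc) P)⟩

theorem odd_index_of_minus (hQ : IsNondegenerateQuadraticForm Q) {k : ℕ} (hι : Fintype.card ι = 2 * k)
    (hminus : ¬ IsPlusTypeOn Q ⊤) {F₀ : Subfield F} {r : ℕ} (hr : r.Prime)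
    (hc : Fintype.card F = Nat.card F₀ ^ r) (P : GL ι F) {ζ : F} (hζ : ζ ≠ 0)
    (hrat : IsQuadFormRationalStructure (fun v => ζ * Q v) F₀ P) : Odd r :=
  hr.odd_of_ne_two fun h => hminus (plus_of_index_two hQ hι (h ▸ hc) P hζ hrat)

/-- A field of degree two or five in dimension ten. -/
theorem quadratic_field_ten [Nonempty ι] (hQ : IsNondegenerateQuadraticForm Q) (hι : Fintype.card ι = 10)
    {H : Subgroup (GL ι F)} (hH : IsMaximalIn (omegaGL Q) H) (hirr : ActsIrreducibly (matrixSet H)) {s : ℕ}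
    (hs : s.Prime) (hdvd : s ∣ 10) {K₀ : Subalgebra F (Matrix ι ι F)} (hK₀ : IsFieldSubalgebra s K₀)
    (hKa₀ : IsAdjointClosedFor (polar Q) K₀) (hHK₀ : Normalized H K₀) :
    ∃ K : Subalgebra F (Matrix ι ι F), IsFieldSubalgebra 2 K ∧ H = subalgebraNormalizer K ⊓ omegaGL Q ∧
      ((Odd (Fintype.card F) ∧ IsSelfAdjointFor (polar Q) K) ∨
        (¬ IsPlusTypeOn Q ⊤ ∧ IsAdjointClosedFor (polar Q) K ∧ ¬ IsSelfAdjointFor (polar Q) K ∧
          ∀ k ∈ K, ∃ c : F, ∀ v, Q (k *ᵥ v) = c * Q v)) := by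
  have hHΩ : H ≤ omegaGL Q := hH.1.le
  obtain ⟨K, hK, hKa, hHK⟩ : ∃ K : Subalgebra F (Matrix ι ι F),
      IsFieldSubalgebra 2 K ∧ IsAdjointClosedFor (polar Q) K ∧ Normalized H K := by
    have : s = 2 ∨ s = 5 := by
      have h := Nat.le_of_dvd (by norm_num) hdvd
      have := hs.two_le
      interval_cases s <;> first | omega | (norm_num at hdvd; done) | (norm_num at hs; done)
    rcases this with rfl | rfl
    · exact ⟨K₀, hK₀, hKa₀, hHK₀⟩
    · exact exists_quadratic_of_half hQ (r := 5) (by decide) (by norm_num) hι hHΩ hirr hK₀ hKa₀ hHK₀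
  refine ⟨K, hK, eq_inf_of_le hH (le_subalgebraNormalizer hHK)
    (omega_not_le_field hQ (by omega) one_lt_two hK), ?_⟩
  by_cases hsa : IsSelfAdjointFor (polar Q) K
  · refine Or.inl ⟨?_, hsa⟩
    by_contra hq
    have hsym := polar_symplectic hQ (two_eq_zero_of_not_odd hq)
    have := two_mul_dvd_of_alternating_field hsym hK hsa (selfAdjoint_alternating hsym hK hsa)
    rw [hι] at this
    omega
  obtain ⟨k, t, c, -, -, haniso, hsq, h1, h3, hsim⟩ := similitude_of_unitary (by omega) hQ hHΩ hirr hK hKa hsa hHK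
  exact Or.inr ⟨fun hp => absurd ((plus_iff_of_unitary hQ haniso hsq h1 h3 (m := 5) hι).1 hp) (by decide),
    hKa, hsa, hsim⟩

theorem odd_factors {t k : ℕ} (h : t * k = 10) (ht : 2 ≤ t) :
    (t = 10 ∧ k = 1) ∨ (t = 5 ∧ k = 2) ∨ (t = 2 ∧ k = 5) := by
  have := Nat.le_of_dvd (by norm_num : 0 < 10) ⟨k, h.symm⟩
  interval_cases t <;> omega

theorem even_factors {t k : ℕ} (h : t * k = 12) (ht : 2 ≤ t) :
    (t = 12 ∧ k = 1) ∨ (t = 6 ∧ k = 2) ∨ (t = 4 ∧ k = 3) ∨ (t = 3 ∧ k = 4) ∨ (t = 2 ∧ k = 6) := by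
  have := Nat.le_of_dvd (by norm_num : 0 < 12) ⟨k, h.symm⟩
  interval_cases t <;> omega

/-- The two non-degenerate halves in dimension twelve of plus type are isometric. -/
theorem halves_isometric (hQ : IsNondegenerateQuadraticForm Q) {D : Fin 2 → Submodule F (ι → F)}
    (hD : IsNondegenerateMDecomposition (polar Q) 6 D) (hp : OrthPair (quadOf hQ) (D 0) (D 1))
    (hsup : D 0 ⊔ D 1 = ⊤) (hplus : IsPlusTypeOn Q ⊤) : AreIsometricFor Q (D 0) (D 1) := by
  have heven : ∀ i, Even (Module.finrank F (D i)) := fun i => by rw [hD.decomp.finrank_eq]; decide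
  refine isometric_of_type (q := quadOf hQ) (k := 3) hp.1 hp.2.1 (hD.decomp.finrank_eq 0) (hD.decomp.finrank_eq 1)
    ⟨fun h0 => ?_, fun h1 => ?_⟩
  · by_contra h1
    exact not_plus_sup hp h0 h1 (heven 1) (hsup ▸ hplus)
  · by_contra h0
    exact not_plus_sup hp.symm h1 h0 (heven 0) ((sup_comm (D 1) (D 0)).trans hsup ▸ hplus)

/-- The decompositions into two five-spaces. -/
theorem fives_cases [Nonempty ι] (hQ : IsNondegenerateQuadraticForm Q) (hι : Fintype.card ι = 2 * 5)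
    {H : Subgroup (GL ι F)} (hH : IsMaximalIn (omegaGL Q) H) {D : Fin 2 → Submodule F (ι → F)}
    (hD : IsNondegenerateMDecomposition (polar Q) 5 D) (hle : H ≤ decompositionStabilizer D)
    (hp : OrthPair (quadOf hQ) (D 0) (D 1)) (hsup : D 0 ⊔ D 1 = ⊤) :
    H = decompositionStabilizer D ⊓ omegaGL Q ∧
      ((IsOrthogonalMDecomposition Q 5 D ∧
          ((IsPlusTypeOn Q ⊤ ∧ Fintype.card F % 4 = 1) ∨ (¬ IsPlusTypeOn Q ⊤ ∧ Fintype.card F % 4 = 3))) ∨
        (¬ AreIsometricFor Q (D 0) (D 1) ∧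
          ((IsPlusTypeOn Q ⊤ ∧ Fintype.card F % 4 = 3) ∨ (¬ IsPlusTypeOn Q ⊤ ∧ Fintype.card F % 4 = 1)))) := by
  have h2 : (2 : F) ≠ 0 := two_ne_zero_of_odd_nondegenerate hQ hp.1
    (show Odd (Module.finrank F (D 0)) by rw [hD.decomp.finrank_eq]; decide)
  obtain ⟨j, hj⟩ := odd_card_of_two_ne_zero h2
  refine ⟨decomposition_eq hQ (by omega) hH hD (by norm_num) (by norm_num) hle, ?_⟩
  by_cases hiso : AreIsometricFor Q (D 0) (D 1)
  · refine Or.inl ⟨isOrth_two hD hiso, ?_⟩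
    have h := plus_iff_of_odd_members hQ h2 (k := 1) (by norm_num) (by decide) (isOrth_two hD hiso)
    rw [FiniteField.isSquare_neg_one_iff, or_iff_right (by decide : ¬ Even 1)] at h
    by_cases hp : IsPlusTypeOn Q ⊤
    · have := h.1 hp
      exact Or.inl ⟨hp, by omega⟩
    · exact Or.inr ⟨hp, by by_contra h'; exact hp (h.2 h')⟩
  · refine Or.inr ⟨hiso, ?_⟩
    have h := plus_iff_of_nonisometric hQ h2 (by decide : Odd 5) hp hsup (hD.decomp.finrank_eq 0)
      (hD.decomp.finrank_eq 1) hiso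
    rw [FiniteField.isSquare_neg_one_iff, not_not] at h
    by_cases hp : IsPlusTypeOn Q ⊤
    · exact Or.inl ⟨hp, h.1 hp⟩
    · refine Or.inr ⟨hp, ?_⟩
      by_contra h'
      exact hp (h.2 (by omega))

theorem pair_of_two {k : ℕ} {D : Fin 2 → Submodule F (ι → F)} (hQ : IsNondegenerateQuadraticForm Q)
    (hD : IsNondegenerateMDecomposition (polar Q) k D) : OrthPair (quadOf hQ) (D 0) (D 1) ∧ D 0 ⊔ D 1 = ⊤ := by
  refine ⟨⟨hD.nondegenerate 0, hD.nondegenerate 1, hD.orthogonal 0 1 (by decide)⟩, ?_⟩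
  rw [eq_top_iff, ← hD.decomp.iSup_eq_top]
  refine iSup_le fun i => ?_
  fin_cases i
  · exact le_sup_left
  · exact le_sup_right

end CfsgLib.Geo.AschEven
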