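import Mathlib
import Cfsg.Prelude.Def_GeometricClasses
import Cfsg.Agent.Lib.Geo.AschForms
import Cfsg.Agent.Lib.Geo.FieldTransvection

/-! In SL_3(4) the normaliser of a cubic field subalgebra lies in a subfield group. -/

set_option autoImplicit false

namespace CfsgLib.Geo.Asch

open Cfsg Cfsg.Geo Matrix
open scoped MatrixGroups

variable {F : Type*} [Field F]

theorem field_le_subfield_four [Fintype F] (h4 : Fintype.card F = 4) {K : Subalgebra F (Matrix (Fin 3) (Fin 3) F)}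
    (hK : IsFieldSubalgebra 3 K) :
    ∃ (F₀ : Subfield F) (r : ℕ) (P : GL (Fin 3) F), r.Prime ∧ Fintype.card F = Nat.card F₀ ^ r ∧
      subalgebraNormalizer K ⊓ specialLinear (Fin 3) F ≤ subfieldSubgroup F₀ P := by
  classical
  haveI : Nonempty (Fin 3) := ⟨0⟩
  letI : Field K := FieldTransvection.fieldOf hK
  haveI : FiniteDimensional F K := Module.finite_of_finrank_pos (by rw [hK.finrank_eq]; norm_num)
  haveI : Finite K := Module.finite_of_finite F
  have hKcard : Nat.card K = 64 := by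
    rw [Module.natCard_eq_pow_finrank (K := F) (V := K), hK.finrank_eq, Nat.card_eq_fintype_card, h4]; norm_num
  haveI : CharP F 2 := by
    obtain ⟨p, hp⟩ := CharP.exists F
    haveI := hp
    obtain ⟨⟨e, he⟩, hpp, hq⟩ := FiniteField.card F p
    rw [h4] at hq
    simp only [PNat.mk_coe] at hq
    have : p ∣ 2 ^ 2 := by rw [show (2 : ℕ) ^ 2 = p ^ e from hq]; exact dvd_pow_self p (by omega)
    have := (Nat.prime_dvd_prime_iff_eq hpp Nat.prime_two).1 (hpp.dvd_of_dvd_pow this)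
    exact this ▸ hp
  haveI : CharP K 2 := charP_of_injective_algebraMap (algebraMap F K).injective 2
  have h20 : (2 : K) = 0 := CharTwo.two_eq_zero
  -- a cube root of unity in F and a seventh root of unity in K
  obtain ⟨a, ha⟩ : ∃ a : F, IsPrimitiveRoot a 3 := by
    haveI := Fact.mk (show Nat.Prime 3 by norm_num)
    obtain ⟨a, ha⟩ := exists_prime_orderOf_dvd_card' (G := Fˣ) 3 (by rw [Nat.card_units, Nat.card_eq_fintype_card, h4])
    exact ⟨a, by rw [← ha, ← orderOf_units]; exact IsPrimitiveRoot.orderOf _⟩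
  obtain ⟨ω, hω7, hω3⟩ : ∃ ω : K, IsPrimitiveRoot ω 7 ∧ ω ^ 3 = ω + 1 := by
    haveI := Fact.mk (show Nat.Prime 7 by norm_num)
    obtain ⟨u, hu⟩ := exists_prime_orderOf_dvd_card' (G := Kˣ) 7 (by rw [Nat.card_units, hKcard]; norm_num)
    have hprim : IsPrimitiveRoot (u : K) 7 := by rw [← hu, ← orderOf_units]; exact IsPrimitiveRoot.orderOf _
    have h7 : (u : K) ^ 7 = 1 := hprim.pow_eq_one
    have h : ((u : K) - 1) * (((u : K) ^ 3 + u + 1) * ((u : K) ^ 3 + (u : K) ^ 2 + 1)) = 0 := by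
      linear_combination h7 + (((u : K) ^ 3) * ((u : K) - 1)) * h20
    rcases mul_eq_zero.1 h with h1 | h1
    · exact absurd (sub_eq_zero.1 h1) (hprim.ne_one (by norm_num))
    rcases mul_eq_zero.1 h1 with h2 | h2
    · exact ⟨u, hprim, by linear_combination h2 - ((u : K) + 1) * h20⟩
    · exact ⟨(u : K) ^ 6, hprim.pow_of_coprime 6 (by norm_num), by
        linear_combination ((u : K) ^ 4) * h2 + ((u : K) ^ 11 + (u : K) ^ 4 - 1) * h7 - ((u : K) ^ 6 + 1) * h20⟩
  -- the rational subfield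
  let F₀ : Subfield F := RingHom.eqLocusField (frobenius F 2) (RingHom.id F)
  have hF₀ : ∀ x, x ∈ F₀ ↔ x = 0 ∨ x = 1 := fun x => by
    show x ^ 2 = x ↔ _
    rw [← sub_eq_zero, show x ^ 2 - x = x * (x - 1) by ring, mul_eq_zero, sub_eq_zero]
  have hF₀card : Fintype.card F = Nat.card F₀ ^ 2 := by
    have h1 : (F₀ : Set F) = {0, 1} := Set.ext fun x => by simp [hF₀]
    rw [← SetLike.coe_sort_coe, Nat.card_coe_set_eq, h1, Set.ncard_pair zero_ne_one, h4]
    norm_num
  -- powers of ω have rational coordinates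
  have hrat : ∀ m : ℕ, ∃ x : Fin 3 → F, (∀ i, x i ∈ F₀) ∧ ω ^ m = x 0 • 1 + x 1 • ω + x 2 • ω ^ 2 := by
    intro m
    induction m with
    | zero => exact ⟨![1, 0, 0], fun i => by fin_cases i <;> simp [hF₀], by simp⟩
    | succ m ih =>
      obtain ⟨x, hx, he⟩ := ih
      refine ⟨![x 2, x 0 + x 2, x 1], fun i => ?_, ?_⟩
      · fin_cases i
        exacts [hx 2, F₀.add_mem (hx 0) (hx 2), hx 1]
      · rw [pow_succ, he]
        simp only [Algebra.smul_def, Matrix.cons_val_zero, Matrix.cons_val_one, Matrix.cons_val_two, map_add,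
          Matrix.tail_cons, Matrix.head_cons]
        linear_combination (algebraMap F K (x 2)) * hω3
  obtain ⟨v, hv⟩ := exists_ne (0 : Fin 3 → F)
  let φ : K →ₗ[F] (Fin 3 → F) :=
    { toFun := fun k => (k : Matrix (Fin 3) (Fin 3) F) *ᵥ v
      map_add' := fun k l => by simp [Matrix.add_mulVec]
      map_smul' := fun c k => by simp [Matrix.smul_mulVec] }
  have hφinj : Function.Injective φ := by
    rw [injective_iff_map_eq_zero]
    intro k hk
    by_contra hk0
    obtain ⟨y, hy, hky⟩ := hK.inv _ k.2 (fun h => hk0 (Subtype.ext h))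
    rw [hK.comm _ k.2 _ hy] at hky
    apply hv
    rw [← Matrix.one_mulVec v, ← hky, ← Matrix.mulVec_mulVec, show (k : Matrix (Fin 3) (Fin 3) F) *ᵥ v = 0 from hk,
      Matrix.mulVec_zero]
  let φe : K ≃ₗ[F] (Fin 3 → F) := LinearEquiv.ofInjectiveOfFinrankEq φ hφinj (by rw [hK.finrank_eq, Module.finrank_fin_fun])
  have hφmul : ∀ k l : K, φe (k * l) = (k : Matrix (Fin 3) (Fin 3) F) *ᵥ φe l := fun k l => by
    show ((k * l : K) : Matrix (Fin 3) (Fin 3) F) *ᵥ v = (k : Matrix (Fin 3) (Fin 3) F) *ᵥ ((l : Matrix (Fin 3) (Fin 3) F) *ᵥ v)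
    rw [Matrix.mulVec_mulVec]; rfl
  have hωnot : ω ∉ (algebraMap F K).range := by
    rintro ⟨x, rfl⟩
    have hx7 : x ^ 7 = 1 := (algebraMap F K).injective (by rw [map_pow, hω7.pow_eq_one, map_one])
    have hx3 : x ^ 4 = x := by rw [← h4]; exact FiniteField.pow_card x
    have : x = 1 := by linear_combination hx7 - (x ^ 3 + 1) * hx3
    exact hω7.ne_one (by norm_num) (by rw [this, map_one])
  have hωint : IsIntegral F ω := IsIntegral.of_finite F ω
  have hdeg : (minpoly F ω).natDegree = 3 := by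
    have h1 := minpoly.degree_dvd hωint
    rw [hK.finrank_eq] at h1
    refine ((Nat.dvd_prime (by norm_num)).1 h1).resolve_left fun h => hωnot ?_
    exact minpoly.natDegree_eq_one_iff.1 h
  have hli0 : LinearIndependent F (fun i : Fin 3 => ω ^ (i : ℕ)) := by
    have := linearIndependent_pow (K := F) ω
    rwa [hdeg] at this
  let bK : Module.Basis (Fin 3) F K := basisOfLinearIndependentOfCardEqFinrank hli0 (by simp [hK.finrank_eq])
  let b : Module.Basis (Fin 3) F (Fin 3 → F) := bK.map φe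
  have hbK : ∀ i, bK i = ω ^ (i : ℕ) := fun i => by simp [bK]
  have hb : ∀ i, b i = φe (ω ^ (i : ℕ)) := fun i => by simp [b, hbK]
  have hcoord : ∀ (m : ℕ) (i : Fin 3), b.repr (φe (ω ^ m)) i ∈ F₀ := by
    intro m i
    obtain ⟨x, hx, he⟩ := hrat m
    have : b.repr (φe (ω ^ m)) i = x i := by
      have h1 : φe (ω ^ m) = ∑ j, x j • b j := by
        rw [Fin.sum_univ_three, hb, hb, hb, he]
        simp [map_add, map_smul]
      rw [h1, map_sum]
      simp [Finsupp.single_apply]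
    rw [this]; exact hx i
  let std := Pi.basisFun F (Fin 3)
  let P : GL (Fin 3) F := ⟨std.toMatrix b, b.toMatrix std, std.toMatrix_mul_toMatrix_flip b,
    b.toMatrix_mul_toMatrix_flip std⟩
  refine ⟨F₀, 2, P, Nat.prime_two, hF₀card, ?_⟩
  rintro g ⟨hgK, hgS⟩
  have hdet : (g : Matrix (Fin 3) (Fin 3) F).det = 1 := GeomClasses.mem_specialLinear.1 hgS
  -- the induced automorphism on ω
  let θ : ∀ k : K, K := fun k => ⟨conjHom g k, by rw [conjHom_apply]; exact (hgK k).1 k.2⟩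
  have hθpow : ∀ (k : K) (m : ℕ), θ (k ^ m) = θ k ^ m := fun k m => Subtype.ext (by simp [θ, map_pow])
  have hθω : θ ω ^ 3 = θ ω + 1 := by
    rw [← hθpow, hω3]
    exact Subtype.ext (by simp [θ, map_add, map_one])
  obtain ⟨s, hs⟩ : ∃ s : ℕ, θ ω = ω ^ s := by
    have h : (θ ω - ω) * ((θ ω - ω ^ 2) * (θ ω - ω ^ 4)) = 0 := by
      linear_combination hθω + (-ω * (θ ω) ^ 2 + (ω ^ 3 + ω ^ 2 + ω + 3) * θ ω - (ω ^ 4 + ω ^ 2 + ω + 1)) * hω3 +
        (-(ω ^ 2 + ω) * (θ ω) ^ 2 + (ω ^ 2 + 2 * ω + 2) * θ ω - (ω ^ 2 + ω)) * h20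
    rcases mul_eq_zero.1 h with h | h
    · exact ⟨1, by rw [pow_one]; exact sub_eq_zero.1 h⟩
    rcases mul_eq_zero.1 h with h | h
    exacts [⟨2, sub_eq_zero.1 h⟩, ⟨4, sub_eq_zero.1 h⟩]
  set c : K := φe.symm ((g : Matrix (Fin 3) (Fin 3) F) *ᵥ v) with hc
  have hgφ : ∀ k : K, (g : Matrix (Fin 3) (Fin 3) F) *ᵥ φe k = φe (θ k * c) := by
    intro k
    rw [hφmul, hc, φe.apply_symm_apply]
    show _ *ᵥ ((k : Matrix (Fin 3) (Fin 3) F) *ᵥ v) = conjHom g (k : Matrix (Fin 3) (Fin 3) F) *ᵥ _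
    rw [conjHom_apply, ← Matrix.mulVec_mulVec, GeomClasses.gl_inv_mulVec_mulVec, Matrix.mulVec_mulVec]
  have hmat : ∀ (M : Matrix (Fin 3) (Fin 3) F) (i j : Fin 3), (M * (P : Matrix (Fin 3) (Fin 3) F)) i j = (M *ᵥ b j) i :=
    fun M i j => rfl
  have hPmat : ∀ (Y : Matrix (Fin 3) (Fin 3) F) (i j : Fin 3), ((P : Matrix (Fin 3) (Fin 3) F) * Y) i j = (∑ q, Y q j • b q) i := by
    intro Y i j
    simp [Matrix.mul_apply, P, std, Module.Basis.toMatrix_apply, mul_comm]
  -- the determinant of c is one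
  have hc21 : c ^ 21 = 1 := by
    let X : Matrix (Fin 3) (Fin 3) F := Matrix.of fun i j => b.repr (φe (ω ^ (s * (j : ℕ)))) i
    have h1 : (g : Matrix (Fin 3) (Fin 3) F) * P = (c : Matrix (Fin 3) (Fin 3) F) * ((P : Matrix (Fin 3) (Fin 3) F) * X) := by
      ext i j
      rw [hmat, hb, hgφ, hθpow, hs, ← pow_mul, mul_comm _ c, hφmul]
      simp only [Matrix.mulVec, dotProduct, Matrix.mul_apply (M := (c : Matrix (Fin 3) (Fin 3) F)), hPmat]
      refine Finset.sum_congr rfl fun k _ => ?_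
      simp only [X, Matrix.of_apply, b.sum_repr]
    have h2 := congrArg Matrix.det h1
    rw [Matrix.det_mul, Matrix.det_mul, Matrix.det_mul, hdet, one_mul, ← mul_assoc, mul_comm _ (P : Matrix (Fin 3) (Fin 3) F).det,
      mul_assoc] at h2
    have hP0 : (P : Matrix (Fin 3) (Fin 3) F).det ≠ 0 := (Matrix.GeneralLinearGroup.det P).ne_zero
    have h3 : (c : Matrix (Fin 3) (Fin 3) F).det * X.det = 1 := (mul_eq_left₀ hP0).1 h2.symm
    obtain ⟨X₀, hX₀⟩ := rat_range_mem_iff.1 (show ∀ i j, X i j ∈ F₀ from fun i j => hcoord _ i)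
    have h4' : X.det ∈ F₀ := by
      rw [← hX₀, ← RingHom.map_det]
      exact (X₀.det).2
    rcases (hF₀ _).1 h4' with h5 | h5
    · rw [h5, mul_zero] at h3; exact absurd h3 zero_ne_one
    rw [h5, mul_one] at h3
    have h6 : Algebra.norm F c = 1 := by
      rw [← h3, Algebra.norm_apply, ← LinearMap.det_toLin', ← LinearMap.det_conj _ φe]
      congr 1
      refine LinearMap.ext fun w => ?_
      show φe (c * φe.symm w) = _
      rw [hφmul, φe.apply_symm_apply, Matrix.toLin'_apply]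
    have h7 := FiniteField.algebraMap_norm_eq_pow (K := F) (x := c)
    rw [h6, map_one, hKcard, Nat.card_eq_fintype_card, h4] at h7
    norm_num at h7
    exact h7.symm
  -- hence c is a scalar times a power of ω
  obtain ⟨i₀, -, hi₀⟩ := (ha.map_of_injective (algebraMap F K).injective).eq_pow_of_pow_eq_one (ξ := c ^ 7)
    (by rw [← pow_mul]; exact hc21)
  obtain ⟨j₀, -, hj₀⟩ := hω7.eq_pow_of_pow_eq_one (ξ := c ^ 15)
    (by rw [← pow_mul, show 15 * 7 = 21 * 5 by norm_num, pow_mul, hc21, one_pow])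
  have hceq : c = a ^ i₀ • ω ^ j₀ := by
    rw [Algebra.smul_def, map_pow, hi₀, hj₀, ← pow_add, show 7 + 15 = 21 + 1 by norm_num, pow_succ, hc21, one_mul]
  let Y : Matrix (Fin 3) (Fin 3) F := Matrix.of fun i j => b.repr (φe (ω ^ (s * (j : ℕ) + j₀))) i
  have hgY : (g : Matrix (Fin 3) (Fin 3) F) * P = a ^ i₀ • ((P : Matrix (Fin 3) (Fin 3) F) * Y) := by
    ext i j
    rw [hmat, hb, hgφ, hθpow, hs, ← pow_mul, hceq, mul_smul_comm, ← pow_add, map_smul, Matrix.smul_apply, hPmat,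
      Pi.smul_apply]
    simp only [Y, Matrix.of_apply, b.sum_repr]
  obtain ⟨Y₀, hY₀⟩ := rat_range_mem_iff.1 (show ∀ i j, Y i j ∈ F₀ from fun i j => hcoord _ i)
  have hY0 : Y₀.det ≠ 0 := by
    intro h0
    have h1 := congrArg Matrix.det hgY
    rw [Matrix.det_smul, Matrix.det_mul, Matrix.det_mul, hdet, one_mul, ← hY₀, ← RingHom.map_det, h0, map_zero,
      mul_zero, mul_zero] at h1
    exact (Matrix.GeneralLinearGroup.det P).ne_zero h1
  let Z : GL (Fin 3) F₀ := Matrix.GeneralLinearGroup.mkOfDetNeZero Y₀ hY0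
  let u : Fˣ := Units.mk0 (a ^ i₀) (pow_ne_zero _ (ha.ne_zero (by norm_num)))
  let S : GL (Fin 3) F := Units.map (Matrix.scalar (Fin 3) : F →+* Matrix (Fin 3) (Fin 3) F).toMonoidHom u
  refine Subgroup.mem_map.2 ⟨Matrix.GeneralLinearGroup.map (F₀.subtype : F₀ →+* F) Z * S,
    Subgroup.mul_mem _ (Subgroup.mem_sup_left ⟨Z, rfl⟩) (Subgroup.mem_sup_right ⟨u, rfl⟩), ?_⟩
  show P * _ * P⁻¹ = g
  rw [mul_inv_eq_iff_eq_mul]
  refine Units.ext ?_
  rw [Units.val_mul, Units.val_mul, Units.val_mul, hgY, ← mul_smul_comm]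
  congr 1
  show (F₀.subtype : F₀ →+* F).mapMatrix Y₀ * Matrix.scalar (Fin 3) (a ^ i₀) = _
  rw [hY₀, Matrix.scalar_apply, ← Matrix.smul_one_eq_diagonal, mul_smul_comm, mul_one]

end CfsgLib.Geo.Asch
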