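import Mathlib
import Cfsg.Prelude.Def_GeometricClasses
import Cfsg.Agent.Lib.Geo.AschPrime
import Cfsg.Agent.Lib.GeomClasses.Unit

/-! The special unitary group lies in no member of the classes (via transvections). -/

set_option autoImplicit false

namespace CfsgLib.Geo.Asch

open Cfsg Cfsg.Geo Matrix CfsgLib.GeomClasses
open scoped MatrixGroups

variable {ι : Type} [Fintype ι] [DecidableEq ι] {F : Type*} [Field F] [Fintype F] {σ : F ≃+* F}
  {f : (ι → F) → (ι → F) → F}

/-- The group contains all unitary transvections. -/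
def HasUTv (σ : F ≃+* F) (f : (ι → F) → (ι → F) → F) (Ω : Subgroup (GL ι F)) : Prop :=
  ∀ v c, f v v = 0 → c + σ c = 0 → formTv f v c ∈ Ω

omit [Fintype F] in
theorem formTv_fix (hf : IsUnitaryForm σ f) {u : ι → F} (hu : f u u = 0) (c : F) {z : ι → F} (hz : f z u = 0) :
    (formTv f u c : Matrix ι ι F) *ᵥ z = z ∧ (((formTv f u c)⁻¹ : GL ι F) : Matrix ι ι F) *ᵥ z = z := by
  have h1 : (formTv f u c : Matrix ι ι F) *ᵥ z = z := by
    rw [Unit.formTv_mulVec hf hu, hz, mul_zero, zero_smul, add_zero]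
  exact ⟨h1, by conv_lhs => rw [← h1, gl_inv_mulVec_mulVec]⟩

theorem utv_not_le_subspace (hf : IsUnitaryForm σ f) (hn : 2 ≤ Fintype.card ι) {Ω : Subgroup (GL ι F)}
    (hΩ : HasUTv σ f Ω) {W : Submodule F (ι → F)} (h1 : W ≠ ⊥) (h2 : W ≠ ⊤) : ¬ Ω ≤ subspaceStabilizer W := by
  intro hle
  obtain ⟨c, hc0, hc⟩ := Unit.exists_skew hf.ne_refl hf.involutive
  have hA : ∀ u, f u u = 0 → u ∈ W ∨ u ∈ Unit.perp hf W := by
    intro u hu
    rw [or_iff_not_imp_right, Unit.mem_perp' hf]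
    intro hne
    push Not at hne
    obtain ⟨w, hw, hwu⟩ := hne
    have h := mem_subspaceStabilizer.1 (hle (hΩ u c hu hc)) w hw
    rw [Unit.formTv_mulVec hf hu, W.add_mem_iff_right hw] at h
    have h3 := W.smul_mem (c * f w u)⁻¹ h
    rwa [smul_smul, inv_mul_cancel₀ (mul_ne_zero hc0 hwu), one_smul] at h3
  by_cases hall : ∀ u, f u u = 0 → u ∈ W
  · exact h2 (Unit.span_isotropic hf hn hall)
  push Not at hall
  obtain ⟨b, hb, hbW⟩ := hall
  have hbp := (hA b hb).resolve_left hbW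
  have hperp : Unit.perp hf W = ⊤ := by
    refine Unit.span_isotropic hf hn fun a ha => ?_
    rcases hA a ha with haW | hap
    swap
    · exact hap
    have hab : f b a = 0 := (Unit.mem_perp hf).1 hbp a haW
    have hsum : f (a + b) (a + b) = 0 := by
      rw [Unit.add_left hf, Unit.add_right hf, Unit.add_right hf, ha, hb, hab, Unit.eq_zero_comm hf hab]
      simp
    have h4 := (hA _ hsum).resolve_left (fun h => hbW ((W.add_mem_iff_right haW).1 h))
    exact ((Unit.perp hf W).add_mem_iff_left hbp).1 h4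
  have h5 := Unit.finrank_perp hf W
  rw [hperp, finrank_top, Module.finrank_fintype_fun_eq_card] at h5
  exact h1 (Submodule.finrank_eq_zero.1 (by omega))

theorem utv_not_le_decomposition (hf : IsUnitaryForm σ f) {Ω : Subgroup (GL ι F)}
    (hΩ : HasUTv σ f Ω) {t : ℕ} (ht : 4 ≤ t) {D : Fin t → Submodule F (ι → F)}
    (hD : IsNondegenerateMDecomposition f 1 D) : ¬ Ω ≤ decompositionStabilizer D := by
  intro hle
  have hex : ∀ i, ∃ v, v ∈ D i ∧ f v v = 1 := by
    intro i
    obtain ⟨w, hw0, hw⟩ := finrank_eq_one_iff'.1 (hD.decomp.finrank_eq i)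
    have hw0' : (w : ι → F) ≠ 0 := fun h => hw0 (Subtype.ext h)
    obtain ⟨x, hx, hxw⟩ := (hD.nondegenerate i w w.2 hw0').1
    obtain ⟨a, ha⟩ := hw ⟨x, hx⟩
    rw [← show a • (w : ι → F) = x from congrArg Subtype.val ha, Unit.smul_left hf] at hxw
    obtain ⟨l, hl⟩ := Unit.exists_norm hf.ne_refl hf.involutive
      (show σ (f (w : ι → F) w)⁻¹ = (f (w : ι → F) w)⁻¹ by rw [map_inv₀, Unit.self_fixed hf])
    refine ⟨l • (w : ι → F), (D i).smul_mem l w.2, ?_⟩
    rw [Unit.smul_left hf, Unit.smul_right hf, ← mul_assoc, hl, inv_mul_cancel₀ (right_ne_zero_of_mul hxw)]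
  choose v hv hv1 using hex
  have ho : ∀ i j, i ≠ j → f (v i) (v j) = 0 := fun i j h => hD.orthogonal i j h _ (hv i) _ (hv j)
  obtain ⟨a, ha⟩ := Unit.exists_norm hf.ne_refl hf.involutive (show σ (-1) = -1 by rw [map_neg, map_one])
  obtain ⟨c, hc0, hc⟩ := Unit.exists_skew hf.ne_refl hf.involutive
  let i0 : Fin t := ⟨0, by omega⟩
  let i1 : Fin t := ⟨1, by omega⟩
  let i2 : Fin t := ⟨2, by omega⟩
  let i3 : Fin t := ⟨3, by omega⟩
  have n01 : i0 ≠ i1 := by simp [i0, i1]
  have n02 : i0 ≠ i2 := by simp [i0, i2]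
  have n03 : i0 ≠ i3 := by simp [i0, i3]
  have n12 : i1 ≠ i2 := by simp [i1, i2]
  have n13 : i1 ≠ i3 := by simp [i1, i3]
  have n23 : i2 ≠ i3 := by simp [i2, i3]
  set u := v i0 + a • v i1 + v i2 + a • v i3 with hu
  have hpair : ∀ j, f u (v j) = f (v i0) (v j) + a * f (v i1) (v j) + f (v i2) (v j) + a * f (v i3) (v j) := fun j => by
    simp only [hu, Unit.add_left hf, Unit.smul_left hf]
  have h0 : f u (v i0) = 1 := by
    rw [hpair, hv1, ho _ _ n01.symm, ho _ _ n02.symm, ho _ _ n03.symm]; ring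
  have h1 : f u (v i1) = a := by
    rw [hpair, hv1, ho _ _ n01, ho _ _ n12.symm, ho _ _ n13.symm]; ring
  have h2 : f u (v i2) = 1 := by
    rw [hpair, hv1, ho _ _ n02, ho _ _ n12, ho _ _ n23.symm]; ring
  have h3 : f u (v i3) = a := by
    rw [hpair, hv1, ho _ _ n03, ho _ _ n13, ho _ _ n23]; ring
  have huu : f u u = 0 := by
    conv_lhs => arg 2; rw [hu]
    rw [Unit.add_right hf, Unit.add_right hf, Unit.add_right hf, Unit.smul_right hf, Unit.smul_right hf, h0, h1, h2, h3]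
    linear_combination 2 * ha
  obtain ⟨τ, hτ⟩ := hle (hΩ u c huu hc)
  have hmem : (formTv f u c : Matrix ι ι F) *ᵥ v i0 ∈ D (τ i0) := by
    rw [← hτ i0]; exact ⟨v i0, hv i0, Matrix.toLin'_apply _ _⟩
  have h0' : f (v i0) u = 1 := by rw [hf.herm, h0, map_one]
  rw [Unit.formTv_mulVec hf huu, h0', mul_one] at hmem
  have hk : ∀ j, j ≠ i0 → c * f u (v j) ≠ 0 → τ i0 = j := by
    intro j hj hne
    by_contra hne'
    have := hD.orthogonal _ _ hne' _ hmem _ (hv j)
    rw [Unit.add_left hf, Unit.smul_left hf, ho _ _ (Ne.symm hj), zero_add] at this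
    exact hne this
  have ha0 : a ≠ 0 := fun h => by simp [h] at ha
  exact n12 ((hk i1 n01.symm (by rw [h1]; exact mul_ne_zero hc0 ha0)).symm.trans
    (hk i2 n02.symm (by rw [h2, mul_one]; exact hc0)))

theorem utv_not_le_field [Nonempty ι] (hf : IsUnitaryForm σ f) (hn : 3 ≤ Fintype.card ι)
    {Ω : Subgroup (GL ι F)} (hΩ : HasUTv σ f Ω) {r : ℕ} (hr : 1 < r) {K : Subalgebra F (Matrix ι ι F)}
    (hK : IsFieldSubalgebra r K) : ¬ Ω ≤ subalgebraNormalizer K := by
  intro hle
  obtain ⟨u, hu0, hu⟩ := Unit.exists_isotropic hf (by omega)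
  obtain ⟨c, hc0, hc⟩ := Unit.exists_skew hf.ne_refl hf.involutive
  set t := formTv f u c with ht
  have hcomm : ∀ k ∈ K, (t : Matrix ι ι F) * k * ((t⁻¹ : GL ι F) : Matrix ι ι F) = k := by
    intro k hk
    have hθ := (hle (hΩ u c hu hc) k).1 hk
    let L : (ι → F) →ₗ[F] F × F :=
      { toFun := fun x => (f x u, f (k *ᵥ x) u)
        map_add' := fun x y => by simp [Matrix.mulVec_add, Unit.add_left hf]
        map_smul' := fun a x => by simp [Matrix.mulVec_smul, Unit.smul_left hf] }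
    obtain ⟨w, hw, hw0⟩ := (Submodule.ne_bot_iff _).1 (LinearMap.ker_ne_bot_of_finrank_lt (f := L) (by
      rw [Module.finrank_fintype_fun_eq_card, Module.finrank_prod, Module.finrank_self]; omega))
    have hw1 : f w u = 0 := congrArg Prod.fst hw
    have hw2 : f (k *ᵥ w) u = 0 := congrArg Prod.snd hw
    by_contra hne
    obtain ⟨y, hy, hyk⟩ := hK.inv _ (K.sub_mem hθ hk) (sub_ne_zero.2 hne)
    rw [hK.comm _ (K.sub_mem hθ hk) _ hy] at hyk
    apply hw0
    rw [← Matrix.one_mulVec w, ← hyk, ← Matrix.mulVec_mulVec, Matrix.sub_mulVec, ← Matrix.mulVec_mulVec,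
      ← Matrix.mulVec_mulVec, ← ht, (formTv_fix hf hu c hw1).2, (formTv_fix hf hu c hw2).1, sub_self,
      Matrix.mulVec_zero]
  obtain ⟨x, hx⟩ := (hf.nondegenerate u hu0).1
  have hall : ∀ k ∈ K, ∃ a : F, k = algebraMap F _ a := by
    intro k hk
    have h1 : (t : Matrix ι ι F) * k = k * t := by
      conv_rhs => rw [← hcomm k hk, Matrix.mul_assoc, ← Units.val_mul, inv_mul_cancel, Units.val_one, mul_one]
    have h2 := congrArg (fun M : Matrix ι ι F => M *ᵥ x) h1
    simp only [← Matrix.mulVec_mulVec, ht, Unit.formTv_mulVec hf hu, Matrix.mulVec_add, Matrix.mulVec_smul,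
      add_right_inj] at h2
    have hcx : c * f x u ≠ 0 := mul_ne_zero hc0 hx
    set a := (c * f x u)⁻¹ * (c * f (k *ᵥ x) u)
    have hku : (k - algebraMap F _ a) *ᵥ u = 0 := by
      rw [Matrix.sub_mulVec, Algebra.algebraMap_eq_smul_one, Matrix.smul_mulVec, Matrix.one_mulVec, sub_eq_zero,
        mul_smul, h2, smul_smul, inv_mul_cancel₀ hcx, one_smul]
    refine ⟨a, sub_eq_zero.1 ?_⟩
    by_contra hne
    obtain ⟨y, hy, hyk⟩ := hK.inv _ (K.sub_mem hk (K.algebraMap_mem a)) hne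
    rw [hK.comm _ (K.sub_mem hk (K.algebraMap_mem a)) _ hy] at hyk
    exact hu0 (by rw [← Matrix.one_mulVec u, ← hyk, ← Matrix.mulVec_mulVec, hku, Matrix.mulVec_zero])
  have hbot : K = ⊥ := le_antisymm (fun k hk => by
    obtain ⟨a, rfl⟩ := hall k hk
    exact Algebra.mem_bot.2 ⟨a, rfl⟩) bot_le
  have := hK.finrank_eq
  rw [hbot, Subalgebra.finrank_bot] at this
  omega

omit [DecidableEq ι] [Fintype F] in
theorem rank_one_rational (hn : 3 ≤ Fintype.card ι) {F₁ : Subfield F} {U φ : ι → F} {Y : ι → ι → F} {a : F}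
    (ha : a ≠ 0) (hY : ∀ i j, Y i j ∈ F₁) (hdiag : ∀ i, 1 + U i * φ i = a * Y i i)
    (hoff : ∀ i j, i ≠ j → U i * φ j = a * Y i j) : ∀ i j, U i * φ j ∈ F₁ := by
  classical
  have haF : a ∈ F₁ := by
    by_cases h : ∃ i, U i * φ i = 0
    · obtain ⟨i, hi⟩ := h
      have h1 := hdiag i
      rw [hi, add_zero] at h1
      rw [eq_inv_of_mul_eq_one_left h1.symm]
      exact F₁.inv_mem (hY i i)
    push Not at h
    obtain ⟨i, j, k, hij, hik, hjk⟩ := Fintype.two_lt_card_iff.1 (show 2 < Fintype.card ι by omega)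
    obtain ⟨hUk, hφj⟩ : U k ≠ 0 ∧ φ j ≠ 0 := ⟨left_ne_zero_of_mul (h k), right_ne_zero_of_mul (h j)⟩
    have hYkj : Y k j ≠ 0 := fun h0 => mul_ne_zero hUk hφj (by rw [hoff k j (Ne.symm hjk), h0, mul_zero])
    have hprod : U i * φ i = a * (Y i j * Y k i / Y k j) := by
      have e1 := hoff i j hij
      have e2 := hoff k i (Ne.symm hik)
      have e3 := hoff k j (Ne.symm hjk)
      rw [mul_div_assoc', eq_div_iff hYkj]
      apply mul_left_cancel₀ ha
      linear_combination (- U i * φ i) * e3 + (U k * φ i) * e1 + (a * Y i j) * e2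
    have h1 := hdiag i
    rw [hprod] at h1
    have h2 : a * (Y i i - Y i j * Y k i / Y k j) = 1 := by linear_combination -h1
    rw [eq_inv_of_mul_eq_one_left h2]
    exact F₁.inv_mem (F₁.sub_mem (hY i i) (F₁.div_mem (F₁.mul_mem (hY i j) (hY k i)) (hY k j)))
  intro i j
  by_cases hij : i = j
  · subst hij
    rw [show U i * φ i = a * Y i i - 1 by linear_combination hdiag i]
    exact F₁.sub_mem (F₁.mul_mem haF (hY i i)) F₁.one_mem
  · rw [hoff i j hij]
    exact F₁.mul_mem haF (hY i j)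

theorem utv_not_le_subfield (hf : IsUnitaryForm σ f) (hn : 3 ≤ Fintype.card ι)
    (he : ∀ i j : ι, f (Pi.single i 1) (Pi.single j 1) = if i = j then 1 else 0) {Ω : Subgroup (GL ι F)}
    (hΩ : HasUTv σ f Ω) {F₁ : Subfield F} (h1 : F₁ ≠ ⊤) (P : GL ι F) : ¬ Ω ≤ subfieldSubgroup F₁ P := by
  classical
  intro hle
  haveI := scalars_normal (ι := ι) (F := F)
  have hs := Unit.sesq hf
  let U : (ι → F) → ι → F := fun u => ((P⁻¹ : GL ι F) : Matrix ι ι F) *ᵥ u
  let ph : (ι → F) → ι → F := fun u => fVec f u ᵥ* (P : Matrix ι ι F)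
  have hrat : ∀ u c, f u u = 0 → c + σ c = 0 → ∀ i j, c * (U u i * ph u j) ∈ F₁ := by
    intro u c hu hc
    obtain ⟨y, hy, hyg⟩ := Subgroup.mem_map.1 (hle (hΩ u c hu hc))
    obtain ⟨_, ⟨X, rfl⟩, s, hs', rfl⟩ := Subgroup.mem_sup_of_normal_right.1 hy
    obtain ⟨a, ha⟩ := (mem_scalars_iff s).1 hs'
    have hval : ((P⁻¹ * formTv f u c * P : GL ι F) : Matrix ι ι F) = (a : F) • (F₁.subtype.mapMatrix (X : Matrix ι ι F₁)) := by
      rw [← hyg]
      show ((P⁻¹ * (P * (Matrix.GeneralLinearGroup.map (F₁.subtype : F₁ →+* F) X * s) * P⁻¹) * P : GL ι F) : Matrix ι ι F) = _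
      rw [show P⁻¹ * (P * (Matrix.GeneralLinearGroup.map (F₁.subtype : F₁ →+* F) X * s) * P⁻¹) * P =
        Matrix.GeneralLinearGroup.map (F₁.subtype : F₁ →+* F) X * s by group, Units.val_mul, ha,
        Matrix.mul_smul, mul_one]
      rfl
    have hval2 : ((P⁻¹ * formTv f u c * P : GL ι F) : Matrix ι ι F) = 1 + Matrix.vecMulVec (U u) (c • ph u) := by
      have hdot : (c • fVec f u) ⬝ᵥ u = 0 := by simp [hs.fVec_dot, hu]
      rw [Units.val_mul, Units.val_mul, formTv, tv_val hdot, Matrix.mul_add, Matrix.add_mul, mul_one, ← Units.val_mul,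
        inv_mul_cancel, Units.val_one, Matrix.mul_vecMulVec, Matrix.vecMulVec_mul, Matrix.smul_vecMul]
    have hent := fun i j => congrFun (congrFun (hval2.symm.trans hval) i) j
    simp only [Matrix.add_apply, Matrix.smul_apply, Matrix.vecMulVec_apply, Pi.smul_apply, smul_eq_mul,
      RingHom.mapMatrix_apply, Matrix.map_apply] at hent
    intro i j
    have := rank_one_rational hn (U := U u) (φ := c • ph u) (Y := fun i j => ((X : Matrix ι ι F₁) i j : F)) a.ne_zero
      (fun i j => SetLike.coe_mem _) (fun i => by simpa using hent i i)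
      (fun i j hij => by simpa [Matrix.one_apply_ne hij] using hent i j) i j
    rw [Pi.smul_apply, smul_eq_mul, mul_left_comm] at this
    exact this
  obtain ⟨c, hc0, hc⟩ := Unit.exists_skew hf.ne_refl hf.involutive
  -- fixed elements
  have hfixF : ∀ x, σ x = x → x ∈ F₁ := by
    intro x hx
    obtain ⟨u, hu0, hu⟩ := Unit.exists_isotropic hf (by omega)
    obtain ⟨i, hi⟩ : ∃ i, U u i ≠ 0 := Function.ne_iff.1 (gl_mulVec_ne_zero P⁻¹ hu0)
    obtain ⟨j, hj⟩ : ∃ j, ph u j ≠ 0 := by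
      refine Function.ne_iff.1 fun h0 => ?_
      apply hs.fVec_ne_zero hf.nondegenerate hu0
      have h0' : ph u = 0 := h0
      have := congrArg (fun z => z ᵥ* ((P⁻¹ : GL ι F) : Matrix ι ι F)) h0'
      simpa [ph, Matrix.vecMul_vecMul] using this
    have h2 := hrat u (x * c) hu (by rw [map_mul, hx]; linear_combination x * hc) i j
    have h3 := hrat u c hu hc i j
    have hne : c * (U u i * ph u j) ≠ 0 := mul_ne_zero hc0 (mul_ne_zero hi hj)
    rw [mul_assoc] at h2
    have := F₁.mul_mem h2 (F₁.inv_mem h3)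
    rwa [mul_assoc, mul_inv_cancel₀ hne, mul_one] at this
  have hF₁fix : ∀ y ∈ F₁, σ y = y := by
    intro y hy
    by_contra hne
    apply h1
    rw [eq_top_iff]
    intro z _
    have hd : y - σ y ≠ 0 := sub_ne_zero.2 (Ne.symm hne)
    set s' := (z - σ z) / (y - σ y) with hs'
    have hsfix : σ s' = s' := by
      rw [hs', map_div₀, map_sub, map_sub, hf.involutive, hf.involutive, ← neg_sub z, ← neg_sub y, neg_div_neg_eq]
    have hsy : σ (z - s' * y) = z - s' * y := by
      rw [map_sub, map_mul, hsfix]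
      have : s' * (y - σ y) = z - σ z := by rw [hs', div_mul_cancel₀ _ hd]
      linear_combination this
    have := F₁.add_mem (hfixF _ hsy) (F₁.mul_mem (hfixF _ hsfix) hy)
    rwa [sub_add_cancel] at this
  -- the trace of a product of three transvection parts
  have htri : ∀ u v w, f u u = 0 → f v v = 0 → f w w = 0 → c * c * c * (f v u * f w v * f u w) ∈ F₁ := by
    intro u v w hu hv hw
    have hdot : ∀ x y, ∑ j, ph x j * U y j = f y x := fun x y => by
      show (fVec f x ᵥ* (P : Matrix ι ι F)) ⬝ᵥ U y = _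
      rw [← Matrix.dotProduct_mulVec, gl_mulVec_inv_mulVec, hs.fVec_dot]
    rw [← hdot u v, ← hdot v w, ← hdot w u]
    simp only [Finset.mul_sum, Finset.sum_mul]
    refine F₁.sum_mem fun i _ => F₁.sum_mem fun k _ => F₁.sum_mem fun j _ => ?_
    have h := F₁.mul_mem (F₁.mul_mem (hrat u c hu hc i j) (hrat v c hv hc j k)) (hrat w c hw hc k i)
    convert h using 1
    ring
  obtain ⟨i, j, k, hij, hik, hjk⟩ := Fintype.two_lt_card_iff.1 (show 2 < Fintype.card ι by omega)
  obtain ⟨a, ha⟩ := Unit.exists_norm hf.ne_refl hf.involutive (show σ (-1) = -1 by rw [map_neg, map_one])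
  obtain ⟨z, hz⟩ := Unit.exists_moved hf.ne_refl
  have hz0 : z ≠ 0 := fun h => hz (by rw [h, map_zero])
  have hσz : σ z ≠ 0 := (map_ne_zero σ).2 hz0
  set η := z / σ z with hη
  have hηη : η * σ η = 1 := by rw [hη, map_div₀, hf.involutive]; field_simp
  have hη1 : η ≠ 1 := fun h => hz (by rw [hη, div_eq_one_iff_eq hσz] at h; exact h.symm)
  let e : ι → ι → F := fun i => Pi.single i 1
  have hee : ∀ i, f (e i) (e i) = 1 := fun i => by simp [e, he]
  have heo : ∀ i j, i ≠ j → f (e i) (e j) = 0 := fun i j h => by simp [e, he, h]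
  have hpp : ∀ (x y : F) (p p' : ι), p ≠ i → p' ≠ i →
      f (e i + x • e p) (e i + y • e p') = 1 + x * σ y * f (e p) (e p') := by
    intro x y p p' hp hp'
    simp only [Unit.add_left hf, Unit.add_right hf, Unit.smul_left hf, Unit.smul_right hf, hee i, heo p i hp,
      heo i p' (Ne.symm hp')]
    ring
  have hu : f (e i + a • e j) (e i + a • e j) = 0 := by
    rw [hpp _ _ _ _ hij.symm hij.symm, hee]; linear_combination ha
  have hv : f (e i + (a * η) • e j) (e i + (a * η) • e j) = 0 := by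
    rw [hpp _ _ _ _ hij.symm hij.symm, hee, map_mul]; linear_combination (η * σ η) * ha - hηη
  have hw : f (e i + a • e k) (e i + a • e k) = 0 := by
    rw [hpp _ _ _ _ hik.symm hik.symm, hee]; linear_combination ha
  have hX := hF₁fix _ (htri _ _ _ hu hv hw)
  have e1 : f (e i + (a * η) • e j) (e i + a • e j) = 1 - η := by
    rw [hpp _ _ _ _ hij.symm hij.symm, hee]; linear_combination η * ha
  have e2 : f (e i + a • e k) (e i + (a * η) • e j) = 1 := by
    rw [hpp _ _ _ _ hik.symm hij.symm, heo k j hjk.symm, mul_zero, add_zero]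
  have e3 : f (e i + a • e j) (e i + a • e k) = 1 := by
    rw [hpp _ _ _ _ hij.symm hik.symm, heo j k hjk, mul_zero, add_zero]
  rw [e1, e2, e3, mul_one, mul_one, map_mul, map_mul, map_mul, eq_neg_of_add_eq_zero_right hc, map_sub, map_one] at hX
  have h4 : c * c * c * ((2 : F) - η - σ η) = 0 := by linear_combination -hX
  have h5 : (2 : F) - η - σ η = 0 := (mul_eq_zero.1 h4).resolve_left (mul_ne_zero (mul_ne_zero hc0 hc0) hc0)
  have h6 : (η - 1) * (η - 1) = 0 := by linear_combination (-η) * h5 - hηη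
  exact hη1 (sub_eq_zero.1 (mul_self_eq_zero.1 h6))

theorem utv_not_le_normalizer {ℓ : ℕ} {f : (Fin ℓ → F) → (Fin ℓ → F) → F} (hf : IsUnitaryForm σ f)
    (h5 : 5 ≤ ℓ) {Ω : Subgroup (GL (Fin ℓ) F)} (hΩ : HasUTv σ f Ω) {N : Subgroup (GL (Fin ℓ) F)}
    (hN : PrimeType N) : ¬ Ω ≤ subgroupNormalizer N := by
  intro hle
  obtain ⟨u, hu0, hu⟩ := Unit.exists_isotropic hf (by simp; omega)
  obtain ⟨c, hc0, hc⟩ := Unit.exists_skew hf.ne_refl hf.involutive
  obtain ⟨x, hx, hxu⟩ : ∃ x ∈ N, (x : Matrix (Fin ℓ) (Fin ℓ) F) *ᵥ u ∉ Submodule.span F {u} := by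
    by_contra h
    push Not at h
    rcases irreducible_of_algOf_eq_top hN.span (Submodule.span F {u}) (by
      rintro _ ⟨g, hg, rfl⟩ _ ⟨v, hv, rfl⟩
      obtain ⟨a, rfl⟩ := Submodule.mem_span_singleton.1 hv
      rw [map_smul, Matrix.toLin'_apply]
      exact Submodule.smul_mem _ _ (h g hg)) with h' | h'
    · exact hu0 (by simpa using h')
    · have := finrank_span_singleton (K := F) hu0
      rw [h', finrank_top, Module.finrank_fin_fun] at this
      omega
  set t := formTv f u c with ht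
  set D := t * x * t⁻¹ * x⁻¹ with hD
  have hDN : D ∈ N := N.mul_mem ((Subgroup.mem_normalizer_iff.1 (hle (hΩ u c hu hc)) x).1 hx) (N.inv_mem hx)
  let L : (Fin ℓ → F) →ₗ[F] F × F :=
    { toFun := fun z => (f z u, f (((x⁻¹ : GL (Fin ℓ) F) : Matrix (Fin ℓ) (Fin ℓ) F) *ᵥ z) u)
      map_add' := fun a b => by simp [Matrix.mulVec_add, Unit.add_left hf]
      map_smul' := fun a b => by simp [Matrix.mulVec_smul, Unit.smul_left hf] }
  have hfix : LinearMap.ker L ≤ LinearMap.ker (Matrix.toLin' (D : Matrix (Fin ℓ) (Fin ℓ) F) - LinearMap.id) := by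
    intro z hz
    have h1 : f z u = 0 := congrArg Prod.fst hz
    have h2 : f (((x⁻¹ : GL (Fin ℓ) F) : Matrix (Fin ℓ) (Fin ℓ) F) *ᵥ z) u = 0 := congrArg Prod.snd hz
    rw [LinearMap.mem_ker, LinearMap.sub_apply, Matrix.toLin'_apply, LinearMap.id_apply, sub_eq_zero, hD,
      Units.val_mul, Units.val_mul, Units.val_mul, ← Matrix.mulVec_mulVec, ← Matrix.mulVec_mulVec,
      ← Matrix.mulVec_mulVec, ht, (formTv_fix hf hu c h2).2, gl_mulVec_inv_mulVec, (formTv_fix hf hu c h1).1]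
  have h6 := L.finrank_range_add_finrank_ker
  have h7 : Module.finrank F (LinearMap.range L) ≤ 2 :=
    (Submodule.finrank_le _).trans (by rw [Module.finrank_prod, Module.finrank_self])
  have h8 := Submodule.finrank_mono hfix
  rw [Module.finrank_fin_fun] at h6
  by_cases hDs : D ∈ scalars (Fin ℓ) F
  · obtain ⟨a, ha⟩ := (mem_scalars_iff D).1 hDs
    have hker : LinearMap.ker L ≠ ⊥ := fun h => by rw [h, finrank_bot] at h6; omega
    obtain ⟨z, hz, hz0⟩ := (Submodule.ne_bot_iff _).1 hker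
    have h9 := hfix hz
    rw [LinearMap.mem_ker, LinearMap.sub_apply, Matrix.toLin'_apply, LinearMap.id_apply, ha, Matrix.smul_mulVec,
      Matrix.one_mulVec, sub_eq_zero] at h9
    have ha1 : (a : F) = 1 := smul_left_injective F hz0 (h9.trans (one_smul F z).symm)
    have hD1 : D = 1 := Units.ext (by rw [ha, ha1, one_smul, Units.val_one])
    have hcomm : t * x = x * t := by
      rw [hD, mul_inv_eq_one, mul_inv_eq_iff_eq_mul] at hD1
      exact hD1
    apply hxu
    obtain ⟨y, hy⟩ := (hf.nondegenerate u hu0).1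
    have h10 := congrArg (fun g : GL (Fin ℓ) F => (g : Matrix (Fin ℓ) (Fin ℓ) F) *ᵥ y) hcomm
    simp only [Units.val_mul, ← Matrix.mulVec_mulVec, ht, Unit.formTv_mulVec hf hu, Matrix.mulVec_add,
      Matrix.mulVec_smul, add_right_inj] at h10
    refine Submodule.mem_span_singleton.2 ⟨(c * f y u)⁻¹ * (c * f ((x : Matrix (Fin ℓ) (Fin ℓ) F) *ᵥ y) u), ?_⟩
    rw [mul_smul, h10, smul_smul, inv_mul_cancel₀ (mul_ne_zero hc0 hy), one_smul]
  · have := hN.two_fix hDN hDs
    omega

end CfsgLib.Geo.Asch
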