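import Mathlib
import Cfsg.Prelude.Def_GeometricClasses
import Cfsg.Agent.Lib.Geo.AschFormSkew
import Cfsg.Agent.Lib.Geo.AschUnitProper

/-! Transvections lie in no class member. -/

set_option autoImplicit false
set_option linter.unusedSectionVars false

namespace CfsgLib.Geo.Asch

open Cfsg Cfsg.Geo Matrix CfsgLib.GeomClasses CfsgLib.Maximal.TensorTools
open scoped MatrixGroups

variable {ι : Type} [Fintype ι] [DecidableEq ι] {F : Type*} [Field F] [Fintype F]
  {σ : F ≃+* F} {ε : F} {f : (ι → F) → (ι → F) → F}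

theorem tv_fixes (hf : Herm σ ε f) {u : ι → F} (hu : f u u = 0) (c : F) {z : ι → F} (hz : f z u = 0) :
    (formTv f u c : Matrix ι ι F) *ᵥ z = z := by
  rw [hf.sesq.formTv_mulVec hu, hz, mul_zero, zero_smul, add_zero]

/-- A transvection stabilising a decomposition into members of dimension at least two fixes each member. -/
theorem tv_fix_block (hf : Herm σ ε f) {u : ι → F} (hu : f u u = 0) {c : F} {t m : ℕ}
    {D : Fin t → Submodule F (ι → F)} (hD : IsMDecomposition m D) (hm : 2 ≤ m)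
    (hg : formTv f u c ∈ decompositionStabilizer D) (i : Fin t) :
    formTv f u c ∈ subspaceStabilizer (D i) := by
  obtain ⟨τ, hτ⟩ := hg
  let L : (D i) →ₗ[F] F :=
    { toFun := fun x => f x u
      map_add' := fun x y => hf.add_left _ _ _
      map_smul' := fun a x => hf.smul_left _ _ _ }
  obtain ⟨x, hx, hx0⟩ := (Submodule.ne_bot_iff _).1 (LinearMap.ker_ne_bot_of_finrank_lt (f := L) (by
    rw [Module.finrank_self, hD.finrank_eq]; omega))
  have hxu : f (x : ι → F) u = 0 := hx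
  have hmem : (x : ι → F) ∈ D (τ i) := by
    rw [← hτ i]
    exact ⟨x, x.2, by rw [Matrix.toLin'_apply, tv_fixes hf hu c hxu]⟩
  have hi : τ i = i := by
    by_contra h
    exact hx0 (Subtype.ext (Submodule.disjoint_def.1 (hD.indep.pairwiseDisjoint (Ne.symm h)) _ x.2 hmem))
  refine GeomClasses.mem_subspaceStabilizer.2 fun v hv => ?_
  have := hτ i
  rw [hi] at this
  rw [← this]
  exact ⟨v, hv, Matrix.toLin'_apply _ _⟩

/-- A transvection normalises no field subalgebra. -/
theorem tv_not_normalizes [Nonempty ι] (hf : Herm σ ε f) (hn : 3 ≤ Fintype.card ι) {u : ι → F} (hu0 : u ≠ 0)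
    (hu : f u u = 0) {c : F} (hc0 : c ≠ 0) {r : ℕ} (hr : 1 < r) {K : Subalgebra F (Matrix ι ι F)}
    (hK : IsFieldSubalgebra r K) : formTv f u c ∉ subalgebraNormalizer K := by
  intro hle
  set t := formTv f u c with ht
  have hfixinv : ∀ z, f z u = 0 → ((t⁻¹ : GL ι F) : Matrix ι ι F) *ᵥ z = z := fun z hz => by
    conv_lhs => rw [← tv_fixes hf hu c hz, ← ht, gl_inv_mulVec_mulVec]
  have hcomm : ∀ k ∈ K, (t : Matrix ι ι F) * k * ((t⁻¹ : GL ι F) : Matrix ι ι F) = k := by
    intro k hk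
    have hθ := (hle k).1 hk
    let L : (ι → F) →ₗ[F] F × F :=
      { toFun := fun x => (f x u, f (k *ᵥ x) u)
        map_add' := fun x y => by simp [Matrix.mulVec_add, hf.add_left]
        map_smul' := fun a x => by simp [Matrix.mulVec_smul, hf.smul_left] }
    obtain ⟨w, hw, hw0⟩ := (Submodule.ne_bot_iff _).1 (LinearMap.ker_ne_bot_of_finrank_lt (f := L) (by
      rw [Module.finrank_fintype_fun_eq_card, Module.finrank_prod, Module.finrank_self]; omega))
    have hw1 : f w u = 0 := congrArg Prod.fst hw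
    have hw2 : f (k *ᵥ w) u = 0 := congrArg Prod.snd hw
    by_contra hne
    obtain ⟨y, hy, hyk⟩ := hK.inv _ (K.sub_mem hθ hk) (sub_ne_zero.2 hne)
    rw [hK.comm _ (K.sub_mem hθ hk) _ hy] at hyk
    apply hw0
    rw [← Matrix.one_mulVec w, ← hyk, ← Matrix.mulVec_mulVec, Matrix.sub_mulVec, ← Matrix.mulVec_mulVec,
      ← Matrix.mulVec_mulVec, hfixinv w hw1, show (t : Matrix ι ι F) *ᵥ (k *ᵥ w) = k *ᵥ w from tv_fixes hf hu c hw2,
      sub_self, Matrix.mulVec_zero]
  obtain ⟨x, hx⟩ := (hf.nondeg u hu0).1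
  have hall : ∀ k ∈ K, ∃ a : F, k = algebraMap F _ a := by
    intro k hk
    have h1 : (t : Matrix ι ι F) * k = k * t := by
      conv_rhs => rw [← hcomm k hk, Matrix.mul_assoc, ← Units.val_mul, inv_mul_cancel, Units.val_one, mul_one]
    have h2 := congrArg (fun M : Matrix ι ι F => M *ᵥ x) h1
    simp only [← Matrix.mulVec_mulVec, ht, hf.sesq.formTv_mulVec hu, Matrix.mulVec_add, Matrix.mulVec_smul,
      add_right_inj] at h2
    have hcx : c * f x u ≠ 0 := mul_ne_zero hc0 hx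
    set a := (c * f x u)⁻¹ * (c * f (k *ᵥ x) u)
    have hku : (k - algebraMap F _ a) *ᵥ u = 0 := by
      rw [Matrix.sub_mulVec, Algebra.algebraMap_eq_smul_one, Matrix.smul_mulVec, Matrix.one_mulVec, sub_eq_zero,
        mul_smul, h2, smul_smul, inv_mul_cancel₀ hcx, one_smul]
    refine ⟨a, sub_eq_zero.1 ?_⟩
    by_contra hne
    obtain ⟨y, hy, hyk⟩ := hK.inv _ (K.sub_mem hk (K.algebraMap_mem a)) hne
    rw [hK.comm _ (K.sub_mem hk (K.algebraMap_mem a)) _ hy] at hyk
    exact hu0 (by rw [← Matrix.one_mulVec u, ← hyk, ← Matrix.mulVec_mulVec, hku, Matrix.mulVec_zero])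
  have hbot : K = ⊥ := le_antisymm (fun k hk => by
    obtain ⟨a, rfl⟩ := hall k hk
    exact Algebra.mem_bot.2 ⟨a, rfl⟩) bot_le
  have := hK.finrank_eq
  rw [hbot, Subalgebra.finrank_bot] at this
  omega

theorem scalar_of_all_eigen {b : ℕ} {B : Matrix (Fin b) (Fin b) F} (h : ∀ y, ∃ r : F, B *ᵥ y = r • y) :
    ∃ r : F, ∀ y, B *ᵥ y = r • y := by
  rcases Nat.eq_zero_or_pos b with hb | hb
  · subst hb; exact ⟨0, fun y => funext fun i => i.elim0⟩
  choose r hr using fun j : Fin b => h (Pi.single j 1)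
  have hconst : ∀ j k, r j = r k := by
    intro j k
    by_cases hjk : j = k
    · rw [hjk]
    obtain ⟨s, hs⟩ := h (Pi.single j 1 + Pi.single k 1)
    rw [Matrix.mulVec_add, hr, hr] at hs
    have e1 := congrFun hs j
    have e2 := congrFun hs k
    simp [hjk, Ne.symm hjk] at e1 e2
    rw [e1, e2]
  refine ⟨r ⟨0, hb⟩, fun y => ?_⟩
  conv_lhs => rw [pi_eq_sum_univ' y, Matrix.mulVec_sum]
  conv_rhs => rw [pi_eq_sum_univ' y, Finset.smul_sum]
  exact Finset.sum_congr rfl fun j _ => by rw [Matrix.mulVec_smul, hr, hconst j ⟨0, hb⟩, smul_comm]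

/-- A transvection stabilises no tensor decomposition. -/
theorem tv_not_tensor (hf : Herm σ ε f) {u : ι → F} (hu0 : u ≠ 0) (hu : f u u = 0) {c : F} (hc0 : c ≠ 0)
    {a b : ℕ} (ha : 2 ≤ a) (hb : 2 ≤ b) (e : ι ≃ Fin a × Fin b) (P : GL ι F) :
    formTv f u c ∉ tensorProductSubgroup a b e P := by
  intro hg
  obtain ⟨A, B, hAB⟩ := exists_factors hg
  have hker : ∀ y : Fin b → F, ∃ x : Fin a → F, x ≠ 0 ∧ f (coord e P (CfsgLib.Maximal.TensorTools.pure x y)) u = 0 := by
    intro y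
    let L : (Fin a → F) →ₗ[F] F :=
      { toFun := fun x => f (coord e P (CfsgLib.Maximal.TensorTools.pure x y)) u
        map_add' := fun x x' => by rw [pure_add_left, map_add, hf.add_left]
        map_smul' := fun r x => by rw [pure_smul_left, map_smul, hf.smul_left]; rfl }
    obtain ⟨x, hx, hx0⟩ := (Submodule.ne_bot_iff _).1 (LinearMap.ker_ne_bot_of_finrank_lt (f := L) (by
      rw [Module.finrank_self, Module.finrank_fin_fun]; omega))
    exact ⟨x, hx0, hx⟩
  have hker' : ∀ x : Fin a → F, ∃ y : Fin b → F, y ≠ 0 ∧ f (coord e P (CfsgLib.Maximal.TensorTools.pure x y)) u = 0 := by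
    intro x
    let L : (Fin b → F) →ₗ[F] F :=
      { toFun := fun y => f (coord e P (CfsgLib.Maximal.TensorTools.pure x y)) u
        map_add' := fun y y' => by rw [pure_add_right, map_add, hf.add_left]
        map_smul' := fun r y => by rw [pure_smul_right, map_smul, hf.smul_left]; rfl }
    obtain ⟨y, hy, hy0⟩ := (Submodule.ne_bot_iff _).1 (LinearMap.ker_ne_bot_of_finrank_lt (f := L) (by
      rw [Module.finrank_self, Module.finrank_fin_fun]; omega))
    exact ⟨y, hy0, hy⟩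
  have heq : ∀ x y, f (coord e P (CfsgLib.Maximal.TensorTools.pure x y)) u = 0 →
      CfsgLib.Maximal.TensorTools.pure ((A : Matrix (Fin a) (Fin a) F) *ᵥ x) ((B : Matrix (Fin b) (Fin b) F) *ᵥ y) =
        CfsgLib.Maximal.TensorTools.pure x y := fun x y h =>
    (coord e P).injective (by rw [← hAB, tv_fixes hf hu c h])
  have hBe : ∀ y, ∃ r : F, (B : Matrix (Fin b) (Fin b) F) *ᵥ y = r • y := by
    intro y
    obtain ⟨x, hx0, hx⟩ := hker y
    obtain ⟨i, hi⟩ := Function.ne_iff.1 (gl_mulVec_ne_zero A hx0)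
    refine ⟨x i / ((A : Matrix (Fin a) (Fin a) F) *ᵥ x) i, funext fun j => ?_⟩
    have := congrFun (heq x y hx) (i, j)
    simp only [CfsgLib.Maximal.TensorTools.pure] at this
    rw [Pi.smul_apply, smul_eq_mul, div_mul_eq_mul_div, eq_div_iff hi, mul_comm]
    exact this
  have hAe : ∀ x, ∃ r : F, (A : Matrix (Fin a) (Fin a) F) *ᵥ x = r • x := by
    intro x
    obtain ⟨y, hy0, hy⟩ := hker' x
    obtain ⟨j, hj⟩ := Function.ne_iff.1 (gl_mulVec_ne_zero B hy0)
    refine ⟨y j / ((B : Matrix (Fin b) (Fin b) F) *ᵥ y) j, funext fun i => ?_⟩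
    have := congrFun (heq x y hy) (i, j)
    simp only [CfsgLib.Maximal.TensorTools.pure] at this
    rw [Pi.smul_apply, smul_eq_mul, div_mul_eq_mul_div, eq_div_iff hj, mul_comm (y j) (x i)]
    exact this
  obtain ⟨α, hα⟩ := scalar_of_all_eigen hAe
  obtain ⟨β, hβ⟩ := scalar_of_all_eigen hBe
  have hαβ : α * β = 1 := by
    let y : Fin b → F := fun _ => 1
    obtain ⟨x, hx0, hx⟩ := hker y
    obtain ⟨i, hi⟩ := Function.ne_iff.1 hx0
    have := congrFun (heq x y hx) (i, ⟨0, by omega⟩)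
    simp only [CfsgLib.Maximal.TensorTools.pure, hα, hβ, Pi.smul_apply, smul_eq_mul, y, mul_one] at this
    exact mul_right_cancel₀ (show x i ≠ 0 from hi) (by rw [one_mul]; linear_combination this)
  have hone : (formTv f u c : Matrix ι ι F) = 1 := ext_coord_pure e P fun x y => by
    rw [hAB, hα, hβ, pure_smul_left, pure_smul_right, smul_smul, hαβ, one_smul, Matrix.one_mulVec]
  obtain ⟨x, hx⟩ := (hf.nondeg u hu0).1
  have h := hf.sesq.formTv_mulVec hu c x
  rw [hone, Matrix.one_mulVec, left_eq_add, smul_eq_zero] at h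
  exact h.elim (mul_ne_zero hc0 hx) hu0

/-! ### The symplectic group -/

/-- The group contains all symplectic transvections. -/
def HasSTv (f : (ι → F) → (ι → F) → F) (Ω : Subgroup (GL ι F)) : Prop := ∀ v c, formTv f v c ∈ Ω

theorem stv_not_le_subspace (hf : IsSymplecticForm f) {Ω : Subgroup (GL ι F)} (hΩ : HasSTv f Ω)
    {W : Submodule F (ι → F)} (h1 : W ≠ ⊥) (h2 : W ≠ ⊤) : ¬ Ω ≤ subspaceStabilizer W := by
  intro hle
  obtain ⟨w, hw, hw0⟩ := (Submodule.ne_bot_iff W).1 h1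
  obtain ⟨v₀, hv₀⟩ : ∃ v₀, v₀ ∉ W := by
    by_contra h
    push Not at h
    exact h2 (Submodule.eq_top_iff'.2 h)
  obtain ⟨v₁, hv₁⟩ := (hf.nondegenerate w hw0).2
  obtain ⟨v, hvW, hwv⟩ : ∃ v, v ∉ W ∧ f w v ≠ 0 := by
    by_cases h : f w v₀ = 0
    · by_cases h' : v₁ ∈ W
      · exact ⟨v₀ + v₁, fun hc => hv₀ ((W.add_mem_iff_left h').1 hc), by rw [Symp.add_right hf, h, zero_add]; exact hv₁⟩
      · exact ⟨v₁, h', hv₁⟩
    · exact ⟨v₀, hv₀, h⟩
  have hmem := GeomClasses.mem_subspaceStabilizer.1 (hle (hΩ v 1)) w hw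
  rw [Symp.formTv_mulVec hf, W.add_mem_iff_right hw, one_mul] at hmem
  have := W.smul_mem (f w v)⁻¹ hmem
  rw [smul_smul, inv_mul_cancel₀ hwv, one_smul] at this
  exact hvW this

theorem stv_not_le_decomposition (hf : IsSymplecticForm f) {Ω : Subgroup (GL ι F)}
    (hΩ : HasSTv f Ω) {t m : ℕ} {D : Fin t → Submodule F (ι → F)} (hD : IsMDecomposition m D) (hm : 2 ≤ m) :
    ¬ Ω ≤ decompositionStabilizer D := by
  intro hle
  let i : Fin t := ⟨0, lt_of_lt_of_le two_pos hD.two_le⟩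
  refine stv_not_le_subspace hf (Ω := Ω ⊓ subspaceStabilizer (D i)) (W := D i)
    (fun v c => ⟨hΩ v c, tv_fix_block (herm_symplectic hf) (hf.alternating v) hD hm (hle (hΩ v c)) i⟩) ?_ ?_
    inf_le_right
  · intro h; have := hD.finrank_eq i; rw [h, finrank_bot] at this; omega
  · intro h
    let j : Fin t := ⟨1, hD.two_le⟩
    have hd := hD.indep.pairwiseDisjoint (show i ≠ j by simp [i, j])
    rw [Function.onFun, h, top_disjoint] at hd
    have := hD.finrank_eq j
    rw [hd, finrank_bot] at this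
    omega

theorem stv_not_le_field [Nonempty ι] (hf : IsSymplecticForm f) (hn : 3 ≤ Fintype.card ι) {Ω : Subgroup (GL ι F)}
    (hΩ : HasSTv f Ω) {r : ℕ} (hr : 1 < r) {K : Subalgebra F (Matrix ι ι F)} (hK : IsFieldSubalgebra r K) :
    ¬ Ω ≤ subalgebraNormalizer K := fun hle => by
  obtain ⟨u, hu⟩ := exists_ne (0 : ι → F)
  exact tv_not_normalizes (herm_symplectic hf) hn hu (hf.alternating u) one_ne_zero hr hK (hle (hΩ u 1))

theorem stv_not_le_tensor [Nonempty ι] (hf : IsSymplecticForm f) {Ω : Subgroup (GL ι F)} (hΩ : HasSTv f Ω)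
    {a b : ℕ} (ha : 2 ≤ a) (hb : 2 ≤ b) (e : ι ≃ Fin a × Fin b) (P : GL ι F) :
    ¬ Ω ≤ tensorProductSubgroup a b e P := fun hle => by
  obtain ⟨u, hu⟩ := exists_ne (0 : ι → F)
  exact tv_not_tensor (herm_symplectic hf) hu (hf.alternating u) one_ne_zero ha hb e P (hle (hΩ u 1))

theorem stv_not_le_subfield [Nonempty ι] (hf : IsSymplecticForm f) (hn : 3 ≤ Fintype.card ι)
    {Ω : Subgroup (GL ι F)} (hΩ : HasSTv f Ω) {F₁ : Subfield F} (h1 : F₁ ≠ ⊤) (P : GL ι F) :
    ¬ Ω ≤ subfieldSubgroup F₁ P := by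
  classical
  intro hle
  haveI := scalars_normal (ι := ι) (F := F)
  have hs := symplectic_isSesq hf
  obtain ⟨u, hu0⟩ := exists_ne (0 : ι → F)
  have hu := hf.alternating u
  set U : ι → F := ((P⁻¹ : GL ι F) : Matrix ι ι F) *ᵥ u
  set ph : ι → F := fVec f u ᵥ* (P : Matrix ι ι F)
  obtain ⟨i, hi⟩ : ∃ i, U i ≠ 0 := Function.ne_iff.1 (gl_mulVec_ne_zero P⁻¹ hu0)
  obtain ⟨j, hj⟩ : ∃ j, ph j ≠ 0 := by
    refine Function.ne_iff.1 fun h0 => ?_
    apply hs.fVec_ne_zero hf.nondegenerate hu0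
    have h0' : ph = 0 := h0
    have := congrArg (fun z => z ᵥ* ((P⁻¹ : GL ι F) : Matrix ι ι F)) h0'
    simpa [ph, Matrix.vecMul_vecMul] using this
  have hrat : ∀ c : F, c * (U i * ph j) ∈ F₁ := by
    intro c
    obtain ⟨y, hy, hyg⟩ := Subgroup.mem_map.1 (hle (hΩ u c))
    obtain ⟨_, ⟨X, rfl⟩, s, hs', rfl⟩ := Subgroup.mem_sup_of_normal_right.1 hy
    obtain ⟨a, ha⟩ := (mem_scalars_iff s).1 hs'
    have hval : ((P⁻¹ * formTv f u c * P : GL ι F) : Matrix ι ι F) = (a : F) • (F₁.subtype.mapMatrix (X : Matrix ι ι F₁)) := by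
      rw [← hyg]
      show ((P⁻¹ * (P * (Matrix.GeneralLinearGroup.map (F₁.subtype : F₁ →+* F) X * s) * P⁻¹) * P : GL ι F) : Matrix ι ι F) = _
      rw [show P⁻¹ * (P * (Matrix.GeneralLinearGroup.map (F₁.subtype : F₁ →+* F) X * s) * P⁻¹) * P =
        Matrix.GeneralLinearGroup.map (F₁.subtype : F₁ →+* F) X * s by group, Units.val_mul, ha,
        Matrix.mul_smul, mul_one]
      rfl
    have hval2 : ((P⁻¹ * formTv f u c * P : GL ι F) : Matrix ι ι F) = 1 + Matrix.vecMulVec U (c • ph) := by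
      have hdot : (c • fVec f u) ⬝ᵥ u = 0 := by simp [hs.fVec_dot, hu]
      rw [Units.val_mul, Units.val_mul, formTv, tv_val hdot, Matrix.mul_add, Matrix.add_mul, mul_one, ← Units.val_mul,
        inv_mul_cancel, Units.val_one, Matrix.mul_vecMulVec, Matrix.vecMulVec_mul, Matrix.smul_vecMul]
    have hent := fun i j => congrFun (congrFun (hval2.symm.trans hval) i) j
    simp only [Matrix.add_apply, Matrix.smul_apply, Matrix.vecMulVec_apply, Pi.smul_apply, smul_eq_mul,
      RingHom.mapMatrix_apply, Matrix.map_apply] at hent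
    have := rank_one_rational hn (U := U) (φ := c • ph) (Y := fun i j => ((X : Matrix ι ι F₁) i j : F)) a.ne_zero
      (fun i j => SetLike.coe_mem _) (fun i => by simpa using hent i i)
      (fun i j hij => by simpa [Matrix.one_apply_ne hij] using hent i j) i j
    rw [Pi.smul_apply, smul_eq_mul, mul_left_comm] at this
    exact this
  apply h1
  rw [eq_top_iff]
  intro z _
  have hne : U i * ph j ≠ 0 := mul_ne_zero hi hj
  have := hrat (z / (U i * ph j))
  rwa [div_mul_cancel₀ _ hne] at this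

theorem stv_not_le_quad (hf : IsSymplecticForm f) (hn : 3 ≤ Fintype.card ι) {Ω : Subgroup (GL ι F)}
    (hΩ : HasSTv f Ω) (h2 : (2 : F) = 0) {Q : (ι → F) → F} (hQ : IsNondegenerateQuadraticForm Q)
    (hpol : ∀ u v, QuadraticMap.polar Q u v = f u v) : ¬ Ω ≤ quadSimilarityGroup Q := by
  intro hle
  have hadd : ∀ x y, Q (x + y) = Q x + Q y + f x y := fun x y => by
    rw [← hpol x y, QuadraticMap.polar]; ring
  have hall : ∀ v c, c * (c * Q v + 1) = 0 ∨ v = 0 := by
    intro v c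
    refine or_iff_not_imp_right.2 fun hv => ?_
    obtain ⟨x, hx⟩ := (hf.nondegenerate v hv).1
    obtain ⟨lam, hlam⟩ := hle (hΩ v c)
    have hl1 : (lam : F) = 1 := by
      refine mul_right_cancel₀ hx ?_
      have h := hpol ((formTv f v c : Matrix ι ι F) *ᵥ x) ((formTv f v c : Matrix ι ι F) *ᵥ v)
      rw [show f ((formTv f v c : Matrix ι ι F) *ᵥ x) ((formTv f v c : Matrix ι ι F) *ᵥ v) = f x v from
        Symp.formTv_isometry hf v c x v, polar_mulVec, hlam, hlam, hlam, ← hpol x v] at h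
      rw [one_mul, ← hpol]
      rw [QuadraticMap.polar] at h ⊢
      linear_combination h
    have h1 := hlam x
    rw [Symp.formTv_mulVec hf, hl1, one_mul, hadd, hQ.smul, Symp.smul_right hf] at h1
    have h3 : (f x v) ^ 2 * (c * (c * Q v + 1)) = 0 := by linear_combination h1
    exact (mul_eq_zero.1 h3).resolve_left (pow_ne_zero _ hx)
  have hQ1 : ∀ v : ι → F, v ≠ 0 → Q v = 1 := fun v hv => by
    have := (hall v 1).resolve_right hv
    linear_combination this + (-1 : F) * h2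
  obtain ⟨i, j, k, hij, hik, hjk⟩ := Fintype.two_lt_card_iff.1 (show 2 < Fintype.card ι by omega)
  let x : ι → F := Pi.single i 1
  let y : ι → F := Pi.single j 1
  let z : ι → F := Pi.single k 1
  have hne : ∀ (p : ι → F) l, p l ≠ 0 → p ≠ 0 := fun p l h h' => h (congrFun h' l)
  have hxy : f x y = 1 := by
    have := hadd x y
    rw [hQ1 (x + y) (hne _ i (by simp [x, y, hij])), hQ1 x (hne _ i (by simp [x])),
      hQ1 y (hne _ j (by simp [y]))] at this
    linear_combination -this + (-1 : F) * h2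
  have hxz : f x z = 1 := by
    have := hadd x z
    rw [hQ1 (x + z) (hne _ i (by simp [x, z, hik])), hQ1 x (hne _ i (by simp [x])),
      hQ1 z (hne _ k (by simp [z]))] at this
    linear_combination -this + (-1 : F) * h2
  have hxyz : f x (y + z) = 1 := by
    have := hadd x (y + z)
    rw [hQ1 (x + (y + z)) (hne _ i (by simp [x, y, z, hij, hik])), hQ1 x (hne _ i (by simp [x])),
      hQ1 (y + z) (hne _ j (by simp [y, z, hjk]))] at this
    linear_combination -this + (-1 : F) * h2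
  rw [Symp.add_right hf, hxy, hxz, one_add_one_eq_two, h2] at hxyz
  exact zero_ne_one hxyz

/-! ### The special unitary group -/

theorem utv_not_le_decomposition_large (hf : IsUnitaryForm σ f) (hn : 2 ≤ Fintype.card ι) {Ω : Subgroup (GL ι F)}
    (hΩ : HasUTv σ f Ω) {t m : ℕ} {D : Fin t → Submodule F (ι → F)} (hD : IsMDecomposition m D) (hm : 2 ≤ m) :
    ¬ Ω ≤ decompositionStabilizer D := by
  intro hle
  let i : Fin t := ⟨0, lt_of_lt_of_le two_pos hD.two_le⟩
  refine utv_not_le_subspace hf hn (Ω := Ω ⊓ subspaceStabilizer (D i)) (W := D i)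
    (fun v c hv hc => ⟨hΩ v c hv hc, tv_fix_block (herm_unitary hf) hv hD hm (hle (hΩ v c hv hc)) i⟩) ?_ ?_
    inf_le_right
  · intro h; have := hD.finrank_eq i; rw [h, finrank_bot] at this; omega
  · intro h
    let j : Fin t := ⟨1, hD.two_le⟩
    have hd := hD.indep.pairwiseDisjoint (show i ≠ j by simp [i, j])
    rw [Function.onFun, h, top_disjoint] at hd
    have := hD.finrank_eq j
    rw [hd, finrank_bot] at this
    omega

theorem utv_not_le_tensor (hf : IsUnitaryForm σ f) (hn : 2 ≤ Fintype.card ι) {Ω : Subgroup (GL ι F)}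
    (hΩ : HasUTv σ f Ω) {a b : ℕ} (ha : 2 ≤ a) (hb : 2 ≤ b) (e : ι ≃ Fin a × Fin b) (P : GL ι F) :
    ¬ Ω ≤ tensorProductSubgroup a b e P := fun hle => by
  obtain ⟨u, hu0, hu⟩ := Unit.exists_isotropic hf hn
  obtain ⟨c, hc0, hc⟩ := Unit.exists_skew hf.ne_refl hf.involutive
  exact tv_not_tensor (herm_unitary hf) hu0 hu hc0 ha hb e P (hle (hΩ u c hu hc))

end CfsgLib.Geo.Asch
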