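import Mathlib
import Cfsg.Prelude.Def_GeometricClasses
import Cfsg.Agent.Lib.Geo.AschGroup

/-! Absolutely irreducible groups of class two: structure, monomial bases and invariant forms. -/

set_option autoImplicit false
set_option linter.unusedSectionVars false

namespace CfsgLib.Geo.Asch

open Cfsg Cfsg.Geo Matrix
open scoped MatrixGroups

variable {ι : Type} [Fintype ι] [DecidableEq ι] {F : Type*} [Field F]

/-- An absolutely irreducible group of symplectic type for the prime r, of exponent r · gcd(2, r). -/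
structure TypeR (r m : ℕ) (N : Subgroup (GL ι F)) : Prop where
  prime : r.Prime
  deg : Fintype.card ι = r ^ m
  three : 3 ≤ Fintype.card ι
  span : algOf N = ⊤
  cls : ∀ x ∈ N, ∀ y ∈ N, x * y * x⁻¹ * y⁻¹ ∈ scalars ι F
  pow_mem : ∀ x ∈ N, x ^ r ∈ scalars ι F
  exp : ∀ x ∈ N, x ^ (r * Nat.gcd 2 r) = 1

theorem comm_scalar_pow {N : Subgroup (GL ι F)} {r : ℕ}
    (hcl : ∀ x ∈ N, ∀ y ∈ N, x * y * x⁻¹ * y⁻¹ ∈ scalars ι F) (hr : ∀ x ∈ N, x ^ r ∈ scalars ι F)
    {x y : GL ι F} (hx : x ∈ N) (hy : y ∈ N) : (x * y * x⁻¹ * y⁻¹) ^ r = 1 := by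
  set c := x * y * x⁻¹ * y⁻¹ with hc
  have hcc : Commute c y := scalars_comm (hcl x hx y hy) y
  have h1 : (x * y * x⁻¹) ^ r = c ^ r * y ^ r := by
    rw [← hcc.mul_pow, hc]
    group
  rw [conj_pow, ← scalars_comm (hr y hy) x, mul_assoc, mul_inv_cancel, mul_one] at h1
  exact mul_eq_right.1 h1.symm

theorem mul_pow_of_central {G : Type*} [Group G] {x y c : G} (hc : y * x = c * x * y) (hcen : ∀ g, Commute c g) :
    ∀ k : ℕ, (x * y) ^ k = c ^ k.choose 2 * x ^ k * y ^ k := by
  have hyx : ∀ k : ℕ, y ^ k * x = c ^ k * x * y ^ k := by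
    intro k
    induction k with
    | zero => simp
    | succ k ih =>
      calc y ^ (k + 1) * x = y ^ k * (c * x * y) := by rw [pow_succ, mul_assoc, hc]
        _ = c * (y ^ k * x) * y := by rw [mul_assoc c x y, ← mul_assoc, ← (hcen (y ^ k)).eq]; group
        _ = c ^ (k + 1) * x * y ^ (k + 1) := by rw [ih, pow_succ', pow_succ]; group
  intro k
  induction k with
  | zero => simp
  | succ k ih =>
    calc (x * y) ^ (k + 1) = c ^ k.choose 2 * x ^ k * (y ^ k * x) * y := by rw [pow_succ, ih]; group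
      _ = c ^ k.choose 2 * (x ^ k * c ^ k) * x * y ^ k * y := by rw [hyx]; group
      _ = c ^ k.choose 2 * (c ^ k * x ^ k) * x * y ^ k * y := by rw [((hcen (x ^ k)).pow_left k).eq]
      _ = c ^ (k + 1).choose 2 * x ^ (k + 1) * y ^ (k + 1) := by
          rw [Nat.choose_succ_succ, Nat.choose_one_right, add_comm, pow_add, pow_succ, pow_succ]; group

theorem exponent_choose {r : ℕ} (hr : r.Prime) : r ∣ (r * Nat.gcd 2 r).choose 2 := by
  rcases hr.eq_two_or_odd' with rfl | ho
  · decide
  · rw [Nat.coprime_two_left.2 ho, mul_one]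
    exact hr.dvd_choose_self two_ne_zero (by have := hr.two_le; rcases ho with ⟨k, rfl⟩; omega)

/-- A minimal class two spanning normal subgroup is of symplectic type. -/
theorem exists_typeR [Fintype F] [Nonempty ι] (hn : 3 ≤ Fintype.card ι) {H N : Subgroup (GL ι F)}
    (hinv : ∀ g ∈ H, ∀ x ∈ N, g * x * g⁻¹ ∈ N) (hspan : algOf N = ⊤)
    (hcl : ∀ x ∈ N, ∀ y ∈ N, x * y * x⁻¹ * y⁻¹ ∈ scalars ι F)
    (hmin : ∀ K : Subgroup (GL ι F), K ≤ N → (∀ g ∈ H, ∀ x ∈ K, g * x * g⁻¹ ∈ K) → ¬ K ≤ scalars ι F → K = N) :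
    ∃ r m : ℕ, 0 < m ∧ TypeR r m N := by
  classical
  haveI := scalars_normal (ι := ι) (F := F)
  obtain ⟨r, m, hr, hm, hrm⟩ := (isPrimePow_nat_iff _).1 (isPrimePow_of_minimal (by omega) hinv hspan hcl hmin)
  haveI : Fact r.Prime := ⟨hr⟩
  have hcard := card_quotient_eq_sq hspan hcl
  let Z : Subgroup N := (scalars ι F).subgroupOf N
  let π : N →* N ⧸ Z := QuotientGroup.mk' Z
  have hπ : ∀ x : N, π x = 1 ↔ (x : GL ι F) ∈ scalars ι F := fun x => by
    rw [QuotientGroup.mk'_apply, QuotientGroup.eq_one_iff, Subgroup.mem_subgroupOf]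
  have hQcomm : ∀ x y : N, Commute (π x) (π y) := fun x y => by
    rw [← commutatorElement_eq_one_iff_commute, ← map_commutatorElement, hπ, commutatorElement_def]
    exact hcl x x.2 y y.2
  let K : Subgroup N :=
    { carrier := {x | π x ^ r = 1}
      one_mem' := by simp
      mul_mem' := fun {a b} ha hb => by
        simp only [Set.mem_setOf_eq] at ha hb ⊢
        rw [map_mul, (hQcomm a b).mul_pow, ha, hb, one_mul]
      inv_mem' := fun {a} ha => by
        simp only [Set.mem_setOf_eq] at ha ⊢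
        rw [map_inv, inv_pow, ha, inv_one] }
  have hKmem : ∀ x : N, x ∈ K ↔ ((x : GL ι F)) ^ r ∈ scalars ι F := fun x => by
    show π x ^ r = 1 ↔ _
    rw [← map_pow, hπ, Subgroup.coe_pow]
  have hKN : K.map N.subtype = N := by
    refine hmin _ (Subgroup.map_subtype_le K) ?_ ?_
    · rintro g hg _ ⟨x, hx, rfl⟩
      refine ⟨⟨g * x * g⁻¹, hinv g hg _ x.2⟩, (hKmem _).2 ?_, rfl⟩
      show (g * (x : GL ι F) * g⁻¹) ^ r ∈ _
      rw [conj_pow]
      exact (scalars_normal (ι := ι) (F := F)).conj_mem _ ((hKmem x).1 hx) g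
    · obtain ⟨a, ha⟩ := exists_prime_orderOf_dvd_card' (G := N ⧸ Z) r (by
        rw [hcard, ← hrm, sq]; exact dvd_mul_of_dvd_left (dvd_pow_self r hm.ne') _)
      obtain ⟨x, rfl⟩ := QuotientGroup.mk'_surjective _ a
      intro hle
      have h1 : (x : GL ι F) ∈ scalars ι F := hle ⟨x, by
        show π x ^ r = 1
        rw [← ha]; exact pow_orderOf_eq_one _, rfl⟩
      rw [show (QuotientGroup.mk' _) x = π x from rfl, (hπ x).2 h1, orderOf_one] at ha
      exact hr.one_lt.ne ha
  have hpow : ∀ x ∈ N, x ^ r ∈ scalars ι F := by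
    intro x hx
    rw [← hKN] at hx
    obtain ⟨y, hy, rfl⟩ := hx
    exact (hKmem y).1 hy
  set E := r * Nat.gcd 2 r with hE
  have hcE : ∀ x ∈ N, ∀ y ∈ N, (x * y * x⁻¹ * y⁻¹) ^ E.choose 2 = 1 := fun x hx y hy => by
    obtain ⟨k, hk⟩ := exponent_choose hr
    rw [hE, hk, pow_mul, comm_scalar_pow hcl hpow hx hy, one_pow]
  have hmul : ∀ x y : N, ((x : GL ι F) * y) ^ E = (x : GL ι F) ^ E * (y : GL ι F) ^ E := fun x y => by
    rw [mul_pow_of_central (c := (y : GL ι F) * x * (y : GL ι F)⁻¹ * (x : GL ι F)⁻¹) (by group)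
      (fun g => scalars_comm (hcl _ y.2 _ x.2) g), hcE _ y.2 _ x.2, one_mul]
  have hEmem : ∀ x ∈ N, x ^ E ∈ scalars ι F := fun x hx => by
    rw [hE, pow_mul]; exact Subgroup.pow_mem _ (hpow x hx) _
  let φ : N →* Z := MonoidHom.mk' (fun x => ⟨x ^ E, by
      rw [Subgroup.mem_subgroupOf, Subgroup.coe_pow]; exact hEmem _ x.2⟩)
    (fun x y => Subtype.ext (Subtype.ext (hmul x y)))
  have hφ : ∀ x : N, φ x = 1 ↔ (x : GL ι F) ^ E = 1 := fun x =>
    ⟨fun h => congrArg (fun z : Z => ((z : N) : GL ι F)) h, fun h => Subtype.ext (Subtype.ext h)⟩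
  have hker : (φ.ker).map N.subtype = N := by
    refine hmin _ (Subgroup.map_subtype_le _) ?_ ?_
    · rintro g hg _ ⟨x, hx, rfl⟩
      refine ⟨⟨g * x * g⁻¹, hinv g hg _ x.2⟩, (hφ _).2 ?_, rfl⟩
      show (g * (x : GL ι F) * g⁻¹) ^ E = 1
      rw [conj_pow, (hφ x).1 hx, mul_one, mul_inv_cancel]
    · intro hle
      have hN : Nat.card N = Fintype.card ι ^ 2 * Nat.card Z := by
        rw [Subgroup.card_eq_card_quotient_mul_card_subgroup Z, hcard]
      have hk : Fintype.card ι ^ 2 ≤ Nat.card φ.ker := by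
        have h1 := Subgroup.card_eq_card_quotient_mul_card_subgroup φ.ker
        rw [hN, Nat.card_congr (QuotientGroup.quotientKerEquivRange φ).toEquiv] at h1
        have h2 : Nat.card φ.range ≤ Nat.card Z := Subgroup.card_le_card_group _
        have h3 : 0 < Nat.card Z := Nat.card_pos
        by_contra hlt
        have := Nat.mul_le_mul_right (Nat.card φ.ker) h2
        nlinarith
      have hkE : Nat.card φ.ker ≤ E := by
        have hE0 : 0 < E := Nat.mul_pos hr.pos (Nat.gcd_pos_of_pos_left _ two_pos)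
        have hent : ∀ x : φ.ker, ∃ c : F, c ^ E = 1 ∧ (((x : N) : GL ι F) : Matrix ι ι F) = c • 1 := by
          intro x
          obtain ⟨c, hc⟩ := (mem_scalars_iff _).1 (hle ⟨(x : N), x.2, rfl⟩)
          refine ⟨c, ?_, hc⟩
          have h1 := congrArg (fun g : GL ι F => (g : Matrix ι ι F)) ((hφ _).1 x.2)
          simp only [Units.val_pow_eq_pow_val, Units.val_one] at h1
          change (((x : N) : GL ι F) : Matrix ι ι F) = _ at hc
          rw [hc, smul_pow, one_pow] at h1
          have i : ι := Classical.arbitrary ι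
          simpa using congrFun (congrFun h1 i) i
        choose c hc hcx using hent
        let T := (Polynomial.nthRoots E (1 : F)).toFinset
        have hinj : Function.Injective (fun x : φ.ker => (⟨c x, Multiset.mem_toFinset.2 ((Polynomial.mem_nthRoots hE0).2 (hc x))⟩ : T)) := by
          intro x y hxy
          have : c x = c y := congrArg Subtype.val hxy
          exact Subtype.ext (Subtype.ext (Units.ext (by rw [hcx, hcx, this])))
        refine (Nat.card_le_card_of_injective _ hinj).trans ?_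
        rw [Nat.card_eq_fintype_card, Fintype.card_coe]
        exact (Multiset.toFinset_card_le _).trans (Polynomial.card_nthRoots E 1)
      rcases hr.eq_two_or_odd' with rfl | ho
      · have : E = 4 := by rw [hE]; rfl
        nlinarith
      · rw [hE, Nat.coprime_two_left.2 ho, mul_one] at hkE
        have : r ≤ Fintype.card ι := hrm ▸ Nat.le_self_pow hm.ne' r
        nlinarith
  refine ⟨r, m, hm, hr, hrm.symm, hn, hspan, hcl, hpow, fun x hx => ?_⟩
  rw [← hker] at hx
  obtain ⟨y, hy, rfl⟩ := hx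
  exact (hφ y).1 hy

section

variable {r m : ℕ} {N : Subgroup (GL ι F)}

theorem TypeR.nonempty (hN : TypeR r m N) : Nonempty ι := Fintype.card_pos_iff.1 (by have := hN.three; omega)

theorem TypeR.exp_ne_zero (hN : TypeR r m N) : r * Nat.gcd 2 r ≠ 0 :=
  Nat.mul_ne_zero hN.prime.ne_zero (Nat.gcd_pos_of_pos_left _ two_pos).ne'

theorem TypeR.exists_nonscalar [Fintype F] (hN : TypeR r m N) : ∃ x ∈ N, x ∉ scalars ι F := by
  haveI := hN.nonempty
  by_contra hall
  push Not at hall
  have h1 := card_quotient_eq_sq hN.span hN.cls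
  rw [Subgroup.subgroupOf_eq_top.2 hall] at h1
  haveI : Subsingleton (N ⧸ (⊤ : Subgroup N)) := QuotientGroup.subsingleton_quotient_top
  rw [Nat.card_of_subsingleton (1 : N ⧸ (⊤ : Subgroup N))] at h1
  have := hN.three
  nlinarith

theorem scalar_val [Nonempty ι] {z : GL ι F} {c : F} {k : ℕ} (hc : (z : Matrix ι ι F) = c • 1) (hz : z ^ k = 1) :
    c ^ k = 1 := by
  have h1 := congrArg (fun g : GL ι F => (g : Matrix ι ι F)) hz
  simp only [Units.val_pow_eq_pow_val, Units.val_one] at h1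
  rw [hc, smul_pow, one_pow] at h1
  have i : ι := Classical.arbitrary ι
  simpa using congrFun (congrFun h1 i) i

theorem TypeR.exists_comm (hN : TypeR r m N) {x : GL ι F} (hx : x ∈ N) (hxs : x ∉ scalars ι F) :
    ∃ y ∈ N, ∃ s : F, IsPrimitiveRoot s r ∧ y * x * y⁻¹ * x⁻¹ ∈ N ∧
      ((y * x * y⁻¹ * x⁻¹ : GL ι F) : Matrix ι ι F) = s • 1 ∧
      ((y * x * y⁻¹ : GL ι F) : Matrix ι ι F) = s • (x : Matrix ι ι F) := by
  haveI := hN.nonempty
  by_contra hall
  push Not at hall
  refine hxs (mem_scalars_of_commute hN.span fun y hy => ?_)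
  obtain ⟨c, hc⟩ := (mem_scalars_iff _).1 (hN.cls y hy x hx)
  have he : ((y * x * y⁻¹ : GL ι F) : Matrix ι ι F) = (c : F) • (x : Matrix ι ι F) := by
    rw [show y * x * y⁻¹ = (y * x * y⁻¹ * x⁻¹) * x by group, Units.val_mul, hc, Matrix.smul_mul, one_mul]
  have hcr := scalar_val hc (comm_scalar_pow hN.cls hN.pow_mem hy hx)
  have hc1 : (c : F) = 1 := by
    by_contra hne
    haveI := Fact.mk hN.prime
    refine hall y hy (c : F) ?_ (mul_mem (mul_mem (mul_mem hy hx) (inv_mem hy)) (inv_mem hx)) hc he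
    rw [← orderOf_eq_prime hcr hne]
    exact IsPrimitiveRoot.orderOf _
  have h1 : y * x * y⁻¹ = x := Units.ext (by rw [he, hc1, one_smul])
  calc x * y = y * x * y⁻¹ * y := by rw [h1]
    _ = y * x := by group

theorem TypeR.exists_root [Fintype F] (hN : TypeR r m N) :
    ∃ z ∈ N, ∃ s : F, IsPrimitiveRoot s r ∧ (z : Matrix ι ι F) = s • 1 := by
  obtain ⟨x, hx, hxs⟩ := hN.exists_nonscalar
  obtain ⟨y, hy, s, hs, hmem, hval, -⟩ := hN.exists_comm hx hxs
  exact ⟨_, hmem, s, hs, hval⟩

theorem TypeR.prime_ne_zero [Fintype F] (hN : TypeR r m N) : (r : F) ≠ 0 := by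
  obtain ⟨-, -, s, hs, -⟩ := hN.exists_root
  haveI : NeZero r := ⟨hN.prime.ne_zero⟩
  exact hs.neZero'.out

theorem TypeR.card_ne_zero [Fintype F] (hN : TypeR r m N) : (Fintype.card ι : F) ≠ 0 := by
  rw [hN.deg, Nat.cast_pow]
  exact pow_ne_zero _ hN.prime_ne_zero

theorem TypeR.trace_eq_zero (hN : TypeR r m N) {x : GL ι F} (hx : x ∈ N) (hxs : x ∉ scalars ι F) :
    (x : Matrix ι ι F).trace = 0 := by
  obtain ⟨y, hy, s, hs, -, -, he⟩ := hN.exists_comm hx hxs
  have h1 := congrArg Matrix.trace he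
  rw [Units.val_mul, Units.val_mul, Matrix.trace_mul_comm, ← mul_assoc, Units.inv_mul, one_mul, Matrix.trace_smul,
    smul_eq_mul] at h1
  have h2 : (1 - s) * (x : Matrix ι ι F).trace = 0 := by linear_combination h1
  exact (mul_eq_zero.1 h2).resolve_left (sub_ne_zero.2 (Ne.symm (hs.ne_one hN.prime.one_lt)))

theorem TypeR.isPGroup (hN : TypeR r m N) : IsPGroup r N := by
  intro x
  rcases hN.prime.eq_two_or_odd' with rfl | ho
  · exact ⟨2, Subtype.ext (by rw [Subgroup.coe_pow]; exact hN.exp x x.2)⟩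
  · refine ⟨1, Subtype.ext ?_⟩
    have := hN.exp x x.2
    rw [Nat.coprime_two_left.2 ho, mul_one] at this
    rw [Subgroup.coe_pow, pow_one]
    exact this

theorem TypeR.center_eq (hN : TypeR r m N) : Subgroup.center N = (scalars ι F).subgroupOf N := by
  haveI := hN.nonempty
  ext x
  rw [Subgroup.mem_center_iff, Subgroup.mem_subgroupOf]
  constructor
  · intro h
    exact mem_scalars_of_commute hN.span fun y hy => congrArg Subtype.val (h ⟨y, hy⟩).symm
  · intro h y
    exact Subtype.ext (scalars_comm h y).symm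

theorem scalars_le_range_cyclic [Fintype F] (K : Subgroup (GL ι F)) (hK : K ≤ scalars ι F) : IsCyclic K := by
  haveI : IsCyclic (scalars ι F) :=
    isCyclic_of_surjective (Units.map (Matrix.scalar ι : F →+* Matrix ι ι F).toMonoidHom).rangeRestrict
      (MonoidHom.rangeRestrict_surjective _)
  exact Subgroup.isCyclic_of_le hK

/-- The centre has order r, or r = 2 and it has order two or four. -/
theorem TypeR.card_center [Fintype F] (hN : TypeR r m N) :
    Nat.card (Subgroup.center N) = r ∨ (r = 2 ∧ Nat.card (Subgroup.center N) = 4) := by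
  haveI := hN.nonempty
  let Z : Subgroup N := Subgroup.center N
  have hZ : Z = (scalars ι F).subgroupOf N := hN.center_eq
  haveI : IsCyclic (Z.map N.subtype) := scalars_le_range_cyclic _ (by
    rintro _ ⟨x, hx, rfl⟩
    rw [SetLike.mem_coe, hZ] at hx
    exact hx)
  haveI : IsCyclic Z := isCyclic_of_surjective (Z.equivMapOfInjective N.subtype N.subtype_injective).symm.toMonoidHom
    (MulEquiv.surjective _)
  have hdvd : Nat.card Z ∣ r * Nat.gcd 2 r := by
    rw [← IsCyclic.exponent_eq_card]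
    exact Monoid.exponent_dvd_of_forall_pow_eq_one fun x =>
      Subtype.ext (Subtype.ext (hN.exp _ (x : N).2))
  obtain ⟨z, hz, s, hs, hzs⟩ := hN.exists_root
  have hzc : (⟨z, hz⟩ : N) ∈ Z := by
    rw [hZ, Subgroup.mem_subgroupOf]
    exact (mem_scalars_iff z).2 ⟨Units.mk0 s (hs.ne_zero hN.prime.ne_zero), hzs⟩
  have hne : Nat.card Z ≠ 1 := by
    intro h1
    haveI := (Nat.card_eq_one_iff_unique.1 h1).1
    have : z = 1 := congrArg (fun a : Z => ((a : N) : GL ι F)) (Subsingleton.elim (⟨_, hzc⟩ : Z) 1)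
    refine hs.ne_one hN.prime.one_lt ?_
    have h2 := congrArg (fun g : GL ι F => (g : Matrix ι ι F) (Classical.arbitrary ι) (Classical.arbitrary ι)) this
    simpa [hzs] using h2
  rcases hN.prime.eq_two_or_odd' with rfl | ho
  · have h4 : Nat.card Z ∣ 2 ^ 2 := hdvd
    obtain ⟨k, hk, hk'⟩ := (Nat.dvd_prime_pow Nat.prime_two).1 h4
    interval_cases k
    · exact absurd hk' hne
    · exact Or.inl hk'
    · exact Or.inr ⟨rfl, hk'⟩
  · rw [Nat.coprime_two_left.2 ho, mul_one] at hdvd
    exact Or.inl ((hN.prime.eq_one_or_self_of_dvd _ hdvd).resolve_left hne)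

theorem TypeR.card_eq [Fintype F] (hN : TypeR r m N) :
    Nat.card N = r ^ (2 * m) * Nat.card (Subgroup.center N) := by
  haveI := hN.nonempty
  rw [hN.center_eq, Subgroup.card_eq_card_quotient_mul_card_subgroup ((scalars ι F).subgroupOf N),
    card_quotient_eq_sq hN.span hN.cls, hN.deg, ← pow_mul, mul_comm m 2]

theorem TypeR.isSymplecticTypeGroup [Fintype F] (hN : TypeR r m N) {H : Subgroup (GL ι F)}
    (hinv : ∀ g ∈ H, ∀ x ∈ N, g * x * g⁻¹ ∈ N)
    (hmin : ∀ K : Subgroup (GL ι F), K ≤ N → (∀ g ∈ H, ∀ x ∈ K, g * x * g⁻¹ ∈ K) → ¬ K ≤ scalars ι F → K = N) :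
    IsSymplecticTypeGroup r N where
  prime := hN.prime
  pGroup := hN.isPGroup
  cyclic_of_characteristic := by
    intro A hA hAc
    haveI := hN.nonempty
    have hle : A.map N.subtype ≤ scalars ι F := by
      by_contra hns
      have hKN : A.map N.subtype ≤ N := Subgroup.map_subtype_le A
      have hAN := hmin _ hKN ?_ hns
      · obtain ⟨x, hx, hxs⟩ := hN.exists_nonscalar
        refine hxs (mem_scalars_of_commute hN.span fun y hy => ?_)
        rw [← hAN] at hx hy
        obtain ⟨a, ha, rfl⟩ := hx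
        obtain ⟨c, hc, rfl⟩ := hy
        rw [← map_mul, ← map_mul]
        exact congrArg (fun q : A => N.subtype q.1) (hAc.is_comm.comm ⟨a, ha⟩ ⟨c, hc⟩)
      · intro g hg x hx
        obtain ⟨a, ha, rfl⟩ := hx
        let φ : N ≃* N :=
          { toFun := fun x => ⟨g * x * g⁻¹, hinv g hg x x.2⟩
            invFun := fun x => ⟨g⁻¹ * x * g, by simpa using hinv g⁻¹ (H.inv_mem hg) x x.2⟩
            left_inv := fun x => Subtype.ext (by simp [mul_assoc])
            right_inv := fun x => Subtype.ext (by simp [mul_assoc])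
            map_mul' := fun x y => Subtype.ext (by simp [mul_assoc]) }
        refine ⟨φ a, ?_, rfl⟩
        have h1 := hA.fixed φ
        rw [← h1] at ha
        exact ha
    haveI : IsCyclic (A.map N.subtype) := scalars_le_range_cyclic _ hle
    exact isCyclic_of_surjective (A.equivMapOfInjective N.subtype N.subtype_injective).symm.toMonoidHom
      (MulEquiv.surjective _)
  exponent_eq := by
    have hd : Monoid.exponent N ∣ r * Nat.gcd 2 r :=
      Monoid.exponent_dvd_of_forall_pow_eq_one fun x => Subtype.ext (by rw [Subgroup.coe_pow]; exact hN.exp x x.2)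
    obtain ⟨x, hx, hxs⟩ := hN.exists_nonscalar
    have hne1 : ¬ Monoid.exponent N = 1 := fun h1 => by
      haveI := Monoid.exp_eq_one_iff.1 h1
      have hx1 : x = 1 := congrArg Subtype.val (Subsingleton.elim (⟨x, hx⟩ : N) 1)
      exact hxs (hx1 ▸ Subgroup.one_mem _)
    rcases hN.prime.eq_two_or_odd' with rfl | ho
    · obtain ⟨k, hk, hk'⟩ := (Nat.dvd_prime_pow Nat.prime_two).1 (show Monoid.exponent N ∣ 2 ^ 2 from hd)
      interval_cases k
      · exact absurd hk' hne1
      · exfalso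
        haveI := hN.nonempty
        refine hxs (mem_scalars_of_commute hN.span fun y hy => ?_)
        have h2 : ∀ a : N, a⁻¹ = a := fun a => inv_eq_of_mul_eq_one_right (by
          rw [← pow_two, show (2 : ℕ) = Monoid.exponent N by rw [hk', pow_one]]
          exact Monoid.pow_exponent_eq_one a)
        have h3 : (⟨x, hx⟩ : N) * ⟨y, hy⟩ = ⟨y, hy⟩ * ⟨x, hx⟩ := by
          conv_lhs => rw [← h2 (_ * _), _root_.mul_inv_rev, h2, h2]
        exact congrArg Subtype.val h3
      · rw [hk']; rfl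
    · rw [Nat.coprime_two_left.2 ho, mul_one] at hd ⊢
      exact (hN.prime.eq_one_or_self_of_dvd _ hd).resolve_left hne1

/-- A monomial basis, when the field contains all roots of unity of order the exponent. -/
theorem TypeR.exists_basis [Fintype F] (hN : TypeR r m N) {ζ : F} (hζ : IsPrimitiveRoot ζ (r * Nat.gcd 2 r)) :
    ∃ b : Module.Basis ι F (ι → F), ∀ g ∈ N, ∃ (π : ι → ι) (c : ι → F), (∀ i, c i ^ (r * Nat.gcd 2 r) = 1) ∧
      ∀ i, (g : Matrix ι ι F) *ᵥ b i = c i • b (π i) := by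
  classical
  haveI := hN.nonempty
  set E := r * Nat.gcd 2 r with hE
  have hEF : (E : F) ≠ 0 := by
    rcases hN.prime.eq_two_or_odd' with rfl | ho
    · have := hN.prime_ne_zero
      rw [show E = 2 * 2 from rfl, Nat.cast_mul]
      exact mul_ne_zero this this
    · rw [hE, Nat.coprime_two_left.2 ho, mul_one]; exact hN.prime_ne_zero
  have hE0 : 0 < E := Nat.pos_of_ne_zero hN.exp_ne_zero
  let P : Subgroup N → Prop := fun A => ∀ a ∈ A, ∀ b ∈ A, a * b = b * a
  obtain ⟨A, hAab, hAmax⟩ : ∃ A : Subgroup N, P A ∧ ∀ B, P B → A ≤ B → B ≤ A := by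
    obtain ⟨A, hA, hmax⟩ := (Set.toFinite {A : Subgroup N | P A}).exists_maximal
      ⟨⊥, fun a ha b hb => by rw [Subgroup.mem_bot.1 ha, Subgroup.mem_bot.1 hb]⟩
    exact ⟨A, hA, fun B hB hAB => hmax hB hAB⟩
  have hcent : ∀ x : N, (∀ a ∈ A, a * x = x * a) → x ∈ A := by
    intro x hx
    refine hAmax (Subgroup.closure (insert x (A : Set N))) (fun a ha b hb => ?_)
      (fun a ha => Subgroup.subset_closure (Set.mem_insert_of_mem _ ha)) (Subgroup.subset_closure (Set.mem_insert _ _))
    refine Subgroup.closure_induction₂ (p := fun a b _ _ => a * b = b * a) ?_ (fun x _ => by simp) (fun x _ => by simp)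
      (fun x y z _ _ _ h1 h2 => (Commute.mul_left h1 h2)) (fun y z x _ _ _ h1 h2 => (Commute.mul_right h1 h2))
      (fun x y _ _ h => (Commute.inv_left h)) (fun x y _ _ h => (Commute.inv_right h)) ha hb
    rintro a b (rfl | ha') (rfl | hb')
    · rfl
    · exact (hx b hb').symm
    · exact hx a ha'
    · exact hAab a ha' b hb'
  -- a common eigenvector
  obtain ⟨v, hv0, hv⟩ : ∃ v : ι → F, v ≠ 0 ∧ ∀ a ∈ A, ∃ c : F, c ^ E = 1 ∧
      ((a : GL ι F) : Matrix ι ι F) *ᵥ v = c • v := by
    suffices h : ∀ T : Finset N, (∀ a ∈ T, a ∈ A) → ∃ v : ι → F, v ≠ 0 ∧ ∀ a ∈ T, ∃ c : F, c ^ E = 1 ∧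
        ((a : GL ι F) : Matrix ι ι F) *ᵥ v = c • v by
      obtain ⟨v, hv0, hv⟩ := h (Set.toFinite (A : Set N)).toFinset (fun a ha => (Set.Finite.mem_toFinset _).1 ha)
      exact ⟨v, hv0, fun a ha => hv a ((Set.Finite.mem_toFinset _).2 ha)⟩
    intro T
    induction T using Finset.induction with
    | empty => exact fun _ => ⟨_, (exists_ne (0 : ι → F)).choose_spec, by simp⟩
    | insert a T _ ih =>
      intro hT
      obtain ⟨v, hv0, hv⟩ := ih fun b hb => hT b (Finset.mem_insert_of_mem hb)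
      set M : Matrix ι ι F := ((a : GL ι F) : Matrix ι ι F) with hM
      have hME : M ^ E = 1 := by
        rw [hM, ← Units.val_pow_eq_pow_val, hN.exp _ a.2, Units.val_one]
      let w : ℕ → (ι → F) := fun i => ∑ j ∈ Finset.range E, ((ζ ^ i)⁻¹ ^ j) • (M ^ j *ᵥ v)
      have hsum : ∑ i ∈ Finset.range E, w i = (E : F) • v := by
        simp only [w]
        rw [Finset.sum_comm, Finset.sum_eq_single 0]
        · simp [Finset.sum_const, ← Nat.cast_smul_eq_nsmul F]
        · intro j hj hj0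
          rw [← Finset.sum_smul]
          have hs : ∑ i ∈ Finset.range E, (ζ ^ i)⁻¹ ^ j = 0 := by
            have h1 : ∀ i, (ζ ^ i)⁻¹ ^ j = (ζ⁻¹ ^ j) ^ i := fun i => by rw [← inv_pow, ← pow_mul, ← pow_mul, mul_comm]
            simp only [h1]
            have hne : ζ⁻¹ ^ j ≠ 1 := hζ.inv.pow_ne_one_of_pos_of_lt hj0 (Finset.mem_range.1 hj)
            have hpow : (ζ⁻¹ ^ j) ^ E = 1 := by rw [← pow_mul, mul_comm, pow_mul, hζ.inv.pow_eq_one, one_pow]
            rw [geom_sum_eq hne, hpow, sub_self, zero_div]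
          rw [hs, zero_smul]
        · intro h
          exact absurd (Finset.mem_range.2 hE0) h
      obtain ⟨i, -, hi⟩ : ∃ i ∈ Finset.range E, w i ≠ 0 := Finset.exists_ne_zero_of_sum_ne_zero (by
        rw [hsum]; exact smul_ne_zero hEF hv0)
      refine ⟨w i, hi, fun b hb => ?_⟩
      rcases Finset.mem_insert.1 hb with rfl | hb'
      · have hz : ζ ^ i ≠ 0 := pow_ne_zero _ (hζ.ne_zero hE0.ne')
        refine ⟨ζ ^ i, by rw [← pow_mul, mul_comm, pow_mul, hζ.pow_eq_one, one_pow], ?_⟩
        let g : ℕ → (ι → F) := fun j => (ζ ^ i * (ζ ^ i)⁻¹ ^ j) • (M ^ j *ᵥ v)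
        have h1 : M *ᵥ w i = ∑ j ∈ Finset.range E, g (j + 1) := by
          simp only [w, g, Matrix.mulVec_sum, Matrix.mulVec_smul]
          refine Finset.sum_congr rfl fun j _ => ?_
          rw [Matrix.mulVec_mulVec, ← pow_succ']
          congr 1
          rw [pow_succ', ← mul_assoc, mul_inv_cancel₀ hz, one_mul]
        have h2 : (ζ ^ i) • w i = ∑ j ∈ Finset.range E, g j := by
          simp only [w, g, Finset.smul_sum, smul_smul]
        have h3 : g E = g 0 := by
          have hpow : ((ζ ^ i)⁻¹) ^ E = 1 := by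
            rw [inv_pow, ← pow_mul, mul_comm, pow_mul, hζ.pow_eq_one, one_pow, inv_one]
          simp only [g, hpow, hME, pow_zero]
        show M *ᵥ w i = _
        rw [h1, h2]
        have h4 := Finset.sum_range_succ g E
        rw [Finset.sum_range_succ' g E, h3] at h4
        exact add_right_cancel h4
      · obtain ⟨c, hc, hbv⟩ := hv b hb'
        refine ⟨c, hc, ?_⟩
        have hcom : Commute ((b : GL ι F) : Matrix ι ι F) M := by
          have h := congrArg (fun x : N => ((x : GL ι F) : Matrix ι ι F))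
            (hAab b (hT b (Finset.mem_insert_of_mem hb')) a (hT a (Finset.mem_insert_self _ _)))
          simpa [Commute, SemiconjBy, hM] using h
        simp only [w, Matrix.mulVec_sum, Matrix.mulVec_smul, Finset.smul_sum]
        refine Finset.sum_congr rfl fun j _ => ?_
        rw [Matrix.mulVec_mulVec, (hcom.pow_right j).eq, ← Matrix.mulVec_mulVec, hbv, Matrix.mulVec_smul, smul_comm]
  choose μ hμE hμ using hv
  let rep : N ⧸ A → N := Quotient.out
  let u : N ⧸ A → (ι → F) := fun q => ((rep q : GL ι F) : Matrix ι ι F) *ᵥ v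
  have hu0 : ∀ q, u q ≠ 0 := fun q h => hv0 (by
    have := congrArg (fun z => (((rep q : GL ι F)⁻¹ : GL ι F) : Matrix ι ι F) *ᵥ z) h
    simpa [u, Matrix.mulVec_mulVec, ← Units.val_mul] using this)
  have hcl : ∀ a (ha : a ∈ A), ∀ g : N, ∃ c : F,
      (((a : GL ι F) * g * (a : GL ι F)⁻¹ * (g : GL ι F)⁻¹ : GL ι F) : Matrix ι ι F) = c • 1 ∧
      ((a : GL ι F) : Matrix ι ι F) *ᵥ (((g : GL ι F) : Matrix ι ι F) *ᵥ v) =
        (c * μ a ha) • (((g : GL ι F) : Matrix ι ι F) *ᵥ v) := by
    intro a ha g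
    obtain ⟨d, hd⟩ := (mem_scalars_iff _).1 (hN.cls _ a.2 _ g.2)
    refine ⟨(d : F), hd, ?_⟩
    have h1 : (a : GL ι F) * g = ((a : GL ι F) * g * (a : GL ι F)⁻¹ * (g : GL ι F)⁻¹) * (g * a) := by group
    rw [Matrix.mulVec_mulVec, ← Units.val_mul, h1, Units.val_mul, hd, Matrix.smul_mul, one_mul, Matrix.smul_mulVec,
      Units.val_mul, ← Matrix.mulVec_mulVec, hμ a ha, Matrix.mulVec_smul, smul_smul]
  choose δ hδ hχ using hcl
  let χ : ∀ a, a ∈ A → N → F := fun a ha g => δ a ha g * μ a ha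
  have hdist : ∀ q q' : N ⧸ A, (∀ a (ha : a ∈ A), χ a ha (rep q) = χ a ha (rep q')) → q = q' := by
    intro q q' h
    rw [← QuotientGroup.out_eq' q, ← QuotientGroup.out_eq' q', QuotientGroup.eq]
    refine hcent _ fun a ha => ?_
    have h1 : δ a ha (rep q) * μ a ha = δ a ha (rep q') * μ a ha := h a ha
    have hμ0 : μ a ha ≠ 0 := fun h0 => by
      have := hμE a ha
      rw [h0, zero_pow hE0.ne'] at this
      exact zero_ne_one this
    have hdd : (a : GL ι F) * rep q * (a : GL ι F)⁻¹ * (rep q : GL ι F)⁻¹ =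
        (a : GL ι F) * rep q' * (a : GL ι F)⁻¹ * (rep q' : GL ι F)⁻¹ :=
      Units.ext (by rw [hδ a ha, hδ a ha, mul_right_cancel₀ hμ0 h1])
    apply Subtype.ext
    simp only [Subgroup.coe_mul, Subgroup.coe_inv]
    have hs := hN.cls _ a.2 _ (rep q).2
    change (a : GL ι F) * ((rep q : GL ι F)⁻¹ * rep q') = ((rep q : GL ι F)⁻¹ * rep q') * a
    generalize hz : (a : GL ι F) * rep q * (a : GL ι F)⁻¹ * (rep q : GL ι F)⁻¹ = z at hs hdd
    have e1 : (a : GL ι F) * rep q * (a : GL ι F)⁻¹ = z * rep q := by rw [← hz]; group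
    have e2 : (a : GL ι F) * rep q' * (a : GL ι F)⁻¹ = z * rep q' := by rw [hdd]; group
    calc (a : GL ι F) * ((rep q : GL ι F)⁻¹ * rep q')
        = ((a : GL ι F) * rep q * (a : GL ι F)⁻¹)⁻¹ * ((a : GL ι F) * rep q' * (a : GL ι F)⁻¹) * a := by group
      _ = _ := by rw [e1, e2]; group
  have hli : LinearIndependent F u := by
    rw [linearIndependent_iff']
    intro T
    induction T using Finset.induction with
    | empty => simp
    | insert q T hq ih =>
      intro c hc i hi
      rw [Finset.sum_insert hq] at hc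
      have hkey : ∀ p ∈ T, c p = 0 := by
        intro p hp
        obtain ⟨a, ha, hne⟩ : ∃ a, ∃ ha : a ∈ A, χ a ha (rep q) ≠ χ a ha (rep p) := by
          by_contra hall
          push Not at hall
          exact hq (hdist q p (fun a ha => hall a ha) ▸ hp)
        have h1 := congrArg (fun z => ((a : GL ι F) : Matrix ι ι F) *ᵥ z) hc
        simp only [Matrix.mulVec_add, Matrix.mulVec_sum, Matrix.mulVec_smul, Matrix.mulVec_zero, u, hχ a ha] at h1
        have h2 := congrArg (fun z => χ a ha (rep q) • z) hc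
        simp only [smul_add, smul_zero, Finset.smul_sum] at h2
        have h3 : ∑ p ∈ T, (c p * (χ a ha (rep p) - χ a ha (rep q))) • u p = 0 := by
          have h4 := sub_eq_zero.2 (h1.trans h2.symm)
          rw [smul_comm (χ a ha (rep q)) (c q), add_sub_add_left_eq_sub, ← Finset.sum_sub_distrib] at h4
          rw [← h4]
          refine Finset.sum_congr rfl fun p _ => ?_
          module
        exact (mul_eq_zero.1 (ih _ h3 p hp)).resolve_right (sub_ne_zero.2 (Ne.symm hne))
      rcases Finset.mem_insert.1 hi with rfl | hi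
      · rw [Finset.sum_eq_zero (fun p hp => by rw [hkey p hp, zero_smul]), add_zero] at hc
        exact (smul_eq_zero.1 hc).resolve_right (hu0 _)
      · exact hkey i hi
  have hmove : ∀ g : N, ∀ q, ∃ c : F, c ^ E = 1 ∧
      ((g : GL ι F) : Matrix ι ι F) *ᵥ u q = c • u (QuotientGroup.mk (g * rep q)) := by
    intro g q
    set q' : N ⧸ A := QuotientGroup.mk (g * rep q) with hq'
    have ha : (rep q')⁻¹ * (g * rep q) ∈ A := by
      rw [← QuotientGroup.eq]
      exact QuotientGroup.out_eq' q'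
    refine ⟨μ _ ha, hμE _ ha, ?_⟩
    simp only [u]
    rw [← Matrix.mulVec_smul, ← hμ _ ha, Matrix.mulVec_mulVec, Matrix.mulVec_mulVec, ← Units.val_mul, ← Units.val_mul]
    simp [mul_assoc]
  have hspan : ⊤ ≤ Submodule.span F (Set.range u) := by
    rcases (irreducible_of_algOf_eq_top hN.span) (Submodule.span F (Set.range u)) (by
      rintro _ ⟨g, hg, rfl⟩
      rw [Submodule.map_span, Submodule.span_le]
      rintro _ ⟨_, ⟨q, rfl⟩, rfl⟩
      obtain ⟨c, -, hc⟩ := hmove ⟨g, hg⟩ q
      rw [SetLike.mem_coe, Matrix.toLin'_apply, hc]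
      exact Submodule.smul_mem _ _ (Submodule.subset_span ⟨_, rfl⟩)) with h | h
    · exfalso
      refine hu0 (QuotientGroup.mk 1) ?_
      have : u (QuotientGroup.mk 1) ∈ Submodule.span F (Set.range u) := Submodule.subset_span ⟨_, rfl⟩
      rwa [h, Submodule.mem_bot] at this
    · exact h.ge
  let B : Module.Basis (N ⧸ A) F (ι → F) := Module.Basis.mk hli hspan
  let e : N ⧸ A ≃ ι := B.indexEquiv (Pi.basisFun F ι)
  refine ⟨B.reindex e, fun g hg => ?_⟩
  choose c hc hcu using hmove ⟨g, hg⟩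
  refine ⟨fun i => e (QuotientGroup.mk (⟨g, hg⟩ * rep (e.symm i))), fun i => c (e.symm i), fun i => hc _, fun i => ?_⟩
  simp only [Module.Basis.reindex_apply, Equiv.symm_apply_apply, B, Module.Basis.mk_apply]
  exact hcu (e.symm i)

/-- With enough roots of unity the group is realisable over any subfield containing them. -/
theorem TypeR.realisable [Fintype F] (hN : TypeR r m N) {ζ : F} (hζ : IsPrimitiveRoot ζ (r * Nat.gcd 2 r))
    (F₀ : Subfield F) (hroot : ∀ c : F, c ^ (r * Nat.gcd 2 r) = 1 → c ∈ F₀) : RealisableOver F₀ (matrixSet N) := by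
  classical
  obtain ⟨b, hb⟩ := hN.exists_basis hζ
  let std := Pi.basisFun F ι
  let P : GL ι F := ⟨std.toMatrix b, b.toMatrix std, std.toMatrix_mul_toMatrix_flip b, b.toMatrix_mul_toMatrix_flip std⟩
  refine ⟨P⁻¹, ?_⟩
  rintro _ ⟨g, hg, rfl⟩ i j
  obtain ⟨π, c, hc, hgb⟩ := hb g hg
  let M : Matrix ι ι F := Matrix.of fun i j => if i = π j then c j else 0
  have hgP : (g : Matrix ι ι F) * (P : Matrix ι ι F) = (P : Matrix ι ι F) * M := by
    ext a k
    have h1 : ((g : Matrix ι ι F) * (P : Matrix ι ι F)) a k = ((g : Matrix ι ι F) *ᵥ b k) a := rfl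
    have h2 : ((P : Matrix ι ι F) * M) a k = ∑ q, b q a * (if q = π k then c k else 0) := rfl
    rw [h1, h2, hgb, Pi.smul_apply, smul_eq_mul]
    simp [mul_comm]
  rw [inv_inv, Matrix.mul_assoc, hgP, ← Matrix.mul_assoc, ← Units.val_mul, inv_mul_cancel, Units.val_one, one_mul]
  show (if i = π j then c j else 0) ∈ F₀
  split
  · exact hroot _ (hc j)
  · exact F₀.zero_mem

end

end CfsgLib.Geo.Asch
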