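import Mathlib
import Cfsg.Prelude.Def_GeometricClasses
import Cfsg.Agent.Lib.Geo.AschTypeR
import Cfsg.Agent.Lib.Geo.AschForms
import Cfsg.Agent.Lib.Geo.AschFormBasic
import Cfsg.Agent.Lib.Geo.AschPrime

/-! Invariant forms, class 6 data and properness for groups of symplectic type. -/

set_option autoImplicit false
set_option linter.unusedSectionVars false

namespace CfsgLib.Geo.Asch

open Cfsg Cfsg.Geo Matrix
open scoped MatrixGroups

variable {ι : Type} [Fintype ι] [DecidableEq ι] {F : Type*} [Field F] [Fintype F]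
  {r m : ℕ} {N : Subgroup (GL ι F)}

theorem TypeR.scalar_pow_card_center (hN : TypeR r m N) {x : GL ι F} (hx : x ∈ N) {c : F}
    (hc : (x : Matrix ι ι F) = c • 1) : c ^ Nat.card (Subgroup.center N) = 1 := by
  haveI := hN.nonempty
  have hc0 : c ≠ 0 := by
    rintro rfl
    have h1 := congrArg (fun M : Matrix ι ι F => M * ((x⁻¹ : GL ι F) : Matrix ι ι F)) hc
    simp at h1
  have hxc : (⟨x, hx⟩ : N) ∈ Subgroup.center N := by
    rw [hN.center_eq, Subgroup.mem_subgroupOf]
    exact (mem_scalars_iff x).2 ⟨Units.mk0 c hc0, hc⟩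
  refine scalar_val hc ?_
  exact congrArg (fun z : Subgroup.center N => ((z : N) : GL ι F)) (pow_card_eq_one' (x := (⟨⟨x, hx⟩, hxc⟩ : Subgroup.center N)))

theorem TypeR.center_card_ne_zero (hN : TypeR r m N) : (Nat.card (Subgroup.center N) : F) ≠ 0 := by
  rcases hN.card_center with h | ⟨rfl, h⟩
  · rw [h]; exact hN.prime_ne_zero
  · have := hN.prime_ne_zero
    rw [h, show (4 : ℕ) = 2 * 2 from rfl, Nat.cast_mul]
    exact mul_ne_zero this this

theorem TypeR.exists_primitive (hN : TypeR r m N) :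
    ∃ ζ : F, IsPrimitiveRoot ζ (Nat.card (Subgroup.center N)) := by
  haveI := hN.nonempty
  haveI : IsCyclic ((Subgroup.center N).map N.subtype) := scalars_le_range_cyclic _ (by
    rintro _ ⟨x, hx, rfl⟩
    rw [SetLike.mem_coe, hN.center_eq] at hx
    exact hx)
  obtain ⟨⟨z, hz⟩, hgen⟩ := IsCyclic.exists_ofOrder_eq_natCard (α := (Subgroup.center N).map N.subtype)
  obtain ⟨a, ha, rfl⟩ := hz
  rw [SetLike.mem_coe, hN.center_eq, Subgroup.mem_subgroupOf] at ha
  obtain ⟨c, hc⟩ := (mem_scalars_iff _).1 ha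
  refine ⟨(c : F), ?_⟩
  have hcard : Nat.card (Subgroup.center N) = orderOf (a : GL ι F) := by
    rw [← Subgroup.card_map_of_injective (K := Subgroup.center N) N.subtype_injective, ← hgen]
    exact (Subgroup.orderOf_coe _).symm
  rw [hcard]
  have hpow : ∀ k : ℕ, (a : GL ι F) ^ k = 1 ↔ (c : F) ^ k = 1 := fun k => by
    refine ⟨fun h => scalar_val hc h, fun h => Units.ext ?_⟩
    rw [Units.val_pow_eq_pow_val, hc, smul_pow, one_pow, h, one_smul, Units.val_one]
  have hord : orderOf (a : GL ι F) = orderOf (c : F) :=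
    orderOf_eq_orderOf_iff.2 hpow
  rw [hord]
  exact IsPrimitiveRoot.orderOf _

/-- The averaged invariant form for an involution inverting the scalars of the group. -/
theorem TypeR.exists_form (hN : TypeR r m N) (σ : F ≃+* F) (hσ : ∀ a, σ (σ a) = a)
    (hz : ∀ x ∈ N, ∀ c : F, (x : Matrix ι ι F) = c • 1 → c * σ c = 1) :
    ∃ (ε : F) (f : (ι → F) → (ι → F) → F), Herm σ ε f ∧ FixesForm (matrixSet N) f := by
  classical
  haveI := hN.nonempty
  haveI : Fintype N := Fintype.ofFinite N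
  let f₀ : ι → ι → (ι → F) → (ι → F) → F := fun a c u v =>
    ∑ x : N, (((x : GL ι F) : Matrix ι ι F) *ᵥ u) a * σ ((((x : GL ι F) : Matrix ι ι F) *ᵥ v) c)
  have hsum : ∑ a, ∑ c, f₀ a c (Pi.single a 1) (Pi.single c 1) =
      (Nat.card (Subgroup.center N) : F) * ((Fintype.card ι : F) * (Fintype.card ι : F)) := by
    have h1 : ∀ x : N, (∑ a, ∑ c, (((x : GL ι F) : Matrix ι ι F) *ᵥ Pi.single a 1) a *
        σ ((((x : GL ι F) : Matrix ι ι F) *ᵥ Pi.single c 1) c)) =
        if x ∈ Subgroup.center N then (Fintype.card ι : F) * (Fintype.card ι : F) else 0 := by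
      intro x
      have h2 : (∑ a, ∑ c, (((x : GL ι F) : Matrix ι ι F) *ᵥ Pi.single a 1) a *
          σ ((((x : GL ι F) : Matrix ι ι F) *ᵥ Pi.single c 1) c)) =
          ((x : GL ι F) : Matrix ι ι F).trace * σ ((x : GL ι F) : Matrix ι ι F).trace := by
        simp only [Matrix.trace, Matrix.diag, map_sum, Finset.sum_mul_sum, Matrix.mulVec_single_one, Matrix.col_apply]
      rw [h2]
      by_cases hx : x ∈ Subgroup.center N
      · rw [if_pos hx]
        rw [hN.center_eq, Subgroup.mem_subgroupOf] at hx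
        obtain ⟨c, hc⟩ := (mem_scalars_iff _).1 hx
        rw [hc, Matrix.trace_smul, Matrix.trace_one, smul_eq_mul, map_mul, map_natCast]
        linear_combination ((Fintype.card ι : F) * (Fintype.card ι : F)) * hz _ x.2 _ hc
      · rw [if_neg hx]
        rw [hN.center_eq, Subgroup.mem_subgroupOf] at hx
        rw [hN.trace_eq_zero x.2 hx, zero_mul]
    simp only [f₀]
    calc _ = ∑ x : N, ∑ a, ∑ c, (((x : GL ι F) : Matrix ι ι F) *ᵥ Pi.single a 1) a *
          σ ((((x : GL ι F) : Matrix ι ι F) *ᵥ Pi.single c 1) c) := by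
          conv_rhs => rw [Finset.sum_comm]
          exact Finset.sum_congr rfl fun a _ => Finset.sum_comm
      _ = _ := by
          rw [Finset.sum_congr rfl fun x _ => h1 x, Finset.sum_ite, Finset.sum_const_zero, add_zero, Finset.sum_const,
            nsmul_eq_mul, Nat.card_eq_fintype_card, Fintype.card_subtype]
  obtain ⟨a, c, hac⟩ : ∃ a c, f₀ a c (Pi.single a 1) (Pi.single c 1) ≠ 0 := by
    by_contra hall
    push Not at hall
    apply mul_ne_zero hN.center_card_ne_zero (mul_ne_zero hN.card_ne_zero hN.card_ne_zero)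
    rw [← hsum]
    exact Finset.sum_eq_zero fun a _ => Finset.sum_eq_zero fun c _ => hall a c
  let f := f₀ a c
  have hfs : GeomClasses.IsSesq (σ : F →+* F) f := by
    refine ⟨fun x y v => ?_, fun k x v => ?_, fun v x y => ?_, fun k v x => ?_⟩
    · simp only [f, f₀, Matrix.mulVec_add, Pi.add_apply, add_mul, Finset.sum_add_distrib]
    · simp only [f, f₀, Matrix.mulVec_smul, Pi.smul_apply, smul_eq_mul, Finset.mul_sum, mul_assoc]
    · simp only [f, f₀, Matrix.mulVec_add, Pi.add_apply, map_add, mul_add, Finset.sum_add_distrib]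
    · simp only [f, f₀, Matrix.mulVec_smul, Pi.smul_apply, smul_eq_mul, map_mul, Finset.mul_sum]
      exact Finset.sum_congr rfl fun _ _ => by
        show _ = (σ k) * _
        ring
  have hfN : FixesForm (matrixSet N) f := by
    rintro _ ⟨g, hg, rfl⟩ u v
    simp only [f, f₀, Matrix.mulVec_mulVec, ← Units.val_mul]
    exact Fintype.sum_equiv (Equiv.mulRight (⟨g, hg⟩ : N)) _ _ fun x => by simp
  have hirr := irreducible_of_algOf_eq_top hN.span
  have hmove : ∀ g ∈ N, ∀ w v, f ((g : Matrix ι ι F) *ᵥ w) v = f w (((g⁻¹ : GL ι F) : Matrix ι ι F) *ᵥ v) := by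
    intro g hg w v
    conv_lhs => rw [show v = (g : Matrix ι ι F) *ᵥ (((g⁻¹ : GL ι F) : Matrix ι ι F) *ᵥ v) by
      rw [Matrix.mulVec_mulVec, Units.mul_inv, Matrix.one_mulVec]]
    exact hfN _ ⟨g, hg, rfl⟩ _ _
  have hmove' : ∀ g ∈ N, ∀ w v, f w ((g : Matrix ι ι F) *ᵥ v) = f (((g⁻¹ : GL ι F) : Matrix ι ι F) *ᵥ w) v := by
    intro g hg w v
    rw [hmove _ (N.inv_mem hg), inv_inv]
  let L : Submodule F (ι → F) :=
    { carrier := {u | ∀ v, f u v = 0}
      add_mem' := fun hx hy v => by rw [hfs.add_left, hx v, hy v, add_zero]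
      zero_mem' := fun v => hfs.zero_left v
      smul_mem' := fun k x hx v => by rw [hfs.smul_left, hx v, mul_zero] }
  let R : Submodule F (ι → F) :=
    { carrier := {v | ∀ u, f u v = 0}
      add_mem' := fun hx hy v => by rw [hfs.add_right, hx v, hy v, add_zero]
      zero_mem' := fun v => hfs.zero_right v
      smul_mem' := fun k x hx v => by rw [hfs.smul_right, hx v, mul_zero] }
  have hL : L = ⊥ := (hirr L (by
    rintro _ ⟨g, hg, rfl⟩ _ ⟨w, hw, rfl⟩ v
    rw [Matrix.toLin'_apply, hmove g hg]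
    exact hw _)).resolve_right fun h => hac ((h ▸ Submodule.mem_top : Pi.single a 1 ∈ L) (Pi.single c 1))
  have hR : R = ⊥ := (hirr R (by
    rintro _ ⟨g, hg, rfl⟩ _ ⟨w, hw, rfl⟩ v
    rw [Matrix.toLin'_apply, hmove' g hg]
    exact hw _)).resolve_right fun h => hac ((h ▸ Submodule.mem_top : Pi.single c 1 ∈ R) (Pi.single a 1))
  have hfn : IsNondegenerateForm f := fun v hv =>
    ⟨not_forall.1 fun h => hv ((Submodule.mem_bot F).1 (hR ▸ (h : v ∈ R))),
      not_forall.1 fun h => hv ((Submodule.mem_bot F).1 (hL ▸ (h : v ∈ L)))⟩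
  let g : (ι → F) → (ι → F) → F := fun u v => σ (f v u)
  obtain ⟨μ, hμ⟩ := form_unique hN.span σ (g := g) hfs
    ⟨fun x y v => by simp only [g]; rw [hfs.add_right, map_add],
      fun k x v => by
        simp only [g]; rw [hfs.smul_right, map_mul]
        show σ (σ k) * _ = _
        rw [hσ],
      fun v x y => by simp only [g]; rw [hfs.add_left, map_add],
      fun k v x => by simp only [g]; rw [hfs.smul_left, map_mul]; rfl⟩ hfn
    (fun v hv => ⟨by
        obtain ⟨x, hx⟩ := (hfn v hv).2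
        exact ⟨x, fun h => hx (by simpa [g] using h)⟩, by
        obtain ⟨x, hx⟩ := (hfn v hv).1
        exact ⟨x, fun h => hx (by simpa [g] using h)⟩⟩) hfN
    (fun s hs u v => by simp only [g]; rw [hfN s hs v u])
  refine ⟨σ (μ : F), f, ⟨hfs, hfn, hσ, fun u v => ?_⟩, hfN⟩
  rw [← map_mul, ← hμ]
  simp only [g, hσ]

/-- A fixed unitary form. -/
theorem TypeR.exists_unitary_form (hN : TypeR r m N) (σ : F ≃+* F) (hne : σ ≠ RingEquiv.refl F)
    (hσ : ∀ a, σ (σ a) = a) (hz : ∀ x ∈ N, ∀ c : F, (x : Matrix ι ι F) = c • 1 → c * σ c = 1) :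
    ∃ f : (ι → F) → (ι → F) → F, IsUnitaryForm σ f ∧ FixesForm (matrixSet N) f := by
  haveI := hN.nonempty
  obtain ⟨ε, f, hf, hfN⟩ := hN.exists_form σ hσ hz
  obtain ⟨a, ha, hσa⟩ : ∃ a : F, a ≠ 0 ∧ σ a = ε * a := by
    have hεσ : ε * σ ε = 1 := hf.eps_mul
    by_cases h : (1 : F) + σ ε = 0
    · have he : ε = -1 := by linear_combination ε * h - hεσ
      obtain ⟨c, hc⟩ : ∃ c, σ c ≠ c := by
        by_contra hall
        push Not at hall
        exact hne (RingEquiv.ext hall)
      refine ⟨c - σ c, sub_ne_zero.2 (Ne.symm hc), ?_⟩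
      rw [map_sub, hσ, he]; ring
    · refine ⟨1 + σ ε, h, ?_⟩
      rw [map_add, map_one, hσ]
      linear_combination -hεσ
  refine ⟨fun u v => a * f u v, ⟨hne, hσ, fun x y v => by rw [hf.add_left, mul_add],
    fun k x v => by rw [hf.smul_left]; ring, fun v w => ?_, fun v hv => ?_⟩, fun s hs u v => ?_⟩
  · rw [map_mul, hσa, hf.symm w v]; ring
  · obtain ⟨⟨x, hx⟩, ⟨y, hy⟩⟩ := hf.nondeg v hv
    exact ⟨⟨x, mul_ne_zero ha hx⟩, ⟨y, mul_ne_zero ha hy⟩⟩
  · show a * _ = a * _
    rw [hfN s hs u v]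

/-- A fixed symplectic or quadratic form, when the centre has order two. -/
theorem TypeR.exists_bilinear_form (hN : TypeR r m N) (hc : Nat.card (Subgroup.center N) = 2) :
    (∃ f : (ι → F) → (ι → F) → F, IsSymplecticForm f ∧ FixesForm (matrixSet N) f) ∨
    (Odd (Fintype.card F) ∧ ∃ Q : (ι → F) → F, IsNondegenerateQuadraticForm Q ∧ FixesQuadForm (matrixSet N) Q) := by
  haveI := hN.nonempty
  have h2 : (2 : F) ≠ 0 := by
    have := hN.center_card_ne_zero
    rw [hc] at this
    exact_mod_cast this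
  have hodd : Odd (Fintype.card F) := by
    by_contra h
    exact h2 (two_eq_zero_of_not_odd h)
  obtain ⟨ε, f, hf, hfN⟩ := hN.exists_form (RingEquiv.refl F) (fun _ => rfl) (fun x hx c hxc => by
    have := hN.scalar_pow_card_center hx hxc
    rw [hc, pow_two] at this
    exact this)
  rcases mul_self_eq_one_iff.1 (show ε * ε = 1 from hf.eps_mul) with rfl | rfl
  · have hsym : ∀ u v, f v u = f u v := fun u v => by rw [hf.symm u v, one_mul]; rfl
    have hr : ∀ (k : F) v x, f v (k • x) = k * f v x := fun k v x => hf.smul_right k v x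
    let Q : (ι → F) → F := fun v => f v v / 2
    have hpol : QuadraticMap.polar Q = f := by
      funext u v
      simp only [QuadraticMap.polar, Q, hf.add_left, hf.add_right, hsym u v]
      field_simp
      ring
    refine Or.inr ⟨hodd, Q, ⟨fun k v => ?_, hpol ▸ ⟨hf.add_left, hf.smul_left, hf.add_right, hr⟩, hpol ▸ hf.nondeg⟩,
      fun s hs v => ?_⟩
    · simp only [Q, hf.smul_left, hr]; ring
    · simp only [Q]; rw [hfN s hs v v]
  · refine Or.inl ⟨f, ⟨⟨hf.add_left, hf.smul_left, hf.add_right, fun k v x => hf.smul_right k v x⟩,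
      fun v w => by rw [hf.symm w v, neg_one_mul]; rfl, fun v => ?_, hf.nondeg⟩, hfN⟩
    have h1 : f v v = - f v v := by conv_lhs => rw [hf.symm v v, neg_one_mul, RingEquiv.refl_apply]
    exact (mul_eq_zero.1 (show (2 : F) * f v v = 0 by linear_combination h1)).resolve_left h2

theorem not_all_fixed {p e d : ℕ} (hp : p.Prime) (hcard : Fintype.card F = p ^ e) (hd0 : 0 < d) (hde : d < e) :
    ¬ ∀ x : F, x ^ p ^ d = x := by
  classical
  intro hall
  have hlt : p ^ d < p ^ e := Nat.pow_lt_pow_right hp.one_lt hde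
  have hXne := FiniteField.X_pow_card_pow_sub_X_ne_zero (K' := F) hd0.ne' hp.one_lt
  have hroots : (Finset.univ : Finset F) ⊆
      (Polynomial.X ^ p ^ d - Polynomial.X : Polynomial F).roots.toFinset := by
    intro x _
    simp [Multiset.mem_toFinset, Polynomial.mem_roots hXne, Polynomial.IsRoot, hall x]
  have := (Finset.card_le_card hroots).trans ((Multiset.toFinset_card_le _).trans (Polynomial.card_roots' _))
  rw [Finset.card_univ, hcard, FiniteField.X_pow_card_pow_sub_X_natDegree_eq F hd0.ne' hp.one_lt] at this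
  omega

/-- The field is generated by the roots of unity of the centre, unless the group is in a subfield group. -/
theorem TypeR.minimal_field (hN : TypeR r m N) {H : Subgroup (GL ι F)} (hinv : ∀ g ∈ H, ∀ x ∈ N, g * x * g⁻¹ ∈ N)
    (hfull : Nat.card (Subgroup.center N) = r * Nat.gcd 2 r)
    (hsub : ∀ (F₀ : Subfield F) (s : ℕ) (P : GL ι F), s.Prime → Fintype.card F = Nat.card F₀ ^ s →
      ¬ H ≤ subfieldSubgroup F₀ P) :
    ∃ p e : ℕ, r ≠ p ∧ IsMinimalFieldFor (Nat.card (Subgroup.center N)) p e F ∧ 0 < e := by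
  classical
  haveI := hN.nonempty
  obtain ⟨ζ, hζ⟩ := hN.exists_primitive
  obtain ⟨p, hchar⟩ := CharP.exists F
  haveI := hchar
  obtain ⟨⟨e, he0⟩, hp, hq⟩ := FiniteField.card F p
  simp only [PNat.mk_coe] at hq
  haveI := Fact.mk hp
  set z := Nat.card (Subgroup.center N) with hz
  have hz0 : z ≠ 0 := Nat.card_pos.ne'
  have hdvd : z ∣ p ^ e - 1 := by
    rw [hζ.eq_orderOf]
    refine orderOf_dvd_of_pow_eq_one ?_
    rw [← hq]
    exact FiniteField.pow_card_sub_one_eq_one ζ (hζ.ne_zero hz0)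
  refine ⟨p, e, ?_, ⟨hp, hchar, hq, hdvd, fun d hd0 hde hd => ?_⟩, he0⟩
  · rintro rfl
    exact hN.prime_ne_zero (CharP.cast_eq_zero F r)
  let φ : F →+* F := iterateFrobenius F p d
  let F₀ : Subfield F := RingHom.eqLocusField φ (RingHom.id F)
  have hmem : ∀ x, x ∈ F₀ ↔ x ^ p ^ d = x := fun x => by
    show φ x = x ↔ _
    rw [show φ x = x ^ p ^ d from iterateFrobenius_def p d x]
  have h0 : F₀ ≠ ⊤ := fun htop => not_all_fixed hp hq hd0 hde fun x => (hmem x).1 (htop ▸ Subfield.mem_top x)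
  have hfix : ∀ c : F, c ^ z = 1 → c ^ p ^ d = c := by
    intro c hc
    obtain ⟨k, hk⟩ := hd
    have := Nat.one_le_pow d p hp.pos
    rw [show p ^ d = z * k + 1 by omega, pow_succ, pow_mul, hc, one_pow, one_mul]
  obtain ⟨F₁, s, P, hs, hc, hle⟩ := le_subfieldSubgroup hN.span hinv h0
    (hN.realisable (ζ := ζ) (hfull ▸ hζ) F₀ fun c hc => (hmem c).2 (hfix c (by rw [hfull]; exact hc)))
  exact hsub F₁ s P hs hc hle

/-- A field automorphism of order two inverting the roots of unity when the degree is even. -/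
theorem exists_inverting {z p k : ℕ} (hp : p.Prime) [CharP F p] (hcard : Fintype.card F = p ^ (k + k)) (hk : 0 < k)
    (hdvd : z ∣ p ^ k + 1) :
    ∃ σ : F ≃+* F, σ ≠ RingEquiv.refl F ∧ (∀ a, σ (σ a) = a) ∧ ∀ c : F, c ^ z = 1 → c * σ c = 1 := by
  haveI := Fact.mk hp
  let σ : F ≃+* F := iterateFrobeniusEquiv F p k
  have hσ : ∀ x, σ x = x ^ p ^ k := fun x => iterateFrobeniusEquiv_def F p k x
  refine ⟨σ, fun h => not_all_fixed hp hcard hk (by omega) fun x => by rw [← hσ, h]; rfl,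
    fun a => by rw [hσ, hσ, ← pow_mul, ← pow_add, ← hcard]; exact FiniteField.pow_card a, fun c hc => ?_⟩
  obtain ⟨j, hj⟩ := hdvd
  rw [hσ, ← pow_succ', hj, pow_mul, hc, one_pow]

/-- Class two in the linear case. -/
theorem TypeR.linear_cases (hN : TypeR r m N) {H : Subgroup (GL ι F)} (hinv : ∀ g ∈ H, ∀ x ∈ N, g * x * g⁻¹ ∈ N)
    (hmin : ∀ K : Subgroup (GL ι F), K ≤ N → (∀ g ∈ H, ∀ x ∈ K, g * x * g⁻¹ ∈ K) → ¬ K ≤ scalars ι F → K = N) :
    (∃ (F₀ : Subfield F) (s : ℕ) (P : GL ι F), s.Prime ∧ Fintype.card F = Nat.card F₀ ^ s ∧ H ≤ subfieldSubgroup F₀ P) ∨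
    (Odd (Fintype.card F) ∧ ∃ Q : (ι → F) → F, IsNondegenerateQuadraticForm Q ∧ H ≤ quadSimilarityGroup Q) ∨
    (∃ f : (ι → F) → (ι → F) → F, IsSymplecticForm f ∧ H ≤ similarityGroup f) ∨
    (∃ (σ : F ≃+* F) (f : (ι → F) → (ι → F) → F), IsUnitaryForm σ f ∧ H ≤ similarityGroup f) ∨
    IsLinearSymplecticTypeData r N := by
  haveI := hN.nonempty
  have hunit : ∀ σ : F ≃+* F, σ ≠ RingEquiv.refl F → (∀ a, σ (σ a) = a) →
      (∀ c : F, c ^ Nat.card (Subgroup.center N) = 1 → c * σ c = 1) →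
      ∃ (σ : F ≃+* F) (f : (ι → F) → (ι → F) → F), IsUnitaryForm σ f ∧ H ≤ similarityGroup f := by
    intro σ hne hσ hc
    obtain ⟨f, hf, hfN⟩ := hN.exists_unitary_form σ hne hσ fun x hx c hxc => hc c (hN.scalar_pow_card_center hx hxc)
    exact ⟨σ, f, hf, le_similarityGroup hN.span hinv σ (unitary_isSesq hf) hf.nondegenerate hfN⟩
  by_cases hsub : ∃ (F₀ : Subfield F) (s : ℕ) (P : GL ι F), s.Prime ∧ Fintype.card F = Nat.card F₀ ^ s ∧
      H ≤ subfieldSubgroup F₀ P
  · exact Or.inl hsub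
  push Not at hsub
  refine Or.inr ?_
  by_cases h2 : r = 2 ∧ Nat.card (Subgroup.center N) = 2
  · rcases hN.exists_bilinear_form h2.2 with ⟨f, hf, hfN⟩ | ⟨hodd, Q, hQ, hfix⟩
    · exact Or.inr (Or.inl ⟨f, hf, le_similarityGroup hN.span hinv (RingEquiv.refl F) (symplectic_isSesq hf)
        hf.nondegenerate hfN⟩)
    · exact Or.inl ⟨hodd, Q, hQ, (le_similarityGroup hN.span hinv (RingEquiv.refl F) (polar_isSesq hQ) hQ.nondegenerate
        (fixesForm_polar hfix)).trans (polar_similarity hQ (two_ne_zero_of_odd hodd))⟩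
  refine Or.inr (Or.inr ?_)
  have hfull : Nat.card (Subgroup.center N) = r * Nat.gcd 2 r := by
    rcases hN.card_center with h | ⟨rfl, h⟩
    · rcases hN.prime.eq_two_or_odd' with rfl | ho
      · exact absurd ⟨rfl, h⟩ h2
      · rw [h, Nat.coprime_two_left.2 ho, mul_one]
    · rw [h]; rfl
  obtain ⟨p, e, hrp, hminf, he0⟩ := hN.minimal_field hinv hfull hsub
  obtain ⟨hp, hchar, hcard, hdvd, hminimal⟩ := id hminf
  have hdata := hN.isSymplecticTypeGroup hinv hmin
  rcases hN.prime.eq_two_or_odd' with rfl | ho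
  · rw [show (2 : ℕ) * Nat.gcd 2 2 = 4 from rfl] at hfull
    have hpodd : p % 2 = 1 := Nat.odd_iff.1 (hp.odd_of_ne_two (Ne.symm hrp))
    have he2 : e ≤ 2 := by
      by_contra he
      refine hminimal 2 two_pos (by omega) ?_
      rw [hfull]
      obtain ⟨k, hk⟩ : ∃ k, p = 2 * k + 1 := ⟨p / 2, by omega⟩
      exact ⟨k * k + k, by rw [hk]; ring_nf; omega⟩
    by_cases he1 : e = 1
    · refine Or.inr ⟨hdata, absIrred_of_algOf_eq_top hN.span, p, e, hrp, hminf,
        Or.inr (Or.inl ⟨rfl, he1, hfull, ?_, m, ?_⟩)⟩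
      · have := hN.deg
        have := hN.three
        rcases Nat.lt_or_ge m 2 with hm | hm
        · interval_cases m <;> omega
        · calc 4 = 2 ^ 2 := rfl
            _ ≤ 2 ^ m := Nat.pow_le_pow_right two_pos hm
            _ = _ := hN.deg.symm
      · rw [hN.card_eq, hfull]; ring
    · left
      obtain rfl : e = 2 := by omega
      have h4 : ¬ 4 ∣ p - 1 := fun h => hminimal 1 one_pos one_lt_two (by rw [hfull, pow_one]; exact h)
      obtain ⟨σ, hne, hσ, hinvt⟩ := exists_inverting (z := 4) hp (F := F) (k := 1) hcard one_pos (by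
        rw [pow_one]; omega)
      exact hunit σ hne hσ (by rw [hfull]; exact hinvt)
  · rw [Nat.coprime_two_left.2 ho, mul_one] at hfull
    rcases Nat.even_or_odd e with ⟨k, rfl⟩ | hoe
    · left
      obtain ⟨σ, hne, hσ, hinvt⟩ := exists_inverting (z := r) hp (F := F) (k := k) hcard (by omega) (by
        have h1 : r ∣ (p ^ k + 1) * (p ^ k - 1) := by
          rw [← Nat.sq_sub_sq, one_pow, ← pow_mul, show k * 2 = k + k by omega, ← hfull]
          exact hdvd
        exact ((Nat.Prime.dvd_mul hN.prime).1 h1).resolve_right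
          (hfull ▸ hminimal k (by omega) (by omega)))
      exact hunit σ hne hσ (by rw [hfull]; exact hinvt)
    · refine Or.inr ⟨hdata, absIrred_of_algOf_eq_top hN.span, p, e, hrp, hminf,
        Or.inl ⟨ho, hoe, hfull, m, ?_, ?_⟩⟩
      · by_contra hm
        have hd := hN.deg
        have h3 := hN.three
        obtain rfl : m = 0 := by omega
        rw [pow_zero] at hd
        omega
      · rw [hN.card_eq, hfull]; ring

/-- A transvection does not normalise a group of symplectic type. -/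
theorem TypeR.tv_not_normalizes (hN : TypeR r m N) {x : GL ι F} (hx : x ∈ N) {u φ : ι → F} (hφ : φ ≠ 0)
    (hφu : φ ⬝ᵥ u = 0) (heig : ∀ a : F, (x : Matrix ι ι F) *ᵥ u ≠ a • u)
    (hprod : (φ ⬝ᵥ ((x : Matrix ι ι F) *ᵥ u)) * (φ ⬝ᵥ (((x⁻¹ : GL ι F) : Matrix ι ι F) *ᵥ u)) ≠ (Fintype.card ι : F)) :
    GeomClasses.tv u φ ∉ subgroupNormalizer N := by
  classical
  haveI := hN.nonempty
  intro ht
  set t := GeomClasses.tv u φ with htdef
  set D := t * x * t⁻¹ * x⁻¹ with hD
  have hDN : D ∈ N := N.mul_mem ((Subgroup.mem_normalizer_iff.1 ht x).1 hx) (N.inv_mem hx)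
  have hval : ∀ w, (t : Matrix ι ι F) *ᵥ w = w + (φ ⬝ᵥ w) • u := fun w => GeomClasses.tv_mulVec hφu w
  have hvali : ∀ w, ((t⁻¹ : GL ι F) : Matrix ι ι F) *ᵥ w = w - (φ ⬝ᵥ w) • u := by
    intro w
    rw [htdef, GeomClasses.tv_inv hφu, GeomClasses.tv_mulVec (by rw [dotProduct_neg, hφu, neg_zero]), smul_neg,
      ← sub_eq_add_neg]
  set a := (x : Matrix ι ι F) *ᵥ u with ha
  have hDw : ∀ w, (D : Matrix ι ι F) *ᵥ w = w + (φ ⬝ᵥ w) • u -
      (φ ⬝ᵥ (((x⁻¹ : GL ι F) : Matrix ι ι F) *ᵥ w)) • (a + (φ ⬝ᵥ a) • u) := by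
    intro w
    simp only [hD, Units.val_mul, ← Matrix.mulVec_mulVec, hvali, Matrix.mulVec_sub, Matrix.mulVec_smul, hval]
    rw [Matrix.mulVec_mulVec, Units.mul_inv, Matrix.one_mulVec, ha]
  by_cases hDs : D ∈ scalars ι F
  · obtain ⟨c, hc⟩ := (mem_scalars_iff D).1 hDs
    let L : (ι → F) →ₗ[F] F × F :=
      { toFun := fun w => (φ ⬝ᵥ w, φ ⬝ᵥ (((x⁻¹ : GL ι F) : Matrix ι ι F) *ᵥ w))
        map_add' := fun v w => by simp [dotProduct_add, Matrix.mulVec_add]
        map_smul' := fun k v => by simp [dotProduct_smul, Matrix.mulVec_smul] }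
    obtain ⟨w, hw, hw0⟩ : ∃ w ∈ LinearMap.ker L, w ≠ 0 := Submodule.exists_mem_ne_zero_of_ne_bot fun h => by
      have h1 := LinearMap.finrank_le_finrank_of_injective (LinearMap.ker_eq_bot.1 h)
      rw [Module.finrank_pi, Module.finrank_prod, Module.finrank_self] at h1
      have := hN.three
      omega
    have hw' := LinearMap.mem_ker.1 hw
    simp only [L, LinearMap.coe_mk, AddHom.coe_mk, Prod.mk_eq_zero] at hw'
    have h1 := hDw w
    rw [hw'.1, hw'.2, zero_smul, zero_smul, add_zero, sub_zero, hc, Matrix.smul_mulVec, Matrix.one_mulVec] at h1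
    have hc1 : (c : F) = 1 := by
      by_contra hne
      have h2 : ((c : F) - 1) • w = 0 := by rw [sub_smul, one_smul, h1, sub_self]
      exact hw0 ((smul_eq_zero.1 h2).resolve_left (sub_ne_zero.2 hne))
    have hD1 : D = 1 := Units.ext (by rw [hc, hc1, one_smul, Units.val_one])
    have hcomm : t * x = x * t := by
      calc t * x = D * x * t := by rw [hD]; group
        _ = x * t := by rw [hD1, one_mul]
    apply hφ
    funext i
    have h3 := congrArg (fun g : GL ι F => (g : Matrix ι ι F) *ᵥ Pi.single i (1 : F)) hcomm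
    simp only [Units.val_mul, ← Matrix.mulVec_mulVec, hval, Matrix.mulVec_add, Matrix.mulVec_smul] at h3
    have h4 := add_left_cancel h3
    by_contra hi
    simp only [dotProduct_single, mul_one] at h4
    refine heig ((φ ⬝ᵥ ((x : Matrix ι ι F) *ᵥ Pi.single i 1)) / φ i) ?_
    rw [div_eq_inv_mul, mul_smul, h4, smul_smul, inv_mul_cancel₀ hi, one_smul]
  · have h1 := hN.trace_eq_zero hDN hDs
    have h2 : (D : Matrix ι ι F) = 1 + Matrix.vecMulVec u φ -
        Matrix.vecMulVec (a + (φ ⬝ᵥ a) • u) (φ ᵥ* ((x⁻¹ : GL ι F) : Matrix ι ι F)) := by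
      refine Matrix.ext_of_mulVec_single fun i => ?_
      rw [hDw, Matrix.sub_mulVec, Matrix.add_mulVec, Matrix.one_mulVec, Matrix.vecMulVec_mulVec,
        Matrix.vecMulVec_mulVec, Matrix.dotProduct_mulVec]
      simp [op_smul_eq_smul]
    rw [h2, Matrix.trace_sub, Matrix.trace_add, Matrix.trace_one, Matrix.trace_vecMulVec, Matrix.trace_vecMulVec,
      dotProduct_comm u φ, hφu, add_zero, add_dotProduct, smul_dotProduct, smul_eq_mul] at h1
    rw [dotProduct_comm a, dotProduct_comm u, ← Matrix.dotProduct_mulVec, ← Matrix.dotProduct_mulVec, ha,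
      Matrix.mulVec_mulVec, Units.inv_mul, Matrix.one_mulVec, hφu] at h1
    exact hprod (by linear_combination -h1)

/-- The normaliser of a group of symplectic type does not contain the special linear group. -/
theorem TypeR.not_specialLinear_le_normalizer (hN : TypeR r m N) : ¬ specialLinear ι F ≤ subgroupNormalizer N := by
  classical
  haveI := hN.nonempty
  intro hle
  obtain ⟨x, hx, hxs⟩ := hN.exists_nonscalar
  obtain ⟨u, hu⟩ : ∃ u, ∀ a : F, (x : Matrix ι ι F) *ᵥ u ≠ a • u := by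
    by_contra hall
    push Not at hall
    choose a ha using hall
    refine hxs (mem_scalars_of_commute hN.span fun y hy => Units.ext ?_)
    obtain ⟨k, hk⟩ : ∃ k : F, (x : Matrix ι ι F) = k • 1 := by
      obtain ⟨k, hk⟩ := (LinearMap.exists_eq_smul_id_of_forall_notLinearIndependent (f := Matrix.toLin' (x : Matrix ι ι F))
        (fun v h => by
          rw [LinearIndependent.pair_iff] at h
          have := h (-a v) 1 (by rw [Matrix.toLin'_apply, ha v]; module)
          exact one_ne_zero this.2))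
      exact ⟨k, Matrix.toLin'.injective (by rw [hk, map_smul, Matrix.toLin'_one]; rfl)⟩
    rw [Units.val_mul, Units.val_mul, hk, Matrix.smul_mul, Matrix.mul_smul, Matrix.one_mul, Matrix.mul_one]
  let W : Submodule F (ι → F) := Submodule.span F (Set.range ![u, (x : Matrix ι ι F) *ᵥ u])
  obtain ⟨v, hv⟩ : ∃ v, v ∉ W := by
    by_contra hall
    push Not at hall
    have h1 : W = ⊤ := eq_top_iff.2 fun v _ => hall v
    have h2 : Module.finrank F W ≤ Fintype.card (Fin 2) := finrank_range_le_card _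
    rw [h1, finrank_top, Module.finrank_pi, Fintype.card_fin] at h2
    have := hN.three
    omega
  obtain ⟨φ, hφv, hφW⟩ := exists_dot hv
  refine hN.tv_not_normalizes hx (φ := φ) (fun h => by rw [h] at hφv; simp at hφv) (hφW u (Submodule.subset_span ⟨0, rfl⟩))
    hu ?_ (hle (GeomClasses.tv_mem_specialLinear u φ))
  rw [show φ ⬝ᵥ ((x : Matrix ι ι F) *ᵥ u) = 0 from hφW _ (Submodule.subset_span ⟨1, rfl⟩), zero_mul]
  exact Ne.symm hN.card_ne_zero

end CfsgLib.Geo.Asch
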