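import Mathlib
import Cfsg.Prelude.Def_GeometricClasses
import Cfsg.Agent.Lib.Geo.AschTypeR
import Cfsg.Agent.Lib.Geo.AschFormProper
import Cfsg.Agent.Lib.Geo.AschWreath

/-! Properness of the classes six and seven inside the special unitary group. -/

set_option autoImplicit false
set_option linter.unusedSectionVars false

namespace CfsgLib.Geo.Asch

open Cfsg Cfsg.Geo Matrix CfsgLib.GeomClasses
open scoped MatrixGroups

variable {ι : Type} [Fintype ι] [DecidableEq ι] {F : Type*} [Field F] [Fintype F]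
  {σ : F ≃+* F} {ε : F} {f : (ι → F) → (ι → F) → F}

/-- The fixed space of a non-scalar element of a group of symplectic type has at most half the dimension. -/
theorem TypeR.two_fix {r m : ℕ} {N : Subgroup (GL ι F)} (hN : TypeR r m N) {x : GL ι F} (hx : x ∈ N)
    (hxs : x ∉ scalars ι F) :
    2 * Module.finrank F (LinearMap.ker (Matrix.toLin' (x : Matrix ι ι F) - LinearMap.id)) ≤ Fintype.card ι := by
  obtain ⟨y, hy, s, hs, -, -, he⟩ := hN.exists_comm hx hxs
  set K := LinearMap.ker (Matrix.toLin' (x : Matrix ι ι F) - LinearMap.id) with hK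
  have hmem : ∀ v, v ∈ K ↔ (x : Matrix ι ι F) *ᵥ v = v := by
    intro v; simp [hK, LinearMap.mem_ker, sub_eq_zero]
  set L := K.map (Matrix.toLin' (y : Matrix ι ι F)) with hL
  have hinter : K ⊓ L = ⊥ := by
    rw [Submodule.eq_bot_iff]
    rintro v ⟨hv, u, hu, huv⟩
    rw [Matrix.toLin'_apply] at huv
    have h1 : s • ((x : Matrix ι ι F) *ᵥ v) = v := by
      rw [← Matrix.smul_mulVec, ← he, ← huv, Matrix.mulVec_mulVec, ← Units.val_mul, inv_mul_cancel_right,
        Units.val_mul, ← Matrix.mulVec_mulVec, (hmem u).1 hu]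
    rw [(hmem v).1 hv] at h1
    have h2 : (s - 1) • v = 0 := by rw [sub_smul, one_smul, h1, sub_self]
    exact (smul_eq_zero.1 h2).resolve_left (sub_ne_zero.2 (hs.ne_one hN.prime.one_lt))
  have hdim : Module.finrank F L = Module.finrank F K :=
    (LinearEquiv.finrank_eq (Submodule.equivMapOfInjective _ (toLin'_unit_injective y) _)).symm
  have h1 := Submodule.finrank_sup_add_finrank_inf_eq K L
  have h2 := Submodule.finrank_le (K ⊔ L)
  rw [hinter, finrank_bot] at h1
  rw [Module.finrank_pi] at h2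
  omega

/-- In degree at least five a form transvection at a moved point does not normalise a group of symplectic type. -/
theorem TypeR.formTv_not_normalizes {r m : ℕ} {N : Subgroup (GL ι F)} (hN : TypeR r m N) (hf : Herm σ ε f)
    (h5 : 5 ≤ Fintype.card ι) {u : ι → F} (hu : f u u = 0) {c : F} (hc : c ≠ 0) {x : GL ι F} (hx : x ∈ N)
    (hxu : (x : Matrix ι ι F) *ᵥ u ∉ Submodule.span F {u}) : formTv f u c ∉ subgroupNormalizer N := by
  intro ht
  have hu0 : u ≠ 0 := by rintro rfl; exact hxu (by simp)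
  set t := formTv f u c with htdef
  set D := t * x * t⁻¹ * x⁻¹ with hD
  have hDN : D ∈ N := N.mul_mem ((Subgroup.mem_normalizer_iff.1 ht x).1 hx) (N.inv_mem hx)
  let L : (ι → F) →ₗ[F] F × F :=
    { toFun := fun z => (f z u, f (((x⁻¹ : GL ι F) : Matrix ι ι F) *ᵥ z) u)
      map_add' := fun a b => by simp [Matrix.mulVec_add, hf.add_left]
      map_smul' := fun a b => by simp [Matrix.mulVec_smul, hf.smul_left] }
  have hfi : ∀ z, f z u = 0 → ((t⁻¹ : GL ι F) : Matrix ι ι F) *ᵥ z = z := fun z hz => by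
    conv_lhs => rw [← tv_fixes hf hu c hz, ← htdef, gl_inv_mulVec_mulVec]
  have hfix : LinearMap.ker L ≤ LinearMap.ker (Matrix.toLin' (D : Matrix ι ι F) - LinearMap.id) := by
    intro z hz
    have h1 : f z u = 0 := congrArg Prod.fst hz
    have h2 : f (((x⁻¹ : GL ι F) : Matrix ι ι F) *ᵥ z) u = 0 := congrArg Prod.snd hz
    rw [LinearMap.mem_ker, LinearMap.sub_apply, Matrix.toLin'_apply, LinearMap.id_apply, sub_eq_zero, hD,
      Units.val_mul, Units.val_mul, Units.val_mul, ← Matrix.mulVec_mulVec, ← Matrix.mulVec_mulVec,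
      ← Matrix.mulVec_mulVec, hfi _ h2, gl_mulVec_inv_mulVec]
    exact tv_fixes hf hu c h1
  have h6 := L.finrank_range_add_finrank_ker
  have h7 : Module.finrank F (LinearMap.range L) ≤ 2 :=
    (Submodule.finrank_le _).trans (by rw [Module.finrank_prod, Module.finrank_self])
  have h8 := Submodule.finrank_mono hfix
  rw [Module.finrank_pi] at h6
  by_cases hDs : D ∈ scalars ι F
  · obtain ⟨a, ha⟩ := (mem_scalars_iff D).1 hDs
    have hker : LinearMap.ker L ≠ ⊥ := fun h => by rw [h, finrank_bot] at h6; omega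
    obtain ⟨z, hz, hz0⟩ := (Submodule.ne_bot_iff _).1 hker
    have h9 := hfix hz
    rw [LinearMap.mem_ker, LinearMap.sub_apply, Matrix.toLin'_apply, LinearMap.id_apply, ha, Matrix.smul_mulVec,
      Matrix.one_mulVec, sub_eq_zero] at h9
    have ha1 : (a : F) = 1 := smul_left_injective F hz0 (h9.trans (one_smul F z).symm)
    have hD1 : D = 1 := Units.ext (by rw [ha, ha1, one_smul, Units.val_one])
    have hcomm : t * x = x * t := by
      rw [hD, mul_inv_eq_one, mul_inv_eq_iff_eq_mul] at hD1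
      exact hD1
    apply hxu
    obtain ⟨y, hy⟩ := (hf.nondeg u hu0).1
    have h10 := congrArg (fun g : GL ι F => (g : Matrix ι ι F) *ᵥ y) hcomm
    simp only [Units.val_mul, ← Matrix.mulVec_mulVec, htdef, hf.sesq.formTv_mulVec hu, Matrix.mulVec_add,
      Matrix.mulVec_smul, add_right_inj] at h10
    refine Submodule.mem_span_singleton.2 ⟨(c * f y u)⁻¹ * (c * f ((x : Matrix ι ι F) *ᵥ y) u), ?_⟩
    rw [mul_smul, h10, smul_smul, inv_mul_cancel₀ (mul_ne_zero hc hy), one_smul]
  · have := hN.two_fix hDN hDs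
    omega

theorem utv_not_le_typeR_normalizer {r m : ℕ} {N : Subgroup (GL ι F)} (hN : TypeR r m N)
    (hf : IsUnitaryForm σ f) (h5 : 5 ≤ Fintype.card ι) {Ω : Subgroup (GL ι F)} (hΩ : HasUTv σ f Ω) :
    ¬ Ω ≤ subgroupNormalizer N := by
  intro hle
  have := hN.nonempty
  obtain ⟨u, hu0, hu⟩ := Unit.exists_isotropic hf (by omega)
  obtain ⟨c, hc0, hc⟩ := Unit.exists_skew hf.ne_refl hf.involutive
  obtain ⟨x, hx, hxu⟩ : ∃ x ∈ N, (x : Matrix ι ι F) *ᵥ u ∉ Submodule.span F {u} := by
    by_contra h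
    push Not at h
    rcases irreducible_of_algOf_eq_top hN.span (Submodule.span F {u}) (by
      rintro _ ⟨g, hg, rfl⟩ _ ⟨v, hv, rfl⟩
      obtain ⟨a, rfl⟩ := Submodule.mem_span_singleton.1 hv
      rw [map_smul, Matrix.toLin'_apply]
      exact Submodule.smul_mem _ _ (h g hg)) with h' | h'
    · exact hu0 (by simpa using h')
    · have := finrank_span_singleton (K := F) hu0
      rw [h', finrank_top, Module.finrank_pi] at this
      omega
  exact hN.formTv_not_normalizes (herm_unitary hf) h5 hu hc0 hx hxu (hle (hΩ u c hu hc))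

open CfsgLib.Maximal.TensorPower in
/-- A form transvection stabilises no tensor square. -/
theorem tv_not_wreath_two [Nonempty ι] (hf : Herm σ ε f) {u : ι → F} (hu0 : u ≠ 0) (hu : f u u = 0) {c : F}
    (hc0 : c ≠ 0) {a : ℕ} (ha : 3 ≤ a) (e : ι ≃ (Fin 2 → Fin a)) (P : GL ι F) :
    formTv f u c ∉ tensorWreathSubgroup a 2 e P := by
  classical
  rintro ⟨_, ⟨y, hy, rfl⟩, hyt⟩
  simp only [MulEquiv.coe_toMonoidHom] at hyt
  obtain ⟨τ, as, hmon⟩ := isMonomial_of_mem hy
  have hgx : ∀ z : (Fin 2 → Fin a) → F, (formTv f u c : Matrix ι ι F) *ᵥ ((P : Matrix ι ι F) *ᵥ (z ∘ e)) =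
      (P : Matrix ι ι F) *ᵥ (((y : Matrix _ _ F) *ᵥ z) ∘ e) := by
    intro z
    rw [← hyt, MulAut.conj_apply, Units.val_mul, Units.val_mul, ← Matrix.mulVec_mulVec, ← Matrix.mulVec_mulVec,
      gl_inv_mulVec_mulVec]
    congr 1
    funext i
    simp only [Matrix.mulVec, dotProduct, Function.comp_apply]
    exact Fintype.sum_equiv e _ _ fun j => by simp [glReindex]
  by_cases hτ : τ = 1
  · refine tv_not_tensor hf hu0 hu hc0 (show 2 ≤ a by omega) (show 2 ≤ a by omega)
      (e.trans (finTwoArrowEquiv _)) P ⟨_, ⟨glReindex (F := F) (finTwoArrowEquiv (Fin a)) y,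
        ⟨as 0, as 1, ?_⟩, rfl⟩, ?_⟩
    · ext ⟨i, j⟩ ⟨k, l⟩
      have h1 := congrFun (hmon ![Pi.single k 1, Pi.single l 1]) ![i, j]
      have h2 : tp ![(Pi.single k 1 : Fin a → F), Pi.single l 1] = Pi.single ![k, l] 1 := by
        rw [show ![(Pi.single k 1 : Fin a → F), Pi.single l 1] = fun t => Pi.single (![k, l] t) 1 from
          funext fun t => by fin_cases t <;> rfl, tp_single]
      rw [h2, Matrix.mulVec_single_one] at h1
      simpa [glReindex, hτ, tp, Fin.prod_univ_two] using h1
    · simp only [MulEquiv.coe_toMonoidHom]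
      rw [← hyt]
      congr 1
      apply Units.ext
      ext i j
      have hvec : ∀ g : Fin 2 → Fin a, ![g 0, g 1] = g := fun g => funext fun t => by fin_cases t <;> rfl
      simp [glReindex, hvec]
  · have h01 : τ 0 = 1 ∧ τ 1 = 0 := by
      have key : ∀ τ : Equiv.Perm (Fin 2), τ ≠ 1 → τ 0 = 1 ∧ τ 1 = 0 := by decide
      exact key τ hτ
    set A := (as 0 : Matrix (Fin a) (Fin a) F)
    set B := (as 1 : Matrix (Fin a) (Fin a) F)
    let x : Fin a → F := Pi.single ⟨0, by omega⟩ 1
    have hx0 : x ≠ 0 := fun h => by simpa [x] using congrFun h ⟨0, by omega⟩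
    let emb : (Fin a → F) →ₗ[F] ((Fin 2 → Fin a) → F) :=
      { toFun := fun v s => x (s 0) * v (s 1)
        map_add' := fun v w => funext fun s => by simp [mul_add]
        map_smul' := fun k v => funext fun s => by simp; ring }
    have hemb : ∀ v, emb v = tp ![x, v] := fun v => funext fun s => by simp [emb, tp, Fin.prod_univ_two]
    let L : (Fin a → F) →ₗ[F] F :=
      { toFun := fun v => f ((P : Matrix ι ι F) *ᵥ (emb v ∘ e)) u
        map_add' := fun v w => by
          rw [map_add, show ((emb v + emb w) ∘ e : ι → F) = (emb v ∘ e) + (emb w ∘ e) from rfl, Matrix.mulVec_add,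
            hf.add_left]
        map_smul' := fun k v => by
          rw [map_smul, show ((k • emb v) ∘ e : ι → F) = k • (emb v ∘ e) from rfl, Matrix.mulVec_smul,
            hf.smul_left]; rfl }
    have hk : ∀ v ∈ LinearMap.ker L, v ∈ Submodule.span F {B *ᵥ x} := by
      intro v hv
      have h1 := hgx (emb v)
      rw [tv_fixes hf hu c (LinearMap.mem_ker.1 hv)] at h1
      have h2 : emb v = (y : Matrix _ _ F) *ᵥ emb v := by
        have := gl_mulVec_injective P h1
        funext s
        simpa using congrFun this (e.symm s)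
      rw [hemb, hmon] at h2
      refine Submodule.mem_span_singleton.2 ⟨(A *ᵥ v) ⟨0, by omega⟩, funext fun k => ?_⟩
      have h3 := congrFun h2 ![⟨0, by omega⟩, k]
      simp [tp, Fin.prod_univ_two, h01.1, h01.2] at h3
      simp [A, B, x] at h3 ⊢
      exact h3.symm
    have h1 := Submodule.finrank_mono (show LinearMap.ker L ≤ Submodule.span F {B *ᵥ x} from hk)
    have h2 : Module.finrank F (Submodule.span F {B *ᵥ x}) ≤ 1 :=
      (finrank_span_le_card _).trans (by simp)
    have h3 := L.finrank_range_add_finrank_ker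
    have h4 := Submodule.finrank_le (LinearMap.range L)
    rw [Module.finrank_fin_fun] at h3
    rw [Module.finrank_self] at h4
    omega

theorem utv_not_le_wreath_two [Nonempty ι] (hf : IsUnitaryForm σ f) (hn : 2 ≤ Fintype.card ι)
    {Ω : Subgroup (GL ι F)} (hΩ : HasUTv σ f Ω) {a : ℕ} (ha : 3 ≤ a) (e : ι ≃ (Fin 2 → Fin a)) (P : GL ι F) :
    ¬ Ω ≤ tensorWreathSubgroup a 2 e P := fun hle => by
  obtain ⟨u, hu0, hu⟩ := Unit.exists_isotropic hf hn
  obtain ⟨c, hc0, hc⟩ := Unit.exists_skew hf.ne_refl hf.involutive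
  exact tv_not_wreath_two (herm_unitary hf) hu0 hu hc0 ha e P (hle (hΩ u c hu hc))

end CfsgLib.Geo.Asch
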