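import Mathlib
import Cfsg.Prelude.Def_GeometricClasses
import Cfsg.Agent.Lib.Geo.AschLinear

/-! Small fields: class members contained in members of other classes. -/

set_option autoImplicit false

namespace CfsgLib.Geo.Asch

open Cfsg Cfsg.Geo Matrix
open scoped MatrixGroups Kronecker

variable {ι : Type} [Fintype ι] [DecidableEq ι] {F : Type*} [Field F]

theorem eq_zero_or_one_of_card_two [Fintype F] (h : Fintype.card F = 2) (x : F) : x = 0 ∨ x = 1 := by
  by_contra hx
  push Not at hx
  classical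
  have : ({0, 1, x} : Finset F).card ≤ Fintype.card F := Finset.card_le_univ _
  rw [h, Finset.card_insert_of_notMem (by simp [Ne.symm hx.1]), Finset.card_insert_of_notMem (by simp [Ne.symm hx.2]),
    Finset.card_singleton] at this
  omega

theorem two_eq_zero_of_card_two [Fintype F] (h : Fintype.card F = 2) : (2 : F) = 0 :=
  two_eq_zero_of_not_odd (by rw [h]; decide)

/-- A basis adapted to a decomposition into lines, with its monomial action. -/
theorem monomial_basis {t : ℕ} [Nonempty ι] {D : Fin t → Submodule F (ι → F)} (hD : IsMDecomposition 1 D) :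
    ∃ b : Module.Basis (Fin t) F (ι → F), ∀ g ∈ decompositionStabilizer D, ∃ (σ : Equiv.Perm (Fin t)) (c : Fin t → F),
      (∀ i, c i ≠ 0) ∧ ∀ i, (g : Matrix ι ι F) *ᵥ b i = c i • b (σ i) := by
  classical
  have hv : ∀ i, ∃ v ∈ D i, v ≠ 0 ∧ ∀ w ∈ D i, ∃ c : F, w = c • v := by
    intro i
    obtain ⟨⟨v, hv⟩, hv0, hall⟩ := finrank_eq_one_iff'.1 (hD.finrank_eq i)
    refine ⟨v, hv, fun h => hv0 (Subtype.ext h), fun w hw => ?_⟩
    obtain ⟨c, hc⟩ := hall ⟨w, hw⟩
    exact ⟨c, (congrArg Subtype.val hc).symm⟩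
  choose v hvD hv0 hvall using hv
  have hli : LinearIndependent F v := hD.indep.linearIndependent D hvD hv0
  have hspan : ⊤ ≤ Submodule.span F (Set.range v) := by
    rw [← hD.iSup_eq_top, iSup_le_iff]
    intro i w hw
    obtain ⟨c, rfl⟩ := hvall i w hw
    exact Submodule.smul_mem _ _ (Submodule.subset_span ⟨i, rfl⟩)
  refine ⟨Module.Basis.mk hli hspan, fun g hg => ?_⟩
  obtain ⟨σ, hσ⟩ := hg
  have h1 : ∀ i, ∃ c : F, c ≠ 0 ∧ (g : Matrix ι ι F) *ᵥ v i = c • v (σ i) := by
    intro i
    have hmem : (g : Matrix ι ι F) *ᵥ v i ∈ D (σ i) := hσ i ▸ ⟨v i, hvD i, Matrix.toLin'_apply _ _⟩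
    obtain ⟨c, hc⟩ := hvall _ _ hmem
    refine ⟨c, fun h0 => ?_, hc⟩
    rw [h0, zero_smul] at hc
    exact GeomClasses.gl_mulVec_ne_zero g (hv0 i) hc
  choose c hc0 hc using h1
  exact ⟨σ, c, hc0, fun i => by rw [Module.Basis.mk_apply, Module.Basis.mk_apply]; exact hc i⟩

theorem monomial_repr {t : ℕ} {b : Module.Basis (Fin t) F (ι → F)} {g : Matrix ι ι F} {σ : Equiv.Perm (Fin t)}
    {c : Fin t → F} (h : ∀ i, g *ᵥ b i = c i • b (σ i)) (x : ι → F) (j : Fin t) :
    b.repr (g *ᵥ x) (σ j) = c j * b.repr x j := by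
  classical
  conv_lhs => rw [← b.sum_repr x, Matrix.mulVec_sum]
  simp only [Matrix.mulVec_smul, h, map_sum, map_smul, Module.Basis.repr_self, Finsupp.smul_single, smul_eq_mul,
    mul_one, Finsupp.finsetSum_apply, Finsupp.single_apply, EmbeddingLike.apply_eq_iff_eq]
  rw [Finset.sum_ite_eq' Finset.univ j (fun i => b.repr x i * c i), if_pos (Finset.mem_univ j), mul_comm]

theorem monomial_sum {t : ℕ} {b : Module.Basis (Fin t) F (ι → F)} {g : Matrix ι ι F} {σ : Equiv.Perm (Fin t)}
    {c : Fin t → F} (h : ∀ i, g *ᵥ b i = c i • b (σ i)) (Φ : F → F → F) (x y : ι → F) :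
    ∑ i, Φ (b.repr (g *ᵥ x) i) (b.repr (g *ᵥ y) i) = ∑ i, Φ (c i * b.repr x i) (c i * b.repr y i) := by
  rw [← Equiv.sum_comp σ]
  simp only [monomial_repr h]

/-- Monomial groups over the field with two elements fix a vector. -/
theorem decomposition_le_subspace_two [Fintype F] [Nonempty ι] (h2 : Fintype.card F = 2) (hn : 2 ≤ Fintype.card ι)
    {t : ℕ} {D : Fin t → Submodule F (ι → F)} (hD : IsMDecomposition 1 D) :
    ∃ W : Submodule F (ι → F), W ≠ ⊥ ∧ W ≠ ⊤ ∧ decompositionStabilizer D ≤ subspaceStabilizer W := by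
  obtain ⟨b, hb⟩ := monomial_basis hD
  have hs : ∑ i, b i ≠ 0 := by
    intro h0
    have h1 := Fintype.linearIndependent_iff.1 b.linearIndependent (fun _ => 1) (by simpa using h0)
      ⟨0, by have := hD.two_le; omega⟩
    exact one_ne_zero h1
  refine ⟨Submodule.span F {∑ i, b i}, by simpa using hs, fun htop => ?_, fun g hg => ?_⟩
  · have h1 := finrank_span_singleton (K := F) hs
    rw [htop, finrank_top, Module.finrank_fintype_fun_eq_card] at h1
    omega
  · obtain ⟨σ, c, hc0, hc⟩ := hb g hg
    rw [GeomClasses.mem_subspaceStabilizer]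
    intro w hw
    obtain ⟨a, rfl⟩ := Submodule.mem_span_singleton.1 hw
    rw [Matrix.mulVec_smul, Matrix.mulVec_sum]
    refine Submodule.smul_mem _ _ ?_
    have h1 : ∑ i, (g : Matrix ι ι F) *ᵥ b i = ∑ i, b i := by
      conv_rhs => rw [← Equiv.sum_comp σ]
      refine Finset.sum_congr rfl fun i _ => ?_
      rw [hc i, (eq_zero_or_one_of_card_two h2 (c i)).resolve_left (hc0 i), one_smul]
    rw [h1]
    exact Submodule.mem_span_singleton_self _

/-- Monomial groups over the field with three elements preserve a quadratic form. -/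
theorem decomposition_le_quad_three [Fintype F] [Nonempty ι] (h3 : Fintype.card F = 3)
    {t : ℕ} {D : Fin t → Submodule F (ι → F)} (hD : IsMDecomposition 1 D) :
    ∃ Q : (ι → F) → F, IsNondegenerateQuadraticForm Q ∧ decompositionStabilizer D ≤ quadSimilarityGroup Q := by
  obtain ⟨b, hb⟩ := monomial_basis hD
  have h2 : (2 : F) ≠ 0 := two_ne_zero_of_odd (by rw [h3]; decide)
  let Q : (ι → F) → F := fun x => ∑ i, b.repr x i * b.repr x i
  have hpol : ∀ x y, QuadraticMap.polar Q x y = ∑ i, 2 * (b.repr x i * b.repr y i) := by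
    intro x y
    simp only [QuadraticMap.polar, Q, map_add, Finsupp.add_apply, ← Finset.sum_sub_distrib]
    exact Finset.sum_congr rfl fun i _ => by ring
  have hne : ∀ v : ι → F, v ≠ 0 → ∃ j, b.repr v j ≠ 0 := by
    intro v hv
    by_contra hall
    push Not at hall
    exact hv (b.repr.map_eq_zero_iff.1 (Finsupp.ext hall))
  refine ⟨Q, ⟨fun c v => ?_, ⟨?_, ?_, ?_, ?_⟩, ?_⟩, fun g hg => ?_⟩
  · simp only [Q, map_smul, Finsupp.smul_apply, smul_eq_mul, Finset.mul_sum]
    exact Finset.sum_congr rfl fun i _ => by ring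
  · intro x y v; simp only [hpol, map_add, Finsupp.add_apply, ← Finset.sum_add_distrib]
    exact Finset.sum_congr rfl fun i _ => by ring
  · intro c x v; simp only [hpol, map_smul, Finsupp.smul_apply, smul_eq_mul, Finset.mul_sum]
    exact Finset.sum_congr rfl fun i _ => by ring
  · intro v x y; simp only [hpol, map_add, Finsupp.add_apply, ← Finset.sum_add_distrib]
    exact Finset.sum_congr rfl fun i _ => by ring
  · intro c v x; simp only [hpol, map_smul, Finsupp.smul_apply, smul_eq_mul, Finset.mul_sum]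
    exact Finset.sum_congr rfl fun i _ => by ring
  · intro v hv
    obtain ⟨j, hj⟩ := hne v hv
    constructor <;> refine ⟨b j, ?_⟩ <;>
      · rw [hpol, Finset.sum_eq_single j (fun i _ hi => by simp [Module.Basis.repr_self, Finsupp.single_apply, Ne.symm hi])
          (fun h => absurd (Finset.mem_univ j) h)]
        simp [Module.Basis.repr_self, h2, hj]
  · obtain ⟨σ, c, hc0, hc⟩ := hb g hg
    refine ⟨1, fun v => ?_⟩
    rw [Units.val_one, one_mul]
    show ∑ i, b.repr _ i * b.repr _ i = ∑ i, b.repr v i * b.repr v i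
    rw [monomial_sum hc (fun a b => a * b)]
    refine Finset.sum_congr rfl fun i _ => ?_
    have hsq : c i * c i = 1 := by
      have := FiniteField.pow_card_sub_one_eq_one (c i) (hc0 i)
      rw [h3] at this
      rw [← this]; ring
    calc c i * b.repr v i * (c i * b.repr v i) = (c i * c i) * (b.repr v i * b.repr v i) := by ring
      _ = _ := by rw [hsq, one_mul]

/-- Monomial groups over the field with four elements preserve a unitary form. -/
theorem decomposition_le_unitary_four [Fintype F] [Nonempty ι] (h4 : Fintype.card F = 4)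
    {t : ℕ} {D : Fin t → Submodule F (ι → F)} (hD : IsMDecomposition 1 D) :
    ∃ (σ : F ≃+* F) (f : (ι → F) → (ι → F) → F), IsUnitaryForm σ f ∧
      decompositionStabilizer D ≤ similarityGroup f := by
  obtain ⟨b, hb⟩ := monomial_basis hD
  obtain ⟨p, hp⟩ := CharP.exists F
  haveI := hp
  have h20 : (2 : F) = 0 := two_eq_zero_of_not_odd (by rw [h4]; decide)
  haveI : Fact (Nat.Prime 2) := ⟨Nat.prime_two⟩
  haveI : CharP F 2 := (CharP.charP_iff_prime_eq_zero Nat.prime_two).2 (by exact_mod_cast h20)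
  let σ : F ≃+* F := frobeniusEquiv F 2
  have hσ : ∀ a : F, σ a = a ^ 2 := fun a => frobenius_def (R := F) (p := 2) a
  have hfour : ∀ a : F, a ^ 4 = a := fun a => by have := FiniteField.pow_card a; rwa [h4] at this
  let f : (ι → F) → (ι → F) → F := fun x y => ∑ i, b.repr x i * σ (b.repr y i)
  refine ⟨σ, f, ⟨?_, fun a => ?_, ?_, ?_, ?_, ?_⟩, fun g hg => ?_⟩
  · intro hid
    obtain ⟨a, ha0, ha1⟩ : ∃ a : F, a ≠ 0 ∧ a ≠ 1 := by
      by_contra hall
      push Not at hall
      classical
      have : (Finset.univ : Finset F) ⊆ {0, 1} := fun x _ => by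
        by_cases h : x = 0
        · simp [h]
        · simp [hall x h]
      have := (Finset.card_le_card this).trans Finset.card_le_two
      rw [Finset.card_univ, h4] at this
      omega
    have h1 : a ^ 2 = a := by rw [← hσ, hid]; rfl
    exact ha1 (mul_left_cancel₀ ha0 (by rw [← sq, h1, mul_one]))
  · rw [hσ, hσ, ← pow_mul]; exact hfour a
  · intro x y v; simp only [f, map_add, Finsupp.add_apply, add_mul, Finset.sum_add_distrib]
  · intro c x v; simp only [f, map_smul, Finsupp.smul_apply, smul_eq_mul, mul_assoc, Finset.mul_sum]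
  · intro v w
    simp only [f, map_sum, map_mul]
    refine Finset.sum_congr rfl fun i _ => ?_
    rw [hσ (σ (b.repr v i)), hσ (b.repr v i), ← pow_mul, hfour, mul_comm]
  · intro v hv
    obtain ⟨j, hj⟩ : ∃ j, b.repr v j ≠ 0 := by
      by_contra hall
      push Not at hall
      exact hv (b.repr.map_eq_zero_iff.1 (Finsupp.ext hall))
    constructor <;> refine ⟨b j, ?_⟩ <;>
      · show ∑ i, _ ≠ 0
        rw [Finset.sum_eq_single j (fun i _ hi => by simp [Module.Basis.repr_self, Finsupp.single_apply, Ne.symm hi])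
          (fun h => absurd (Finset.mem_univ j) h)]
        simp [Module.Basis.repr_self, hj]
  · obtain ⟨π, c, hc0, hc⟩ := hb g hg
    refine ⟨1, fun u v => ?_⟩
    rw [Units.val_one, one_mul]
    show ∑ i, b.repr _ i * σ (b.repr _ i) = ∑ i, b.repr u i * σ (b.repr v i)
    rw [monomial_sum hc (fun a b => a * σ b)]
    refine Finset.sum_congr rfl fun i _ => ?_
    have hcube : c i * c i ^ 2 = 1 := by
      have := FiniteField.pow_card_sub_one_eq_one (c i) (hc0 i)
      rw [h4] at this
      rw [← this]; ring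
    rw [map_mul, hσ (c i)]
    calc c i * b.repr u i * (c i ^ 2 * σ (b.repr v i)) = (c i * c i ^ 2) * (b.repr u i * σ (b.repr v i)) := by ring
      _ = _ := by rw [hcube, one_mul]

open Classical in
/-- The non-degenerate alternating form of a plane over the field with two elements. -/
noncomputable def smallPlaneForm {V : Type*} [AddCommGroup V] (u v : V) : F :=
  if u ≠ 0 ∧ v ≠ 0 ∧ u ≠ v then 1 else 0

theorem smallPlaneForm_eq_det [Fintype F] (h2 : Fintype.card F = 2) (u v : Fin 2 → F) :
    smallPlaneForm (F := F) u v = u 0 * v 1 - u 1 * v 0 := by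
  classical
  have h20 := two_eq_zero_of_card_two h2
  have h11 : (1 : F) + 1 = 0 := by rw [← h20]; norm_num
  have hneg : (-1 : F) = 1 := neg_eq_of_add_eq_zero_left h11
  have ez : ∀ w : Fin 2 → F, w = 0 ↔ w 0 = 0 ∧ w 1 = 0 := fun w => by
    refine ⟨fun h => by simp [h], fun h => funext fun i => ?_⟩
    fin_cases i <;> simp [h.1, h.2]
  have ee : u = v ↔ u 0 = v 0 ∧ u 1 = v 1 := by
    refine ⟨fun h => by simp [h], fun h => funext fun i => ?_⟩
    fin_cases i <;> simp [h.1, h.2]
  simp only [smallPlaneForm, ne_eq, ez, ee]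
  rcases eq_zero_or_one_of_card_two h2 (u 0) with a | a <;> rcases eq_zero_or_one_of_card_two h2 (u 1) with b | b <;>
    rcases eq_zero_or_one_of_card_two h2 (v 0) with c | c <;> rcases eq_zero_or_one_of_card_two h2 (v 1) with d | d <;>
    simp [a, b, c, d, hneg]

/-- Stabilisers of decompositions into planes over the field with two elements preserve a symplectic form. -/
theorem decomposition_le_symplectic_two [Fintype F] [Nonempty ι] (h2 : Fintype.card F = 2)
    {t : ℕ} {D : Fin t → Submodule F (ι → F)} (hD : IsMDecomposition 2 D) :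
    ∃ f : (ι → F) → (ι → F) → F, IsSymplecticForm f ∧ decompositionStabilizer D ≤ similarityGroup f := by
  classical
  have hint : DirectSum.IsInternal D :=
    (DirectSum.isInternal_submodule_iff_iSupIndep_and_iSup_eq_top _).2 ⟨hD.indep, hD.iSup_eq_top⟩
  let b' : ∀ i, Module.Basis (Fin 2) F (D i) := fun i => Module.finBasisOfFinrankEq F (D i) (hD.finrank_eq i)
  let b := hint.collectedBasis b'
  let co : (ι → F) → Fin t → Fin 2 → F := fun x i j => b.repr x ⟨i, j⟩
  have hco_add : ∀ x y i, co (x + y) i = co x i + co y i := fun x y i => by funext j; simp [co]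
  have hco_smul : ∀ (c : F) x i, co (c • x) i = c • co x i := fun c x i => by funext j; simp [co]
  let f : (ι → F) → (ι → F) → F := fun x y => ∑ i, smallPlaneForm (F := F) (co x i) (co y i)
  have hf : ∀ x y, f x y = ∑ i, (co x i 0 * co y i 1 - co x i 1 * co y i 0) :=
    fun x y => Finset.sum_congr rfl fun i _ => smallPlaneForm_eq_det h2 _ _
  refine ⟨f, ⟨⟨?_, ?_, ?_, ?_⟩, ?_, ?_, ?_⟩, fun g hg => ?_⟩
  · intro x y v; simp only [hf, hco_add, Pi.add_apply, ← Finset.sum_add_distrib]
    exact Finset.sum_congr rfl fun i _ => by ring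
  · intro c x v; simp only [hf, hco_smul, Pi.smul_apply, smul_eq_mul, Finset.mul_sum]
    exact Finset.sum_congr rfl fun i _ => by ring
  · intro v x y; simp only [hf, hco_add, Pi.add_apply, ← Finset.sum_add_distrib]
    exact Finset.sum_congr rfl fun i _ => by ring
  · intro c v x; simp only [hf, hco_smul, Pi.smul_apply, smul_eq_mul, Finset.mul_sum]
    exact Finset.sum_congr rfl fun i _ => by ring
  · intro v w; simp only [hf, ← Finset.sum_neg_distrib]
    exact Finset.sum_congr rfl fun i _ => by ring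
  · intro v; simp only [hf]
    exact Finset.sum_eq_zero fun i _ => by ring
  · intro v hv
    obtain ⟨⟨i, j⟩, hij⟩ : ∃ p, b.repr v p ≠ 0 := by
      by_contra hall
      push Not at hall
      exact hv (b.repr.map_eq_zero_iff.1 (Finsupp.ext hall))
    have hco : ∀ (k : Fin 2) (l : Fin t) (m : Fin 2), co (b ⟨i, k⟩) l m = if l = i ∧ m = k then 1 else 0 := by
      intro k l m
      show b.repr (b ⟨i, k⟩) ⟨l, m⟩ = _
      rw [Module.Basis.repr_self, Finsupp.single_apply]
      refine if_congr ⟨fun h => ?_, fun h => by obtain ⟨rfl, rfl⟩ := h; rfl⟩ rfl rfl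
      obtain ⟨rfl, h2⟩ := Sigma.mk.inj_iff.1 h
      exact ⟨rfl, (eq_of_heq h2).symm⟩
    have hij' : co v i j ≠ 0 := hij
    constructor
    · refine ⟨b ⟨i, 1 - j⟩, ?_⟩
      rw [hf, Finset.sum_eq_single i (fun l _ hl => by simp [hco, hl]) (fun h => absurd (Finset.mem_univ i) h)]
      fin_cases j <;> simp_all [hco]
    · refine ⟨b ⟨i, 1 - j⟩, ?_⟩
      rw [hf, Finset.sum_eq_single i (fun l _ hl => by simp [hco, hl]) (fun h => absurd (Finset.mem_univ i) h)]
      fin_cases j <;> simp_all [hco]
  · obtain ⟨σ, hσ⟩ := hg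
    let pc : Fin t → (ι → F) → (ι → F) := fun i x => ∑ j, co x i j • (b ⟨i, j⟩)
    have hsum : ∀ x, ∑ i, pc i x = x := fun x => by
      conv_rhs => rw [← b.sum_repr x, Fintype.sum_sigma]
    have hpcD : ∀ i x, pc i x ∈ D i := fun i x => Submodule.sum_mem _ fun j _ =>
      Submodule.smul_mem _ _ (hint.collectedBasis_mem b' ⟨i, j⟩)
    have hcoD : ∀ i, ∀ w ∈ D i, ∀ l, l ≠ i → co w l = 0 := by
      intro i w hw l hl
      funext j
      show b.repr w ⟨l, j⟩ = 0
      have hw2 : w = ∑ k, (b' i).repr ⟨w, hw⟩ k • b ⟨i, k⟩ := by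
        refine (congrArg Subtype.val ((b' i).sum_repr ⟨w, hw⟩)).symm.trans ?_
        rw [Submodule.coe_sum]
        refine Finset.sum_congr rfl fun k _ => ?_
        rw [Submodule.coe_smul, hint.collectedBasis_coe b']
      rw [hw2, map_sum, Finsupp.finsetSum_apply]
      refine Finset.sum_eq_zero fun k _ => ?_
      rw [map_smul, Module.Basis.repr_self, Finsupp.smul_apply, Finsupp.single_apply, if_neg, smul_zero]
      intro h; exact hl (Sigma.mk.inj_iff.1 h).1.symm
    have hkey : ∀ x i, pc (σ i) ((g : Matrix ι ι F) *ᵥ x) = (g : Matrix ι ι F) *ᵥ pc i x := by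
      intro x i
      have hgD : ∀ k, (g : Matrix ι ι F) *ᵥ pc k x ∈ D (σ k) := fun k =>
        hσ k ▸ ⟨pc k x, hpcD k x, Matrix.toLin'_apply _ _⟩
      have h1 : co ((g : Matrix ι ι F) *ᵥ x) (σ i) = co ((g : Matrix ι ι F) *ᵥ pc i x) (σ i) := by
        conv_lhs => rw [← hsum x, Matrix.mulVec_sum]
        funext j
        show b.repr _ _ = b.repr _ _
        rw [map_sum, Finsupp.finsetSum_apply, Finset.sum_eq_single i]
        · intro k _ hk
          exact congrFun (hcoD _ _ (hgD k) (σ i) (fun h => hk (σ.injective h).symm)) j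
        · exact fun h => absurd (Finset.mem_univ _) h
      have h2 : pc (σ i) ((g : Matrix ι ι F) *ᵥ pc i x) = (g : Matrix ι ι F) *ᵥ pc i x := by
        conv_rhs => rw [← hsum ((g : Matrix ι ι F) *ᵥ pc i x)]
        rw [Finset.sum_eq_single (σ i)]
        · intro k _ hk
          exact Finset.sum_eq_zero fun j _ => by rw [congrFun (hcoD _ _ (hgD i) k hk) j]; simp
        · exact fun h => absurd (Finset.mem_univ _) h
      rw [← h2]
      exact Finset.sum_congr rfl fun j _ => by rw [h1]
    have hinj : ∀ i (u v : ι → F), pc i u = pc i v ↔ co u i = co v i := by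
      intro i u v
      refine ⟨fun h => funext fun j => ?_, fun h => Finset.sum_congr rfl fun j _ => by rw [h]⟩
      have hli := Fintype.linearIndependent_iff.1
        (b.linearIndependent.comp (fun j : Fin 2 => (⟨i, j⟩ : Σ _ : Fin t, Fin 2))
          (fun a c h => eq_of_heq (Sigma.mk.inj_iff.1 h).2))
        (fun j => co u i j - co v i j) (by
          simp only [Function.comp, sub_smul, Finset.sum_sub_distrib]
          exact sub_eq_zero.2 h) j
      exact sub_eq_zero.1 hli
    have hplane : ∀ i (u v : ι → F), smallPlaneForm (F := F) (co u i) (co v i) = smallPlaneForm (F := F) (pc i u) (pc i v) := by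
      intro i u v
      have hz : ∀ w, pc i w = 0 ↔ co w i = 0 := fun w => by
        have h := hinj i w 0
        have h0 : pc i 0 = 0 := by simp [pc, co]
        have h0' : co 0 i = 0 := by funext j; simp [co]
        rwa [h0, h0'] at h
      simp only [smallPlaneForm, ne_eq, hz, hinj]
      congr 1
    refine ⟨1, fun u v => ?_⟩
    rw [Units.val_one, one_mul]
    show ∑ i, _ = ∑ i, _
    rw [← Equiv.sum_comp σ]
    refine Finset.sum_congr rfl fun i _ => ?_
    rw [hplane, hplane, hkey, hkey]
    have hz : ∀ w, (g : Matrix ι ι F) *ᵥ w = 0 ↔ w = 0 := fun w =>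
      ⟨fun h => by_contra fun hw => GeomClasses.gl_mulVec_ne_zero g hw h, fun h => by simp [h]⟩
    simp only [smallPlaneForm, ne_eq, hz, (GeomClasses.gl_mulVec_injective g).eq_iff]
    congr 1

/-- Swapping the factors of a tensor decomposition. -/
theorem tensorProductSubgroup_le_swap (a b : ℕ) (e : ι ≃ Fin a × Fin b) (P : GL ι F) :
    tensorProductSubgroup a b e P ≤ tensorProductSubgroup b a (e.trans (Equiv.prodComm _ _)) P := by
  rintro _ ⟨_, ⟨y, ⟨A, B, hy⟩, rfl⟩, rfl⟩
  refine ⟨(glReindex e.symm).toMonoidHom y, ⟨glReindex (Equiv.prodComm (Fin a) (Fin b)) y, ⟨B, A, ?_⟩, ?_⟩, rfl⟩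
  · ext ⟨s, i⟩ ⟨t, j⟩
    have := congrFun (congrFun hy (i, s)) (j, t)
    simp [glReindex, this, mul_comm]
  · apply Units.ext
    ext x z
    simp [glReindex]

/-- Over the field with two elements GL₂ normalises a quadratic extension. -/
theorem gl_two_conj [Fintype F] (h2 : Fintype.card F = 2) (a : GL (Fin 2) F) :
    (a : Matrix (Fin 2) (Fin 2) F) * !![0, 1; 1, 1] = !![0, 1; 1, 1] * (a : Matrix (Fin 2) (Fin 2) F) ∨
    (a : Matrix (Fin 2) (Fin 2) F) * !![0, 1; 1, 1] = (1 + !![0, 1; 1, 1]) * (a : Matrix (Fin 2) (Fin 2) F) := by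
  have h20 := two_eq_zero_of_card_two h2
  have h11 : (1 : F) + 1 = 0 := by rw [← h20]; norm_num
  have hdet : (a : Matrix (Fin 2) (Fin 2) F).det ≠ 0 :=
    ((Matrix.isUnit_iff_isUnit_det _).1 a.isUnit).ne_zero
  rw [Matrix.det_fin_two] at hdet
  rw [← Matrix.ext_iff, ← Matrix.ext_iff]
  simp only [Fin.forall_fin_two, Matrix.mul_apply, Fin.sum_univ_two, Matrix.add_apply]
  rcases eq_zero_or_one_of_card_two h2 ((a : Matrix (Fin 2) (Fin 2) F) 0 0) with e00 | e00 <;>
  rcases eq_zero_or_one_of_card_two h2 ((a : Matrix (Fin 2) (Fin 2) F) 0 1) with e01 | e01 <;>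
  rcases eq_zero_or_one_of_card_two h2 ((a : Matrix (Fin 2) (Fin 2) F) 1 0) with e10 | e10 <;>
  rcases eq_zero_or_one_of_card_two h2 ((a : Matrix (Fin 2) (Fin 2) F) 1 1) with e11 | e11 <;>
  simp [e00, e01, e10, e11, h11] at hdet ⊢

/-- A tensor factor of dimension two over the field with two elements gives an extension field. -/
theorem tensor_le_field_two [Fintype F] [Nonempty ι] (h2 : Fintype.card F = 2) {b : ℕ} (hb : 0 < b)
    (e : ι ≃ Fin 2 × Fin b) (P : GL ι F) :
    ∃ K : Subalgebra F (Matrix ι ι F), IsFieldSubalgebra 2 K ∧ tensorProductSubgroup 2 b e P ≤ subalgebraNormalizer K := by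
  classical
  have h20 := two_eq_zero_of_card_two h2
  have h11 : (1 : F) + 1 = 0 := by rw [← h20]; norm_num
  set w : Matrix (Fin 2) (Fin 2) F := !![0, 1; 1, 1] with hw
  have hww : w * w = w + 1 := by
    rw [hw, ← Matrix.ext_iff]
    simp [Fin.forall_fin_two, Matrix.mul_apply, Fin.sum_univ_two, Matrix.add_apply, h11]
  have hww1 : w * (1 + w) = 1 := by
    rw [mul_add, mul_one, hww, ← add_assoc, ← two_smul F w, h20, zero_smul, zero_add]
  have hcases : ∀ x ∈ Algebra.adjoin F {w}, x = 0 ∨ x = 1 ∨ x = w ∨ x = 1 + w := by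
    have hspan : Algebra.adjoin F {w} ≤ (Submodule.span F ({1, w} : Set (Matrix (Fin 2) (Fin 2) F))).toSubalgebra
        (Submodule.subset_span (by simp)) (by
          intro x y hx hy
          obtain ⟨c, d, rfl⟩ := Submodule.mem_span_pair.1 hx
          obtain ⟨c', d', rfl⟩ := Submodule.mem_span_pair.1 hy
          refine Submodule.mem_span_pair.2 ⟨c * c' + d * d', c * d' + d * c' + d * d', ?_⟩
          rw [add_mul, mul_add, mul_add, Matrix.smul_mul, Matrix.smul_mul, Matrix.smul_mul, Matrix.smul_mul, one_mul,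
            one_mul, Matrix.mul_smul, Matrix.mul_smul, mul_one, hww, smul_add, smul_smul, smul_smul, smul_smul,
            smul_add, smul_smul, smul_smul]
          module) :=
      Algebra.adjoin_le (Set.singleton_subset_iff.2 (Submodule.subset_span (by simp)))
    intro x hx
    obtain ⟨c, d, rfl⟩ := Submodule.mem_span_pair.1 (hspan hx)
    rcases eq_zero_or_one_of_card_two h2 c with rfl | rfl <;> rcases eq_zero_or_one_of_card_two h2 d with rfl | rfl <;>
      simp
  let φ := tensorEmb (F := F) 2 b e P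
  haveI : NeZero b := ⟨by omega⟩
  have hφinj : Function.Injective φ := by
    intro X Y hXY
    have h1 := congrArg (conjHom P⁻¹) hXY
    simp only [φ, tensorEmb, AlgHom.comp_apply, conjHom_inv_cancel] at h1
    have h2' := (Matrix.reindexAlgEquiv F F e.symm).injective h1
    ext i j
    simpa [kroneckerHom_apply] using congrFun (congrFun h2' (i, 0)) (j, 0)
  let L := Algebra.adjoin F ({w} : Set (Matrix (Fin 2) (Fin 2) F))
  have hwL : w ∈ L := Algebra.subset_adjoin rfl
  have hLfield : ∀ x ∈ L, x ≠ 0 → ∃ y ∈ L, x * y = 1 := by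
    intro x hx hx0
    rcases hcases x hx with rfl | rfl | rfl | rfl
    · exact absurd rfl hx0
    · exact ⟨1, one_mem _, one_mul 1⟩
    · exact ⟨1 + w, add_mem (one_mem _) hwL, hww1⟩
    · refine ⟨w, hwL, ?_⟩
      rw [show (1 + w) * w = w * (1 + w) by rw [add_mul, mul_add, one_mul, mul_one]]
      exact hww1
  have hLcomm : ∀ x ∈ L, ∀ y ∈ L, x * y = y * x := by
    intro x hx y hy
    rcases hcases x hx with rfl | rfl | rfl | rfl <;> rcases hcases y hy with rfl | rfl | rfl | rfl <;>
      simp [mul_add, add_mul]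
  have hLrank : Module.finrank F L = 2 := by
    have hspan : L.toSubmodule = Submodule.span F (Set.range ![1, w]) := by
      rw [Matrix.range_cons, Matrix.range_cons, Matrix.range_empty, Set.union_empty, Set.singleton_union]
      apply le_antisymm
      · intro x hx
        rcases hcases x hx with rfl | rfl | rfl | rfl
        · exact zero_mem _
        · exact Submodule.subset_span (by simp)
        · exact Submodule.subset_span (by simp)
        · exact add_mem (Submodule.subset_span (by simp)) (Submodule.subset_span (by simp))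
      · rw [Submodule.span_le]
        rintro x (rfl | rfl)
        · exact one_mem L
        · exact hwL
    have hli : LinearIndependent F ![(1 : Matrix (Fin 2) (Fin 2) F), w] := by
      rw [LinearIndependent.pair_iff]
      intro c d hcd
      have e00 := congrFun (congrFun hcd 0) 0
      have e01 := congrFun (congrFun hcd 0) 1
      simp [hw] at e00 e01
      exact ⟨e00, e01⟩
    show Module.finrank F L.toSubmodule = 2
    rw [hspan, finrank_span_eq_card hli]; rfl
  refine ⟨L.map φ, ⟨?_, ?_, ?_⟩, le_subalgebraNormalizer ?_⟩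
  · rintro _ ⟨x, hx, rfl⟩ _ ⟨y, hy, rfl⟩
    show φ x * φ y = φ y * φ x
    rw [← map_mul, hLcomm x hx y hy, map_mul]
  · rintro _ ⟨x, hx, rfl⟩ hx0
    obtain ⟨y, hy, hxy⟩ := hLfield x hx (fun h0 => hx0 (by rw [h0]; exact map_zero φ))
    refine ⟨φ y, ⟨y, hy, rfl⟩, ?_⟩
    show φ x * φ y = 1
    rw [← map_mul, hxy, map_one]
  · exact ((L.equivMapOfInjective φ hφinj).toLinearEquiv.finrank_eq).symm.trans hLrank
  · rintro _ ⟨_, ⟨y, ⟨A, B, hy⟩, rfl⟩, rfl⟩ _ ⟨x, hx, rfl⟩
    refine ⟨(A : Matrix (Fin 2) (Fin 2) F) * x * ((A⁻¹ : GL (Fin 2) F) : Matrix (Fin 2) (Fin 2) F), ?_, ?_⟩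
    · have hstep : ∀ z ∈ L, conjHom A z ∈ L := by
        have : L.map (conjHom A) ≤ L := by
          rw [AlgHom.map_adjoin]
          refine Algebra.adjoin_le ?_
          rintro _ ⟨_, rfl, rfl⟩
          rcases gl_two_conj h2 A with h | h
          · rw [SetLike.mem_coe, conjHom_apply, h, mul_assoc, Units.mul_inv, mul_one]; exact hwL
          · rw [SetLike.mem_coe, conjHom_apply, h, mul_assoc, Units.mul_inv, mul_one]
            exact add_mem (one_mem _) hwL
        intro z hz
        exact this ⟨z, hz, rfl⟩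
      exact hstep x hx
    · show φ (conjHom A x) = conjHom _ (φ x)
      simp only [φ, tensorEmb, AlgHom.comp_apply]
      show conjHom P _ = conjHom (P * (glReindex e.symm).toMonoidHom y * P⁻¹) (conjHom P _)
      rw [conjHom_mul (P * _), conjHom_inv_cancel, conjHom_mul]
      congr 1
      let B' : Matrix (Fin b) (Fin b) F := ((B⁻¹ : GL (Fin b) F) : Matrix (Fin b) (Fin b) F)
      let A' : Matrix (Fin 2) (Fin 2) F := ((A⁻¹ : GL (Fin 2) F) : Matrix (Fin 2) (Fin 2) F)
      have hyinv : ((y⁻¹ : GL (Fin 2 × Fin b) F) : Matrix (Fin 2 × Fin b) (Fin 2 × Fin b) F) = A' ⊗ₖ B' := by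
        refine Units.inv_eq_of_mul_eq_one_right ?_
        rw [hy, ← Matrix.mul_kronecker_mul, Units.mul_inv, Units.mul_inv, Matrix.one_kronecker_one]
      have hc : conjHom y (kroneckerHom 2 b x) = kroneckerHom 2 b (conjHom A x) := by
        rw [conjHom_apply, hy, hyinv, kroneckerHom_apply, kroneckerHom_apply, conjHom_apply,
          ← Matrix.mul_kronecker_mul, ← Matrix.mul_kronecker_mul, mul_one, Units.mul_inv]
      show (Matrix.reindexAlgEquiv F F e.symm) (kroneckerHom 2 b (conjHom A x)) =
        conjHom ((glReindex e.symm).toMonoidHom y) ((Matrix.reindexAlgEquiv F F e.symm) (kroneckerHom 2 b x))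
      rw [← hc, conjHom_apply, conjHom_apply, map_mul, map_mul]
      rfl

end CfsgLib.Geo.Asch
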