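import Mathlib
import Cfsg.Prelude.Def_GeometricClasses
import Cfsg.Agent.Lib.Geo.AschLinear
import Cfsg.Agent.Lib.Geo.AschSmall
import Cfsg.Agent.Lib.Geo.AschTypeRData
import Cfsg.Agent.Lib.Geo.AschWreathForms

/-! The structure theorem for subgroups of the general linear group. -/

set_option autoImplicit false
set_option linter.unusedSectionVars false

namespace CfsgLib.Geo.Asch

open Cfsg Cfsg.Geo Matrix
open scoped MatrixGroups commutatorElement

variable {F : Type*} [Field F] [Fintype F] {n : ℕ}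

/-- Every subgroup lies in a geometric class or is residual. -/
theorem linear_containment (hn : 3 ≤ n) (H : Subgroup (GL (Fin n) F)) :
    (∃ W : Submodule F (Fin n → F), W ≠ ⊥ ∧ W ≠ ⊤ ∧ H ≤ subspaceStabilizer W) ∨
    (∃ (t m : ℕ) (D : Fin t → Submodule F (Fin n → F)), IsMDecomposition m D ∧ t * m = n ∧
      H ≤ decompositionStabilizer D) ∨
    (∃ (r : ℕ) (K : Subalgebra F (Matrix (Fin n) (Fin n) F)), r.Prime ∧ r ∣ n ∧ IsFieldSubalgebra r K ∧
      H ≤ subalgebraNormalizer K) ∨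
    (∃ (a b : ℕ) (e : Fin n ≃ Fin a × Fin b) (P : GL (Fin n) F), 2 ≤ a ∧ a < b ∧ a * b = n ∧
      H ≤ tensorProductSubgroup a b e P) ∨
    (∃ (F₀ : Subfield F) (r : ℕ) (P : GL (Fin n) F), r.Prime ∧ Fintype.card F = Nat.card F₀ ^ r ∧
      H ≤ subfieldSubgroup F₀ P) ∨
    (∃ (r m : ℕ) (R : Subgroup (GL (Fin n) F)), TypeR r m R ∧ IsLinearSymplecticTypeData r R ∧
      H ≤ subgroupNormalizer R) ∨
    (∃ (a t : ℕ) (e : Fin n ≃ (Fin t → Fin a)) (P : GL (Fin n) F), 3 ≤ a ∧ 2 ≤ t ∧ n = a ^ t ∧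
      H ≤ tensorWreathSubgroup a t e P) ∨
    (Odd (Fintype.card F) ∧ ∃ Q : (Fin n → F) → F, IsNondegenerateQuadraticForm Q ∧ H ≤ quadSimilarityGroup Q) ∨
    (∃ f : (Fin n → F) → (Fin n → F) → F, IsSymplecticForm f ∧ H ≤ similarityGroup f) ∨
    (∃ (σ : F ≃+* F) (f : (Fin n → F) → (Fin n → F) → F), IsUnitaryForm σ f ∧ H ≤ similarityGroup f) ∨
    InLinearResidualClass H := by
  haveI : Nonempty (Fin n) := ⟨⟨0, by omega⟩⟩
  by_cases hirr : ActsIrreducibly (matrixSet H)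
  swap
  · obtain ⟨W, hW, hW1, hW2⟩ : ∃ W : Submodule F (Fin n → F),
        (∀ s ∈ matrixSet H, W.map (Matrix.toLin' s) ≤ W) ∧ W ≠ ⊥ ∧ W ≠ ⊤ := by
      unfold ActsIrreducibly at hirr
      push Not at hirr
      exact hirr
    refine Or.inl ⟨W, hW1, hW2, ?_⟩
    intro g hg
    exact GeomClasses.mem_subspaceStabilizer.2 fun v hv => hW _ ⟨g, hg, rfl⟩ ⟨v, hv, Matrix.toLin'_apply _ v⟩
  by_cases hprim : Prim H
  swap
  · obtain ⟨m, t, D, -, hD, hle⟩ : ∃ (m t : ℕ) (D : Fin t → Submodule F (Fin n → F)),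
        2 ≤ t ∧ IsMDecomposition m D ∧ H ≤ decompositionStabilizer D := by
      unfold Prim at hprim
      push Not at hprim
      exact hprim
    exact Or.inr (Or.inl ⟨t, m, D, hD, by simpa using mdecomposition_card hD, hle⟩)
  refine Or.inr (Or.inr ?_)
  by_cases hnf : NoField H
  swap
  · obtain ⟨r, K, hr, hK, hle⟩ : ∃ (r : ℕ) (K : Subalgebra F (Matrix (Fin n) (Fin n) F)),
        r.Prime ∧ IsFieldSubalgebra r K ∧ H ≤ subalgebraNormalizer K := by
      unfold NoField at hnf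
      push Not at hnf
      exact hnf
    exact Or.inl ⟨r, K, hr, by simpa using isFieldSubalgebra_dvd hK, hK, hle⟩
  refine Or.inr ?_
  have hwreath : ∀ (a t : ℕ) (e : Fin n ≃ (Fin t → Fin a)) (P : GL (Fin n) F), 2 ≤ a → 2 ≤ t →
      H ≤ tensorWreathSubgroup a t e P →
      (∃ (a t : ℕ) (e : Fin n ≃ (Fin t → Fin a)) (P : GL (Fin n) F), 3 ≤ a ∧ 2 ≤ t ∧ n = a ^ t ∧
        H ≤ tensorWreathSubgroup a t e P) ∨
      (Odd (Fintype.card F) ∧ ∃ Q : (Fin n → F) → F, IsNondegenerateQuadraticForm Q ∧ H ≤ quadSimilarityGroup Q) ∨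
      (∃ f : (Fin n → F) → (Fin n → F) → F, IsSymplecticForm f ∧ H ≤ similarityGroup f) := by
    intro a t e P ha ht hle
    rcases eq_or_lt_of_le ha with rfl | ha3
    · rcases wreath_two_le_form (by omega) e P with ⟨f, hf, hle'⟩ | ⟨ho, Q, hQ, hle'⟩
      · exact Or.inr (Or.inr ⟨f, hf, hle.trans hle'⟩)
      · exact Or.inr (Or.inl ⟨ho, Q, hQ, hle.trans hle'⟩)
    · exact Or.inl ⟨a, t, e, P, ha3, ht, by simpa using Fintype.card_congr e, hle⟩
  by_cases hnt : NoTensor H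
  swap
  · obtain ⟨a, b, e, P, ha, hb, hle⟩ : ∃ (a b : ℕ) (e : Fin n ≃ Fin a × Fin b) (P : GL (Fin n) F),
        2 ≤ a ∧ 2 ≤ b ∧ H ≤ tensorProductSubgroup a b e P := by
      unfold NoTensor at hnt
      push Not at hnt
      exact hnt
    have hc := Fintype.card_congr e
    simp only [Fintype.card_fin, Fintype.card_prod] at hc
    rcases lt_trichotomy a b with hlt | rfl | hlt
    · exact Or.inl ⟨a, b, e, P, ha, hlt, hc.symm, hle⟩
    · rcases hwreath a 2 _ P ha le_rfl (hle.trans (tensorProductSubgroup_le_wreath e P)) with h | h | h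
      · exact Or.inr (Or.inr (Or.inr (Or.inl h)))
      · exact Or.inr (Or.inr (Or.inr (Or.inr (Or.inl h))))
      · exact Or.inr (Or.inr (Or.inr (Or.inr (Or.inr (Or.inl h)))))
    · exact Or.inl ⟨b, a, _, P, hb, hlt, by rw [hc, mul_comm], hle.trans (tensorProductSubgroup_le_swap a b e P)⟩
  refine Or.inr ?_
  by_cases hsub : ∃ (F₀ : Subfield F) (r : ℕ) (P : GL (Fin n) F),
      r.Prime ∧ Fintype.card F = Nat.card F₀ ^ r ∧ H ≤ subfieldSubgroup F₀ P
  · exact Or.inl hsub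
  refine Or.inr ?_
  obtain ⟨N, hNH, hinv, hns, hspan, hmin, hcase⟩ := exists_structure (by simp; omega) hirr hprim hnf hnt
  by_cases hcl : ∀ x ∈ N, ∀ y ∈ N, x * y * x⁻¹ * y⁻¹ ∈ scalars (Fin n) F
  · obtain ⟨r, m, -, hR⟩ := exists_typeR (by simpa using hn) hinv hspan hcl hmin
    rcases hR.linear_cases hinv hmin with h | h | h | h | h
    · exact absurd h hsub
    · exact Or.inr (Or.inr (Or.inl h))
    · exact Or.inr (Or.inr (Or.inr (Or.inl h)))
    · exact Or.inr (Or.inr (Or.inr (Or.inr (Or.inl h))))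
    · exact Or.inl ⟨r, m, N, hR, h, le_normalizer_of_normalized hinv⟩
  refine Or.inr ?_
  by_cases hU : ∃ (σ : F ≃+* F) (f : (Fin n → F) → (Fin n → F) → F), IsUnitaryForm σ f ∧ H ≤ similarityGroup f
  · exact Or.inr (Or.inr (Or.inr (Or.inl hU)))
  by_cases hS : ∃ f : (Fin n → F) → (Fin n → F) → F, IsSymplecticForm f ∧ H ≤ similarityGroup f
  · exact Or.inr (Or.inr (Or.inl hS))
  by_cases hQ : Odd (Fintype.card F) ∧ ∃ Q : (Fin n → F) → F, IsNondegenerateQuadraticForm Q ∧ H ≤ quadSimilarityGroup Q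
  · exact Or.inr (Or.inl hQ)
  have hperf : ⁅N, N⁆ = N := by
    rcases hcase with ⟨h, -⟩ | ⟨h, -⟩ | ⟨h, -⟩
    · exact absurd h hcl
    · exact h
    · exact h
  rcases simple_or_wreath hNH hinv hspan hcl hmin with hsimple | ⟨a, t, e, P, ha, ht, -, hle⟩
  swap
  · rcases hwreath a t e P ha ht hle with h | h | h
    · exact Or.inl h
    · exact Or.inr (Or.inl h)
    · exact Or.inr (Or.inr (Or.inl h))
  refine Or.inr (Or.inr (Or.inr (Or.inr ?_)))
  push Not at hsub hS hU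
  refine ⟨N, residualCore_of_simple hNH hinv hspan hperf hns hsimple ?_, ?_, ?_, ?_⟩
  · intro F₀ h0 hr
    obtain ⟨F₁, r, P, hp, hc, hle⟩ := le_subfieldSubgroup hspan hinv h0 hr
    exact hsub F₁ r P hp hc hle
  · rintro ⟨Q, hq, hfix⟩
    by_cases hodd : Odd (Fintype.card F)
    · exact hQ ⟨hodd, Q, hq, (le_similarityGroup hspan hinv (RingEquiv.refl F) (polar_isSesq hq) hq.nondegenerate
        (fixesForm_polar hfix)).trans (polar_similarity hq (two_ne_zero_of_odd hodd))⟩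
    · have hs := polar_symplectic hq (two_eq_zero_of_not_odd hodd)
      exact hS _ hs (le_similarityGroup hspan hinv (RingEquiv.refl F) (symplectic_isSesq hs) hs.nondegenerate
        (fixesForm_polar hfix))
  · rintro ⟨f, hf, hfix⟩
    exact hS f hf (le_similarityGroup hspan hinv (RingEquiv.refl F) (symplectic_isSesq hf) hf.nondegenerate hfix)
  · rintro ⟨σ, f, hf, hfix⟩
    exact hU σ f hf (le_similarityGroup hspan hinv σ (unitary_isSesq hf) hf.nondegenerate hfix)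

/-- A maximal subgroup of the special linear group is a class member or residual. -/
theorem linear_maximal_cases (hn : 3 ≤ n) {H : Subgroup (GL (Fin n) F)}
    (hH : IsMaximalIn (specialLinear (Fin n) F) H) :
    (∃ W : Submodule F (Fin n → F), W ≠ ⊥ ∧ W ≠ ⊤ ∧ H = subspaceStabilizer W ⊓ specialLinear (Fin n) F) ∨
    (∃ (t m : ℕ) (D : Fin t → Submodule F (Fin n → F)), IsMDecomposition m D ∧ t * m = n ∧
      H = decompositionStabilizer D ⊓ specialLinear (Fin n) F) ∨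
    (∃ (r : ℕ) (K : Subalgebra F (Matrix (Fin n) (Fin n) F)), r.Prime ∧ r ∣ n ∧ IsFieldSubalgebra r K ∧
      H = subalgebraNormalizer K ⊓ specialLinear (Fin n) F) ∨
    (∃ (a b : ℕ) (e : Fin n ≃ Fin a × Fin b) (P : GL (Fin n) F), 2 ≤ a ∧ a < b ∧ a * b = n ∧
      H = tensorProductSubgroup a b e P ⊓ specialLinear (Fin n) F) ∨
    (∃ (F₀ : Subfield F) (r : ℕ) (P : GL (Fin n) F), r.Prime ∧ Fintype.card F = Nat.card F₀ ^ r ∧
      H = subfieldSubgroup F₀ P ⊓ specialLinear (Fin n) F) ∨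
    (∃ (r m : ℕ) (R : Subgroup (GL (Fin n) F)), TypeR r m R ∧ IsLinearSymplecticTypeData r R ∧
      H = subgroupNormalizer R ⊓ specialLinear (Fin n) F) ∨
    (∃ (a t : ℕ) (e : Fin n ≃ (Fin t → Fin a)) (P : GL (Fin n) F), 3 ≤ a ∧ 2 ≤ t ∧ n = a ^ t ∧
      H = tensorWreathSubgroup a t e P ⊓ specialLinear (Fin n) F) ∨
    (Odd (Fintype.card F) ∧ ∃ Q : (Fin n → F) → F, IsNondegenerateQuadraticForm Q ∧
      H = quadSimilarityGroup Q ⊓ specialLinear (Fin n) F) ∨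
    (∃ f : (Fin n → F) → (Fin n → F) → F, IsSymplecticForm f ∧
      H = similarityGroup f ⊓ specialLinear (Fin n) F) ∨
    (∃ (σ : F ≃+* F) (f : (Fin n → F) → (Fin n → F) → F), IsUnitaryForm σ f ∧
      H = similarityGroup f ⊓ specialLinear (Fin n) F) ∨
    InLinearResidualClass H := by
  have hn3 : 3 ≤ Fintype.card (Fin n) := by simpa using hn
  rcases linear_containment hn H with ⟨W, h1, h2, hle⟩ | ⟨t, m, D, hD, htm, hle⟩ | ⟨r, K, hr, hrn, hK, hle⟩ |
    ⟨a, b, e, P, ha, hab, hn', hle⟩ | ⟨F₀, r, P, hr, hc, hle⟩ | ⟨r, m, R, hR, hd, hle⟩ |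
    ⟨a, t, e, P, ha, ht, hn', hle⟩ | ⟨ho, Q, hQ, hle⟩ | ⟨f, hf, hle⟩ | ⟨σ, f, hf, hle⟩ | h
  · exact Or.inl ⟨W, h1, h2, eq_inf_of_le hH hle (not_specialLinear_le_subspace h1 h2)⟩
  · exact Or.inr (Or.inl ⟨t, m, D, hD, htm, eq_inf_of_le hH hle (not_specialLinear_le_decomposition hD)⟩)
  · exact Or.inr (Or.inr (Or.inl ⟨r, K, hr, hrn, hK, eq_inf_of_le hH hle (not_specialLinear_le_field hn hr.one_lt hK)⟩))
  · exact Or.inr (Or.inr (Or.inr (Or.inl ⟨a, b, e, P, ha, hab, hn',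
      eq_inf_of_le hH hle (not_specialLinear_le_tensor ha (by omega) e P)⟩)))
  · exact Or.inr (Or.inr (Or.inr (Or.inr (Or.inl ⟨F₀, r, P, hr, hc,
      eq_inf_of_le hH hle (not_specialLinear_le_subfield (by omega) (subfield_ne_top hr hc) P)⟩))))
  · exact Or.inr (Or.inr (Or.inr (Or.inr (Or.inr (Or.inl ⟨r, m, R, hR, hd,
      eq_inf_of_le hH hle hR.not_specialLinear_le_normalizer⟩)))))
  · exact Or.inr (Or.inr (Or.inr (Or.inr (Or.inr (Or.inr (Or.inl ⟨a, t, e, P, ha, ht, hn',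
      eq_inf_of_le hH hle (not_specialLinear_le_wreath (by omega) ht e P)⟩))))))
  · exact Or.inr (Or.inr (Or.inr (Or.inr (Or.inr (Or.inr (Or.inr (Or.inl ⟨ho, Q, hQ,
      eq_inf_of_le hH hle (not_specialLinear_le_quad hn3 hQ)⟩)))))))
  · exact Or.inr (Or.inr (Or.inr (Or.inr (Or.inr (Or.inr (Or.inr (Or.inr (Or.inl ⟨f, hf,
      eq_inf_of_le hH hle (not_specialLinear_le_similarity hn3 (symplectic_isSesq hf) hf.nondegenerate)⟩))))))))
  · exact Or.inr (Or.inr (Or.inr (Or.inr (Or.inr (Or.inr (Or.inr (Or.inr (Or.inr (Or.inl ⟨σ, f, hf,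
      eq_inf_of_le hH hle (not_specialLinear_le_similarity hn3 (unitary_isSesq hf) hf.nondegenerate)⟩)))))))))
  · exact Or.inr (Or.inr (Or.inr (Or.inr (Or.inr (Or.inr (Or.inr (Or.inr (Or.inr (Or.inr h)))))))))

end CfsgLib.Geo.Asch
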