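import Mathlib
import Cfsg.Prelude.Def_GeometricClasses
import Cfsg.Agent.Lib.Geo.AschFormQuad
import Cfsg.Agent.Lib.Geo.AschFormResidual
import Cfsg.Agent.Lib.Geo.AschOrthProper

/-! Structures which force a quadratic form in even degree to be of plus type. -/

set_option autoImplicit false
set_option linter.unusedSectionVars false
set_option maxHeartbeats 1000000

namespace CfsgLib.Geo.Asch

open Cfsg Cfsg.Geo Matrix QuadraticMap CfsgLib.GeomClasses CfsgLib.Maximal.TensorTools
open scoped MatrixGroups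

variable {ι : Type} [Fintype ι] [DecidableEq ι] {F : Type*} [Field F] [Fintype F] {Q : (ι → F) → F}

theorem quad_add (hQ : IsNondegenerateQuadraticForm Q) (u v : ι → F) :
    Q (u + v) = Q u + Q v + polar Q u v := by
  rw [polar]; ring

/-- A spanning set of pairwise orthogonal singular vectors spans a totally singular subspace. -/
theorem ts_span (hQ : IsNondegenerateQuadraticForm Q) {S : Set (ι → F)} (h0 : ∀ s ∈ S, Q s = 0)
    (hp : ∀ s ∈ S, ∀ t ∈ S, polar Q s t = 0) : IsTotallySingularQuad Q (Submodule.span F S) := by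
  have hs := polar_isSesq hQ
  have hz : Q 0 = 0 := by simpa using hQ.smul 0 0
  have hpol : ∀ s ∈ S, ∀ v ∈ Submodule.span F S, polar Q s v = 0 := by
    intro s hsS v hv
    induction hv using Submodule.span_induction with
    | mem x hx => exact hp s hsS x hx
    | zero => exact hs.zero_right s
    | add a b _ _ ha hb => rw [hs.add_right, ha, hb, add_zero]
    | smul c a _ ha => rw [hs.smul_right, ha, mul_zero]
  intro v hv
  have key : Q v = 0 ∧ ∀ w ∈ Submodule.span F S, polar Q v w = 0 := by
    induction hv using Submodule.span_induction with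
    | mem x hx => exact ⟨h0 x hx, hpol x hx⟩
    | zero => exact ⟨hz, fun w _ => hs.zero_left w⟩
    | add a b _ hb' ha hb =>
      exact ⟨by rw [quad_add hQ, ha.1, hb.1, ha.2 b hb']; ring,
        fun w hw => by rw [hs.add_left, ha.2 w hw, hb.2 w hw, add_zero]⟩
    | smul c a _ ha => exact ⟨by rw [hQ.smul, ha.1, mul_zero], fun w hw => by rw [hs.smul_left, ha.2 w hw, mul_zero]⟩
  exact key.1

/-- A totally singular subspace of at least half the dimension makes the form of plus type. -/
theorem plus_of_ts (hQ : IsNondegenerateQuadraticForm Q) {U : Submodule F (ι → F)}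
    (hU : IsTotallySingularQuad Q U) (hd : Fintype.card ι ≤ 2 * Module.finrank F U) : IsPlusTypeOn Q ⊤ := by
  have hq := OrthTools.quadOf_nondegenerate hQ
  have hle : U ≤ OrthTools.orth (quadOf hQ) U := fun u hu => OrthTools.mem_orth.2 fun y hy => by
    show polar Q y u = 0
    rw [polar, hU _ (U.add_mem hy hu), hU y hy, hU u hu]; ring
  have h1 := Submodule.finrank_mono hle
  rw [OrthTools.finrank_orth hq] at h1
  refine ⟨U, le_top, hU, ?_⟩
  rw [finrank_top, Module.finrank_fintype_fun_eq_card]
  omega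

theorem quad_comb_three (hQ : IsNondegenerateQuadraticForm Q) {a b c : ι → F} (hab : polar Q a b = 0)
    (hac : polar Q a c = 0) (hbc : polar Q b c = 0) (s t : F) :
    Q (a + s • b + t • c) = Q a + s ^ 2 * Q b + t ^ 2 * Q c := by
  have hs := polar_isSesq hQ
  simp only [quad_add hQ, hQ.smul, hs.add_left, hs.smul_left, hs.smul_right, RingHom.id_apply, hab, hac, hbc]
  ring

/-- Two orthogonal spanning copies of an even dimensional space with proportional forms: plus type. -/
theorem plus_of_similar_halves (hQ : IsNondegenerateQuadraticForm Q) {M : Type*} [AddCommGroup M] [Module F M]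
    [FiniteDimensional F M] (hM : Even (Module.finrank F M)) (hn : Fintype.card ι = 2 * Module.finrank F M)
    (L L' : M →ₗ[F] (ι → F)) {μ : F} (hμ : μ ≠ 0) (hQL : ∀ m, Q (L' m) = μ * Q (L m))
    (horth : ∀ m m', polar Q (L m) (L' m') = 0) (hsup : LinearMap.range L ⊔ LinearMap.range L' = ⊤) :
    IsPlusTypeOn Q ⊤ := by
  classical
  have hs := polar_isSesq hQ
  have hrk : Fintype.card ι ≤ Module.finrank F (LinearMap.range L) + Module.finrank F (LinearMap.range L') := by
    have := Submodule.finrank_add_le_finrank_add_finrank (LinearMap.range L) (LinearMap.range L')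
    rw [hsup, finrank_top, Module.finrank_fintype_fun_eq_card] at this
    exact this
  have hr' := LinearMap.finrank_range_le L'
  have hr := LinearMap.finrank_range_le L
  have hinj : Function.Injective L := by
    rw [← LinearMap.ker_eq_bot, ← Submodule.finrank_eq_zero]
    have := LinearMap.finrank_range_add_finrank_ker L
    omega
  by_cases h2 : (2 : F) = 0
  · haveI : CharP F 2 := CharTwo.of_one_ne_zero_of_two_eq_zero one_ne_zero h2
    obtain ⟨r, hr2⟩ := FiniteField.isSquare_of_char_two (ringChar.eq F 2) μ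
    have hQX : ∀ m, Q (r • L m + L' m) = 0 := fun m => by
      rw [quad_add hQ, hQ.smul, hs.smul_left, horth, hQL, hr2]
      linear_combination (r * r * Q (L m)) * h2
    refine plus_of_ts hQ (U := LinearMap.range (r • L + L')) (by
      rintro _ ⟨m, rfl⟩
      exact hQX m) ?_
    have hle : LinearMap.range L' ≤ LinearMap.range (r • L + L') ⊔ LinearMap.range L := by
      rintro _ ⟨m, rfl⟩
      rw [show L' m = (r • L + L') m + (-r) • L m by simp]
      exact add_mem (Submodule.mem_sup_left ⟨m, rfl⟩) (Submodule.smul_mem _ _ (Submodule.mem_sup_right ⟨m, rfl⟩))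
    have htop : LinearMap.range (r • L + L') ⊔ LinearMap.range L = ⊤ :=
      top_le_iff.1 (hsup ▸ sup_le le_sup_right hle)
    have := Submodule.finrank_add_le_finrank_add_finrank (LinearMap.range (r • L + L')) (LinearMap.range L)
    rw [htop, finrank_top, Module.finrank_fintype_fun_eq_card] at this
    omega
  haveI : Invertible (2 : F) := invertibleOfNonzero h2
  let B : LinearMap.BilinForm F M := (quadOf hQ).polarBilin.compl₁₂ L L
  have hB : ∀ m m', B m m' = polar Q (L m) (L m') := fun m m' => rfl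
  obtain ⟨v, hv⟩ := LinearMap.BilinForm.exists_orthogonal_basis (B := B)
    ⟨fun m m' => by rw [RingHom.id_apply, hB, hB, polar_comm]⟩
  obtain ⟨h, hh⟩ := hM
  let e : Fin h × Fin 2 ≃ Fin (Module.finrank F M) := finProdFinEquiv.trans (finCongr (by omega))
  have horthv : ∀ i j, i ≠ j → polar Q (L (v i)) (L (v j)) = 0 := fun i j hij => (hB _ _).symm.trans (hv hij)
  have horthv' : ∀ i j, i ≠ j → polar Q (L' (v i)) (L' (v j)) = 0 := fun i j hij => by
    have h1 : polar Q (L' (v i)) (L' (v j)) = μ * polar Q (L (v i)) (L (v j)) := by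
      simp only [polar, ← map_add, hQL]; ring
    rw [h1, horthv i j hij, mul_zero]
  set n := fun i => Q (L (v i)) with hn'
  have hn0 : ∀ i, n i ≠ 0 := by
    intro i hi
    obtain ⟨y, hy⟩ := (hQ.nondegenerate (L (v i)) (fun hz => v.ne_zero i (hinj (by rw [hz, map_zero])))).2
    apply hy
    have hy' : y ∈ LinearMap.range L ⊔ LinearMap.range L' := hsup ▸ Submodule.mem_top
    obtain ⟨_, ⟨a, rfl⟩, _, ⟨b, rfl⟩, rfl⟩ := Submodule.mem_sup.1 hy'
    rw [hs.add_right, horth, add_zero, ← v.sum_repr a, map_sum, hs.sum_right]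
    refine Finset.sum_eq_zero fun j _ => ?_
    rw [map_smul, hs.smul_right]
    by_cases hij : i = j
    · subst hij
      rw [quad_polar_self hQ, show Q (L (v i)) = 0 from hi, mul_zero, mul_zero]
    · rw [horthv i j hij, mul_zero]
  have hxy : ∀ k : Fin h, ∃ x y : F, μ * n (e (k, 0)) * x ^ 2 + μ * n (e (k, 1)) * y ^ 2 = - n (e (k, 0)) :=
    fun k => CfsgLib.Orth.exists_binary h2 (mul_ne_zero hμ (hn0 _)) (mul_ne_zero hμ (hn0 _)) _
  choose x y hxy using hxy
  let c : Fin h → F := fun k => n (e (k, 1)) / n (e (k, 0)) * y k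
  let u0 : Fin h → (ι → F) := fun k => L (v (e (k, 0))) + x k • L' (v (e (k, 0))) + y k • L' (v (e (k, 1)))
  let u1 : Fin h → (ι → F) := fun k => L (v (e (k, 1))) + (- c k) • L' (v (e (k, 0))) + x k • L' (v (e (k, 1)))
  have hne : ∀ k, e (k, 0) ≠ e (k, 1) := fun k hk => by simpa using e.injective hk
  have hneq : ∀ {k l : Fin h} (p r : Fin 2), k ≠ l → e (k, p) ≠ e (l, r) := fun p r hkl hk =>
    hkl (Prod.ext_iff.1 (e.injective hk)).1
  have horth' : ∀ m m', polar Q (L' m') (L m) = 0 := fun m m' => by rw [polar_comm, horth]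
  have hq0 : ∀ k, Q (u0 k) = 0 := fun k => by
    rw [quad_comb_three hQ (horth _ _) (horth _ _) (horthv' _ _ (hne k)), hQL, hQL]
    linear_combination hxy k
  have hq1 : ∀ k, Q (u1 k) = 0 := fun k => by
    rw [quad_comb_three hQ (horth _ _) (horth _ _) (horthv' _ _ (hne k)), hQL, hQL]
    have h1 := hxy k
    have h2 := hn0 (e (k, 0))
    simp only [c, n] at h1 h2 ⊢
    field_simp
    linear_combination (Q (L (v (e (k, 1))))) * h1
  have hself : ∀ i, polar Q (L' (v i)) (L' (v i)) = 2 * (μ * n i) := fun i => by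
    rw [quad_polar_self hQ, hQL]
  have h01 : ∀ k, polar Q (u0 k) (u1 k) = 0 := fun k => by
    simp only [u0, u1, hs.add_left, hs.add_right, hs.smul_left, hs.smul_right, RingHom.id_apply, horth, horth',
      hself, horthv _ _ (hne k), horthv' _ _ (hne k), horthv' _ _ (hne k).symm, c]
    field_simp [hn0 (e (k, 0))]
    ring
  refine plus_of_ts hQ (U := Submodule.span F (Set.range u0 ∪ Set.range u1)) (ts_span hQ ?_ ?_) ?_
  · rintro _ (⟨k, rfl⟩ | ⟨k, rfl⟩)
    exacts [hq0 k, hq1 k]
  · have hfar : ∀ k l, k ≠ l → ∀ a ∈ ({u0 k, u1 k} : Set (ι → F)), ∀ b ∈ ({u0 l, u1 l} : Set (ι → F)),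
        polar Q a b = 0 := fun k l hkl a ha b hb => by
      rcases ha with rfl | rfl <;> rcases hb with rfl | rfl <;>
      simp only [u0, u1, hs.add_left, hs.add_right, hs.smul_left, hs.smul_right, horth, horth',
        horthv _ _ (hneq _ _ hkl), horthv' _ _ (hneq _ _ hkl), mul_zero, add_zero]
    rintro _ (⟨k, rfl⟩ | ⟨k, rfl⟩) _ (⟨l, rfl⟩ | ⟨l, rfl⟩) <;> by_cases hkl : k = l
    · subst hkl; rw [quad_polar_self hQ, hq0, mul_zero]
    · exact hfar k l hkl _ (by simp) _ (by simp)
    · subst hkl; exact h01 k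
    · exact hfar k l hkl _ (by simp) _ (by simp)
    · subst hkl; rw [polar_comm, h01]
    · exact hfar k l hkl _ (by simp) _ (by simp)
    · subst hkl; rw [quad_polar_self hQ, hq1, mul_zero]
    · exact hfar k l hkl _ (by simp) _ (by simp)
  · set U := Submodule.span F (Set.range u0 ∪ Set.range u1) with hU
    have hv' : ∀ i, L' (v i) ∈ LinearMap.range L' := fun i => ⟨_, rfl⟩
    have hle : LinearMap.range L ≤ U ⊔ LinearMap.range L' := by
      rintro _ ⟨m, rfl⟩
      rw [← v.sum_repr m, map_sum]
      refine Submodule.sum_mem _ fun i _ => ?_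
      rw [map_smul]
      refine Submodule.smul_mem _ _ ?_
      obtain ⟨⟨k, p⟩, rfl⟩ := e.surjective i
      fin_cases p
      · show L (v (e (k, 0))) ∈ _
        rw [show L (v (e (k, 0))) = u0 k - x k • L' (v (e (k, 0))) - y k • L' (v (e (k, 1))) by simp only [u0]; abel]
        exact sub_mem (sub_mem (Submodule.mem_sup_left (Submodule.subset_span (Or.inl ⟨k, rfl⟩)))
          (Submodule.mem_sup_right (Submodule.smul_mem _ _ (hv' _))))
          (Submodule.mem_sup_right (Submodule.smul_mem _ _ (hv' _)))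
      · show L (v (e (k, 1))) ∈ _
        rw [show L (v (e (k, 1))) = u1 k - (- c k) • L' (v (e (k, 0))) - x k • L' (v (e (k, 1))) by simp only [u1]; abel]
        exact sub_mem (sub_mem (Submodule.mem_sup_left (Submodule.subset_span (Or.inr ⟨k, rfl⟩)))
          (Submodule.mem_sup_right (Submodule.smul_mem _ _ (hv' _))))
          (Submodule.mem_sup_right (Submodule.smul_mem _ _ (hv' _)))
    have htop : U ⊔ LinearMap.range L' = ⊤ := top_le_iff.1 (hsup ▸ sup_le hle le_sup_right)
    have := Submodule.finrank_add_le_finrank_add_finrank U (LinearMap.range L')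
    rw [htop, finrank_top, Module.finrank_fintype_fun_eq_card] at this
    omega

section IndexTwo

variable {F₁ : Subfield F}

theorem root_index_two (hc : Fintype.card F = Nat.card F₁ ^ 2) {a b c : F} (ha : a ∈ F₁) (hb : b ∈ F₁)
    (hcm : c ∈ F₁) (ha0 : a ≠ 0) : ∃ x : F, a * x ^ 2 + b * x + c = 0 := by
  classical
  have hfix : ∀ {z : F}, z ∈ F₁ → z ^ Nat.card F₁ = z := fun {z} hz => by
    haveI : Fintype F₁ := Fintype.ofFinite _
    have h2 := congrArg Subtype.val (FiniteField.pow_card (⟨z, hz⟩ : F₁))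
    rw [SubmonoidClass.coe_pow] at h2
    rwa [Nat.card_eq_fintype_card]
  by_cases h2 : (2 : F) = 0
  · haveI : CharP F 2 := CharTwo.of_one_ne_zero_of_two_eq_zero one_ne_zero h2
    by_cases hb0 : b = 0
    · obtain ⟨r, hr⟩ := FiniteField.isSquare_of_char_two (ringChar.eq F 2) (c / a)
      refine ⟨r, ?_⟩
      rw [hb0, _root_.sq, ← hr, mul_div_cancel₀ _ ha0]
      linear_combination c * h2
    haveI : Fintype F₁ := Fintype.ofFinite _
    let q1 := Nat.card F₁
    obtain ⟨y, hy⟩ : ∃ y : F, y ^ q1 + y ≠ 0 := by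
      by_contra hall
      push Not at hall
      have hall' : ∀ z : F, z ∈ F₁ := fun z => mem_of_pow_card_eq (by
        linear_combination hall z - z * h2)
      have h3 : Nat.card F = Nat.card F₁ :=
        (Nat.card_congr ((Equiv.subtypeUnivEquiv hall'))).symm
      rw [Nat.card_eq_fintype_card] at h3
      have h4 : Nat.card F₁ ^ 1 < Nat.card F₁ ^ 2 :=
        Nat.pow_lt_pow_right Finite.one_lt_card (by norm_num)
      rw [pow_one, ← hc] at h4
      omega
    have hadd : ∀ u v : F, (u + v) ^ q1 = u ^ q1 + v ^ q1 := by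
      obtain ⟨⟨k, hk0⟩, -, hk⟩ := FiniteField.card F 2
      simp only [PNat.mk_coe] at hk
      obtain ⟨j, -, hj⟩ := (Nat.dvd_prime_pow Nat.prime_two).1 (show q1 ∣ 2 ^ k by
        rw [← hk, hc]; exact dvd_pow_self _ (by norm_num))
      intro u v
      rw [hj]
      exact add_pow_char_pow u v 2 j
    have hqq : ∀ z : F, (z ^ q1) ^ q1 = z := fun z => by
      rw [← pow_mul, ← _root_.sq, ← hc, FiniteField.pow_card]
    set t := y ^ q1 + y with ht
    have htF : t ∈ F₁ := mem_of_pow_card_eq (by
      show t ^ q1 = t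
      rw [ht, hadd, hqq]; ring)
    set x1 := y / t with hx1
    have hx1F : x1 ^ q1 + x1 = 1 := by
      rw [hx1, div_pow, hfix htF, ← add_div, ← ht, div_self hy]
    have hx1sq : x1 ^ 2 + x1 ∈ F₁ := mem_of_pow_card_eq (by
      show (x1 ^ 2 + x1) ^ q1 = _
      rw [hadd, ← pow_mul, mul_comm 2 q1, pow_mul, show x1 ^ q1 = 1 - x1 by linear_combination hx1F]
      linear_combination (1 - 2 * x1) * h2)
    let φ : (↥F₁ ⊕ ↥F₁) → ↥F₁ := Sum.elim (fun w : ↥F₁ => w ^ 2 + w)
      (fun w : ↥F₁ => ⟨(x1 + w) ^ 2 + (x1 + w), by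
        have h5 : (x1 + (w : F)) ^ 2 + (x1 + w) = (x1 ^ 2 + x1) + ((w : F) ^ 2 + w) := by
          linear_combination (x1 * w) * h2
        rw [h5]
        exact F₁.add_mem hx1sq (F₁.add_mem (F₁.pow_mem w.2 _) w.2)⟩)
    let val : (↥F₁ ⊕ ↥F₁) → F := Sum.elim (fun w : ↥F₁ => (w : F)) (fun w : ↥F₁ => x1 + (w : F))
    have hφ : ∀ z, (φ z : F) = val z ^ 2 + val z := fun z => by
      rcases z with w | w <;> simp [φ, val]
    have hx1n : x1 ∉ F₁ := fun h => by
      rw [hfix h] at hx1F
      exact one_ne_zero (α := F) (by linear_combination x1 * h2 - hx1F)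
    have hval : Function.Injective val := by
      rintro (w | w) (w' | w') hw <;> simp only [val, Sum.elim_inl, Sum.elim_inr] at hw
      · exact congrArg Sum.inl (Subtype.ext hw)
      · exact absurd (by rw [show x1 = (w : F) - w' by linear_combination -hw]; exact F₁.sub_mem w.2 w'.2) hx1n
      · exact absurd (by rw [show x1 = (w' : F) - w by linear_combination hw]; exact F₁.sub_mem w'.2 w.2) hx1n
      · exact congrArg Sum.inr (Subtype.ext (add_left_cancel hw))
    have hfib : ∀ c0 : F₁, (Finset.univ.filter fun z => φ z = c0).card ≤ 2 := by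
      intro c0
      rcases Finset.eq_empty_or_nonempty (Finset.univ.filter fun z => φ z = c0) with h | ⟨z0, hz0⟩
      · rw [h]; simp
      rw [← Finset.card_image_of_injective _ hval]
      refine le_trans (Finset.card_le_card (t := {val z0, val z0 + 1}) fun r hr => ?_) Finset.card_le_two
      obtain ⟨z, hz, rfl⟩ := Finset.mem_image.1 hr
      rw [Finset.mem_filter] at hz hz0
      have h6 : (φ z : F) = φ z0 := by rw [hz.2, hz0.2]
      rw [hφ, hφ] at h6
      have h7 : (val z - val z0) * (val z - (val z0 + 1)) = 0 := by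
        linear_combination h6 + (val z0 ^ 2 + val z0 - val z * val z0 - val z) * h2
      rcases mul_eq_zero.1 h7 with h | h <;> simp [sub_eq_zero.1 h]
    have hsurj : ∀ w : F₁, ∃ z, φ z = w := by
      intro w
      by_contra hw
      push Not at hw
      have h8 := Finset.card_le_mul_card_image (Finset.univ : Finset (F₁ ⊕ F₁)) 2 (f := φ) fun c0 _ => hfib c0
      have h9 : (Finset.univ.image φ).card < Fintype.card F₁ :=
        Finset.card_lt_univ_of_notMem (x := w) (by simpa using hw)
      rw [Finset.card_univ, Fintype.card_sum] at h8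
      omega
    obtain ⟨z, hz⟩ := hsurj ⟨a * c / b ^ 2, F₁.div_mem (F₁.mul_mem ha hcm) (F₁.pow_mem hb _)⟩
    have h10 : val z ^ 2 + val z = a * c / b ^ 2 := by rw [← hφ, hz]
    refine ⟨b / a * val z, ?_⟩
    field_simp at h10 ⊢
    linear_combination h10 + (a * c) * h2
  · set d := b ^ 2 - 4 * a * c with hd
    have hdF : d ∈ F₁ := F₁.sub_mem (F₁.pow_mem hb _) (F₁.mul_mem (F₁.mul_mem (natCast_mem F₁ 4) ha) hcm)
    have hsq : IsSquare d := by
      by_cases hd0 : d = 0
      · rw [hd0]; exact IsSquare.zero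
      have hrc : ringChar F ≠ 2 := fun h => h2 (by
        haveI := ringChar.of_eq h
        exact CharP.cast_eq_zero F 2)
      rw [FiniteField.isSquare_iff hrc hd0, hc]
      obtain ⟨j, hj⟩ : Odd (Nat.card F₁) := by
        have := FiniteField.odd_card_of_char_ne_two hrc
        rw [hc, pow_two, Nat.mul_mod] at this
        rw [Nat.odd_iff]
        rcases Nat.mod_two_eq_zero_or_one (Nat.card F₁) with h | h
        · rw [h] at this; simp at this
        · exact h
      have hd1 : d ^ (2 * j) = 1 := by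
        have h3 := hfix hdF
        rw [hj, pow_succ] at h3
        exact mul_right_cancel₀ hd0 (by rw [h3, one_mul])
      rw [hj, show (2 * j + 1) ^ 2 / 2 = 2 * j * (j + 1) by
        rw [show (2 * j + 1) ^ 2 = 1 + 2 * (2 * j * (j + 1)) by ring, Nat.add_mul_div_left _ _ two_pos]; norm_num]
      rw [pow_mul, hd1, one_pow]
    obtain ⟨r, hr⟩ := hsq
    refine ⟨(-b + r) / (2 * a), ?_⟩
    field_simp
    linear_combination -hr + hd

/-- A form rational over a subfield of index two is of plus type. -/
theorem plus_of_index_two (hQ : IsNondegenerateQuadraticForm Q) (hc : Fintype.card F = Nat.card F₁ ^ 2)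
    (hn : Even (Fintype.card ι)) (hn2 : 2 ≤ Fintype.card ι) (P : GL ι F) {ζ : F} (hζ : ζ ≠ 0)
    (hrat : IsQuadFormRationalStructure (fun v => ζ * Q v) F₁ P) : IsPlusTypeOn Q ⊤ := by
  classical
  haveI : Fintype F₁ := Fintype.ofFinite _
  have hs := polar_isSesq hQ
  let em : (ι → F₁) → (ι → F) := fun u => (P : Matrix ι ι F) *ᵥ fun i => (u i : F)
  have hem_add : ∀ u v, em (u + v) = em u + em v := fun u v => by
    simp only [em]; rw [← Matrix.mulVec_add]; congr 1
  have hem_smul : ∀ (k : F₁) u, em (k • u) = (k : F) • em u := fun k u => by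
    simp only [em]; rw [← Matrix.mulVec_smul]; congr 1
  let Q1 : (ι → F₁) → F₁ := fun u => ⟨ζ * Q (em u), hrat _ fun i => (u i).2⟩
  have hQ1 : ∀ u, (Q1 u : F) = ζ * Q (em u) := fun u => rfl
  have hpol : ∀ u v, ((polar Q1 u v : F₁) : F) = ζ * polar Q (em u) (em v) := fun u v => by
    simp only [polar, AddSubgroupClass.coe_sub, hQ1, hem_add]; ring
  have hinj : Function.Injective em := fun u v h => funext fun i => Subtype.ext
    (congrFun (gl_mulVec_injective P h) i)
  have hQ1n : IsNondegenerateQuadraticForm Q1 := by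
    refine ⟨fun k u => Subtype.ext ?_, ⟨fun x y v => Subtype.ext ?_, fun k x v => Subtype.ext ?_,
      fun v x y => Subtype.ext ?_, fun k v x => Subtype.ext ?_⟩, fun u hu => ?_⟩
    · push_cast; rw [hQ1, hQ1, hem_smul, hQ.smul]; ring
    · push_cast; rw [hpol, hpol, hpol, hem_add, hs.add_left]; ring
    · push_cast; rw [hpol, hpol, hem_smul, hs.smul_left]; ring
    · push_cast; rw [hpol, hpol, hpol, hem_add, hs.add_right]; ring
    · push_cast; rw [hpol, hpol, hem_smul, hs.smul_right, RingHom.id_apply]; ring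
    · have hne : ∃ y, polar Q1 u y ≠ 0 := by
        by_contra hall
        push Not at hall
        have hz : ∀ i, polar Q (em u) (em (Pi.single i 1)) = 0 := fun i =>
          (mul_eq_zero.1 ((hpol _ _).symm.trans (congrArg Subtype.val (hall _)))).resolve_left hζ
        obtain ⟨-, w, hw⟩ := hQ.nondegenerate (em u) (fun h => hu (hinj (by
          rw [h]; simp only [em]; rw [show (fun i => ((0 : ι → F₁) i : F)) = 0 from rfl, Matrix.mulVec_zero])))
        apply hw
        rw [← gl_mulVec_inv_mulVec P w, pi_eq_sum_univ' (((P⁻¹ : GL ι F) : Matrix ι ι F) *ᵥ w), Matrix.mulVec_sum,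
          hs.sum_right]
        refine Finset.sum_eq_zero fun i _ => ?_
        rw [Matrix.mulVec_smul, hs.smul_right, show (Pi.single i (1 : F) : ι → F) = fun j => ((Pi.single i 1 : ι → F₁) j : F) by
          funext j; by_cases h : j = i <;> simp [h]]
        rw [show polar Q (em u) ((P : Matrix ι ι F) *ᵥ fun j => ((Pi.single i 1 : ι → F₁) j : F)) = 0 from hz i, mul_zero]
      exact ⟨hne.imp fun y hy => by rwa [polar_comm], hne⟩
  let q1 := quadOf hQ1n
  have hq1 : q1.polarBilin.Nondegenerate := OrthTools.quadOf_nondegenerate hQ1n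
  have key : ∀ (k : ℕ) (X : Submodule F₁ (ι → F₁)), (∀ x ∈ X, x ≠ 0 → ∃ y ∈ X, polar q1 x y ≠ 0) →
      2 * k + 2 ≤ Module.finrank F₁ X → ∃ U : Submodule F (ι → F), U ≤ Submodule.span F (em '' X) ∧
        IsTotallySingularQuad Q U ∧ k + 1 ≤ Module.finrank F U := by
    intro k
    induction k with
    | zero =>
      intro X _ hX
      obtain ⟨y1, hy1, hy10⟩ := Submodule.exists_mem_ne_zero_of_ne_bot (p := X)
        (fun h => by rw [h, finrank_bot] at hX; omega)
      obtain ⟨y2, hy2, hy12⟩ : ∃ y2 ∈ X, y2 ∉ Submodule.span F₁ {y1} := by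
        by_contra h
        push Not at h
        have := Submodule.finrank_mono (show X ≤ Submodule.span F₁ {y1} from h)
        rw [finrank_span_singleton hy10] at this
        omega
      obtain ⟨w, hw, hw0, hQw⟩ : ∃ w ∈ Submodule.span F (em '' X), w ≠ 0 ∧ Q w = 0 := by
        by_cases h0 : Q1 y1 = 0
        · exact ⟨em y1, Submodule.subset_span ⟨y1, hy1, rfl⟩, fun h => hy10 (hinj (by
            rw [h]; simp only [em]; rw [show (fun i => ((0 : ι → F₁) i : F)) = 0 from rfl, Matrix.mulVec_zero])),
            (mul_eq_zero.1 ((hQ1 y1).symm.trans (congrArg Subtype.val h0))).resolve_left hζ⟩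
        obtain ⟨x, hx⟩ := root_index_two hc (a := (Q1 y1 : F)) (b := ((polar Q1 y1 y2 : F₁) : F)) (c := (Q1 y2 : F))
          (SetLike.coe_mem _) (SetLike.coe_mem _) (SetLike.coe_mem _) (fun h => h0 (Subtype.ext h))
        refine ⟨x • em y1 + em y2, add_mem (Submodule.smul_mem _ _ (Submodule.subset_span ⟨y1, hy1, rfl⟩))
          (Submodule.subset_span ⟨y2, hy2, rfl⟩), fun hz => hy12 ?_, ?_⟩
        · obtain ⟨i, hi⟩ : ∃ i, y1 i ≠ 0 := Function.ne_iff.1 hy10
          have hz' : x • (fun j => (y1 j : F)) + (fun j => (y2 j : F)) = 0 :=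
            gl_mulVec_injective P (by
              show (P : Matrix ι ι F) *ᵥ _ = (P : Matrix ι ι F) *ᵥ _
              rw [Matrix.mulVec_add, Matrix.mulVec_smul, Matrix.mulVec_zero]; exact hz)
          have hcomp : ∀ j, (y2 j : F) = -x * y1 j := fun j => by
            have := congrFun hz' j
            simp only [Pi.add_apply, Pi.smul_apply, smul_eq_mul, Pi.zero_apply] at this
            linear_combination this
          refine Submodule.mem_span_singleton.2 ⟨y2 i / y1 i, funext fun j => Subtype.ext ?_⟩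
          have hi' : (y1 i : F) ≠ 0 := fun h => hi (Subtype.ext h)
          show ((y2 i / y1 i * y1 j : F₁) : F) = _
          push_cast
          rw [hcomp i, hcomp j, mul_div_assoc, div_self hi']; ring
        · rw [hQ1, hpol, hQ1] at hx
          refine (mul_eq_zero.1 (show ζ * Q _ = 0 from ?_)).resolve_left hζ
          rw [quad_add hQ, hQ.smul, hs.smul_left]
          linear_combination hx
      refine ⟨Submodule.span F {w}, Submodule.span_le.2 (Set.singleton_subset_iff.2 hw),
        ts_span hQ (fun s hs' => by rw [Set.mem_singleton_iff.1 hs', hQw]) (fun s hs' t ht => by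
          rw [Set.mem_singleton_iff.1 hs', Set.mem_singleton_iff.1 ht, quad_polar_self hQ, hQw, mul_zero]), ?_⟩
      rw [finrank_span_singleton hw0]
    | succ k ih =>
      intro X hXn hX
      obtain ⟨u, hu, hu0, hqu⟩ := OrthTools.exists_singular hq1 X (by omega)
      obtain ⟨u', hu', hqu', huu'⟩ := OrthTools.exists_partner hXn hu hu0 hqu
      obtain ⟨Y, hYX, hYd, hY, -, hYn⟩ := OrthClasses.remove_pair hq1 hXn hu hu' hqu hqu' huu'
      obtain ⟨U, hUle, hUts, hUd⟩ := ih Y hYn (by omega)
      have hperp : ∀ z ∈ X, (∀ y ∈ Y, polar q1 z y = 0) → ∀ w ∈ U, polar Q (em z) w = 0 := by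
        intro z _ hzY w hw
        have hw' := hUle hw
        clear hw
        induction hw' using Submodule.span_induction with
        | mem a ha =>
          obtain ⟨y, hy, rfl⟩ := ha
          exact (mul_eq_zero.1 ((hpol z y).symm.trans (congrArg Subtype.val (hzY y hy)))).resolve_left hζ
        | zero => exact hs.zero_right _
        | add a b _ _ ha hb => rw [hs.add_right, ha, hb, add_zero]
        | smul r a _ ha => rw [hs.smul_right, ha, mul_zero]
      have hQu : Q (em u) = 0 :=
        (mul_eq_zero.1 ((hQ1 u).symm.trans (congrArg Subtype.val hqu))).resolve_left hζ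
      have huU := hperp u hu fun y hy => (hY y hy).1
      refine ⟨Submodule.span F {em u} ⊔ U, sup_le
        (Submodule.span_le.2 (Set.singleton_subset_iff.2 (Submodule.subset_span ⟨u, hu, rfl⟩)))
        (hUle.trans (Submodule.span_mono (Set.image_mono hYX))), fun v hv => ?_, ?_⟩
      · obtain ⟨a, ha, b, hb, rfl⟩ := Submodule.mem_sup.1 hv
        obtain ⟨r, rfl⟩ := Submodule.mem_span_singleton.1 ha
        rw [quad_add hQ, hQ.smul, hQu, hs.smul_left, huU b hb, hUts b hb]; ring
      · have hu'U := hperp u' hu' fun y hy => (hY y hy).2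
        have hnot : em u ∉ U := fun hmem => by
          have h1 := hu'U _ hmem
          have h2 : ((polar Q1 u u' : F₁) : F) = 1 := by
            rw [show polar Q1 u u' = 1 from huu']; rfl
          rw [hpol, polar_comm, h1, mul_zero] at h2
          exact zero_ne_one h2
        have hlt : U < Submodule.span F {em u} ⊔ U := lt_of_le_of_ne le_sup_right fun h =>
          hnot (h ▸ Submodule.mem_sup_left (Submodule.mem_span_singleton_self _))
        have := Submodule.finrank_lt_finrank_of_lt hlt
        omega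
  obtain ⟨m, hm⟩ := hn
  obtain ⟨U, -, hU, hUd⟩ := key (m - 1) ⊤
    (fun x _ hx => (hQ1n.nondegenerate x hx).2.imp fun y hy => ⟨trivial, hy⟩)
    (by rw [finrank_top, Module.finrank_fintype_fun_eq_card]; omega)
  exact plus_of_ts hQ hU (by omega)

end IndexTwo

/-- A spanning group of isometries realised over a subfield carries a multiple of the quadratic form there. -/
theorem exists_quad_rational_scalar [Nonempty ι] (hQ : IsNondegenerateQuadraticForm Q) (hn2 : 2 ≤ Fintype.card ι)
    {N : Subgroup (GL ι F)} (hspan : algOf N = ⊤) (hfix : ∀ s ∈ N, ∀ v, Q ((s : Matrix ι ι F) *ᵥ v) = Q v)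
    (F₁ : Subfield F) (P : GL ι F) (hrat : ∀ s ∈ N, ∀ i j, ((P⁻¹ * s * P : GL ι F) : Matrix ι ι F) i j ∈ F₁) :
    ∃ ζ : F, ζ ≠ 0 ∧ IsQuadFormRationalStructure (fun v => ζ * Q v) F₁ P := by
  classical
  have hs := polar_isSesq hQ
  have hNf : FixesForm (matrixSet N) (polar Q) := fixesForm_polar (by rintro _ ⟨s, hs', rfl⟩ v; exact hfix s hs' v)
  obtain ⟨ζ, hζ, hform⟩ := exists_form_rational_bilinear (herm_polar hQ) hspan hNf P hrat
  refine ⟨ζ, hζ, ?_⟩
  haveI : Fintype F₁ := Fintype.ofFinite _
  let θ : F ≃+* F := (FiniteField.frobeniusAlgEquivOfAlgebraic F₁ F).toRingEquiv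
  have hθ : ∀ x, θ x = x ^ Nat.card F₁ := fun x => by
    show FiniteField.frobeniusAlgEquivOfAlgebraic F₁ F x = _
    rw [FiniteField.coe_frobeniusAlgEquivOfAlgebraic, Nat.card_eq_fintype_card]
  have hθF : ∀ {x}, x ∈ F₁ → θ x = x := fun {x} hx => by
    have h2 := congrArg Subtype.val (FiniteField.pow_card (⟨x, hx⟩ : F₁))
    rw [SubmonoidClass.coe_pow] at h2
    rw [hθ, Nat.card_eq_fintype_card]
    exact h2
  have hθsymm : ∀ {x}, x ∈ F₁ → θ.symm x = x := fun {x} hx => by rw [RingEquiv.symm_apply_eq, hθF hx]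
  let A : (ι → F) → F := fun u => ζ * Q ((P : Matrix ι ι F) *ᵥ u)
  let S : (ι → F) → (ι → F) := fun u i => θ.symm (u i)
  let D : (ι → F) → F := fun u => θ (A (S u)) - A u
  have hsing : ∀ i j, (Pi.single i (1 : F) : ι → F) j ∈ F₁ := fun i j => by
    by_cases h : j = i <;> simp [h, F₁.one_mem, F₁.zero_mem]
  have hB : ∀ u v, θ (ζ * polar Q ((P : Matrix ι ι F) *ᵥ S u) ((P : Matrix ι ι F) *ᵥ S v)) =
      ζ * polar Q ((P : Matrix ι ι F) *ᵥ u) ((P : Matrix ι ι F) *ᵥ v) := by
    have hexp : ∀ u v, ζ * polar Q ((P : Matrix ι ι F) *ᵥ u) ((P : Matrix ι ι F) *ᵥ v) = ∑ i, ∑ j, u i * v j *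
        (ζ * polar Q ((P : Matrix ι ι F) *ᵥ Pi.single i 1) ((P : Matrix ι ι F) *ᵥ Pi.single j 1)) := fun u v => by
      conv_lhs => rw [pi_eq_sum_univ' u, pi_eq_sum_univ' v]
      simp only [Matrix.mulVec_sum, Matrix.mulVec_smul, hs.sum_left, hs.smul_left, Finset.mul_sum]
      refine Finset.sum_congr rfl fun i _ => ?_
      rw [hs.sum_right, Finset.mul_sum, Finset.mul_sum]
      refine Finset.sum_congr rfl fun j _ => ?_
      rw [hs.smul_right, RingHom.id_apply]; ring
    intro u v
    rw [hexp, hexp]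
    simp only [map_sum, map_mul (θ) _ _]
    refine Finset.sum_congr rfl fun i _ => Finset.sum_congr rfl fun j _ => ?_
    rw [show θ (S u i) = u i from θ.apply_symm_apply _, show θ (S v j) = v j from θ.apply_symm_apply _, ← map_mul,
      hθF (hform _ _ (hsing i) (hsing j))]
  have hSadd : ∀ u v, S (u + v) = S u + S v := fun u v => funext fun i => map_add θ.symm _ _
  have hAadd : ∀ u v, A (u + v) = A u + A v + ζ * polar Q ((P : Matrix ι ι F) *ᵥ u) ((P : Matrix ι ι F) *ᵥ v) :=
    fun u v => by simp only [A, Matrix.mulVec_add, quad_add hQ]; ring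
  have hAsm : ∀ (k : F) u, A (k • u) = k ^ 2 * A u := fun k u => by
    simp only [A, Matrix.mulVec_smul, hQ.smul]; ring
  have hDadd : ∀ u v, D (u + v) = D u + D v := fun u v => by
    simp only [D, hSadd, hAadd, map_add, hB]; ring
  have hDsm : ∀ (k : F) u, D (k • u) = k ^ 2 * D u := fun k u => by
    have h1 : S (k • u) = θ.symm k • S u := funext fun i => map_mul θ.symm _ _
    simp only [D, h1, hAsm, map_mul, map_pow, RingEquiv.apply_symm_apply]; ring
  have hDzero : ∀ u, D u = 0 := by
    by_cases h2 : (2 : F) = 0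
    · let C := ((P⁻¹ : GL ι F) : Matrix ι ι F)
      have h0 := quadratic_defect_eq_zero hn2 h2 (irreducible_of_algOf_eq_top hspan) (fun v => D (C *ᵥ v))
        (fun u v => by simp only [Matrix.mulVec_add, hDadd]) (fun k v => by simp only [Matrix.mulVec_smul, hDsm])
        (fun s hsN v => by
          set X : GL ι F := P⁻¹ * s * P with hX
          have h1 : C *ᵥ ((s : Matrix ι ι F) *ᵥ v) = (X : Matrix ι ι F) *ᵥ (C *ᵥ v) := by
            simp only [C, hX, Matrix.mulVec_mulVec, ← Units.val_mul, mul_inv_cancel_right]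
          show D (C *ᵥ ((s : Matrix ι ι F) *ᵥ v)) = D (C *ᵥ v)
          rw [h1]
          set w := C *ᵥ v
          have hA : ∀ z, A ((X : Matrix ι ι F) *ᵥ z) = A z := fun z => by
            simp only [A]
            rw [Matrix.mulVec_mulVec, ← Units.val_mul, hX, show P * (P⁻¹ * s * P) = s * P by group, Units.val_mul,
              ← Matrix.mulVec_mulVec, hfix s hsN]
          have hS : S ((X : Matrix ι ι F) *ᵥ w) = (X : Matrix ι ι F) *ᵥ S w := by
            funext k
            simp only [S, Matrix.mulVec, dotProduct, map_sum, map_mul]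
            exact Finset.sum_congr rfl fun a _ => by rw [hθsymm (hrat s hsN k a)]
          simp only [D, hS, hA])
      intro u
      have := h0 ((P : Matrix ι ι F) *ᵥ u)
      simp only [C, gl_inv_mulVec_mulVec] at this
      exact this
    · intro u
      have h1 : (2 : F) * A u = ζ * polar Q ((P : Matrix ι ι F) *ᵥ u) ((P : Matrix ι ι F) *ᵥ u) := by
        rw [quad_polar_self hQ]; ring
      have h3 : (2 : F) * A (S u) = ζ * polar Q ((P : Matrix ι ι F) *ᵥ S u) ((P : Matrix ι ι F) *ᵥ S u) := by
        rw [quad_polar_self hQ]; ring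
      refine (mul_eq_zero.1 (show (2 : F) * D u = 0 from ?_)).resolve_left h2
      have h4 := hB u u
      rw [← h3, ← h1, map_mul, hθF (show (2 : F) ∈ F₁ by rw [← one_add_one_eq_two]; exact F₁.add_mem F₁.one_mem F₁.one_mem)] at h4
      simp only [D]
      linear_combination h4
  intro u hu
  refine mem_of_pow_card_eq ?_
  rw [← hθ]
  have h5 := hDzero u
  simp only [D] at h5
  rw [show S u = u from funext fun i => hθsymm (hu i)] at h5
  exact sub_eq_zero.1 h5

end CfsgLib.Geo.Asch
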