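import Mathlib
import Cfsg.Prelude.Def_GeometricClasses
import Cfsg.Agent.Lib.Geo.AschOrthEvenTools
import Cfsg.Agent.Lib.Geo.AschGroup
import Cfsg.Agent.Lib.Geo.AschProper
import Cfsg.Agent.Lib.Geo.AschPrimeIrred
import Cfsg.Agent.Lib.Geo.AschFormField

/-! Omega normalises no field extension, and the reducible subgroups in even degree. -/

set_option autoImplicit false
set_option linter.unusedSectionVars false
set_option maxHeartbeats 1000000

namespace CfsgLib.Geo.Asch

open Cfsg Cfsg.Geo Matrix QuadraticMap CfsgLib.GeomClasses CfsgLib.Maximal.TensorTools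
open scoped MatrixGroups

variable {ι : Type} [Fintype ι] [DecidableEq ι] {F : Type*} [Field F] [Fintype F] {Q : (ι → F) → F}

theorem omega_not_le_field_even (hQ : IsNondegenerateQuadraticForm Q) (hn : 7 ≤ Fintype.card ι) {s : ℕ} (hs2 : 1 < s)
    {K : Subalgebra F (Matrix ι ι F)} (hK : IsFieldSubalgebra s K) :
    ¬ omegaGL Q ≤ subalgebraNormalizer K := by
  classical
  intro hle
  have hs := polar_isSesq hQ
  have hq := OrthTools.quadOf_nondegenerate hQ
  haveI : Nonempty ι := Fintype.card_pos_iff.1 (by omega)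
  obtain ⟨j, hjK, hj⟩ : ∃ j ∈ K, ∀ c : F, j ≠ c • (1 : Matrix ι ι F) := by
    by_contra h
    push Not at h
    have hK1 : Module.finrank F K ≤ 1 := finrank_le_one (⟨1, one_mem K⟩ : K) fun w => by
      obtain ⟨c, hc⟩ := h w.1 w.2
      exact ⟨c, Subtype.ext hc.symm⟩
    rw [hK.finrank_eq] at hK1
    omega
  have hker : ∀ {k : Matrix ι ι F}, k ∈ K → ∀ {x : ι → F}, x ≠ 0 → k *ᵥ x = 0 → k = 0 := by
    intro k hk x hx h0
    by_contra hk0
    obtain ⟨y, hy, hky⟩ := hK.inv k hk hk0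
    apply hx
    rw [← Matrix.one_mulVec x, ← hky, hK.comm k hk y hy, ← Matrix.mulVec_mulVec, h0, Matrix.mulVec_zero]
  have hjinj : Function.Injective (Matrix.toLin' j) := by
    rw [← LinearMap.ker_eq_bot, eq_bot_iff]
    intro x hx
    rw [LinearMap.mem_ker, Matrix.toLin'_apply] at hx
    by_contra hx0
    exact hj 0 (by rw [hker hjK (fun h => hx0 (Submodule.mem_bot F |>.2 h)) hx, zero_smul])
  obtain ⟨u, -, hu0, hu⟩ := OrthTools.exists_singular (q := quadOf hQ) hq ⊤
    (by rw [finrank_top, Module.finrank_fintype_fun_eq_card]; omega)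
  obtain ⟨Y, hYd, hYn, hYu, huY, hgY⟩ := exists_siegel_through hQ hn hu0 hu
  obtain ⟨b, hb, hb0, hqb⟩ := OrthTools.exists_singular (q := quadOf hQ) hq Y (by omega)
  obtain ⟨b', hb', hqb', hbb'⟩ := OrthTools.exists_partner (q := quadOf hQ) hYn hb hb0 hqb
  change polar Q b b' = 1 at hbb'
  change Q b = 0 at hqb
  change Q b' = 0 at hqb'
  have hb'0 : b' ≠ 0 := fun h => by rw [h, hs.zero_right] at hbb'; exact zero_ne_one hbb'
  -- the image of `u` under `j` lies in both planes
  have key : ∀ c c', c ∈ Y → Q c = 0 → c ≠ 0 → c' ∈ Y → polar Q c' c = 1 →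
      ∃ a d : F, j *ᵥ u = a • u + d • c := by
    intro c c' hc hqc hc0 hc' hcc
    obtain ⟨g, hg, hgx⟩ := hgY c hc hqc hc0
    set X := OrthTools.orth (quadOf hQ) (Submodule.span F {u, c}) with hX
    have hXd : Fintype.card ι ≤ Module.finrank F X + 2 := by
      have h1 := OrthTools.finrank_orth hq (Submodule.span F {u, c})
      rw [← hX] at h1
      have h2 : Module.finrank F (Submodule.span F ({u, c} : Set (ι → F))) ≤ 2 := by
        refine (finrank_span_le_card _).trans ?_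
        rw [Set.toFinset_insert, Set.toFinset_singleton]
        exact Finset.card_le_two
      omega
    have hfix : ∀ x ∈ X, (g : Matrix ι ι F) *ᵥ x = x := by
      intro x hx
      have h1 := OrthTools.mem_orth.1 hx u (Submodule.subset_span (by simp))
      have h2 := OrthTools.mem_orth.1 hx c (Submodule.subset_span (by simp))
      change polar Q u x = 0 at h1
      change polar Q c x = 0 at h2
      rw [hgx, polar_comm (f := Q) x c, polar_comm (f := Q) x u, h1, h2, zero_smul, zero_smul, add_zero, sub_zero]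
    have hcom : (g : Matrix ι ι F) * j = j * g := by
      have hj' := (hle hg j).1 hjK
      obtain ⟨x, hxm, hx0⟩ := Submodule.exists_mem_ne_zero_of_ne_bot (p := X ⊓ X.comap (Matrix.toLin' j)) fun h => by
        have h1 := Submodule.finrank_sup_add_finrank_inf_eq X (X.comap (Matrix.toLin' j))
        rw [h, finrank_bot] at h1
        have h2 := Submodule.finrank_le (X ⊔ X.comap (Matrix.toLin' j))
        rw [Module.finrank_fintype_fun_eq_card] at h2
        have h3 : Module.finrank F (X.comap (Matrix.toLin' j)) = Module.finrank F X := by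
          rw [(Submodule.equivMapOfInjective _ hjinj (X.comap (Matrix.toLin' j))).finrank_eq,
            Submodule.map_comap_eq_of_surjective (LinearMap.injective_iff_surjective.1 hjinj)]
        omega
      obtain ⟨hxX, hjx⟩ := hxm
      have hjx' : j *ᵥ x ∈ X := by rw [← Matrix.toLin'_apply]; exact hjx
      have h4 : (g : Matrix ι ι F) * j * ((g⁻¹ : GL ι F) : Matrix ι ι F) - j = 0 := by
        refine hker (K.sub_mem hj' hjK) hx0 ?_
        have h5 : ((g⁻¹ : GL ι F) : Matrix ι ι F) *ᵥ x = x := by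
          conv_lhs => rw [← hfix x hxX]
          exact gl_inv_mulVec_mulVec g x
        rw [Matrix.sub_mulVec, ← Matrix.mulVec_mulVec, ← Matrix.mulVec_mulVec, h5, hfix _ hjx', sub_self]
      have h6 := congrArg (· * (g : Matrix ι ι F)) (sub_eq_zero.1 h4)
      simpa [mul_assoc] using h6
    have h7 := congrArg (fun M => M *ᵥ c') hcom
    simp only [← Matrix.mulVec_mulVec] at h7
    rw [hgx, hgx, hcc, show polar Q c' u = 0 by rw [polar_comm]; exact hYu c' hc', zero_smul, one_smul, sub_zero,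
      Matrix.mulVec_add, add_sub_assoc] at h7
    exact ⟨polar Q (j *ᵥ c') c, - polar Q (j *ᵥ c') u, by rw [← add_left_cancel h7]; module⟩
  obtain ⟨a, d, h1⟩ := key b b' hb hqb hb0 hb' (by rw [polar_comm]; exact hbb')
  obtain ⟨a', d', h2⟩ := key b' b hb' hqb' hb'0 hb hbb'
  have hd : d = 0 := by
    have h3 := congrArg (fun z => polar Q z b') (h1.symm.trans h2)
    simp only [hs.add_left, hs.smul_left, hYu b' hb', hbb', quad_polar_self hQ, hqb'] at h3
    simpa using h3
  rw [hd, zero_smul, add_zero] at h1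
  refine hj a (sub_eq_zero.1 (hker (K.sub_mem hjK (K.smul_mem (one_mem K) a)) hu0 ?_))
  rw [Matrix.sub_mulVec, Matrix.smul_mulVec, Matrix.one_mulVec, h1, sub_self]

/-- A reducible maximal subgroup of Ω in even degree. -/
theorem orth_even_reducible (hQ : IsNondegenerateQuadraticForm Q) (hn : 7 ≤ Fintype.card ι)
    {H : Subgroup (GL ι F)} (hH : IsMaximalIn (omegaGL Q) H) (hirr : ¬ ActsIrreducibly (matrixSet H)) :
    (∃ W : Submodule F (ι → F), W ≠ ⊥ ∧ IsTotallySingularQuad Q W ∧ H = subspaceStabilizer W ⊓ omegaGL Q) ∨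
    (¬ Odd (Fintype.card F) ∧ ∃ v : ι → F, Q v ≠ 0 ∧
      H = subspaceStabilizer (Submodule.span F {v}) ⊓ omegaGL Q) ∨
    (∃ W : Submodule F (ι → F), W ≠ ⊥ ∧ W ≠ ⊤ ∧ IsNondegenerateOn (polar Q) W ∧
      2 * Module.finrank F W ≤ Fintype.card ι ∧
      ¬ (Fintype.card F ≤ 3 ∧ Module.finrank F W = 2 ∧ IsPlusTypeOn Q W) ∧
      (Odd (Module.finrank F W) → Odd (Fintype.card F)) ∧ H = subspaceStabilizer W ⊓ omegaGL Q) := by
  classical
  have hs := polar_isSesq hQ
  have hqd := OrthTools.quadOf_nondegenerate hQ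
  have hHf : ∀ g ∈ H, ∀ u v, polar Q ((g : Matrix ι ι F) *ᵥ u) ((g : Matrix ι ι F) *ᵥ v) = polar Q u v :=
    fun g hg => omega_polar hQ (hH.1.le hg)
  have hHQ : ∀ g ∈ H, ∀ u, Q ((g : Matrix ι ι F) *ᵥ u) = Q u := fun g hg u =>
    isometry_of_omega (hH.1.le hg) u 0
  obtain ⟨W₀, hW, hW1, hW2⟩ : ∃ W : Submodule F (ι → F),
      (∀ s ∈ matrixSet H, W.map (Matrix.toLin' s) ≤ W) ∧ W ≠ ⊥ ∧ W ≠ ⊤ := by
    unfold ActsIrreducibly at hirr
    push Not at hirr
    exact hirr
  let o := OrthTools.orth (quadOf hQ)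
  have hmo : ∀ {X : Submodule F (ι → F)} {x}, x ∈ o X ↔ ∀ y ∈ X, polar Q y x = 0 := fun {X x} => OrthTools.mem_orth
  have hdim : ∀ X : Submodule F (ι → F), Module.finrank F X + Module.finrank F (o X) = Fintype.card ι := fun X => by
    have := OrthTools.finrank_orth hqd X
    have h' := Submodule.finrank_le X
    rw [Module.finrank_fintype_fun_eq_card] at h'
    show _ + Module.finrank F (OrthTools.orth (quadOf hQ) X) = _
    omega
  have hinvo : ∀ X : Submodule F (ι → F), (∀ g ∈ H, ∀ v ∈ X, (g : Matrix ι ι F) *ᵥ v ∈ X) →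
      ∀ g ∈ H, ∀ v ∈ o X, (g : Matrix ι ι F) *ᵥ v ∈ o X := fun X hX g hg v hv => by
    rw [hmo] at hv ⊢
    intro y hy
    rw [← gl_mulVec_inv_mulVec g y, hHf g hg]
    exact hv _ (hX _ (H.inv_mem hg) y hy)
  have hmk : ∀ X : Submodule F (ι → F), (∀ g ∈ H, ∀ v ∈ X, (g : Matrix ι ι F) *ᵥ v ∈ X) → X ≠ ⊥ → X ≠ ⊤ →
      H = subspaceStabilizer X ⊓ omegaGL Q := fun X hX h1 h3 =>
    eq_inf_of_le hH (fun g hg => mem_subspaceStabilizer.2 (hX g hg)) (omega_not_le_subspace hQ hn h1 h3)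
  have hWinv : ∀ g ∈ H, ∀ v ∈ W₀, (g : Matrix ι ι F) *ᵥ v ∈ W₀ := fun g hg v hv =>
    invariant_map_mem hW ⟨g, hg, rfl⟩ hv
  by_cases hR : W₀ ⊓ o W₀ = ⊥
  swap
  · set R := W₀ ⊓ o W₀
    have hpolR : ∀ x ∈ R, ∀ y ∈ R, polar Q x y = 0 := fun x hx y hy => hmo.1 hy.2 x hx.1
    have hRinv : ∀ g ∈ H, ∀ v ∈ R, (g : Matrix ι ι F) *ᵥ v ∈ R :=
      fun g hg v hv => ⟨hWinv g hg v hv.1, hinvo W₀ hWinv g hg v hv.2⟩
    have hRtop : R ≠ ⊤ := fun h => hW2 (top_le_iff.1 (h ▸ inf_le_left))
    have hz : Q 0 = 0 := by simpa using hQ.smul 0 0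
    let R0 : Submodule F (ι → F) :=
      { carrier := {v | v ∈ R ∧ Q v = 0}
        zero_mem' := ⟨R.zero_mem, hz⟩
        add_mem' := fun {a b} ha hb => ⟨R.add_mem ha.1 hb.1, by
          rw [quad_add hQ, ha.2, hb.2, hpolR a ha.1 b hb.1]; ring⟩
        smul_mem' := fun c a ha => ⟨R.smul_mem c ha.1, by rw [hQ.smul, ha.2, mul_zero]⟩ }
    by_cases hR0 : R0 = ⊥
    swap
    · refine Or.inl ⟨R0, hR0, fun v hv => hv.2, hmk R0 (fun g hg v hv => ⟨hRinv g hg v hv.1, ?_⟩) hR0 fun h => ?_⟩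
      · rw [hHQ g hg]; exact hv.2
      · exact hRtop (top_le_iff.1 (h ▸ fun v hv => hv.1))
    obtain ⟨v, hv, hv0⟩ := Submodule.exists_mem_ne_zero_of_ne_bot hR
    have hR0' : ∀ x ∈ R, Q x = 0 → x = 0 := fun x hx hq => (Submodule.eq_bot_iff _).1 hR0 x ⟨hx, hq⟩
    have hQv : Q v ≠ 0 := fun h => hv0 (hR0' v hv h)
    have h2 : (2 : F) = 0 := by
      have h := hpolR v hv v hv
      rw [quad_polar_self hQ] at h
      exact (mul_eq_zero.1 h).resolve_right hQv
    haveI : CharP F 2 := CharTwo.of_one_ne_zero_of_two_eq_zero one_ne_zero h2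
    have hev : ¬ Odd (Fintype.card F) := fun h => two_ne_zero_of_odd h h2
    have hspan : R = Submodule.span F {v} := by
      refine le_antisymm (fun w hw => ?_) (Submodule.span_le.2 (Set.singleton_subset_iff.2 hv))
      obtain ⟨r, hr⟩ := FiniteField.isSquare_of_char_two (ringChar.eq F 2) (Q w / Q v)
      have h3 : w + r • v = 0 := hR0' _ (R.add_mem hw (R.smul_mem r hv)) (by
        rw [quad_add hQ, hQ.smul, hs.smul_right, hpolR w hw v hv, _root_.sq, ← hr, div_mul_cancel₀ _ hQv]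
        linear_combination (Q w) * h2)
      exact Submodule.mem_span_singleton.2 ⟨-r, by rw [neg_smul, eq_comm, eq_neg_iff_add_eq_zero, h3]⟩
    exact Or.inr (Or.inl ⟨hev, v, hQv, hspan ▸ hmk R hRinv hR hRtop⟩)
  refine Or.inr ?_
  have hnd : ∀ x ∈ W₀, x ≠ 0 → ∃ y ∈ W₀, polar Q x y ≠ 0 := by
    intro x hx hx0
    by_contra hc
    push Not at hc
    exact hx0 ((Submodule.eq_bot_iff _).1 hR x ⟨hx, hmo.2 fun y hy => by rw [polar_comm]; exact hc y hy⟩)
  have hon : ∀ X : Submodule F (ι → F), (∀ x ∈ X, x ≠ 0 → ∃ y ∈ X, polar Q x y ≠ 0) →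
      IsNondegenerateOn (polar Q) X := fun X hX w hw hw0 => by
    obtain ⟨y, hy, hne⟩ := hX w hw hw0
    exact ⟨⟨y, hy, by rwa [polar_comm]⟩, ⟨y, hy, hne⟩⟩
  have hoddq : ∀ X : Submodule F (ι → F), (∀ x ∈ X, x ≠ 0 → ∃ y ∈ X, polar Q x y ≠ 0) →
      Odd (Module.finrank F X) → Odd (Fintype.card F) := by
    intro X hX ho
    by_contra hev
    have h2 := two_eq_zero_of_not_odd hev
    have hsymp : IsSymplecticForm (polar Q) := ⟨hQ.polar_bilinear, fun a b => by
      rw [polar_comm]; linear_combination (polar Q b a) * h2, fun a => by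
      rw [quad_polar_self hQ]; linear_combination (Q a) * h2, hQ.nondegenerate⟩
    haveI : Nonempty ι := Fintype.card_pos_iff.1 (by omega)
    exact (Nat.not_even_iff_odd.2 ho) (even_iff_two_dvd.2 (two_dvd_finrank_of_nondegenerate hsymp (hon X hX)))
  -- the smaller of the two subspaces
  obtain ⟨W, hWi, hWn, hWd, hW0, hWt⟩ : ∃ W : Submodule F (ι → F), (∀ g ∈ H, ∀ v ∈ W, (g : Matrix ι ι F) *ᵥ v ∈ W) ∧
      (∀ x ∈ W, x ≠ 0 → ∃ y ∈ W, polar Q x y ≠ 0) ∧ 2 * Module.finrank F W ≤ Fintype.card ι ∧ W ≠ ⊥ ∧ W ≠ ⊤ := by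
    have hd := hdim W₀
    by_cases hle : 2 * Module.finrank F W₀ ≤ Fintype.card ι
    · exact ⟨W₀, hWinv, hnd, hle, hW1, hW2⟩
    refine ⟨o W₀, hinvo W₀ hWinv, OrthTools.orth_nondegenerate hqd hnd, by omega, fun h => ?_, fun h => ?_⟩
    · have hlt := Submodule.finrank_lt hW2
      rw [Module.finrank_fintype_fun_eq_card] at hlt
      rw [h, finrank_bot] at hd; omega
    · have : 0 < Module.finrank F W₀ := Nat.pos_of_ne_zero fun h => hW1 (Submodule.finrank_eq_zero.1 h)
      rw [h, finrank_top, Module.finrank_fintype_fun_eq_card] at hd; omega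
  by_cases hbad : Fintype.card F ≤ 3 ∧ Module.finrank F W = 2 ∧ IsPlusTypeOn Q W
  swap
  · exact Or.inr ⟨W, hW0, hWt, hon W hWn, hWd, hbad, hoddq W hWn, hmk W hWi hW0 hWt⟩
  -- a hyperbolic plane over at most three elements has a fixed point
  obtain ⟨h3, hU2, U₁, hU₁, hts, hU₁d⟩ := hbad
  rw [hU2] at hU₁d
  obtain ⟨e, he, he0⟩ := Submodule.exists_mem_ne_zero_of_ne_bot (p := U₁)
    (fun h => by rw [h, finrank_bot] at hU₁d; omega)
  obtain ⟨f, hf, hqf, hef⟩ := OrthTools.exists_partner (q := quadOf hQ) hWn (hU₁ he) he0 (hts e he)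
  change Q f = 0 at hqf
  change polar Q e f = 1 at hef
  have hqe : Q e = 0 := hts e he
  have hcomb : ∀ a b : F, Q (a • e + b • f) = a * b := fun a b => by
    rw [quad_add hQ, hQ.smul, hQ.smul, hqe, hqf, hs.smul_left, hs.smul_right, hef, RingHom.id_apply]; ring
  have hpe : ∀ a b : F, polar Q (a • e + b • f) f = a ∧ polar Q (a • e + b • f) e = b := fun a b => by
    simp [hs.add_left, hs.smul_left, quad_polar_self hQ, hqe, hqf, hef, polar_comm (f := Q) f e]
  have hli : LinearIndependent F ![e, f] := by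
    rw [LinearIndependent.pair_iff]
    intro a b hab
    have h1 := hpe a b
    rw [hab, hs.zero_left, hs.zero_left] at h1
    exact ⟨h1.1.symm, h1.2.symm⟩
  have hspan : Submodule.span F (Set.range ![e, f]) = W := by
    refine Submodule.eq_of_le_of_finrank_eq (Submodule.span_le.2 ?_) ?_
    · rintro _ ⟨i, rfl⟩
      fin_cases i
      · exact hU₁ he
      · exact hf
    · rw [finrank_span_eq_card hli, Fintype.card_fin, hU2]
  set z := e + f with hz
  have hqz : Q z = 1 := by simpa [hz] using hcomb 1 1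
  have hz0 : z ≠ 0 := fun h => by
    have : Q (0 : ι → F) = 0 := by simpa using hQ.smul 0 0
    rw [h, this] at hqz; exact zero_ne_one hqz
  have hab : ∀ a b : F, a * b = 1 → a = b := by
    intro a b h
    have ha0 : a ≠ 0 := left_ne_zero_of_mul_eq_one h
    have ha2 := FiniteField.pow_card_sub_one_eq_one a ha0
    refine mul_left_cancel₀ ha0 (Eq.trans ?_ h.symm)
    rcases (show Fintype.card F = 2 ∨ Fintype.card F = 3 by have := Fintype.one_lt_card (α := F); omega) with hq | hq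
    · rw [hq, pow_one] at ha2; rw [ha2, mul_one]
    · rw [hq, _root_.sq] at ha2; exact ha2
  set L := Submodule.span F {z} with hL
  have hLinv : ∀ g ∈ H, ∀ v ∈ L, (g : Matrix ι ι F) *ᵥ v ∈ L := by
    intro g hg v hv
    obtain ⟨c, rfl⟩ := Submodule.mem_span_singleton.1 hv
    rw [Matrix.mulVec_smul]
    refine L.smul_mem _ ?_
    have hmem : (g : Matrix ι ι F) *ᵥ z ∈ W := hWi g hg z (W.add_mem (hU₁ he) hf)
    rw [← hspan, Matrix.range_cons, Matrix.range_cons, Matrix.range_empty, Set.union_empty,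
      Set.singleton_union, Submodule.mem_span_pair] at hmem
    obtain ⟨a, b, habz⟩ := hmem
    have h1 := hHQ g hg z
    rw [hqz, ← habz, hcomb] at h1
    rw [← habz, hab a b h1, ← smul_add]
    exact L.smul_mem _ (Submodule.mem_span_singleton_self z)
  have hLbot : L ≠ ⊥ := fun h => hz0 ((Submodule.eq_bot_iff _).1 h z (Submodule.mem_span_singleton_self z))
  have hL1 : Module.finrank F L = 1 := finrank_span_singleton hz0
  have hLtop : L ≠ ⊤ := fun h => by
    rw [h, finrank_top, Module.finrank_fintype_fun_eq_card] at hL1; omega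
  by_cases h2 : (2 : F) = 0
  · exact Or.inl ⟨fun h => two_ne_zero_of_odd h h2, z, by rw [hqz]; exact one_ne_zero, hmk L hLinv hLbot hLtop⟩
  refine Or.inr ⟨L, hLbot, hLtop, hon L fun x hx hx0 => ?_, by omega, fun h => by omega, fun _ => ?_,
    hmk L hLinv hLbot hLtop⟩
  · obtain ⟨c, rfl⟩ := Submodule.mem_span_singleton.1 hx
    refine ⟨z, Submodule.mem_span_singleton_self z, ?_⟩
    rw [hs.smul_left, quad_polar_self hQ, hqz, mul_one]
    exact mul_ne_zero (fun h => hx0 (by rw [h, zero_smul])) h2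
  · by_contra hev
    exact h2 (two_eq_zero_of_not_odd hev)

end CfsgLib.Geo.Asch
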