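import Mathlib
import Cfsg.Prelude.Def_GeometricClasses
import Cfsg.Agent.Lib.Geo.AschFormField
import Cfsg.Agent.Lib.Geo.AschFormQuad
import Cfsg.Agent.Lib.Geo.AschFormResidual
import Cfsg.Agent.Lib.Geo.AschFormProper

/-! Maximal subgroups of symplectic groups in degrees that are no prime powers. -/

set_option autoImplicit false
set_option linter.unusedSectionVars false

namespace CfsgLib.Geo.Asch

open Cfsg Cfsg.Geo Matrix CfsgLib.GeomClasses
open scoped MatrixGroups commutatorElement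

variable {ι : Type} [Fintype ι] [DecidableEq ι] {F : Type*} [Field F] [Fintype F]

theorem symplectic_cases [Nonempty ι] {f : (ι → F) → (ι → F) → F} (hf : IsSymplecticForm f)
    {Ω H : Subgroup (GL ι F)} (hΩ : HasSTv f Ω) (hΩf : IsoGrp f Ω) (hH : IsMaximalIn Ω H)
    (hn : 3 ≤ Fintype.card ι) (hnp : ¬ IsPrimePow (Fintype.card ι))
    (hpow : ∀ a t : ℕ, 2 ≤ a → 2 ≤ t → Fintype.card ι ≠ a ^ t) :
    (∃ W : Submodule F (ι → F), W ≠ ⊥ ∧ IsTotallySingularFor f W ∧ H = subspaceStabilizer W ⊓ Ω) ∨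
    (∃ W : Submodule F (ι → F), W ≠ ⊥ ∧ IsNondegenerateOn f W ∧ 2 * Module.finrank F W < Fintype.card ι ∧
      H = subspaceStabilizer W ⊓ Ω) ∨
    (∃ (t m : ℕ) (D : Fin t → Submodule F (ι → F)), 2 ≤ t ∧ 2 ≤ m ∧ 2 ∣ m ∧ t * m = Fintype.card ι ∧
      (m = 2 → 3 ≤ Fintype.card F) ∧ IsNondegenerateMDecomposition f m D ∧ H = decompositionStabilizer D ⊓ Ω) ∨
    (Odd (Fintype.card F) ∧ ∃ (m : ℕ) (D : Fin 2 → Submodule F (ι → F)), 2 * m = Fintype.card ι ∧ IsMDecomposition m D ∧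
      (∀ i, IsTotallySingularFor f (D i)) ∧ H = decompositionStabilizer D ⊓ Ω) ∨
    (∃ (s : ℕ) (K : Subalgebra F (Matrix ι ι F)), s.Prime ∧ 2 * s ∣ Fintype.card ι ∧ IsFieldSubalgebra s K ∧
      IsSelfAdjointFor f K ∧ (∀ k ∈ K, ∀ v, f (k *ᵥ v) v = 0) ∧ H = subalgebraNormalizer K ⊓ Ω) ∨
    (Odd (Fintype.card F) ∧ ∃ K : Subalgebra F (Matrix ι ι F), IsFieldSubalgebra 2 K ∧
      IsAdjointClosedFor f K ∧ ¬ IsSelfAdjointFor f K ∧ H = subalgebraNormalizer K ⊓ Ω) ∨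
    (Odd (Fintype.card F) ∧ ∃ (a b : ℕ) (e : ι ≃ Fin a × Fin b) (P : GL ι F) (f₁ : (Fin a → F) → (Fin a → F) → F)
      (f₂ : (Fin b → F) → (Fin b → F) → F), 2 ≤ a ∧ 3 ≤ b ∧ a * b = Fintype.card ι ∧ ¬ Odd a ∧
      (b = 3 → 5 ≤ Fintype.card F) ∧ IsSymplecticForm f₁ ∧ IsSymmetricForm f₂ ∧
      IsTensorFormStructure id f f₁ f₂ e P ∧ H = tensorProductSubgroup a b e P ⊓ Ω) ∨
    (∃ (F₀ : Subfield F) (r : ℕ) (P : GL ι F) (ζ : F), r.Prime ∧ Fintype.card F = Nat.card F₀ ^ r ∧ ζ ≠ 0 ∧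
      IsFormRationalStructure f F₀ ζ P ∧ H = subfieldSubgroup F₀ P ⊓ Ω) ∨
    (¬ Odd (Fintype.card F) ∧ ∃ Q : (ι → F) → F, IsNondegenerateQuadraticForm Q ∧
      (∀ u v, QuadraticMap.polar Q u v = f u v) ∧ H = quadSimilarityGroup Q ⊓ Ω) ∨
    InSymplecticResidualClass H := by
  classical
  have hh := herm_symplectic hf
  have hHf : IsoGrp f H := fun g hg => hΩf g (hH.1.le hg)
  have hn2 : 2 ≤ Fintype.card ι := by omega
  by_cases hquad : ¬ Odd (Fintype.card F) ∧ HasQuad f H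
  · obtain ⟨hev, Q, hQ, hpol, hle⟩ := hquad
    exact Or.inr (Or.inr (Or.inr (Or.inr (Or.inr (Or.inr (Or.inr (Or.inr (Or.inl ⟨hev, Q, hQ, hpol,
      eq_inf_of_le hH hle (stv_not_le_quad hf hn hΩ (two_eq_zero_of_not_odd hev) hQ hpol)⟩))))))))
  have hodd_or : ∀ _ : HasQuad f H, Odd (Fintype.card F) := fun h => by_contra fun h' => hquad ⟨h', h⟩
  by_cases hirr : ActsIrreducibly (matrixSet H)
  swap
  · rcases reducible_cases hh hHf hirr with ⟨W, h1, h2, hW, hle⟩ | ⟨W, h1, h2, hW, hd, hle⟩ | ⟨m, D, hD, hle⟩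
    · exact Or.inl ⟨W, h1, hW, eq_inf_of_le hH hle (stv_not_le_subspace hf hΩ h1 h2)⟩
    · exact Or.inr (Or.inl ⟨W, h1, hW, hd, eq_inf_of_le hH hle (stv_not_le_subspace hf hΩ h1 h2)⟩)
    · have hm2 : 2 ∣ m := hD.decomp.finrank_eq 0 ▸ two_dvd_finrank_of_nondegenerate hf (hD.nondegenerate 0)
      have hm : 2 ≤ m := Nat.le_of_dvd hD.decomp.pos hm2
      refine Or.inr (Or.inr (Or.inl ⟨2, m, D, le_rfl, hm, hm2, mdecomposition_card hD.decomp, fun h => ?_, hD,
        eq_inf_of_le hH hle (stv_not_le_decomposition hf hΩ hD.decomp hm)⟩))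
      exfalso
      have := mdecomposition_card hD.decomp
      apply hnp
      rw [← this, h]
      exact ⟨2, 2, Nat.prime_iff.1 Nat.prime_two, two_pos, rfl⟩
  refine Or.inr (Or.inr ?_)
  rcases irreducible_cases hn2 hh hHf hirr with hg | ⟨N, hNH, hinv, hns, hspan, hmin, hcase⟩
  swap
  · rcases hcase with ⟨-, hpp⟩ | ⟨hperf, hcl⟩
    · exact absurd hpp hnp
    have hsimple := (simple_or_power hNH hinv hspan hcl hmin).resolve_right
      (fun ⟨a, t, ha, ht, h⟩ => hpow a t ha ht h)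
    rcases symplectic_residual_cases hn2 hf hHf hNH hinv hns hspan hperf hsimple with
      ⟨F₀, r, P, ζ, hr, hc, hζ, hform, hle⟩ | ⟨hev, Q, hQ, hpol, hle⟩ | h
    · exact Or.inr (Or.inr (Or.inr (Or.inr (Or.inr (Or.inl ⟨F₀, r, P, ζ, hr, hc, hζ, hform,
        eq_inf_of_le hH hle (stv_not_le_subfield hf hn hΩ (subfield_ne_top hr hc) P)⟩)))))
    · exact absurd ⟨hev, Q, hQ, hpol, hle⟩ hquad
    · exact Or.inr (Or.inr (Or.inr (Or.inr (Or.inr (Or.inr (Or.inr h))))))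
  -- the three commutative structures
  by_cases h3 : ((∃ (t m : ℕ) (D : Fin t → Submodule F (ι → F)), IsNondegenerateMDecomposition f m D ∧
        H ≤ decompositionStabilizer D) ∨
      (∃ (m : ℕ) (D : Fin 2 → Submodule F (ι → F)), IsMDecomposition m D ∧
        (∀ i, IsTotallySingularFor f (D i)) ∧ H ≤ decompositionStabilizer D) ∨
      (∃ (s : ℕ) (K : Subalgebra F (Matrix ι ι F)), s.Prime ∧ IsFieldSubalgebra s K ∧
        IsAdjointClosedFor f K ∧ Normalized H K))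
  · rcases h3 with ⟨t, m, D, hD, hle⟩ | ⟨m, D, hD, hTS, hle⟩ | ⟨s, K, hs, hK, hKa, hHK⟩
    · let i : Fin t := ⟨0, lt_of_lt_of_le two_pos hD.decomp.two_le⟩
      have hm2 : 2 ∣ m := hD.decomp.finrank_eq i ▸ two_dvd_finrank_of_nondegenerate hf (hD.nondegenerate i)
      have hm : 2 ≤ m := Nat.le_of_dvd hD.decomp.pos hm2
      refine Or.inl ⟨t, m, D, hD.decomp.two_le, hm, hm2, mdecomposition_card hD.decomp, fun h2 => ?_, hD,
        eq_inf_of_le hH hle (stv_not_le_decomposition hf hΩ hD.decomp hm)⟩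
      by_contra hq
      have hq2 : Fintype.card F = 2 := by have := Fintype.one_lt_card (α := F); omega
      subst h2
      exact hquad ⟨by rw [hq2]; decide, hasQuad_of_planes hq2 hf hD hle⟩
    · have hodd : Odd (Fintype.card F) := by
        by_contra hev
        exact hev (hodd_or (hasQuad_of_pair (two_eq_zero_of_not_odd hev) hf hHf hD hTS hle))
      have hm : 2 ≤ m := by have := mdecomposition_card hD; omega
      exact Or.inr (Or.inl ⟨hodd, m, D, mdecomposition_card hD, hD, hTS,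
        eq_inf_of_le hH hle (stv_not_le_decomposition hf hΩ hD hm)⟩)
    · have hEq := eq_inf_of_le hH (le_subalgebraNormalizer hHK) (stv_not_le_field hf hn hΩ hs.one_lt hK)
      by_cases hself : IsSelfAdjointFor f K
      · have halt := selfAdjoint_alternating hf hK hself
        exact Or.inr (Or.inr (Or.inl ⟨s, K, hs, two_mul_dvd_of_alternating_field hf hK hself halt, hK, hself, halt, hEq⟩))
      · have hs2 : s = 2 := hs.eq_two_or_odd'.resolve_right fun ho => hself (selfAdjoint_of_odd hh hK ho hKa)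
        subst hs2
        have hodd : Odd (Fintype.card F) := by
          by_contra hev
          exact hev (hodd_or (exists_quad_of_field (two_eq_zero_of_not_odd hev) hf hHf hK hKa hself hHK))
        exact Or.inr (Or.inr (Or.inr (Or.inl ⟨hodd, K, hK, hKa, hself, hEq⟩)))
  rcases hg with hD | hP | hK | ⟨a, b, e, P, ε₁, ε₂, f₁, f₂, ha, hb, h₁, h₂, hε, -, hT, hle⟩
  · exact absurd (Or.inl hD) h3
  · exact absurd (Or.inr (Or.inl hP)) h3
  · exact absurd (Or.inr (Or.inr hK)) h3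
  have hodd : Odd (Fintype.card F) := by
    by_contra hev
    exact hev (hodd_or (hasQuad_of_tensor (two_eq_zero_of_not_odd hev) hf hHf hirr ha hb h₁ h₂ hT hle))
  have h2 := two_ne_zero_of_odd hodd
  -- orient the tensor product
  obtain ⟨a, b, e, P, f₁, f₂, ha, hb, h₁, h₂, hT, hle⟩ : ∃ (a b : ℕ) (e : ι ≃ Fin a × Fin b) (P : GL ι F)
      (f₁ : (Fin a → F) → (Fin a → F) → F) (f₂ : (Fin b → F) → (Fin b → F) → F), 2 ≤ a ∧ 2 ≤ b ∧
      Herm (RingEquiv.refl F) (-1) f₁ ∧ Herm (RingEquiv.refl F) 1 f₂ ∧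
      IsTensorFormStructure ((RingEquiv.refl F : F ≃+* F) : F → F) f f₁ f₂ e P ∧
      H ≤ tensorProductSubgroup a b e P := by
    haveI : Nonempty (Fin a) := ⟨⟨0, by omega⟩⟩
    rcases mul_self_eq_one_iff.1 (show ε₁ * ε₁ = 1 from h₁.eps_mul) with rfl | rfl
    · refine ⟨b, a, e.trans (Equiv.prodComm _ _), P, f₂, f₁, hb, ha, ?_, h₁, isTensorFormStructure_swap hT,
        tensorProductSubgroup_swap e P ▸ hle⟩
      rwa [show ε₂ = -1 by linear_combination hε] at h₂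
    · refine ⟨a, b, e, P, f₁, f₂, ha, hb, h₁, ?_, hT, hle⟩
      rwa [show ε₂ = 1 by linear_combination -hε] at h₂
  haveI : Nonempty (Fin a) := ⟨⟨0, by omega⟩⟩
  have hf₁ : IsSymplecticForm f₁ := by
    have hsk : ∀ v w, f₁ v w = - f₁ w v := fun v w => by
      rw [h₁.symm w v, neg_one_mul]; rfl
    exact ⟨⟨h₁.add_left, h₁.smul_left, h₁.add_right, fun c v x => h₁.smul_right c v x⟩, hsk,
      fun v => (mul_eq_zero.1 (show (2 : F) * f₁ v v = 0 by linear_combination hsk v v)).resolve_left h2, h₁.nondeg⟩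
  have hf₂ : IsSymmetricForm f₂ :=
    ⟨⟨h₂.add_left, h₂.smul_left, h₂.add_right, fun c v x => h₂.smul_right c v x⟩,
      fun v w => by rw [h₂.symm w v, one_mul]; rfl, h₂.nondeg⟩
  rcases eq_or_lt_of_le hb with hb2 | hb3
  · subst hb2
    exact (h3 (comm_of_symmetric_plane hh h2 hHf hirr h₂ h₁ (isTensorFormStructure_swap hT)
      (tensorProductSubgroup_swap e P ▸ hle))).elim
  by_cases h33 : b = 3 ∧ Fintype.card F = 3
  · obtain ⟨rfl, hq⟩ := h33
    obtain ⟨w, hne, horth, hframe⟩ := orth_three_frame hq h₂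
    obtain ⟨D, hD, hleD⟩ := tensor_frame_decomposition hh hT h₁ h₂ (by omega) hb w hne horth hle hHf hframe
    exact (h3 (Or.inl ⟨3, a, D, hD, hleD⟩)).elim
  refine Or.inr (Or.inr (Or.inr (Or.inr (Or.inl ⟨hodd, a, b, e, P, f₁, f₂, ha, hb3, ?_, fun hao => ?_, fun hb' => ?_,
    hf₁, hf₂, hT, eq_inf_of_le hH hle (stv_not_le_tensor hf hΩ ha hb e P)⟩))))
  · simpa using (Fintype.card_congr e).symm
  · exact not_symplectic_of_odd (by simpa using hao) hf₁
  · have := Fintype.one_lt_card (α := F)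
    obtain ⟨k, hk⟩ := hodd
    have : Fintype.card F ≠ 3 := fun h => h33 ⟨hb', h⟩
    omega

end CfsgLib.Geo.Asch
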