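import Mathlib
import Cfsg.Prelude.Def_GeometricClasses
import Cfsg.Agent.Lib.Geo.AschFormField
import Cfsg.Agent.Lib.Geo.AschFormFactor
import Cfsg.Agent.Lib.Geo.AschFormResidual
import Cfsg.Agent.Lib.Geo.AschFormProper

/-! Maximal subgroups of special unitary groups in degrees that are no prime powers. -/

set_option autoImplicit false
set_option linter.unusedSectionVars false

namespace CfsgLib.Geo.Asch

open Cfsg Cfsg.Geo Matrix CfsgLib.GeomClasses
open scoped MatrixGroups commutatorElement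

variable {ι : Type} [Fintype ι] [DecidableEq ι] {F : Type*} [Field F] [Fintype F]
  {σ : F ≃+* F} {f : (ι → F) → (ι → F) → F}

/-- Over four elements a decomposition into planes refines to one into lines. -/
theorem lines_of_planes [Nonempty ι] (h4 : Fintype.card F = 4) (hσ : ∀ x, σ x = x ^ 2) (hf : IsUnitaryForm σ f)
    {H : Subgroup (GL ι F)} (hH : IsoGrp f H) {t : ℕ} {D : Fin t → Submodule F (ι → F)}
    (hD : IsNondegenerateMDecomposition f 2 D) (hle : H ≤ decompositionStabilizer D) :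
    ∃ D' : Fin (t * 2) → Submodule F (ι → F), IsNondegenerateMDecomposition f 1 D' ∧
      H ≤ decompositionStabilizer D' := by
  classical
  have hh := herm_unitary hf
  have h41 : ∀ b : F, σ b = b → b ≠ 0 → b = 1 := fun b hb hb0 =>
    UnitPow.four_fixed h4 b (by rw [← hσ]; exact hb) hb0
  choose a b ha hb haa hbb hab hba hdec using fun i =>
    UnitPow.exists_orth_pair hf h41 (hD.nondegenerate i) (hD.decomp.finrank_eq i)
  let w : Fin t × Fin 2 → (ι → F) := fun p => if p.2 = 0 then a p.1 else b p.1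
  have hwD : ∀ p, w p ∈ D p.1 := fun p => by
    by_cases h : p.2 = 0 <;> simp [w, h, ha, hb]
  have hww : ∀ p, f (w p) (w p) = 1 := fun p => by
    by_cases h : p.2 = 0 <;> simp [w, h, haa, hbb]
  have hwo : ∀ p p', p ≠ p' → f (w p) (w p') = 0 := by
    rintro ⟨i, k⟩ ⟨i', k'⟩ hne
    by_cases hi : i = i'
    · subst hi
      fin_cases k <;> fin_cases k' <;> simp [w, hab, hba] at hne ⊢
    · exact hD.orthogonal i i' hi _ (hwD (i, k)) _ (hwD (i', k'))
  have hline : ∀ i, ∀ y ∈ D i, f y y ≠ 0 → ∃ k : Fin 2, ∃ r : F, y = r • w (i, k) := by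
    intro i y hy hyy
    have hy' := hdec i y hy
    by_cases h1 : f y (a i) = 0
    · exact ⟨1, f y (b i), by conv_lhs => rw [hy', h1, zero_smul, zero_add]
                              simp [w]⟩
    by_cases h2 : f y (b i) = 0
    · exact ⟨0, f y (a i), by conv_lhs => rw [hy', h2, zero_smul, add_zero]
                              simp [w]⟩
    exfalso
    apply hyy
    have hn : ∀ x : F, x ≠ 0 → x * σ x = 1 := fun x hx => by
      rw [hσ, ← pow_succ', show (2 : ℕ) + 1 = Fintype.card F - 1 by rw [h4]]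
      exact FiniteField.pow_card_sub_one_eq_one x hx
    conv_lhs => rw [hy']
    simp only [hh.add_left, hh.add_right, hh.smul_left, hh.smul_right, haa, hab, hba, hbb, mul_one, mul_zero,
      add_zero, zero_add, hn _ h1, hn _ h2]
    exact (one_add_one_eq_two).trans (UnitPow.four_two_zero h4)
  let en : Fin (t * 2) ≃ Fin t × Fin 2 := finProdFinEquiv.symm
  let D' : Fin (t * 2) → Submodule F (ι → F) := fun j => Submodule.span F {w (en j)}
  have hw0 : ∀ p, w p ≠ 0 := fun p h => zero_ne_one (α := F) (by rw [← hww p, h, hh.zero_left])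
  have horth : ∀ i j, i ≠ j → AreOrthogonalFor f (D' i) (D' j) := by
    intro i j hij u hu v hv
    obtain ⟨r, rfl⟩ := Submodule.mem_span_singleton.1 hu
    obtain ⟨s, rfl⟩ := Submodule.mem_span_singleton.1 hv
    rw [hh.smul_left, hh.smul_right, hwo _ _ (en.injective.ne hij), mul_zero, mul_zero]
  have hnd : ∀ i, IsNondegenerateOn f (D' i) := by
    intro i u hu hu0
    obtain ⟨r, rfl⟩ := Submodule.mem_span_singleton.1 hu
    have hr : r ≠ 0 := fun h => hu0 (by rw [h, zero_smul])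
    refine ⟨⟨_, Submodule.mem_span_singleton_self _, ?_⟩, ⟨_, Submodule.mem_span_singleton_self _, ?_⟩⟩
    · rw [hh.smul_right, hww, mul_one]; exact (map_ne_zero σ).2 hr
    · rw [hh.smul_left, hww, mul_one]; exact hr
  have hind : iSupIndep D' := by
    rw [iSupIndep_def]
    intro k
    rw [Submodule.disjoint_def]
    intro v hv hv'
    by_contra hv0
    obtain ⟨x, hx, hne'⟩ := (hnd k v hv hv0).2
    exact hne' (hh.mem_perp.1 ((iSup₂_le fun k' hk' u hu => hh.mem_perp.2 fun z hz => horth k' k hk' u hu z hz :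
      (⨆ k', ⨆ (_ : k' ≠ k), D' k') ≤ hh.perp (D' k)) hv') x hx)
  have hle' : ∀ i, D i ≤ iSup D' := by
    intro i y hy
    rw [hdec i y hy]
    refine add_mem ?_ ?_
    · refine Submodule.mem_iSup_of_mem (en.symm (i, 0)) ?_
      simp only [D', Equiv.apply_symm_apply]
      exact Submodule.smul_mem _ _ (by simp [w, Submodule.mem_span_singleton_self])
    · refine Submodule.mem_iSup_of_mem (en.symm (i, 1)) ?_
      simp only [D', Equiv.apply_symm_apply]
      exact Submodule.smul_mem _ _ (by simp [w, Submodule.mem_span_singleton_self])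
  have hD' : IsMDecomposition 1 D' :=
    ⟨by have := hD.decomp.two_le; omega, one_pos, fun j => finrank_span_singleton (hw0 _), hind,
      eq_top_iff.2 (hD.decomp.iSup_eq_top ▸ iSup_le hle')⟩
  refine ⟨D', ⟨hD', hnd, horth⟩, fun g hg => Decomp.mem_stabilizer_of_image hD' fun j => ?_⟩
  obtain ⟨τ, hτ⟩ := hle hg
  have hgy : (g : Matrix ι ι F) *ᵥ w (en j) ∈ D (τ (en j).1) := by
    rw [← hτ]; exact ⟨_, hwD _, Matrix.toLin'_apply _ _⟩
  obtain ⟨k, r, hk⟩ := hline _ _ hgy (by rw [hH g hg, hww]; exact one_ne_zero)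
  refine ⟨en.symm (τ (en j).1, k), fun v hv => ?_⟩
  obtain ⟨s, rfl⟩ := Submodule.mem_span_singleton.1 hv
  rw [Matrix.mulVec_smul, hk]
  simp only [D', Equiv.apply_symm_apply]
  exact Submodule.smul_mem _ _ (Submodule.smul_mem _ _ (Submodule.mem_span_singleton_self _))

theorem isUnitaryFormPow_of_herm {κ : Type} [Fintype κ] [DecidableEq κ] {q : ℕ} (hσq : ∀ x, σ x = x ^ q)
    {f₁ : (κ → F) → (κ → F) → F} (h : Herm σ 1 f₁) : IsUnitaryFormPow q f₁ :=
  ⟨h.add_left, h.smul_left, fun v w => by rw [h.symm w v, one_mul, hσq], h.nondeg⟩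

theorem unitary_cases [Nonempty ι] {q : ℕ} (hF : Fintype.card F = q ^ 2) (hσq : ∀ x, σ x = x ^ q)
    (hf : IsUnitaryForm σ f) (he : ∀ i j : ι, f (Pi.single i 1) (Pi.single j 1) = if i = j then 1 else 0)
    {Ω H : Subgroup (GL ι F)} (hΩ : HasUTv σ f Ω) (hΩf : IsoGrp f Ω) (hH : IsMaximalIn Ω H)
    (hn : 5 ≤ Fintype.card ι) (hnp : ¬ IsPrimePow (Fintype.card ι))
    (hpow : ∀ a t : ℕ, 2 ≤ a → 2 ≤ t → Fintype.card ι ≠ a ^ t) :
    (∃ W : Submodule F (ι → F), W ≠ ⊥ ∧ IsTotallySingularFor f W ∧ H = subspaceStabilizer W ⊓ Ω) ∨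
    (∃ W : Submodule F (ι → F), W ≠ ⊥ ∧ IsNondegenerateOn f W ∧ 2 * Module.finrank F W < Fintype.card ι ∧
      H = subspaceStabilizer W ⊓ Ω) ∨
    (∃ (t m : ℕ) (D : Fin t → Submodule F (ι → F)), 2 ≤ t ∧ 1 ≤ m ∧ t * m = Fintype.card ι ∧
      (m = 2 → 3 ≤ q) ∧ IsNondegenerateMDecomposition f m D ∧ H = decompositionStabilizer D ⊓ Ω) ∨
    (∃ (m : ℕ) (D : Fin 2 → Submodule F (ι → F)), 2 * m = Fintype.card ι ∧ IsMDecomposition m D ∧
      (∀ i, IsTotallySingularFor f (D i)) ∧ H = decompositionStabilizer D ⊓ Ω) ∨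
    (∃ (s : ℕ) (K : Subalgebra F (Matrix ι ι F)), s.Prime ∧ Odd s ∧ s ∣ Fintype.card ι ∧ IsFieldSubalgebra s K ∧
      IsAdjointClosedFor f K ∧ H = subalgebraNormalizer K ⊓ Ω) ∨
    (∃ (a b : ℕ) (e : ι ≃ Fin a × Fin b) (P : GL ι F) (f₁ : (Fin a → F) → (Fin a → F) → F)
      (f₂ : (Fin b → F) → (Fin b → F) → F), 2 ≤ a ∧ a < b ∧ a * b = Fintype.card ι ∧ (a = 2 → 3 ≤ q) ∧
      IsUnitaryFormPow q f₁ ∧ IsUnitaryFormPow q f₂ ∧
      IsTensorFormStructure (fun x : F => x ^ q) f f₁ f₂ e P ∧ H = tensorProductSubgroup a b e P ⊓ Ω) ∨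
    (∃ (F₀ : Subfield F) (r : ℕ) (P : GL ι F), r.Prime ∧ Odd r ∧ Fintype.card F = Nat.card F₀ ^ r ∧
      IsFormRationalStructure f F₀ 1 P ∧ H = subfieldSubgroup F₀ P ⊓ Ω) ∨
    (∃ (F₀ : Subfield F) (P : GL ι F) (ζ : F), Fintype.card F = Nat.card F₀ ^ 2 ∧ ζ ≠ 0 ∧ ζ + ζ ^ q = 0 ∧
      IsFormRationalStructure f F₀ ζ P ∧
      (∀ u : ι → F, (∀ i, u i ∈ F₀) → f ((P : Matrix ι ι F) *ᵥ u) ((P : Matrix ι ι F) *ᵥ u) = 0) ∧
      H = subfieldSubgroup F₀ P ⊓ Ω) ∨
    (Odd q ∧ ∃ (F₀ : Subfield F) (P : GL ι F), Fintype.card F = Nat.card F₀ ^ 2 ∧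
      IsFormRationalStructure f F₀ 1 P ∧ H = subfieldSubgroup F₀ P ⊓ Ω) ∨
    InUnitaryResidualClass H := by
  classical
  have hh := herm_unitary hf
  have hHf : IsoGrp f H := fun g hg => hΩf g (hH.1.le hg)
  have hn2 : 2 ≤ Fintype.card ι := by omega
  have hn3 : 3 ≤ Fintype.card ι := by omega
  have hq2 := UnitPow.two_le hF
  have h4 : ¬ 3 ≤ q → Fintype.card F = 4 ∧ (∀ x, σ x = x ^ 2) := fun h => by
    obtain rfl : q = 2 := by omega
    exact ⟨by rw [hF]; rfl, hσq⟩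
  have hdec : ∀ (t m : ℕ) (D : Fin t → Submodule F (ι → F)), IsNondegenerateMDecomposition f m D →
      H ≤ decompositionStabilizer D →
      ∃ (t m : ℕ) (D : Fin t → Submodule F (ι → F)), 2 ≤ t ∧ 1 ≤ m ∧ t * m = Fintype.card ι ∧
        (m = 2 → 3 ≤ q) ∧ IsNondegenerateMDecomposition f m D ∧ H = decompositionStabilizer D ⊓ Ω := by
    intro t m D hD hle
    have key : ∀ (t m : ℕ) (D : Fin t → Submodule F (ι → F)), IsNondegenerateMDecomposition f m D →
        H ≤ decompositionStabilizer D → (m = 2 → 3 ≤ q) →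
        ∃ (t m : ℕ) (D : Fin t → Submodule F (ι → F)), 2 ≤ t ∧ 1 ≤ m ∧ t * m = Fintype.card ι ∧
          (m = 2 → 3 ≤ q) ∧ IsNondegenerateMDecomposition f m D ∧ H = decompositionStabilizer D ⊓ Ω := by
      intro t m D hD hle hq
      have htm := mdecomposition_card hD.decomp
      refine ⟨t, m, D, hD.decomp.two_le, hD.decomp.pos, htm, hq, hD, eq_inf_of_le hH hle ?_⟩
      rcases eq_or_lt_of_le (show 1 ≤ m from hD.decomp.pos) with rfl | hm
      · exact utv_not_le_decomposition hf hΩ (by omega) hD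
      · exact utv_not_le_decomposition_large hf hn2 hΩ hD.decomp hm
    by_cases hm : m = 2 ∧ ¬ 3 ≤ q
    · obtain ⟨rfl, hq⟩ := hm
      obtain ⟨D', hD', hle'⟩ := lines_of_planes (h4 hq).1 (h4 hq).2 hf hHf hD hle
      exact key _ 1 D' hD' hle' (fun h => by omega)
    · exact key t m D hD hle fun h => by_contra fun h' => hm ⟨h, h'⟩
  by_cases hirr : ActsIrreducibly (matrixSet H)
  swap
  · rcases reducible_cases hh hHf hirr with ⟨W, h1, h2, hW, hle⟩ | ⟨W, h1, h2, hW, hd, hle⟩ | ⟨m, D, hD, hle⟩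
    · exact Or.inl ⟨W, h1, hW, eq_inf_of_le hH hle (utv_not_le_subspace hf hn2 hΩ h1 h2)⟩
    · exact Or.inr (Or.inl ⟨W, h1, hW, hd, eq_inf_of_le hH hle (utv_not_le_subspace hf hn2 hΩ h1 h2)⟩)
    · exact Or.inr (Or.inr (Or.inl (hdec 2 m D hD hle)))
  refine Or.inr (Or.inr ?_)
  rcases irreducible_cases hn2 hh hHf hirr with hg | ⟨N, hNH, hinv, hns, hspan, hmin, hcase⟩
  swap
  · rcases hcase with ⟨-, hpp⟩ | ⟨hperf, hcl⟩
    · exact absurd hpp hnp
    have hsimple := (simple_or_power hNH hinv hspan hcl hmin).resolve_right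
      (fun ⟨a, t, ha, ht, h⟩ => hpow a t ha ht h)
    refine Or.inr (Or.inr (Or.inr (Or.inr ?_)))
    rcases unitary_residual_cases hn2 hF hσq hf hHf hNH hinv hns hspan hperf hsimple with
      ⟨F₀, r, P, hr, ho, hc, hform, hle⟩ | ⟨F₀, P, ζ, hc, hζ, hζq, hform, halt, hle⟩ |
      ⟨hq, F₀, P, hc, hform, hle⟩ | h
    · exact Or.inl ⟨F₀, r, P, hr, ho, hc, hform,
        eq_inf_of_le hH hle (utv_not_le_subfield hf hn3 he hΩ (subfield_ne_top hr hc) P)⟩
    · exact Or.inr (Or.inl ⟨F₀, P, ζ, hc, hζ, hζq, hform, halt,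
        eq_inf_of_le hH hle (utv_not_le_subfield hf hn3 he hΩ (subfield_ne_top Nat.prime_two hc) P)⟩)
    · exact Or.inr (Or.inr (Or.inl ⟨hq, F₀, P, hc, hform,
        eq_inf_of_le hH hle (utv_not_le_subfield hf hn3 he hΩ (subfield_ne_top Nat.prime_two hc) P)⟩))
    · exact Or.inr (Or.inr (Or.inr h))
  rcases hg with ⟨t, m, D, hD, hle⟩ | ⟨m, D, hD, hTS, hle⟩ | ⟨s, K, hs, hK, hKa, hHK⟩ |
      ⟨a, b, e, P, ε₁, ε₂, f₁, f₂, ha, hb, h₁, h₂, hε, hε1, hT, hle⟩
  · exact Or.inl (hdec t m D hD hle)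
  · have hm := mdecomposition_card hD
    exact Or.inr (Or.inl ⟨m, D, hm, hD, hTS,
      eq_inf_of_le hH hle (utv_not_le_decomposition_large hf hn2 hΩ hD (by omega))⟩)
  · exact Or.inr (Or.inr (Or.inl ⟨s, K, hs,
      hs.eq_two_or_odd'.resolve_left (unitary_field_degree_ne_two hf hK hKa), isFieldSubalgebra_dvd hK, hK, hKa,
      eq_inf_of_le hH (le_subalgebraNormalizer hHK) (utv_not_le_field hf hn3 hΩ hs.one_lt hK)⟩))
  obtain rfl := hε1 hf.ne_refl
  obtain rfl : ε₂ = 1 := by rwa [one_mul] at hε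
  have hab : a * b = Fintype.card ι := by simpa using (Fintype.card_congr e).symm
  obtain ⟨a, b, e, P, f₁, f₂, ha, hlt, hab, h₁, h₂, hT, hle⟩ : ∃ (a b : ℕ) (e : ι ≃ Fin a × Fin b) (P : GL ι F)
      (f₁ : (Fin a → F) → (Fin a → F) → F) (f₂ : (Fin b → F) → (Fin b → F) → F), 2 ≤ a ∧ a < b ∧
      a * b = Fintype.card ι ∧ Herm σ 1 f₁ ∧ Herm σ 1 f₂ ∧
      IsTensorFormStructure (σ : F → F) f f₁ f₂ e P ∧ H ≤ tensorProductSubgroup a b e P := by
    rcases lt_trichotomy a b with h | h | h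
    · exact ⟨a, b, e, P, f₁, f₂, ha, h, hab, h₁, h₂, hT, hle⟩
    · exact absurd (by rw [← hab, h, sq]) (hpow b 2 hb le_rfl)
    · exact ⟨b, a, e.trans (Equiv.prodComm _ _), P, f₂, f₁, hb, h, by rw [mul_comm]; exact hab, h₂, h₁,
        isTensorFormStructure_swap hT, tensorProductSubgroup_swap e P ▸ hle⟩
  by_cases hq : a = 2 ∧ ¬ 3 ≤ q
  · obtain ⟨rfl, hq⟩ := hq
    obtain ⟨h4', hσ2⟩ := h4 hq
    obtain ⟨w, hne, horth, hfr⟩ := unitary_plane_frame h4' hσ2 hf.ne_refl h₁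
    obtain ⟨D, hD, hleD⟩ := tensor_frame_decomposition hh (isTensorFormStructure_swap hT) h₂ h₁ (by omega) le_rfl
      w hne horth (tensorProductSubgroup_swap e P ▸ hle) hHf
      fun B μ hμ hB j => hfr _ (by rw [hB]; exact mul_ne_zero hμ (hne j))
    exact Or.inl (hdec 2 b D hD hleD)
  refine Or.inr (Or.inr (Or.inr (Or.inl ⟨a, b, e, P, f₁, f₂, ha, hlt, hab,
    fun h => by_contra fun h' => hq ⟨h, h'⟩, isUnitaryFormPow_of_herm hσq h₁, isUnitaryFormPow_of_herm hσq h₂, ?_,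
    eq_inf_of_le hH hle (utv_not_le_tensor hf hn2 hΩ ha (by omega) e P)⟩)))
  rwa [show (fun x : F => x ^ q) = (σ : F → F) from funext fun x => (hσq x).symm]

end CfsgLib.Geo.Asch
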