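import Mathlib
import Cfsg.Prelude.Def_GeometricClasses
import Cfsg.Agent.Lib.Geo.AschFormTensor
import Cfsg.Agent.Lib.Geo.AschWreath
import Cfsg.Agent.Lib.UnitaryEmbed.HermSpace
import Cfsg.Agent.Lib.GeomClasses.UnitPow
import Cfsg.Agent.Lib.ClassicalGroups.HermGroup
import Cfsg.Agent.S0144

/-! Tensor squares of unitary forms. -/

set_option autoImplicit false
set_option linter.unusedSectionVars false

namespace CfsgLib.Geo.Asch

open Cfsg Cfsg.Geo Matrix CfsgLib.GeomClasses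
open scoped MatrixGroups Kronecker commutatorElement

variable {ι : Type} [Fintype ι] [DecidableEq ι] {F : Type*} [Field F] [Fintype F]
  {σ : F ≃+* F} {f : (ι → F) → (ι → F) → F}

theorem glReindex_mulVec {κ : Type} [Fintype κ] [DecidableEq κ] (e : ι ≃ κ) (P : GL ι F) (y : GL κ F) (z : κ → F) :
    ((P * glReindex e.symm y * P⁻¹ : GL ι F) : Matrix ι ι F) *ᵥ ((P : Matrix ι ι F) *ᵥ (z ∘ e)) =
      (P : Matrix ι ι F) *ᵥ (((y : Matrix κ κ F) *ᵥ z) ∘ e) := by
  rw [Units.val_mul, Units.val_mul, ← Matrix.mulVec_mulVec, ← Matrix.mulVec_mulVec, gl_inv_mulVec_mulVec]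
  congr 1
  funext i
  simp only [Matrix.mulVec, dotProduct, Function.comp_apply]
  exact Fintype.sum_equiv e _ _ fun j => by simp [glReindex]

/-- A hermitian form has a basis that is orthonormal. -/
theorem exists_gram_one {q a : ℕ} (hF : Fintype.card F = q ^ 2) (hσq : ∀ x, σ x = x ^ q) (hne : σ ≠ RingEquiv.refl F)
    {f₁ : (Fin a → F) → (Fin a → F) → F} (h : Herm σ 1 f₁) :
    ∃ A : GL (Fin a) F, (A : Matrix (Fin a) (Fin a) F)ᵀ * gramMatrix f₁ * (A : Matrix (Fin a) (Fin a) F).map σ = 1 := by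
  classical
  let B : (Fin a → F) →ₛₗ[(σ : F →+* F)] (Fin a → F) →ₗ[F] F :=
    LinearMap.mk₂'ₛₗ (σ : F →+* F) (RingHom.id F) (fun u v => f₁ v u)
      (fun x y v => h.add_right _ _ _) (fun c x v => h.smul_right _ _ _)
      (fun v x y => h.add_left _ _ _) (fun c v x => h.smul_left _ _ _)
  have hS : ∀ u v, (σ : F →+* F) (B u v) = B v u := fun u v => by
    show σ (f₁ v u) = f₁ u v
    rw [h.symm v u, one_mul]
  have hB : B.SeparatingLeft := fun u hu => by
    by_contra hu0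
    obtain ⟨x, hx⟩ := (h.nondeg u hu0).1
    exact hx (hu x)
  obtain ⟨b, hb⟩ := CfsgLib.UnitaryEmbed.exists_orthonormal_herm hF (σ : F →+* F) hσq
    (fun hh => hne (RingEquiv.ext fun x => congrFun (congrArg DFunLike.coe hh) x)) h.invol a B hS hB
    (Module.finrank_fin_fun F)
  let A : Matrix (Fin a) (Fin a) F := Matrix.of fun i j => b j i
  have hmul : Aᵀ * gramMatrix f₁ * A.map σ = 1 := by
    ext i j
    have hexp : f₁ (b i) (b j) = ∑ p, ∑ p', b i p * gramMatrix f₁ p p' * σ (b j p') := by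
      conv_lhs => rw [pi_eq_sum_univ' (b i), pi_eq_sum_univ' (b j)]
      rw [h.sesq.sum_left]
      refine Finset.sum_congr rfl fun p _ => ?_
      rw [h.smul_left, h.sesq.sum_right, Finset.mul_sum]
      refine Finset.sum_congr rfl fun p' _ => ?_
      rw [h.smul_right]
      show b i p * (σ (b j p') * f₁ _ _) = _
      simp only [gramMatrix]
      ring
    have h1 : (Aᵀ * gramMatrix f₁ * A.map σ) i j = f₁ (b i) (b j) := by
      rw [hexp]
      simp only [Matrix.mul_apply, Matrix.transpose_apply, Matrix.map_apply, A, Matrix.of_apply, Finset.sum_mul]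
      exact Finset.sum_comm
    rw [h1, show f₁ (b i) (b j) = B (b j) (b i) from rfl, hb, Matrix.one_apply]
    simp [eq_comm]
  have hu : IsUnit A := by
    rw [Matrix.isUnit_iff_isUnit_det]
    have h1 := congrArg Matrix.det hmul
    rw [Matrix.det_mul, Matrix.det_mul, Matrix.det_one, Matrix.det_transpose] at h1
    exact isUnit_of_mul_isUnit_left (isUnit_of_mul_isUnit_left (h1 ▸ isUnit_one))
  exact ⟨hu.unit, by rw [IsUnit.unit_spec]; exact hmul⟩

/-- The standard hermitian form. -/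
abbrev stdHerm (σ : F ≃+* F) (a : ℕ) : (Fin a → F) → (Fin a → F) → F := formOfGram (σ : F → F) 1

theorem herm_stdHerm (hinvol : ∀ x, σ (σ x) = x) (a : ℕ) : Herm σ 1 (stdHerm σ a) :=
  herm_formOfGram hinvol isUnit_one fun i j => by
    by_cases h : i = j
    · subst h; simp
    · simp [h, Ne.symm h]

/-- A tensor square of unitary forms is the square of the standard one in a suitable basis. -/
theorem exists_square_std {q : ℕ} (hF : Fintype.card F = q ^ 2) (hσq : ∀ x, σ x = x ^ q)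
    (hne : σ ≠ RingEquiv.refl F) {a : ℕ} (e : ι ≃ Fin a × Fin a) (P : GL ι F)
    {f₁ f₂ : (Fin a → F) → (Fin a → F) → F} (h₁ : Herm σ 1 f₁) (h₂ : Herm σ 1 f₂)
    (hT : IsTensorFormStructure (σ : F → F) f f₁ f₂ e P) :
    ∃ P' : GL ι F, tensorProductSubgroup a a e P ≤ tensorProductSubgroup a a e P' ∧
      tensorWreathSubgroup a 2 (e.trans (finTwoArrowEquiv (Fin a)).symm) P ≤
        tensorWreathSubgroup a 2 (e.trans (finTwoArrowEquiv (Fin a)).symm) P' ∧
      IsTensorFormStructure (σ : F → F) f (stdHerm σ a) (stdHerm σ a) e P' ∧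
      IsTensorPowerFormStructure (σ : F → F) f (stdHerm σ a) (e.trans (finTwoArrowEquiv (Fin a)).symm) P' := by
  classical
  obtain ⟨A, hA⟩ := exists_gram_one hF hσq hne h₁
  obtain ⟨B, hB⟩ := exists_gram_one hF hσq hne h₂
  obtain ⟨c, hc, hT⟩ := hT
  let K : GL (Fin a × Fin a) F :=
    ⟨(A : Matrix (Fin a) (Fin a) F) ⊗ₖ (B : Matrix (Fin a) (Fin a) F),
      ((A⁻¹ : GL (Fin a) F) : Matrix (Fin a) (Fin a) F) ⊗ₖ ((B⁻¹ : GL (Fin a) F) : Matrix (Fin a) (Fin a) F),
      by rw [← Matrix.mul_kronecker_mul]; simp, by rw [← Matrix.mul_kronecker_mul]; simp⟩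
  have hK : K ∈ kroneckerSubgroup a a F := ⟨A, B, rfl⟩
  let P' := P * glReindex e.symm K
  have hP' : ∀ x : Fin a × Fin a → F, (P' : Matrix ι ι F) *ᵥ (x ∘ e) =
      (P : Matrix ι ι F) *ᵥ (((K : Matrix _ _ F) *ᵥ x) ∘ e) := by
    intro x
    rw [← glReindex_mulVec e P K x, Matrix.mulVec_mulVec, ← Units.val_mul]
    congr 2
    simp [P', mul_assoc]
  have hgram : (K : Matrix (Fin a × Fin a) (Fin a × Fin a) F)ᵀ * (gramMatrix f₁ ⊗ₖ gramMatrix f₂) *
      (K : Matrix (Fin a × Fin a) (Fin a × Fin a) F).map σ = 1 := by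
    show ((A : Matrix (Fin a) (Fin a) F) ⊗ₖ (B : Matrix (Fin a) (Fin a) F))ᵀ * _ *
      ((A : Matrix (Fin a) (Fin a) F) ⊗ₖ (B : Matrix (Fin a) (Fin a) F)).map σ = 1
    rw [← Matrix.kroneckerMap_transpose, show ((A : Matrix (Fin a) (Fin a) F) ⊗ₖ (B : Matrix (Fin a) (Fin a) F)).map σ =
      ((A : Matrix (Fin a) (Fin a) F).map σ) ⊗ₖ ((B : Matrix (Fin a) (Fin a) F).map σ) by ext i j; simp,
      ← Matrix.mul_kronecker_mul, ← Matrix.mul_kronecker_mul, hA, hB, Matrix.one_kronecker_one]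
  have hstd : ∀ x y : Fin a × Fin a → F, f ((P' : Matrix ι ι F) *ᵥ (x ∘ e)) ((P' : Matrix ι ι F) *ᵥ (y ∘ e)) =
      c * (x ⬝ᵥ fun p => σ (y p)) := by
    intro x y
    rw [hP', hP', hT, formOfGram_eq_dot]
    congr 1
    rw [show (fun b => σ (((K : Matrix (Fin a × Fin a) (Fin a × Fin a) F) *ᵥ y) b)) =
      (K : Matrix (Fin a × Fin a) (Fin a × Fin a) F).map σ *ᵥ (fun p => σ (y p)) from
      funext fun b => RingHom.map_mulVec (σ : F →+* F) (K : Matrix (Fin a × Fin a) (Fin a × Fin a) F) y b,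
      Matrix.mulVec_mulVec, ← Matrix.vecMul_transpose,
      ← Matrix.dotProduct_mulVec, Matrix.mulVec_mulVec, ← Matrix.mul_assoc, hgram, Matrix.one_mulVec]
  refine ⟨P', ?_, ?_, ⟨c, hc, fun x y => ?_⟩, ⟨c, hc, fun x y => ?_⟩⟩
  · rintro _ ⟨_, ⟨k, hk, rfl⟩, rfl⟩
    refine ⟨_, ⟨K⁻¹ * k * K, mul_mem (mul_mem (inv_mem hK) hk) hK, rfl⟩, ?_⟩
    simp [P', mul_assoc]
  · let e₀ := e.trans (finTwoArrowEquiv (Fin a)).symm
    let K' : GL (Fin 2 → Fin a) F := glReindex (finTwoArrowEquiv (Fin a)).symm K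
    have hK' : K' ∈ tensorWreathStandard a 2 F :=
      Subgroup.subset_closure (Or.inl ⟨![A, B], fun x z => by simp [K', K, glReindex, Fin.prod_univ_two]⟩)
    have hP'' : P' = P * glReindex e₀.symm K' := by
      show P * glReindex e.symm K = _
      congr 1
    rintro _ ⟨_, ⟨k, hk, rfl⟩, rfl⟩
    refine ⟨_, ⟨K'⁻¹ * k * K', mul_mem (mul_mem (inv_mem hK') hk) hK', rfl⟩, ?_⟩
    simp [hP'', e₀, mul_assoc]
  · rw [hstd, gramMatrix_formOfGram, Matrix.one_kronecker_one, formOfGram_eq_dot, Matrix.one_mulVec]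
  · rw [show x ∘ (e.trans (finTwoArrowEquiv (Fin a)).symm) = (x ∘ (finTwoArrowEquiv (Fin a)).symm) ∘ e from rfl,
      show y ∘ (e.trans (finTwoArrowEquiv (Fin a)).symm) = (y ∘ (finTwoArrowEquiv (Fin a)).symm) ∘ e from rfl,
      hstd, gramMatrix_formOfGram]
    congr 1
    simp only [Matrix.one_apply, Fintype.prod_boole, ← funext_iff, mul_ite, mul_one, mul_zero, ite_mul, zero_mul,
      Finset.sum_ite_eq, Finset.mem_univ, if_true]
    simp only [dotProduct]
    exact Fintype.sum_equiv (finTwoArrowEquiv (Fin a)).symm _ _ fun p => rfl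

open CfsgLib.Maximal.TensorPower in
/-- Two commuting adjoint closed factors give a tensor square of the standard form. -/
theorem family_square [Nonempty ι] {q : ℕ} (hF : Fintype.card F = q ^ 2) (hσq : ∀ x, σ x = x ^ q)
    (hf : IsUnitaryForm σ f) {a : ℕ} (ha : 0 < a) (hcard : Fintype.card ι = a ^ 2)
    (ψ : Fin 2 → (Matrix (Fin a) (Fin a) F →ₐ[F] Matrix ι ι F))
    (hψ : ∀ i j, i ≠ j → ∀ X Y, Commute (ψ i X) (ψ j Y)) (hadj : IsAdjointClosedFor f (ψ 0).range)
    {H : Subgroup (GL ι F)} (hperm : ∀ g ∈ H, ∃ τ : Equiv.Perm (Fin 2), ∀ i X, ∃ Y, conjHom g (ψ i X) = ψ (τ i) Y) :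
    ∃ (e : ι ≃ Fin a × Fin a) (P : GL ι F), H ≤ tensorWreathSubgroup a 2 (e.trans (finTwoArrowEquiv (Fin a)).symm) P ∧
      IsTensorFormStructure (σ : F → F) f (stdHerm σ a) (stdHerm σ a) e P ∧
      IsTensorPowerFormStructure (σ : F → F) f (stdHerm σ a) (e.trans (finTwoArrowEquiv (Fin a)).symm) P := by
  classical
  haveI : NeZero a := ⟨ha.ne'⟩
  obtain ⟨e₀, P, hP⟩ := exists_powerEmb ha hcard ψ hψ
  let e : ι ≃ Fin a × Fin a := e₀.trans (finTwoArrowEquiv (Fin a))
  have he : e.trans (finTwoArrowEquiv (Fin a)).symm = e₀ := Equiv.ext fun i => funext fun t => by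
    fin_cases t <;> simp [e]
  have hrange : tensorEmb a a e P = ψ 0 := by
    refine AlgHom.ext fun X => ?_
    rw [hP 0 X, conjHom_apply]
    show (P : Matrix ι ι F) * Matrix.reindexAlgEquiv F F e.symm (kroneckerHom a a X) * ((P⁻¹ : GL ι F) : Matrix ι ι F) = _
    congr 2
    ext i j
    simp [kroneckerHom_apply, slot_apply, pm, Fin.prod_univ_two, e, Matrix.one_apply]
  obtain ⟨ε₁, ε₂, f₁, f₂, h₁, h₂, hε, hε1, hT⟩ := exists_tensor_form (herm_unitary hf) e P (hrange ▸ hadj)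
  obtain rfl := hε1 hf.ne_refl
  obtain rfl : ε₂ = 1 := by rwa [one_mul] at hε
  obtain ⟨P', -, hle, h3, h4⟩ := exists_square_std hF hσq hf.ne_refl e P h₁ h₂ hT
  refine ⟨e, P', ?_, h3, h4⟩
  rw [he] at hle ⊢
  intro g hg
  obtain ⟨τ, hτ⟩ := hperm g hg
  exact hle (mem_tensorWreath_of_family ha two_pos e₀ P hP hτ)

/-- The hermitian standard square is invariant under exchanging the factors, so a maximal subgroup does not fix both. -/
theorem not_le_square_of_four [Nonempty ι] (h4 : Fintype.card F = 4) {a : ℕ} (ha : 2 ≤ a) (e : ι ≃ Fin a × Fin a)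
    (P : GL ι F) (hT : IsTensorFormStructure (σ : F → F) f (stdHerm σ a) (stdHerm σ a) e P)
    {Ω H : Subgroup (GL ι F)} (hH : IsMaximalIn Ω H) (hΩ : ∀ g, IsoGrp f (Subgroup.zpowers g) → g ∈ specialLinear ι F → g ∈ Ω)
    (hproper : ¬ Ω ≤ tensorWreathSubgroup a 2 (e.trans (finTwoArrowEquiv (Fin a)).symm) P) :
    ¬ H ≤ tensorProductSubgroup a a e P := by
  classical
  intro hle
  have h2 := UnitPow.four_two_zero h4
  let π : Equiv.Perm (Fin a × Fin a) := Equiv.prodComm _ _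
  let S : GL (Fin a × Fin a) F :=
    ⟨π.toPEquiv.toMatrix, π.symm.toPEquiv.toMatrix,
      by rw [← PEquiv.toMatrix_trans, ← Equiv.toPEquiv_trans]; simp,
      by rw [← PEquiv.toMatrix_trans, ← Equiv.toPEquiv_trans]; simp⟩
  have hSx : ∀ (x : Fin a × Fin a → F) p, ((S : Matrix _ _ F) *ᵥ x) p = x (π p) := fun x p => by
    simp [S, PEquiv.toMatrix_toPEquiv_mulVec]
  set g := P * glReindex e.symm S * P⁻¹ with hg
  obtain ⟨c, hc, hc'⟩ := hT
  have hiso : ∀ u v, f ((g : Matrix ι ι F) *ᵥ u) ((g : Matrix ι ι F) *ᵥ v) = f u v := by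
    intro u v
    obtain ⟨x, rfl⟩ : ∃ x : Fin a × Fin a → F, (P : Matrix ι ι F) *ᵥ (x ∘ e) = u :=
      ⟨(((P⁻¹ : GL ι F) : Matrix ι ι F) *ᵥ u) ∘ e.symm, by simp [Function.comp_assoc]⟩
    obtain ⟨y, rfl⟩ : ∃ y : Fin a × Fin a → F, (P : Matrix ι ι F) *ᵥ (y ∘ e) = v :=
      ⟨(((P⁻¹ : GL ι F) : Matrix ι ι F) *ᵥ v) ∘ e.symm, by simp [Function.comp_assoc]⟩
    rw [hg, glReindex_mulVec, glReindex_mulVec, hc', hc', gramMatrix_formOfGram, Matrix.one_kronecker_one,
      formOfGram_eq_dot, formOfGram_eq_dot, Matrix.one_mulVec, Matrix.one_mulVec]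
    congr 1
    simp only [dotProduct, hSx]
    exact Fintype.sum_equiv π _ _ fun p => rfl
  have hdet : g ∈ specialLinear ι F := by
    show Matrix.GeneralLinearGroup.det g = 1
    rw [hg, map_mul, map_mul, map_inv, mul_inv_cancel_comm]
    refine Units.ext ?_
    show ((Matrix.reindexAlgEquiv F F e.symm (π.toPEquiv.toMatrix : Matrix _ _ F))).det = 1
    rw [Matrix.det_reindexAlgEquiv, show (π.toPEquiv.toMatrix : Matrix _ _ F) = π.permMatrix F from rfl,
      Matrix.det_permutation]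
    rcases Int.units_eq_one_or (Equiv.Perm.sign π) with h | h <;> rw [h]
    · simp
    · simp only [Units.val_neg, Units.val_one, Int.cast_neg, Int.cast_one]
      linear_combination -h2
  let Iso : Subgroup (GL ι F) :=
    { carrier := {x : GL ι F | ∀ u v, f ((x : Matrix ι ι F) *ᵥ u) ((x : Matrix ι ι F) *ᵥ v) = f u v}
      one_mem' := by simp
      mul_mem' := fun {x y} hx hy u v => by
        rw [Units.val_mul, ← Matrix.mulVec_mulVec, ← Matrix.mulVec_mulVec]; exact (hx _ _).trans (hy _ _)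
      inv_mem' := fun {x} hx u v => by
        conv_rhs => rw [← gl_mulVec_inv_mulVec x u, ← gl_mulVec_inv_mulVec x v]
        exact (hx _ _).symm }
  have hgΩ : g ∈ Ω := hΩ g (fun x hx => by
    obtain ⟨k, rfl⟩ := Subgroup.mem_zpowers_iff.1 hx
    exact (zpow_mem (K := Iso) (show g ∈ Iso from hiso) k : _ ∈ Iso)) hdet
  have hgW : g ∈ tensorWreathSubgroup a 2 (e.trans (finTwoArrowEquiv (Fin a)).symm) P := by
    refine ⟨_, ⟨glReindex (finTwoArrowEquiv (Fin a)).symm S, Subgroup.subset_closure (Or.inr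
      ⟨Equiv.swap 0 1, fun x y => ?_⟩), rfl⟩, ?_⟩
    · simp [glReindex, S, π, PEquiv.toMatrix_apply, funext_iff, Fin.forall_fin_two, Prod.ext_iff, eq_comm, and_comm]
    · simp only [MulEquiv.coe_toMonoidHom, MulAut.conj_apply, hg]
      congr 2
  have hEq : H = tensorWreathSubgroup a 2 (e.trans (finTwoArrowEquiv (Fin a)).symm) P ⊓ Ω :=
    eq_inf_of_le hH (hle.trans (tensorProductSubgroup_le_wreath e P)) hproper
  obtain ⟨A, B, hAB⟩ : ∃ A B : GL (Fin a) F,
      (S : Matrix _ _ F) = (A : Matrix (Fin a) (Fin a) F) ⊗ₖ (B : Matrix (Fin a) (Fin a) F) := by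
    obtain ⟨_, ⟨k, hk, rfl⟩, hkg⟩ := hle (show g ∈ H by rw [hEq]; exact ⟨hgW, hgΩ⟩)
    have hkg' : P * glReindex e.symm k * P⁻¹ = P * glReindex e.symm S * P⁻¹ := hkg
    rw [← (glReindex (F := F) e.symm).injective (mul_left_cancel (mul_right_cancel hkg'))]
    exact hk
  let i₀ : Fin a := ⟨0, by omega⟩
  let i₁ : Fin a := ⟨1, by omega⟩
  have h00 := congrFun (congrFun hAB (i₀, i₀)) (i₀, i₀)
  have h11 := congrFun (congrFun hAB (i₁, i₁)) (i₁, i₁)
  have h01 := congrFun (congrFun hAB (i₀, i₁)) (i₀, i₁)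
  simp [S, π, PEquiv.toMatrix_apply, i₀, i₁] at h00 h11 h01
  exact h01.elim (left_ne_zero_of_mul_eq_one h00.symm) (right_ne_zero_of_mul_eq_one h11.symm)

/-- A perfect group inside the tensor square of three-dimensional forms over four elements is trivial. -/
theorem eq_bot_of_perfect_square [Nonempty ι] (h4 : Fintype.card F = 4) (hσ : ∀ x, σ x = x ^ 2)
    (e : ι ≃ Fin 3 × Fin 3) (P : GL ι F)
    (hT : IsTensorFormStructure (σ : F → F) f (stdHerm σ 3) (stdHerm σ 3) e P)
    {N : Subgroup (GL ι F)} (hN : IsoGrp f N) (hperf : ⁅N, N⁆ = N)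
    (hle : N ≤ tensorWreathSubgroup 3 2 (e.trans (finTwoArrowEquiv (Fin 3)).symm) P) : N = ⊥ := by
  classical
  let φ : GL (Fin 2 → Fin 3) F →* GL ι F :=
    (MulAut.conj P).toMonoidHom.comp (glReindex (e.trans (finTwoArrowEquiv (Fin 3)).symm).symm).toMonoidHom
  let ρ : GL (Fin 3 × Fin 3) F →* GL ι F := (MulAut.conj P).toMonoidHom.comp (glReindex e.symm).toMonoidHom
  let π : Equiv.Perm (Fin 3 × Fin 3) := Equiv.prodComm _ _
  let S : GL (Fin 3 × Fin 3) F :=
    ⟨π.toPEquiv.toMatrix, π.symm.toPEquiv.toMatrix,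
      by rw [← PEquiv.toMatrix_trans, ← Equiv.toPEquiv_trans]; simp,
      by rw [← PEquiv.toMatrix_trans, ← Equiv.toPEquiv_trans]; simp⟩
  let K := kroneckerSubgroup 3 3 F
  have hSK : ∀ k ∈ K, S * k * S⁻¹ ∈ K := by
    rintro k ⟨A, B, hk⟩
    refine ⟨B, A, ?_⟩
    show π.toPEquiv.toMatrix * (k : Matrix _ _ F) * π.symm.toPEquiv.toMatrix = _
    rw [PEquiv.toMatrix_toPEquiv_mul, PEquiv.mul_toMatrix_toPEquiv, hk]
    ext p r
    simp [π, mul_comm]
  have hSS : S * S = 1 := Units.ext (by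
    show π.toPEquiv.toMatrix * π.toPEquiv.toMatrix = (1 : Matrix _ _ F)
    rw [← PEquiv.toMatrix_trans, ← Equiv.toPEquiv_trans, show π.trans π = Equiv.refl _ from Equiv.ext fun p => rfl]
    simp)
  have hSi : S⁻¹ = S := inv_eq_of_mul_eq_one_right hSS
  let W : Subgroup (GL (Fin 3 × Fin 3) F) :=
    { carrier := {w | w ∈ K ∨ w * S ∈ K}
      one_mem' := Or.inl K.one_mem
      mul_mem' := fun {v w} hv hw => by
        rcases hv with hv | hv <;> rcases hw with hw | hw
        · exact Or.inl (K.mul_mem hv hw)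
        · exact Or.inr (by rw [mul_assoc]; exact K.mul_mem hv hw)
        · exact Or.inr (by
            have := K.mul_mem hv (hSK w hw)
            rw [hSi, ← mul_assoc, ← mul_assoc, mul_assoc v S S, hSS, mul_one] at this
            exact this)
        · exact Or.inl (by
            have := K.mul_mem hv (hSK _ hw)
            rw [hSi, ← mul_assoc, ← mul_assoc, mul_assoc v S S, hSS, mul_one, mul_assoc, mul_assoc w S S, hSS,
              mul_one] at this
            exact this)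
      inv_mem' := fun {w} hw => by
        rcases hw with hw | hw
        · exact Or.inl (K.inv_mem hw)
        · refine Or.inr ?_
          have := hSK _ (K.inv_mem hw)
          rw [hSi, _root_.mul_inv_rev, hSi, ← mul_assoc, hSS, one_mul] at this
          exact this }
  have hcomm : ∀ v ∈ W, ∀ w ∈ W, v * w * v⁻¹ * w⁻¹ ∈ K := by
    have hS' : ∀ k ∈ K, S * k * S ∈ K := fun k hk => by have := hSK k hk; rwa [hSi] at this
    have hkill : ∀ k : GL (Fin 3 × Fin 3) F, S * (S * k) = k := fun k => by rw [← mul_assoc, hSS, one_mul]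
    intro v hv w hw
    have hdec : ∀ v : GL (Fin 3 × Fin 3) F, v ∈ W → ∃ a ∈ K, v = a ∨ v = a * S := fun v hv => by
      rcases hv with h | h
      · exact ⟨v, h, Or.inl rfl⟩
      · exact ⟨v * S, h, Or.inr (by rw [mul_assoc, hSS, mul_one])⟩
    obtain ⟨a, ha, rfl | rfl⟩ := hdec v hv <;> obtain ⟨b, hb, rfl | rfl⟩ := hdec w hw
    · exact mul_mem (mul_mem (mul_mem ha hb) (inv_mem ha)) (inv_mem hb)
    · have := mul_mem (mul_mem (mul_mem ha hb) (hS' _ (inv_mem ha))) (inv_mem hb)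
      simpa [mul_assoc, _root_.mul_inv_rev, hSi] using this
    · have := mul_mem (mul_mem ha (hS' _ hb)) (mul_mem (inv_mem ha) (inv_mem hb))
      simpa [mul_assoc, _root_.mul_inv_rev, hSi] using this
    · have := mul_mem (mul_mem ha (hS' _ hb)) (mul_mem (hS' _ (inv_mem ha)) (inv_mem hb))
      simpa [mul_assoc, _root_.mul_inv_rev, hSi, hkill] using this
  have hNW : N ≤ W.map ρ := by
    refine hle.trans ?_
    rintro _ ⟨_, ⟨y, hy, rfl⟩, rfl⟩
    refine ⟨glReindex (finTwoArrowEquiv (Fin 3)) y, ?_, ?_⟩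
    · induction hy using Subgroup.closure_induction with
      | mem y hy =>
        rcases hy with ⟨gs, hgs⟩ | ⟨τ, hτ⟩
        · refine Or.inl ⟨gs 0, gs 1, ?_⟩
          ext p r
          simp [glReindex, hgs, Fin.prod_univ_two]
        · have key : ∀ τ : Equiv.Perm (Fin 2), τ = 1 ∨ τ = Equiv.swap 0 1 := by decide
          rcases key τ with rfl | rfl
          · refine Or.inl ⟨1, 1, ?_⟩
            ext p r
            simp [glReindex, hτ, Matrix.one_apply, funext_iff, Fin.forall_fin_two, eq_comm]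
            split_ifs <;> tauto
          · refine Or.inr ⟨1, 1, ?_⟩
            show _ * π.toPEquiv.toMatrix = _
            rw [PEquiv.mul_toMatrix_toPEquiv]
            ext p r
            simp [glReindex, hτ, π, Matrix.one_apply, funext_iff, Fin.forall_fin_two, eq_comm]
            split_ifs <;> tauto
      | one => rw [map_one]; exact W.one_mem
      | mul x y _ _ hx hy => rw [map_mul]; exact W.mul_mem hx hy
      | inv x _ hx => rw [map_inv]; exact W.inv_mem hx
    · simp only [ρ, MonoidHom.comp_apply, MulEquiv.coe_toMonoidHom]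
      congr 1
  have hNK : N ≤ K.map ρ := by
    rw [← hperf]
    refine (Subgroup.commutator_mono hNW hNW).trans ?_
    rw [← Subgroup.map_commutator]
    exact Subgroup.map_mono (Subgroup.commutator_le.2 fun v hv w hw => hcomm v hv w hw)
  -- the kronecker isometries come from a soluble group
  have h40 : Fintype.card F = 2 ^ 2 := h4
  let Φ : Cfsg.GU 3 F 2 × Cfsg.GU 3 F 2 →* GL (Fin 3 × Fin 3) F := Units.liftRight
    { toFun := fun x => ((x.1 : GL (Fin 3) F) : Matrix (Fin 3) (Fin 3) F) ⊗ₖ ((x.2 : GL (Fin 3) F) : Matrix (Fin 3) (Fin 3) F)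
      map_one' := by simp
      map_mul' := fun x y => by simp [Matrix.mul_kronecker_mul] }
    (fun x => ⟨((x.1 : GL (Fin 3) F) : Matrix (Fin 3) (Fin 3) F) ⊗ₖ ((x.2 : GL (Fin 3) F) : Matrix (Fin 3) (Fin 3) F),
      (((x.1 : GL (Fin 3) F)⁻¹ : GL (Fin 3) F) : Matrix (Fin 3) (Fin 3) F) ⊗ₖ (((x.2 : GL (Fin 3) F)⁻¹ : GL (Fin 3) F) : Matrix (Fin 3) (Fin 3) F),
      by rw [← Matrix.mul_kronecker_mul]; simp, by rw [← Matrix.mul_kronecker_mul]; simp⟩) fun x => rfl
  obtain ⟨c, hc, hc'⟩ := hT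
  have hNΦ : N ≤ ((ρ.comp Φ).range) := by
    intro g hg
    obtain ⟨k, ⟨A, B, hk⟩, rfl⟩ := hNK hg
    have hkk : (k : Matrix (Fin 3 × Fin 3) (Fin 3 × Fin 3) F)ᵀ * (k : Matrix (Fin 3 × Fin 3) (Fin 3 × Fin 3) F).map σ = 1 := by
      ext p r
      have h := hN _ hg ((P : Matrix ι ι F) *ᵥ ((Pi.single p (1 : F) : _ → F) ∘ e))
        ((P : Matrix ι ι F) *ᵥ ((Pi.single r (1 : F) : _ → F) ∘ e))
      simp only [ρ, MonoidHom.comp_apply, MulEquiv.coe_toMonoidHom, MulAut.conj_apply, glReindex_mulVec] at h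
      rw [hc', hc', gramMatrix_formOfGram, Matrix.one_kronecker_one] at h
      have h' := mul_left_cancel₀ hc h
      rw [formOfGram_single, formOfGram_eq_dot, Matrix.one_mulVec, Matrix.mulVec_single_one,
        Matrix.mulVec_single_one] at h'
      rw [← h']
      simp [Matrix.mul_apply, dotProduct]
    rw [hk, show ((A : Matrix (Fin 3) (Fin 3) F) ⊗ₖ (B : Matrix (Fin 3) (Fin 3) F)).map σ =
      ((A : Matrix (Fin 3) (Fin 3) F).map σ) ⊗ₖ ((B : Matrix (Fin 3) (Fin 3) F).map σ) by ext i j; simp,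
      ← Matrix.kroneckerMap_transpose, ← Matrix.mul_kronecker_mul] at hkk
    set X := (A : Matrix (Fin 3) (Fin 3) F)ᵀ * (A : Matrix (Fin 3) (Fin 3) F).map σ
    set Y := (B : Matrix (Fin 3) (Fin 3) F)ᵀ * (B : Matrix (Fin 3) (Fin 3) F).map σ
    have hXY : ∀ i j k l, X i k * Y j l = if i = k ∧ j = l then 1 else 0 := fun i j k l => by
      have := congrFun (congrFun hkk (i, j)) (k, l)
      simpa [Matrix.one_apply, Prod.ext_iff] using this
    have hsym : σ (X 0 0) = X 0 0 := by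
      simp only [X, Matrix.mul_apply, Matrix.transpose_apply, Matrix.map_apply, map_sum, map_mul]
      refine Finset.sum_congr rfl fun i _ => ?_
      rw [hσ, hσ, ← pow_mul, show 2 * 2 = Fintype.card F from h4.symm, FiniteField.pow_card, mul_comm]
    have h00 : X 0 0 * Y 0 0 = 1 := by simpa using hXY 0 0 0 0
    have hx1 : X 0 0 = 1 := UnitPow.four_fixed h4 _ (by rw [← hσ]; exact hsym) (left_ne_zero_of_mul_eq_one h00)
    have hY : Y = 1 := by
      ext j l
      have := hXY 0 j 0 l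
      rw [hx1, one_mul] at this
      simpa [Matrix.one_apply] using this
    have hX : X = 1 := by
      ext i k
      have := hXY i 0 k 0
      rw [hY, Matrix.one_apply_eq, mul_one] at this
      simpa [Matrix.one_apply] using this
    have hGU : ∀ C : GL (Fin 3) F, (C : Matrix (Fin 3) (Fin 3) F)ᵀ * (C : Matrix (Fin 3) (Fin 3) F).map σ = 1 →
        C ∈ Cfsg.GU 3 F 2 := by
      intro C hC
      rw [UnitPow.mem_GU]
      intro u v
      have hh : ∀ u v : Fin 3 → F, Cfsg.hermForm 3 F 2 u v = u ⬝ᵥ fun i => σ (v i) := fun u v => by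
        simp [Cfsg.hermForm, dotProduct, hσ]
      rw [hh, hh, show (fun i => σ (((C : Matrix (Fin 3) (Fin 3) F) *ᵥ v) i)) =
        (C : Matrix (Fin 3) (Fin 3) F).map σ *ᵥ (fun i => σ (v i)) from
        funext fun i => RingHom.map_mulVec (σ : F →+* F) (C : Matrix (Fin 3) (Fin 3) F) v i,
        ← Matrix.vecMul_transpose, ← Matrix.dotProduct_mulVec, Matrix.mulVec_mulVec, hC, Matrix.one_mulVec]
    refine ⟨(⟨A, hGU A hX⟩, ⟨B, hGU B hY⟩), ?_⟩
    show ρ (Φ _) = ρ k
    congr 1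
    exact Units.ext hk.symm
  haveI : Group.IsSolvable (Cfsg.GU 3 F 2) := Cfsg.Agent.S0144.result 2 3 3 4 Nat.prime_two Nat.prime_three (by
    rw [ClassicalGroups.card_GU h40 3]; decide)
  haveI : Group.IsSolvable (ρ.comp Φ).range :=
    Group.isSolvable_of_surjective (MonoidHom.rangeRestrict_surjective _)
  haveI : Group.IsSolvable N :=
    Group.isSolvable_of_isSolvable_injective (f := Subgroup.inclusion hNΦ) (Subgroup.inclusion_injective hNΦ)
  by_contra hne
  haveI : Nontrivial N := (Subgroup.nontrivial_iff_ne_bot N).2 hne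
  refine (Group.IsSolvable.commutator_lt_top_of_nontrivial N).ne ?_
  refine Subgroup.map_injective N.subtype_injective ?_
  rw [commutator_def, Subgroup.map_commutator, ← MonoidHom.range_eq_map, Subgroup.range_subtype, hperf]


end CfsgLib.Geo.Asch
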