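import Mathlib
import Cfsg.Prelude.Def_GeometricClasses
import Cfsg.Agent.Lib.Geo.AschUnitCases
import Cfsg.Agent.Lib.Geo.AschTypeRData
import Cfsg.Agent.Lib.Geo.AschUnitPowerProper
import Cfsg.Agent.Lib.Geo.AschUnitSquare

/-! Maximal subgroups of special unitary groups in degrees at least five, prime powers and powers included. -/

set_option autoImplicit false
set_option linter.unusedSectionVars false

namespace CfsgLib.Geo.Asch

open Cfsg Cfsg.Geo Matrix CfsgLib.GeomClasses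
open scoped MatrixGroups commutatorElement

variable {ι : Type} [Fintype ι] [DecidableEq ι] {F : Type*} [Field F] [Fintype F]
  {σ : F ≃+* F} {f : (ι → F) → (ι → F) → F}

/-- The three subfield classes of a unitary group, as containments. -/
def UnitSubfield (q : ℕ) (f : (ι → F) → (ι → F) → F) (H : Subgroup (GL ι F)) : Prop :=
    (∃ (F₀ : Subfield F) (r : ℕ) (P : GL ι F), r.Prime ∧ Odd r ∧ Fintype.card F = Nat.card F₀ ^ r ∧
      IsFormRationalStructure f F₀ 1 P ∧ H ≤ subfieldSubgroup F₀ P) ∨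
    (∃ (F₀ : Subfield F) (P : GL ι F) (ζ : F), Fintype.card F = Nat.card F₀ ^ 2 ∧ ζ ≠ 0 ∧ ζ + ζ ^ q = 0 ∧
      IsFormRationalStructure f F₀ ζ P ∧
      (∀ u : ι → F, (∀ i, u i ∈ F₀) → f ((P : Matrix ι ι F) *ᵥ u) ((P : Matrix ι ι F) *ᵥ u) = 0) ∧
      H ≤ subfieldSubgroup F₀ P) ∨
    (Odd q ∧ ∃ (F₀ : Subfield F) (P : GL ι F), Fintype.card F = Nat.card F₀ ^ 2 ∧
      IsFormRationalStructure f F₀ 1 P ∧ H ≤ subfieldSubgroup F₀ P)

theorem unitary_realisable_cases [Nonempty ι] (hn2 : 2 ≤ Fintype.card ι) {q : ℕ} (hF : Fintype.card F = q ^ 2)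
    (hσq : ∀ x, σ x = x ^ q) (hf : IsUnitaryForm σ f) {H N : Subgroup (GL ι F)}
    (hinv : ∀ g ∈ H, ∀ x ∈ N, g * x * g⁻¹ ∈ N) (hspan : algOf N = ⊤) (hfN : FixesForm (matrixSet N) f)
    {F₀ : Subfield F} (h0 : F₀ ≠ ⊤) (hr : RealisableOver F₀ (matrixSet N)) : UnitSubfield q f H := by
  obtain ⟨F₁, r, P, hrp, hc, hle, hrat⟩ := exists_rational_subfield hspan hinv h0 hr
  obtain ⟨P', hPP, h⟩ := exists_form_rational_unitary hn2 hF hσq hf hspan hfN hrp hc P hrat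
  rw [← hPP] at hle
  rcases h with ⟨hform, ho | ⟨rfl, hq⟩⟩ | ⟨rfl, ζ, hζ, hζq, hform, halt⟩
  · exact Or.inl ⟨F₁, r, P', hrp, ho, hc, hform, hle⟩
  · exact Or.inr (Or.inr ⟨hq, F₁, P', hc, hform, hle⟩)
  · exact Or.inr (Or.inl ⟨F₁, P', ζ, hc, hζ, hζq, hform, halt, hle⟩)

/-- The field is generated by the roots of unity of the centre, unless the group is realisable over a subfield. -/
theorem TypeR.minimal_field_of_not_realisable {r m : ℕ} {N : Subgroup (GL ι F)} (hN : TypeR r m N)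
    (hfull : Nat.card (Subgroup.center N) = r * Nat.gcd 2 r)
    (hreal : ∀ F₀ : Subfield F, F₀ ≠ ⊤ → ¬ RealisableOver F₀ (matrixSet N)) :
    ∃ p e : ℕ, r ≠ p ∧ IsMinimalFieldFor (Nat.card (Subgroup.center N)) p e F ∧ 0 < e := by
  classical
  have := hN.nonempty
  obtain ⟨ζ, hζ⟩ := hN.exists_primitive
  obtain ⟨p, hchar⟩ := CharP.exists F
  obtain ⟨⟨e, he0⟩, hp, hq⟩ := FiniteField.card F p
  simp only [PNat.mk_coe] at hq
  have := Fact.mk hp
  set z := Nat.card (Subgroup.center N) with hz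
  have hz0 : z ≠ 0 := Nat.card_pos.ne'
  have hdvd : z ∣ p ^ e - 1 := by
    rw [hζ.eq_orderOf]
    refine orderOf_dvd_of_pow_eq_one ?_
    rw [← hq]
    exact FiniteField.pow_card_sub_one_eq_one ζ (hζ.ne_zero hz0)
  refine ⟨p, e, ?_, ⟨hp, hchar, hq, hdvd, fun d hd0 hde hd => ?_⟩, he0⟩
  · rintro rfl
    exact hN.prime_ne_zero (CharP.cast_eq_zero F r)
  let φ : F →+* F := iterateFrobenius F p d
  let F₀ : Subfield F := RingHom.eqLocusField φ (RingHom.id F)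
  have hmem : ∀ x, x ∈ F₀ ↔ x ^ p ^ d = x := fun x => by
    show φ x = x ↔ _
    rw [show φ x = x ^ p ^ d from iterateFrobenius_def p d x]
  have h0 : F₀ ≠ ⊤ := fun htop => not_all_fixed hp hq hd0 hde fun x => (hmem x).1 (htop ▸ Subfield.mem_top x)
  refine hreal F₀ h0 (hN.realisable (ζ := ζ) (hfull ▸ hζ) F₀ fun c hc => (hmem c).2 ?_)
  obtain ⟨k, hk⟩ := hd
  have := Nat.one_le_pow d p hp.pos
  rw [show p ^ d = z * k + 1 by omega, pow_succ, pow_mul, show c ^ z = 1 by rw [hfull]; exact hc, one_pow, one_mul]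

/-- A group of symplectic type in a unitary group. -/
theorem TypeR.unitary_cases {r m : ℕ} {N : Subgroup (GL ι F)} (hN : TypeR r m N) {q : ℕ}
    (hF : Fintype.card F = q ^ 2) (hσq : ∀ x, σ x = x ^ q) (hf : IsUnitaryForm σ f) {H : Subgroup (GL ι F)}
    (hinv : ∀ g ∈ H, ∀ x ∈ N, g * x * g⁻¹ ∈ N) (hfN : FixesForm (matrixSet N) f) :
    UnitSubfield q f H ∨ (Nat.card (Subgroup.center N) = r * Nat.gcd 2 r ∧
      ∃ p e : ℕ, r ≠ p ∧ IsMinimalFieldFor (Nat.card (Subgroup.center N)) p e F ∧ 0 < e) := by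
  have := hN.nonempty
  have hn2 : 2 ≤ Fintype.card ι := by have := hN.three; omega
  by_cases hreal : ∃ F₀ : Subfield F, F₀ ≠ ⊤ ∧ RealisableOver F₀ (matrixSet N)
  · obtain ⟨F₀, h0, hr⟩ := hreal
    exact Or.inl (unitary_realisable_cases hn2 hF hσq hf hinv hN.span hfN h0 hr)
  push Not at hreal
  have hfull : Nat.card (Subgroup.center N) = r * Nat.gcd 2 r := by
    rcases hN.card_center with h | ⟨rfl, h⟩
    · rcases hN.prime.eq_two_or_odd' with rfl | ho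
      · exfalso
        rcases hN.exists_bilinear_form h with ⟨g, hg, hgN⟩ | ⟨-, Q, hQ, hfix⟩
        · obtain ⟨F₀, h0, hr⟩ := realisable_of_bilinear hN.span hf hfN (symplectic_isSesq hg) hg.nondegenerate hgN
          exact hreal F₀ h0 hr
        · obtain ⟨F₀, h0, hr⟩ :=
            realisable_of_bilinear hN.span hf hfN (polar_isSesq hQ) hQ.nondegenerate (fixesForm_polar hfix)
          exact hreal F₀ h0 hr
      · rw [h, Nat.coprime_two_left.2 ho, mul_one]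
    · rw [h]; rfl
  exact Or.inr ⟨hfull, hN.minimal_field_of_not_realisable hfull hreal⟩

theorem unitary_power_cases [Nonempty ι] {q : ℕ} (hF : Fintype.card F = q ^ 2) (hσq : ∀ x, σ x = x ^ q)
    (hf : IsUnitaryForm σ f) (he : ∀ i j : ι, f (Pi.single i 1) (Pi.single j 1) = if i = j then 1 else 0)
    {Ω H : Subgroup (GL ι F)} (hΩ : HasUTv σ f Ω) (hΩf : IsoGrp f Ω) (hH : IsMaximalIn Ω H)
    (hn : 5 ≤ Fintype.card ι) :
    (∃ W : Submodule F (ι → F), W ≠ ⊥ ∧ IsTotallySingularFor f W ∧ H = subspaceStabilizer W ⊓ Ω) ∨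
    (∃ W : Submodule F (ι → F), W ≠ ⊥ ∧ IsNondegenerateOn f W ∧ 2 * Module.finrank F W < Fintype.card ι ∧
      H = subspaceStabilizer W ⊓ Ω) ∨
    (∃ (t m : ℕ) (D : Fin t → Submodule F (ι → F)), 2 ≤ t ∧ 1 ≤ m ∧ t * m = Fintype.card ι ∧
      (m = 2 → 3 ≤ q) ∧ IsNondegenerateMDecomposition f m D ∧ H = decompositionStabilizer D ⊓ Ω) ∨
    (∃ (m : ℕ) (D : Fin 2 → Submodule F (ι → F)), 2 * m = Fintype.card ι ∧ IsMDecomposition m D ∧
      (∀ i, IsTotallySingularFor f (D i)) ∧ H = decompositionStabilizer D ⊓ Ω) ∨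
    (∃ (s : ℕ) (K : Subalgebra F (Matrix ι ι F)), s.Prime ∧ Odd s ∧ s ∣ Fintype.card ι ∧ IsFieldSubalgebra s K ∧
      IsAdjointClosedFor f K ∧ H = subalgebraNormalizer K ⊓ Ω) ∨
    (∃ (a b : ℕ) (e : ι ≃ Fin a × Fin b) (P : GL ι F) (f₁ : (Fin a → F) → (Fin a → F) → F)
      (f₂ : (Fin b → F) → (Fin b → F) → F), 2 ≤ a ∧ a < b ∧ a * b = Fintype.card ι ∧ (a = 2 → 3 ≤ q) ∧
      IsUnitaryFormPow q f₁ ∧ IsUnitaryFormPow q f₂ ∧
      IsTensorFormStructure (fun x : F => x ^ q) f f₁ f₂ e P ∧ H = tensorProductSubgroup a b e P ⊓ Ω) ∨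
    (∃ (F₀ : Subfield F) (r : ℕ) (P : GL ι F), r.Prime ∧ Odd r ∧ Fintype.card F = Nat.card F₀ ^ r ∧
      IsFormRationalStructure f F₀ 1 P ∧ H = subfieldSubgroup F₀ P ⊓ Ω) ∨
    (∃ (F₀ : Subfield F) (P : GL ι F) (ζ : F), Fintype.card F = Nat.card F₀ ^ 2 ∧ ζ ≠ 0 ∧ ζ + ζ ^ q = 0 ∧
      IsFormRationalStructure f F₀ ζ P ∧
      (∀ u : ι → F, (∀ i, u i ∈ F₀) → f ((P : Matrix ι ι F) *ᵥ u) ((P : Matrix ι ι F) *ᵥ u) = 0) ∧
      H = subfieldSubgroup F₀ P ⊓ Ω) ∨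
    (Odd q ∧ ∃ (F₀ : Subfield F) (P : GL ι F), Fintype.card F = Nat.card F₀ ^ 2 ∧
      IsFormRationalStructure f F₀ 1 P ∧ H = subfieldSubgroup F₀ P ⊓ Ω) ∨
    (∃ (r m p e : ℕ) (R : Subgroup (GL ι F)), r.Prime ∧ r ^ m = Fintype.card ι ∧ r ≠ p ∧ 0 < e ∧
      IsMinimalFieldFor (r * Nat.gcd 2 r) p e F ∧ IsSymplecticTypeGroup r R ∧
      ActsAbsolutelyIrreducibly (matrixSet R) ∧ R ≤ similarityGroup f ∧
      Nat.card R = r ^ (2 * m) * (r * Nat.gcd 2 r) ∧ Nat.card (Subgroup.center R) = r * Nat.gcd 2 r ∧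
      H = subgroupNormalizer R ⊓ Ω) ∨
    (∃ (a : ℕ) (e : ι ≃ Fin a × Fin a) (P : GL ι F), 2 ≤ a ∧ a * a = Fintype.card ι ∧
      H ≤ tensorProductSubgroup a a e P ∧ IsTensorFormStructure (σ : F → F) f (stdHerm σ a) (stdHerm σ a) e P ∧
      IsTensorPowerFormStructure (σ : F → F) f (stdHerm σ a) (e.trans (finTwoArrowEquiv (Fin a)).symm) P) ∨
    (∃ (N : Subgroup (GL ι F)) (a t : ℕ) (e : ι ≃ (Fin t → Fin a)) (P : GL ι F), 2 ≤ a ∧ 2 ≤ t ∧
      a ^ t = Fintype.card ι ∧ N ≤ H ∧ (∀ g ∈ H, ∀ x ∈ N, g * x * g⁻¹ ∈ N) ∧ ¬ N ≤ scalars ι F ∧ algOf N = ⊤ ∧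
      ⁅N, N⁆ = N ∧ H ≤ tensorWreathSubgroup a t e P ∧
      (t = 2 → ∃ (e₂ : ι ≃ Fin a × Fin a) (P₂ : GL ι F),
        H ≤ tensorWreathSubgroup a 2 (e₂.trans (finTwoArrowEquiv (Fin a)).symm) P₂ ∧
        IsTensorFormStructure (σ : F → F) f (stdHerm σ a) (stdHerm σ a) e₂ P₂ ∧
        IsTensorPowerFormStructure (σ : F → F) f (stdHerm σ a) (e₂.trans (finTwoArrowEquiv (Fin a)).symm) P₂)) ∨
    InUnitaryResidualClass H := by
  classical
  have hh := herm_unitary hf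
  have hHf : IsoGrp f H := fun g hg => hΩf g (hH.1.le hg)
  have hn2 : 2 ≤ Fintype.card ι := by omega
  have hn3 : 3 ≤ Fintype.card ι := by omega
  have hq2 := UnitPow.two_le hF
  have h4 : ¬ 3 ≤ q → Fintype.card F = 4 ∧ (∀ x, σ x = x ^ 2) := fun h => by
    obtain rfl : q = 2 := by omega
    exact ⟨by rw [hF]; rfl, hσq⟩
  have hdec : ∀ (t m : ℕ) (D : Fin t → Submodule F (ι → F)), IsNondegenerateMDecomposition f m D →
      H ≤ decompositionStabilizer D →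
      ∃ (t m : ℕ) (D : Fin t → Submodule F (ι → F)), 2 ≤ t ∧ 1 ≤ m ∧ t * m = Fintype.card ι ∧
        (m = 2 → 3 ≤ q) ∧ IsNondegenerateMDecomposition f m D ∧ H = decompositionStabilizer D ⊓ Ω := by
    intro t m D hD hle
    have key : ∀ (t m : ℕ) (D : Fin t → Submodule F (ι → F)), IsNondegenerateMDecomposition f m D →
        H ≤ decompositionStabilizer D → (m = 2 → 3 ≤ q) →
        ∃ (t m : ℕ) (D : Fin t → Submodule F (ι → F)), 2 ≤ t ∧ 1 ≤ m ∧ t * m = Fintype.card ι ∧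
          (m = 2 → 3 ≤ q) ∧ IsNondegenerateMDecomposition f m D ∧ H = decompositionStabilizer D ⊓ Ω := by
      intro t m D hD hle hq
      have htm := mdecomposition_card hD.decomp
      refine ⟨t, m, D, hD.decomp.two_le, hD.decomp.pos, htm, hq, hD, eq_inf_of_le hH hle ?_⟩
      rcases eq_or_lt_of_le (show 1 ≤ m from hD.decomp.pos) with rfl | hm
      · exact utv_not_le_decomposition hf hΩ (by omega) hD
      · exact utv_not_le_decomposition_large hf hn2 hΩ hD.decomp hm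
    by_cases hm : m = 2 ∧ ¬ 3 ≤ q
    · obtain ⟨rfl, hq⟩ := hm
      obtain ⟨D', hD', hle'⟩ := lines_of_planes (h4 hq).1 (h4 hq).2 hf hHf hD hle
      exact key _ 1 D' hD' hle' (fun h => by omega)
    · exact key t m D hD hle fun h => by_contra fun h' => hm ⟨h, h'⟩
  by_cases hirr : ActsIrreducibly (matrixSet H)
  swap
  · rcases reducible_cases hh hHf hirr with ⟨W, h1, h2, hW, hle⟩ | ⟨W, h1, h2, hW, hd, hle⟩ | ⟨m, D, hD, hle⟩
    · exact Or.inl ⟨W, h1, hW, eq_inf_of_le hH hle (utv_not_le_subspace hf hn2 hΩ h1 h2)⟩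
    · exact Or.inr (Or.inl ⟨W, h1, hW, hd, eq_inf_of_le hH hle (utv_not_le_subspace hf hn2 hΩ h1 h2)⟩)
    · exact Or.inr (Or.inr (Or.inl (hdec 2 m D hD hle)))
  refine Or.inr (Or.inr ?_)
  rcases irreducible_cases hn2 hh hHf hirr with hg | ⟨N, hNH, hinv, hns, hspan, hmin, hcase⟩
  swap
  · have hfN : FixesForm (matrixSet N) f := by
      rintro _ ⟨g, hg, rfl⟩ u v
      exact hHf g (hNH hg) u v
    have hsubf : UnitSubfield q f H →
      (∃ (F₀ : Subfield F) (r : ℕ) (P : GL ι F), r.Prime ∧ Odd r ∧ Fintype.card F = Nat.card F₀ ^ r ∧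
        IsFormRationalStructure f F₀ 1 P ∧ H = subfieldSubgroup F₀ P ⊓ Ω) ∨
      (∃ (F₀ : Subfield F) (P : GL ι F) (ζ : F), Fintype.card F = Nat.card F₀ ^ 2 ∧ ζ ≠ 0 ∧ ζ + ζ ^ q = 0 ∧
        IsFormRationalStructure f F₀ ζ P ∧
        (∀ u : ι → F, (∀ i, u i ∈ F₀) → f ((P : Matrix ι ι F) *ᵥ u) ((P : Matrix ι ι F) *ᵥ u) = 0) ∧
        H = subfieldSubgroup F₀ P ⊓ Ω) ∨
      (Odd q ∧ ∃ (F₀ : Subfield F) (P : GL ι F), Fintype.card F = Nat.card F₀ ^ 2 ∧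
        IsFormRationalStructure f F₀ 1 P ∧ H = subfieldSubgroup F₀ P ⊓ Ω) := fun h => by
        rcases h with ⟨F₀, r, P, hr, ho, hc, hform, hle⟩ | ⟨F₀, P, ζ, hc, hζ, hζq, hform, halt, hle⟩ |
          ⟨hq, F₀, P, hc, hform, hle⟩
        · exact Or.inl ⟨F₀, r, P, hr, ho, hc, hform,
            eq_inf_of_le hH hle (utv_not_le_subfield hf hn3 he hΩ (subfield_ne_top hr hc) P)⟩
        · exact Or.inr (Or.inl ⟨F₀, P, ζ, hc, hζ, hζq, hform, halt,
            eq_inf_of_le hH hle (utv_not_le_subfield hf hn3 he hΩ (subfield_ne_top Nat.prime_two hc) P)⟩)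
        · exact Or.inr (Or.inr ⟨hq, F₀, P, hc, hform,
            eq_inf_of_le hH hle (utv_not_le_subfield hf hn3 he hΩ (subfield_ne_top Nat.prime_two hc) P)⟩)
    rcases hcase with ⟨hcl, -⟩ | ⟨hperf, hcl⟩
    · obtain ⟨r, m, hm, hR⟩ := exists_typeR hn3 hinv hspan hcl hmin
      rcases hR.unitary_cases hF hσq hf hinv hfN with h | ⟨hfull, p, k, hrp, hminf, hk⟩
      · exact Or.inr (Or.inr (Or.inr (Or.inr ((hsubf h).elim Or.inl fun h' => Or.inr (h'.elim Or.inl fun h'' => Or.inr (Or.inl h''))))))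
      refine Or.inr (Or.inr (Or.inr (Or.inr (Or.inr (Or.inr (Or.inr (Or.inl ⟨r, m, p, k, N, hR.prime, hR.deg.symm,
        hrp, hk, hfull ▸ hminf, hR.isSymplecticTypeGroup hinv hmin, absIrred_of_algOf_eq_top hspan,
        fun g hg => ⟨1, fun u v => by rw [Units.val_one, one_mul]; exact hfN _ ⟨g, hg, rfl⟩ u v⟩,
        by rw [hR.card_eq, hfull], hfull, eq_inf_of_le hH (le_normalizer_of_normalized hinv)
          (utv_not_le_typeR_normalizer hR hf hn hΩ)⟩)))))))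
    rcases simple_or_family_groups hNH hinv hspan hcl hmin with hsimple | ⟨a, t, ψ, ha, ht, hcard, hcomm, hgrp, hperm⟩
    · rcases unitary_residual_cases hn2 hF hσq hf hHf hNH hinv hns hspan hperf hsimple with h | h | h | h
      · exact Or.inr (Or.inr (Or.inr (Or.inr ((hsubf (Or.inl h)).elim Or.inl fun h' => Or.inr (h'.elim Or.inl fun h'' => Or.inr (Or.inl h''))))))
      · exact Or.inr (Or.inr (Or.inr (Or.inr ((hsubf (Or.inr (Or.inl h))).elim Or.inl fun h' => Or.inr (h'.elim Or.inl fun h'' => Or.inr (Or.inl h''))))))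
      · exact Or.inr (Or.inr (Or.inr (Or.inr ((hsubf (Or.inr (Or.inr h))).elim Or.inl fun h' => Or.inr (h'.elim Or.inl fun h'' => Or.inr (Or.inl h''))))))
      · exact Or.inr (Or.inr (Or.inr (Or.inr (Or.inr (Or.inr (Or.inr (Or.inr (Or.inr (Or.inr h)))))))))
    obtain ⟨e₁, P₁, hψ⟩ := exists_powerEmb (show 0 < a by omega) hcard ψ hcomm
    refine Or.inr (Or.inr (Or.inr (Or.inr (Or.inr (Or.inr (Or.inr (Or.inr (Or.inr (Or.inl
      ⟨N, a, t, e₁, P₁, ha, ht, hcard.symm, hNH, hinv, hns, hspan, hperf, fun g hg => ?_, ?_⟩)))))))))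
    · obtain ⟨τ, hτ⟩ := hperm g hg
      exact mem_tensorWreath_of_family (by omega) (by omega) e₁ P₁ hψ hτ
    · rintro rfl
      refine family_square hF hσq hf (show 0 < a by omega) hcard ψ hcomm ?_ hperm
      obtain ⟨K, hKN, hKr⟩ := hgrp 0
      exact hKr ▸ hh.adjointClosed_algOf fun g hg u v => hHf g (hNH (hKN hg)) u v
  rcases hg with ⟨t, m, D, hD, hle⟩ | ⟨m, D, hD, hTS, hle⟩ | ⟨s, K, hs, hK, hKa, hHK⟩ |
      ⟨a, b, e, P, ε₁, ε₂, f₁, f₂, ha, hb, h₁, h₂, hε, hε1, hT, hle⟩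
  · exact Or.inl (hdec t m D hD hle)
  · have hm := mdecomposition_card hD
    exact Or.inr (Or.inl ⟨m, D, hm, hD, hTS,
      eq_inf_of_le hH hle (utv_not_le_decomposition_large hf hn2 hΩ hD (by omega))⟩)
  · exact Or.inr (Or.inr (Or.inl ⟨s, K, hs,
      hs.eq_two_or_odd'.resolve_left (unitary_field_degree_ne_two hf hK hKa), isFieldSubalgebra_dvd hK, hK, hKa,
      eq_inf_of_le hH (le_subalgebraNormalizer hHK) (utv_not_le_field hf hn3 hΩ hs.one_lt hK)⟩))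
  obtain rfl := hε1 hf.ne_refl
  obtain rfl : ε₂ = 1 := by rwa [one_mul] at hε
  have hab : a * b = Fintype.card ι := by simpa using (Fintype.card_congr e).symm
  by_cases heq : a = b
  · subst heq
    obtain ⟨P', hle', -, h3, h4'⟩ := exists_square_std hF hσq hf.ne_refl e P h₁ h₂ hT
    exact Or.inr (Or.inr (Or.inr (Or.inr (Or.inr (Or.inr (Or.inr (Or.inr (Or.inl
      ⟨a, e, P', ha, hab, hle.trans hle', h3, h4'⟩))))))))
  obtain ⟨a, b, e, P, f₁, f₂, ha, hlt, hab, h₁, h₂, hT, hle⟩ : ∃ (a b : ℕ) (e : ι ≃ Fin a × Fin b) (P : GL ι F)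
      (f₁ : (Fin a → F) → (Fin a → F) → F) (f₂ : (Fin b → F) → (Fin b → F) → F), 2 ≤ a ∧ a < b ∧
      a * b = Fintype.card ι ∧ Herm σ 1 f₁ ∧ Herm σ 1 f₂ ∧
      IsTensorFormStructure (σ : F → F) f f₁ f₂ e P ∧ H ≤ tensorProductSubgroup a b e P := by
    rcases lt_or_gt_of_ne heq with h | h
    · exact ⟨a, b, e, P, f₁, f₂, ha, h, hab, h₁, h₂, hT, hle⟩
    · exact ⟨b, a, e.trans (Equiv.prodComm _ _), P, f₂, f₁, hb, h, by rw [mul_comm]; exact hab, h₂, h₁,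
        isTensorFormStructure_swap hT, tensorProductSubgroup_swap e P ▸ hle⟩
  by_cases hq : a = 2 ∧ ¬ 3 ≤ q
  · obtain ⟨rfl, hq⟩ := hq
    obtain ⟨h4', hσ2⟩ := h4 hq
    obtain ⟨w, hne, horth, hfr⟩ := unitary_plane_frame h4' hσ2 hf.ne_refl h₁
    obtain ⟨D, hD, hleD⟩ := tensor_frame_decomposition hh (isTensorFormStructure_swap hT) h₂ h₁ (by omega) le_rfl
      w hne horth (tensorProductSubgroup_swap e P ▸ hle) hHf
      fun B μ hμ hB j => hfr _ (by rw [hB]; exact mul_ne_zero hμ (hne j))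
    exact Or.inl (hdec 2 b D hD hleD)
  refine Or.inr (Or.inr (Or.inr (Or.inl ⟨a, b, e, P, f₁, f₂, ha, hlt, hab,
    fun h => by_contra fun h' => hq ⟨h, h'⟩, isUnitaryFormPow_of_herm hσq h₁, isUnitaryFormPow_of_herm hσq h₂, ?_,
    eq_inf_of_le hH hle (utv_not_le_tensor hf hn2 hΩ ha (by omega) e P)⟩)))
  rwa [show (fun x : F => x ^ q) = (σ : F → F) from funext fun x => (hσq x).symm]

end CfsgLib.Geo.Asch
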