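import Mathlib
import Cfsg.Prelude.Def_GeometricClasses
import Cfsg.Agent.Lib.Geo.AschUnitPowerCases
import Cfsg.Agent.Lib.Geo.AschWreathForms
import Cfsg.Agent.Lib.Sp.InvolutionClasses

/-! Arithmetic of the minimal fields and forms fixed by perfect tensor powers of planes. -/

set_option autoImplicit false
set_option linter.unusedSectionVars false

namespace CfsgLib.Geo.Asch

open Cfsg Cfsg.Geo Matrix CfsgLib.GeomClasses
open scoped MatrixGroups commutatorElement

variable {ι : Type} [Fintype ι] [DecidableEq ι] {F : Type*} [Field F] [Fintype F]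
  {σ : F ≃+* F} {f : (ι → F) → (ι → F) → F}

theorem minimal_field_four {p k q : ℕ} (hp2 : 2 ≠ p) (hF : Fintype.card F = q ^ 2)
    (hm : IsMinimalFieldFor 4 p k F) : q = p ∧ p % 4 = 3 := by
  obtain ⟨hp, -, hcard, hdvd, hmin⟩ := hm
  have hodd : p % 2 = 1 := Nat.odd_iff.1 (hp.odd_of_ne_two (Ne.symm hp2))
  have hk : k ≤ 2 := by
    by_contra h
    refine hmin 2 two_pos (by omega) ?_
    obtain ⟨j, hj⟩ : ∃ j, p = 2 * j + 1 := ⟨p / 2, by omega⟩
    exact ⟨j * j + j, by rw [hj]; ring_nf; omega⟩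
  have h1 := hF.symm.trans hcard
  interval_cases k
  · simp at h1; subst h1
    have := Fintype.one_lt_card (α := F)
    rw [hcard] at this; simp at this
  · exfalso
    rw [pow_one] at h1
    exact Nat.Prime.not_prime_pow (le_refl 2) (h1 ▸ hp)
  · refine ⟨Nat.pow_left_injective two_ne_zero h1, ?_⟩
    have h4 := hmin 1 one_pos one_lt_two
    rw [pow_one] at h4
    have := hp.two_le
    omega

theorem minimal_field_three {p k q : ℕ} (hp3 : 3 ≠ p) (hF : Fintype.card F = q ^ 2)
    (hm : IsMinimalFieldFor 3 p k F) : q = p ∧ p % 3 = 2 := by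
  obtain ⟨hp, -, hcard, hdvd, hmin⟩ := hm
  have h3 : p % 3 ≠ 0 := fun h => hp3 ((Nat.prime_dvd_prime_iff_eq Nat.prime_three hp).1 (Nat.dvd_of_mod_eq_zero h))
  have hk : k ≤ 2 := by
    by_contra h
    refine hmin 2 two_pos (by omega) ?_
    obtain ⟨j, hj | hj⟩ : ∃ j, p = 3 * j + 1 ∨ p = 3 * j + 2 := ⟨p / 3, by omega⟩
    · exact ⟨3 * j * j + 2 * j, by rw [hj]; ring_nf; omega⟩
    · exact ⟨3 * j * j + 4 * j + 1, by rw [hj]; ring_nf; omega⟩
  have h1 := hF.symm.trans hcard
  interval_cases k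
  · simp at h1; subst h1
    have := Fintype.one_lt_card (α := F)
    rw [hcard] at this; simp at this
  · exfalso
    rw [pow_one] at h1
    exact Nat.Prime.not_prime_pow (le_refl 2) (h1 ▸ hp)
  · refine ⟨Nat.pow_left_injective two_ne_zero h1, ?_⟩
    have h4 := hmin 1 one_pos one_lt_two
    rw [pow_one] at h4
    have := hp.two_le
    omega

/-- A perfect group of similarities fixes the form. -/
theorem fixes_of_perfect {g : (ι → F) → (ι → F) → F} {N : Subgroup (GL ι F)}
    (hle : N ≤ similarityGroup g) (hperf : ⁅N, N⁆ = N) : FixesForm (matrixSet N) g := by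
  let Iso : Subgroup (GL ι F) :=
    { carrier := {x : GL ι F | ∀ u v, g ((x : Matrix ι ι F) *ᵥ u) ((x : Matrix ι ι F) *ᵥ v) = g u v}
      one_mem' := by simp
      mul_mem' := fun {x y} hx hy u v => by
        rw [Units.val_mul, ← Matrix.mulVec_mulVec, ← Matrix.mulVec_mulVec]; exact (hx _ _).trans (hy _ _)
      inv_mem' := fun {x} hx u v => by
        conv_rhs => rw [← gl_mulVec_inv_mulVec x u, ← gl_mulVec_inv_mulVec x v]
        exact (hx _ _).symm }
  have h1 : ⁅N, N⁆ ≤ Iso := Subgroup.commutator_le.2 fun x hx y hy => by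
    obtain ⟨a, ha⟩ := hle hx
    obtain ⟨b, hb⟩ := hle hy
    have hinv : ∀ (z : GL ι F) (c : Fˣ),
        (∀ u v, g ((z : Matrix ι ι F) *ᵥ u) ((z : Matrix ι ι F) *ᵥ v) = (c : F) * g u v) →
        ∀ u v, g (((z⁻¹ : GL ι F) : Matrix ι ι F) *ᵥ u) (((z⁻¹ : GL ι F) : Matrix ι ι F) *ᵥ v) =
          ((c⁻¹ : Fˣ) : F) * g u v := by
      intro z c hz u v
      conv_rhs => rw [← gl_mulVec_inv_mulVec z u, ← gl_mulVec_inv_mulVec z v, hz, ← mul_assoc, Units.inv_mul, one_mul]
    intro u v
    rw [commutatorElement_def, Units.val_mul, Units.val_mul, Units.val_mul, ← Matrix.mulVec_mulVec,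
      ← Matrix.mulVec_mulVec, ← Matrix.mulVec_mulVec, ← Matrix.mulVec_mulVec, ← Matrix.mulVec_mulVec,
      ← Matrix.mulVec_mulVec, ha, hb, hinv x a ha, hinv y b hb]
    simp only [← mul_assoc]
    rw [← Units.val_mul, ← Units.val_mul, ← Units.val_mul, mul_right_comm a b, mul_inv_cancel, one_mul, mul_inv_cancel,
      Units.val_one, one_mul]
  rintro _ ⟨x, hx, rfl⟩ u v
  exact h1 (hperf.symm ▸ hx) u v

/-- A perfect spanning group preserving a tensor power of planes is realisable over a subfield. -/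
theorem realisable_of_wreath_two [Nonempty ι] {t : ℕ} (ht : 0 < t) (e : ι ≃ (Fin t → Fin 2)) (P : GL ι F)
    {N : Subgroup (GL ι F)} (hspan : algOf N = ⊤) (hperf : ⁅N, N⁆ = N) (hle : N ≤ tensorWreathSubgroup 2 t e P)
    (hf : IsUnitaryForm σ f) (hfN : FixesForm (matrixSet N) f) :
    ∃ F₀ : Subfield F, F₀ ≠ ⊤ ∧ RealisableOver F₀ (matrixSet N) := by
  rcases wreath_two_le_form ht e P with ⟨g, hg, hgle⟩ | ⟨-, Q, hQ, hQle⟩
  · exact realisable_of_bilinear hspan hf hfN (symplectic_isSesq hg) hg.nondegenerate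
      (fixes_of_perfect (hle.trans hgle) hperf)
  · refine realisable_of_bilinear hspan hf hfN (polar_isSesq hQ) hQ.nondegenerate (fixes_of_perfect (fun x hx => ?_) hperf)
    obtain ⟨c, hc⟩ := hQle (hle hx)
    refine ⟨c, fun u v => ?_⟩
    simp only [QuadraticMap.polar, ← Matrix.mulVec_add, hc]
    ring

/-- An alternating rational structure needs an even degree. -/
theorem even_of_alternating (hf : IsUnitaryForm σ f) {F₀ : Subfield F} (P : GL ι F)
    (halt : ∀ u : ι → F, (∀ i, u i ∈ F₀) → f ((P : Matrix ι ι F) *ᵥ u) ((P : Matrix ι ι F) *ᵥ u) = 0) :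
    ∃ k, Fintype.card ι = 2 * k := by
  classical
  have hh := herm_unitary hf
  let G : Matrix ι ι F := Matrix.of fun i j =>
    f ((P : Matrix ι ι F) *ᵥ Pi.single i 1) ((P : Matrix ι ι F) *ᵥ Pi.single j 1)
  have hd : ∀ i, G i i = 0 := fun i => halt _ fun j => by
    by_cases h : j = i <;> simp [h, F₀.one_mem, F₀.zero_mem]
  have hs : ∀ i j, G i j + G j i = 0 := fun i j => by
    have h := halt (Pi.single i 1 + Pi.single j 1) fun k => F₀.add_mem
      (by by_cases h : k = i <;> simp [h, F₀.one_mem, F₀.zero_mem])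
      (by by_cases h : k = j <;> simp [h, F₀.one_mem, F₀.zero_mem])
    rw [Matrix.mulVec_add, hh.add_left, hh.add_right, hh.add_right] at h
    have h1 := hd i
    have h2 := hd j
    simp only [G, Matrix.of_apply] at h1 h2 ⊢
    linear_combination h - h1 - h2
  let B : LinearMap.BilinForm F (ι → F) := Matrix.toLinearMap₂' F G
  have hA : B.IsAlt := fun v => by
    show Matrix.toLinearMap₂' F G v v = 0
    rw [Matrix.toLinearMap₂'_apply']
    simp only [dotProduct, Matrix.mulVec, Finset.mul_sum]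
    rw [← Finset.sum_product', Finset.univ_product_univ]
    refine Finset.sum_involution (fun p _ => Prod.swap p) (fun p _ => ?_) (fun p _ hp => ?_) (fun p _ => Finset.mem_univ _)
      (fun p _ => Prod.swap_swap p)
    · show _ + v p.2 * (G p.2 p.1 * v p.1) = 0
      linear_combination (v p.1 * v p.2) * hs p.1 p.2
    · intro h
      apply hp
      have he : p.2 = p.1 := congrArg Prod.fst h
      rw [he, hd, zero_mul, mul_zero]
  have hB : LinearMap.SeparatingLeft B := by
    intro v hv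
    by_contra hv0
    obtain ⟨x, hx⟩ := (hf.nondegenerate _ (gl_mulVec_ne_zero P hv0)).2
    apply hx
    obtain ⟨x, rfl⟩ : ∃ y, (P : Matrix ι ι F) *ᵥ y = x := ⟨_, gl_mulVec_inv_mulVec P x⟩
    have hexp : f ((P : Matrix ι ι F) *ᵥ v) ((P : Matrix ι ι F) *ᵥ x) = B v fun j => σ (x j) := by
      show _ = Matrix.toLinearMap₂' F G v _
      rw [Matrix.toLinearMap₂'_apply']
      conv_lhs => rw [pi_eq_sum_univ' v, pi_eq_sum_univ' x, Matrix.mulVec_sum, Matrix.mulVec_sum, hh.sesq.sum_left]
      simp only [dotProduct, Matrix.mulVec, G, Matrix.of_apply, Finset.mul_sum]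
      refine Finset.sum_congr rfl fun i _ => ?_
      rw [Matrix.mulVec_smul, hh.smul_left, hh.sesq.sum_right, Finset.mul_sum]
      refine Finset.sum_congr rfl fun j _ => ?_
      rw [Matrix.mulVec_smul, hh.smul_right]
      ring
    rw [hexp]
    exact hv _
  obtain ⟨k, hk⟩ := CfsgLib.SpInvClasses.even_finrank B hA hB
  exact ⟨k, by rwa [Module.finrank_pi] at hk⟩

end CfsgLib.Geo.Asch
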