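import Mathlib
import Cfsg.Prelude.Def_GeometricClasses
import Cfsg.Agent.Lib.Geo.AschSympCases
import Cfsg.Agent.Lib.Geo.AschTrace
import Cfsg.Agent.Lib.Geo.AschTypeRData
import Cfsg.Agent.Lib.Geo.AschUnitPowerProper
import Cfsg.Agent.Lib.Geo.AschUnitPowerArith
import Cfsg.Agent.Lib.Geo.AschWreathForms
import Cfsg.Agent.Lib.Geo.AschPlusTensor
import Cfsg.Agent.Lib.Characters.Burnside

/-! Groups of symplectic type and tensor cubes of planes inside symplectic groups. -/

set_option autoImplicit false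
set_option linter.unusedSectionVars false

namespace CfsgLib.Geo.Asch

open Cfsg Cfsg.Geo Matrix CfsgLib.GeomClasses CfsgLib.Maximal.TensorPower
open scoped MatrixGroups commutatorElement

variable {ι : Type} [Fintype ι] [DecidableEq ι] {F : Type*} [Field F] [Fintype F]
  {f : (ι → F) → (ι → F) → F}

/-- A group of symplectic type fixing a bilinear form is a 2-group with centre of order two. -/
theorem TypeR.two_of_bilinear {r m : ℕ} {N : Subgroup (GL ι F)} (hN : TypeR r m N) (hf : IsBilinearForm f)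
    (hn : IsNondegenerateForm f) (hfN : FixesForm (matrixSet N) f) : r = 2 ∧ Nat.card (Subgroup.center N) = 2 := by
  have := hN.nonempty
  have hsq : ∀ x ∈ N, ∀ c : F, (x : Matrix ι ι F) = c • 1 → c * c = 1 := by
    intro x hx c hc
    obtain ⟨v, hv⟩ := exists_ne (0 : ι → F)
    obtain ⟨u, hu⟩ := (hn v hv).1
    have h := hfN _ ⟨x, hx, rfl⟩ u v
    simp only [hc, Matrix.smul_mulVec, Matrix.one_mulVec, hf.smul_left, hf.smul_right, ← mul_assoc] at h
    exact mul_right_cancel₀ hu (h.trans (one_mul _).symm)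
  obtain ⟨z, hz, s, hs, hzs⟩ := hN.exists_root
  have hr : r = 2 := (Nat.prime_dvd_prime_iff_eq hN.prime Nat.prime_two).1
    (hs.dvd_of_pow_eq_one 2 (by rw [sq]; exact hsq z hz s hzs))
  refine ⟨hr, ?_⟩
  subst hr
  rcases hN.card_center with h | ⟨-, h⟩
  · exact h
  exfalso
  obtain ⟨ζ, hζ⟩ := hN.exists_primitive
  rw [h] at hζ
  let Z : Subgroup N := Subgroup.center N
  have hZc : ∀ x : Z, ((x : N) : GL ι F) ∈ scalars ι F := fun x => by
    have hx := x.2
    simp only [Z, hN.center_eq, Subgroup.mem_subgroupOf] at hx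
    exact hx
  have hZ2 : ∀ x : Z, x ^ 2 = 1 := fun x => by
    obtain ⟨c, hc⟩ := (mem_scalars_iff _).1 (hZc x)
    refine Subtype.ext (Subtype.ext (Units.ext ?_))
    show (((x : N) : GL ι F) : Matrix ι ι F) ^ 2 = 1
    rw [hc, smul_pow, one_pow, sq, hsq _ (x : N).2 _ hc, one_smul]
  haveI : IsCyclic (Z.map N.subtype) := scalars_le_range_cyclic _ (by
    rintro _ ⟨x, hx, rfl⟩
    exact hZc ⟨x, hx⟩)
  haveI : IsCyclic Z := isCyclic_of_surjective (Z.equivMapOfInjective N.subtype N.subtype_injective).symm.toMonoidHom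
    (MulEquiv.surjective _)
  have hdvd : Nat.card Z ∣ 2 := by
    rw [← IsCyclic.exponent_eq_card]
    exact Monoid.exponent_dvd_of_forall_pow_eq_one hZ2
  rw [show Nat.card Z = 4 from h] at hdvd
  exact absurd (Nat.le_of_dvd two_pos hdvd) (by norm_num)

/-- With centre of order two the traces lie in every subfield. -/
theorem TypeR.realisable_of_center_two {m : ℕ} {N : Subgroup (GL ι F)} (hN : TypeR 2 m N) (hf : IsBilinearForm f)
    (hn : IsNondegenerateForm f) (hfN : FixesForm (matrixSet N) f) (F₀ : Subfield F) :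
    RealisableOver F₀ (matrixSet N) := by
  have := hN.nonempty
  refine realisable_of_traces hN.span F₀ fun x hx => ?_
  by_cases hxs : x ∈ scalars ι F
  · obtain ⟨c, hc⟩ := (mem_scalars_iff x).1 hxs
    obtain ⟨v, hv⟩ := exists_ne (0 : ι → F)
    obtain ⟨u, hu⟩ := (hn v hv).1
    have h := hfN _ ⟨x, hx, rfl⟩ u v
    simp only [hc, Matrix.smul_mulVec, Matrix.one_mulVec, hf.smul_left, hf.smul_right, ← mul_assoc] at h
    have hcc : (c : F) * c = 1 := mul_right_cancel₀ hu (h.trans (one_mul _).symm)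
    rw [hc, Matrix.trace_smul, Matrix.trace_one, smul_eq_mul]
    rcases mul_self_eq_one_iff.1 hcc with h1 | h1 <;> rw [h1]
    · rw [one_mul]; exact natCast_mem F₀ _
    · rw [neg_one_mul]; exact F₀.neg_mem (natCast_mem F₀ _)
  · rw [hN.trace_eq_zero hx hxs]; exact F₀.zero_mem

/-- A group of symplectic type fixing a symplectic form is of minus type. -/
theorem TypeR.minus_type {m : ℕ} {N : Subgroup (GL ι F)} (hN : TypeR 2 m N) (hc2 : Nat.card (Subgroup.center N) = 2)
    (hf : IsSymplecticForm f) (hfN : FixesForm (matrixSet N) f) : IsOfMinusType m N := by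
  classical
  have := hN.nonempty
  intro A hA hA2
  by_contra hcard
  push Not at hcard
  have h2 : (2 : F) ≠ 0 := by
    have h := hN.prime_ne_zero
    simpa using h
  have hinv : ∀ (a : N), a ∈ A → ∀ w, ((a : GL ι F) : Matrix ι ι F) *ᵥ (((a : GL ι F) : Matrix ι ι F) *ᵥ w) = w := by
    intro a ha w
    rw [Matrix.mulVec_mulVec, ← Units.val_mul, show (a : GL ι F) * a = 1 from congrArg Subtype.val (hA2 a ha),
      Units.val_one, Matrix.one_mulVec]
  have hcommA : ∀ a ∈ A, ∀ b ∈ A, ∀ w, ((a : GL ι F) : Matrix ι ι F) *ᵥ (((b : GL ι F) : Matrix ι ι F) *ᵥ w) =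
      ((b : GL ι F) : Matrix ι ι F) *ᵥ (((a : GL ι F) : Matrix ι ι F) *ᵥ w) := by
    intro a ha b hb w
    have h : a * b = b * a := congrArg Subtype.val (hA.is_comm.comm ⟨a, ha⟩ ⟨b, hb⟩)
    rw [Matrix.mulVec_mulVec, Matrix.mulVec_mulVec, ← Units.val_mul, ← Units.val_mul,
      show (a : GL ι F) * b = b * a from congrArg Subtype.val h]
  -- a common eigenvector
  obtain ⟨v, hv0, hv⟩ : ∃ v : ι → F, v ≠ 0 ∧ ∀ a ∈ A, ∃ c : F, ((a : GL ι F) : Matrix ι ι F) *ᵥ v = c • v := by
    suffices h : ∀ T : Finset N, (∀ a ∈ T, a ∈ A) → ∃ v : ι → F, v ≠ 0 ∧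
        ∀ a ∈ T, ∃ c : F, ((a : GL ι F) : Matrix ι ι F) *ᵥ v = c • v by
      obtain ⟨v, hv0, hv⟩ := h (Set.toFinite (A : Set N)).toFinset (fun a ha => (Set.Finite.mem_toFinset _).1 ha)
      exact ⟨v, hv0, fun a ha => hv a ((Set.Finite.mem_toFinset _).2 ha)⟩
    intro T
    induction T using Finset.induction with
    | empty => exact fun _ => ⟨_, (exists_ne (0 : ι → F)).choose_spec, by simp⟩
    | insert a T _ ih =>
      intro hT
      obtain ⟨v, hv0, hv⟩ := ih fun b hb => hT b (Finset.mem_insert_of_mem hb)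
      have haA := hT a (Finset.mem_insert_self _ _)
      set M := ((a : GL ι F) : Matrix ι ι F) with hM
      have key : ∀ k : F, k * k = 1 → v + k • (M *ᵥ v) ≠ 0 →
          ∃ w : ι → F, w ≠ 0 ∧ ∀ b ∈ insert a T, ∃ c : F, ((b : GL ι F) : Matrix ι ι F) *ᵥ w = c • w := by
        intro k hk hne
        refine ⟨_, hne, fun b hb => ?_⟩
        rcases Finset.mem_insert.1 hb with rfl | hb'
        · refine ⟨k, ?_⟩
          rw [Matrix.mulVec_add, Matrix.mulVec_smul, ← hM, hinv b haA v, smul_add, smul_smul, hk, one_smul, add_comm]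
        · obtain ⟨c, hc⟩ := hv b hb'
          refine ⟨c, ?_⟩
          rw [Matrix.mulVec_add, Matrix.mulVec_smul, hM, hcommA b (hT b hb) a haA v, hc, Matrix.mulVec_smul, smul_add,
            smul_comm]
      by_cases h : v + (1 : F) • (M *ᵥ v) = 0
      · refine key (-1) (by ring) fun h' => hv0 ?_
        rw [one_smul] at h
        rw [neg_one_smul] at h'
        have h3 : (2 : F) • v = 0 := by
          rw [two_smul]; calc v + v = (v + M *ᵥ v) + (v + -(M *ᵥ v)) := by abel
            _ = 0 := by rw [h, h', add_zero]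
        exact (smul_eq_zero.1 h3).resolve_left h2
      · exact key 1 (one_mul 1) h
  have hcomm : ∀ (a g : N), ∃ c : F, c * c = 1 ∧ ∀ w, ((a : GL ι F) : Matrix ι ι F) *ᵥ (((g : GL ι F) : Matrix ι ι F) *ᵥ w) =
      c • (((g : GL ι F) : Matrix ι ι F) *ᵥ (((a : GL ι F) : Matrix ι ι F) *ᵥ w)) := by
    intro a g
    obtain ⟨c, hc⟩ := (mem_scalars_iff _).1 (hN.cls _ a.2 _ g.2)
    refine ⟨c, ?_, fun w => ?_⟩
    · have := scalar_val hc (comm_scalar_pow hN.cls hN.pow_mem a.2 g.2)
      rwa [sq] at this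
    · rw [Matrix.mulVec_mulVec, Matrix.mulVec_mulVec, ← Units.val_mul, ← Units.val_mul,
        show (a : GL ι F) * g = ((a : GL ι F) * g * (a : GL ι F)⁻¹ * (g : GL ι F)⁻¹) * (g * a) by group, Units.val_mul, hc,
        Matrix.smul_mul, one_mul, Matrix.smul_mulVec]
  -- an eigenbasis inside the orbit
  let O : Set (ι → F) := Set.range fun g : N => ((g : GL ι F) : Matrix ι ι F) *ᵥ v
  have heigO : ∀ w ∈ O, ∀ a ∈ A, ∃ c : F, ((a : GL ι F) : Matrix ι ι F) *ᵥ w = c • w := by
    rintro _ ⟨g, rfl⟩ a ha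
    obtain ⟨c, -, hc⟩ := hcomm a g
    obtain ⟨k, hk⟩ := hv a ha
    exact ⟨c * k, by simp only [hc v, hk, Matrix.mulVec_smul, smul_smul]⟩
  have hOspan : Submodule.span F O = ⊤ := by
    rcases irreducible_of_algOf_eq_top hN.span (Submodule.span F O) (by
      rintro _ ⟨g, hg, rfl⟩
      rw [Submodule.map_span, Submodule.span_le]
      rintro _ ⟨_, ⟨x, rfl⟩, rfl⟩
      refine Submodule.subset_span ⟨⟨g, hg⟩ * x, ?_⟩
      simp only [Matrix.toLin'_apply, Matrix.mulVec_mulVec, ← Units.val_mul, Subgroup.coe_mul]) with h | h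
    · exfalso
      have hvO : v ∈ Submodule.span F O := Submodule.subset_span ⟨1, by simp⟩
      rw [h, Submodule.mem_bot] at hvO
      exact hv0 hvO
    · exact h
  obtain ⟨T, hTO, hTspan, hTli⟩ := exists_linearIndependent F O
  rw [hOspan] at hTspan
  haveI : Fintype T := Fintype.ofFinite T
  let bt : Module.Basis T F (ι → F) := Module.Basis.mk hTli (by rw [Subtype.range_coe, hTspan])
  have hbt : ∀ t, bt t = (t : ι → F) := fun t => Module.Basis.mk_apply _ _ t
  have hTcard : Fintype.card T = Fintype.card ι := by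
    rw [← Module.finrank_eq_card_basis bt, Module.finrank_fintype_fun_eq_card]
  choose χ hχ using fun (t : T) (a : A) => heigO _ (hTO t.2) (a : N) a.2
  -- independent elements of A
  let Z : Subgroup N := (scalars ι F).subgroupOf N
  haveI : (scalars ι F).Normal := scalars_normal
  let π : A →* N ⧸ Z := (QuotientGroup.mk' Z).comp A.subtype
  let I := π.range
  haveI : Fintype I := Fintype.ofFinite I
  have hker : Nat.card π.ker ≤ 2 := by
    have hZ2 : Nat.card Z = 2 := by rw [← hc2, hN.center_eq]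
    refine hZ2 ▸ Nat.card_le_card_of_injective (fun x : π.ker => (⟨((x : A) : N), ?_⟩ : Z)) ?_
    · have hx := x.2
      rw [MonoidHom.mem_ker] at hx
      exact (QuotientGroup.eq_one_iff _).1 hx
    · intro x y h
      exact Subtype.ext (Subtype.ext (congrArg (fun z : Z => (z : N)) h))
  have hIcard : Fintype.card ι ≤ Fintype.card I := by
    have h1 := Subgroup.card_eq_card_quotient_mul_card_subgroup π.ker
    rw [Nat.card_congr (QuotientGroup.quotientKerEquivRange π).toEquiv, Nat.card_eq_fintype_card (α := π.range)] at h1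
    rw [hN.deg]
    have h3 : 2 * 2 ^ m ≤ 2 * Fintype.card I := by
      calc 2 * 2 ^ m = 2 ^ (m + 1) := by ring
        _ ≤ Nat.card A := hcard
        _ = Fintype.card I * Nat.card π.ker := h1
        _ ≤ _ := by rw [mul_comm 2]; exact Nat.mul_le_mul_left _ hker
    omega
  choose rep hrep using fun q : I => q.2
  let MA : I → Matrix ι ι F := fun q => ((rep q : N) : GL ι F)
  have hMAli : LinearIndependent F MA := by
    haveI : Fintype (N ⧸ Z) := Fintype.ofFinite _
    have hext : ∀ q : N ⧸ Z, ∃ x : N, QuotientGroup.mk x = q ∧ ∀ hq : q ∈ π.range, x = (rep ⟨q, hq⟩ : N) := by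
      intro q
      by_cases hq : q ∈ π.range
      · exact ⟨(rep ⟨q, hq⟩ : N), hrep ⟨q, hq⟩, fun _ => rfl⟩
      · exact ⟨q.out, QuotientGroup.out_eq' q, fun h => absurd h hq⟩
    choose xr hxr hxrep using hext
    let full : N ⧸ Z → Matrix ι ι F := fun q => ((xr q : GL ι F) : Matrix ι ι F)
    have hfull : ∀ q, ∃ x : N, QuotientGroup.mk x = q ∧ full q = ((x : GL ι F) : Matrix ι ι F) :=
      fun q => ⟨xr q, hxr q, rfl⟩
    have hspanf : ⊤ ≤ Submodule.span F (Set.range full) := by
      rw [← span_matrixSet_eq_top hN.span, Submodule.span_le]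
      rintro _ ⟨x, hx, rfl⟩
      obtain ⟨y, hy, hfy⟩ := hfull (QuotientGroup.mk ⟨x, hx⟩)
      rw [QuotientGroup.eq, Subgroup.mem_subgroupOf] at hy
      obtain ⟨c, hc⟩ := (mem_scalars_iff _).1 hy
      have : (x : Matrix ι ι F) = (c : F) • full (QuotientGroup.mk ⟨x, hx⟩) := by
        rw [hfy]
        have e : x = (y : GL ι F) * ((y : GL ι F)⁻¹ * x) := by group
        conv_lhs => rw [e, Units.val_mul]
        simp only [Subgroup.coe_mul, Subgroup.coe_inv] at hc
        rw [hc, Matrix.mul_smul, mul_one]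
      rw [SetLike.mem_coe]
      show (x : Matrix ι ι F) ∈ _
      rw [this]
      exact Submodule.smul_mem _ _ (Submodule.subset_span ⟨_, rfl⟩)
    have hli := linearIndependent_of_top_le_span_of_card_eq_finrank hspanf (by
      rw [← Nat.card_eq_fintype_card, card_quotient_eq_sq hN.span hN.cls, Module.finrank_matrix, Module.finrank_self,
        mul_one, sq])
    have := hli.comp (fun q : I => (q : N ⧸ Z)) Subtype.val_injective
    convert this using 1
    funext q
    show MA q = ((xr (q : N ⧸ Z) : GL ι F) : Matrix ι ι F)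
    rw [hxrep (q : N ⧸ Z) q.2]
  let L : (I → F) →ₗ[F] (T → F) :=
    { toFun := fun c t => ∑ q, c q * χ t (rep q)
      map_add' := fun c d => funext fun t => by simp [add_mul, Finset.sum_add_distrib]
      map_smul' := fun k c => funext fun t => by simp [Finset.mul_sum, mul_assoc] }
  have hLact : ∀ (c : I → F) (t : T), (∑ q, c q • MA q) *ᵥ (t : ι → F) = L c t • (t : ι → F) := by
    intro c t
    rw [Matrix.sum_mulVec]
    simp only [Matrix.smul_mulVec, MA, hχ t, smul_smul, L, LinearMap.coe_mk, AddHom.coe_mk, Finset.sum_smul]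
  have hLinj : Function.Injective L := by
    rw [← LinearMap.ker_eq_bot, LinearMap.ker_eq_bot']
    intro c hc
    have h0 : (∑ q, c q • MA q) = 0 := by
      refine Matrix.toLin'.injective (bt.ext fun t => ?_)
      rw [hbt, map_zero, LinearMap.zero_apply, Matrix.toLin'_apply, hLact, hc]
      exact zero_smul _ _
    exact funext fun q => Fintype.linearIndependent_iff.1 hMAli c h0 q
  have hLsurj : Function.Surjective L := by
    have h1 := LinearMap.finrank_range_of_inj hLinj
    rw [Module.finrank_pi] at h1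
    rw [← LinearMap.range_eq_top]
    apply Submodule.eq_top_of_finrank_eq
    have h3 := Submodule.finrank_le (LinearMap.range L)
    rw [Module.finrank_pi] at h3 ⊢
    omega
  have hι : 0 < Fintype.card T := by rw [hTcard]; exact Fintype.card_pos
  obtain ⟨t₀⟩ := Fintype.card_pos_iff.1 hι
  obtain ⟨c, hc⟩ := hLsurj (Pi.single t₀ 1)
  set X := ∑ q, c q • MA q with hX
  have hXw : ∀ w, X *ᵥ w = bt.repr w t₀ • (t₀ : ι → F) := by
    intro w
    conv_lhs => rw [← bt.sum_repr w, Matrix.mulVec_sum]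
    rw [Finset.sum_eq_single t₀ (fun t _ ht => ?_) (fun h => absurd (Finset.mem_univ _) h)]
    · rw [Matrix.mulVec_smul, hbt, hX, hLact, hc, Pi.single_eq_same, one_smul]
    · rw [Matrix.mulVec_smul, hbt, hX, hLact, hc, Pi.single_eq_of_ne ht, zero_smul, smul_zero]
  -- the vector t₀ is orthogonal to its orbit
  have hperp : ∀ g : N, f (t₀ : ι → F) (((g : GL ι F) : Matrix ι ι F) *ᵥ (t₀ : ι → F)) = 0 := by
    intro g
    by_cases hgA : ∀ a : A, ∀ w, (((a : N) : GL ι F) : Matrix ι ι F) *ᵥ (((g : GL ι F) : Matrix ι ι F) *ᵥ w) =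
        ((g : GL ι F) : Matrix ι ι F) *ᵥ ((((a : N) : GL ι F) : Matrix ι ι F) *ᵥ w)
    · have h1 : X *ᵥ (((g : GL ι F) : Matrix ι ι F) *ᵥ (t₀ : ι → F)) =
          ((g : GL ι F) : Matrix ι ι F) *ᵥ (X *ᵥ (t₀ : ι → F)) := by
        simp only [hX, Matrix.sum_mulVec, Matrix.mulVec_sum, Matrix.smul_mulVec, Matrix.mulVec_smul, MA]
        exact Finset.sum_congr rfl fun q _ => by rw [hgA]
      have h3 : X *ᵥ (t₀ : ι → F) = (t₀ : ι → F) := by
        rw [hX, hLact, hc, Pi.single_eq_same, one_smul]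
      rw [h3, hXw] at h1
      rw [← h1, hf.bilinear.smul_right, hf.alternating, mul_zero]
    · push Not at hgA
      obtain ⟨a, w, hw⟩ := hgA
      obtain ⟨d, hd, hdw⟩ := hcomm a g
      have hd1 : d = -1 := (mul_self_eq_one_iff.1 hd).resolve_left fun h => hw (by rw [hdw, h, one_smul])
      have hk := hχ t₀ a
      set k := χ t₀ a
      have hfa := hfN _ ⟨((a : N) : GL ι F), (a : N).2, rfl⟩
      have hk2 : k * k = 1 := by
        have h1 := hinv _ a.2 (t₀ : ι → F)
        rw [hk, Matrix.mulVec_smul, hk, smul_smul] at h1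
        have h0 : (k * k - 1) • (t₀ : ι → F) = 0 := by rw [sub_smul, one_smul, h1, sub_self]
        exact sub_eq_zero.1 ((smul_eq_zero.1 h0).resolve_right fun h => by
          have := bt.ne_zero t₀; rw [hbt] at this; exact this h)
      have h1 := hfa (t₀ : ι → F) (((g : GL ι F) : Matrix ι ι F) *ᵥ (t₀ : ι → F))
      rw [hdw, hk, Matrix.mulVec_smul, smul_smul, hd1, hf.bilinear.smul_left, hf.bilinear.smul_right] at h1
      have h3 : (2 : F) * f (t₀ : ι → F) (((g : GL ι F) : Matrix ι ι F) *ᵥ (t₀ : ι → F)) = 0 := by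
        linear_combination -h1 - f (t₀ : ι → F) (((g : GL ι F) : Matrix ι ι F) *ᵥ (t₀ : ι → F)) * hk2
      exact (mul_eq_zero.1 h3).resolve_left h2
  have ht0 : (t₀ : ι → F) ≠ 0 := hbt t₀ ▸ bt.ne_zero t₀
  obtain ⟨x, hx⟩ := (hf.nondegenerate _ ht0).2
  let K : Submodule F (ι → F) :=
    { carrier := {w | ∀ g : N, f (t₀ : ι → F) (((g : GL ι F) : Matrix ι ι F) *ᵥ w) = 0}
      add_mem' := fun ha hb g => by rw [Matrix.mulVec_add, hf.bilinear.add_right, ha g, hb g, add_zero]
      zero_mem' := fun g => by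
        rw [Matrix.mulVec_zero]
        simpa using hf.bilinear.smul_right 0 (t₀ : ι → F) 0
      smul_mem' := fun k w hw g => by rw [Matrix.mulVec_smul, hf.bilinear.smul_right, hw g, mul_zero] }
  rcases irreducible_of_algOf_eq_top hN.span K (by
    rintro _ ⟨h, hh, rfl⟩ _ ⟨w, hw, rfl⟩ g
    have h' := hw (g * ⟨h, hh⟩)
    rwa [Subgroup.coe_mul, Units.val_mul, ← Matrix.mulVec_mulVec] at h') with h | h
  · exact ht0 ((Submodule.mem_bot F).1 (h ▸ (hperp : (t₀ : ι → F) ∈ K)))
  · have hxK : x ∈ K := h ▸ Submodule.mem_top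
    apply hx
    simpa using hxK 1

theorem stv_not_le_typeR_normalizer {r m : ℕ} {N : Subgroup (GL ι F)} (hN : TypeR r m N) (hf : IsSymplecticForm f)
    (h5 : 5 ≤ Fintype.card ι) {Ω : Subgroup (GL ι F)} (hΩ : HasSTv f Ω) : ¬ Ω ≤ subgroupNormalizer N := by
  intro hle
  have := hN.nonempty
  obtain ⟨u, hu0⟩ := exists_ne (0 : ι → F)
  obtain ⟨x, hx, hxu⟩ : ∃ x ∈ N, (x : Matrix ι ι F) *ᵥ u ∉ Submodule.span F {u} := by
    by_contra h
    push Not at h
    rcases irreducible_of_algOf_eq_top hN.span (Submodule.span F {u}) (by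
      rintro _ ⟨g, hg, rfl⟩ _ ⟨v, hv, rfl⟩
      obtain ⟨a, rfl⟩ := Submodule.mem_span_singleton.1 hv
      rw [map_smul, Matrix.toLin'_apply]
      exact Submodule.smul_mem _ _ (h g hg)) with h' | h'
    · exact hu0 (by simpa using h')
    · have := finrank_span_singleton (K := F) hu0
      rw [h', finrank_top, Module.finrank_pi] at this
      omega
  exact hN.formTv_not_normalizes (herm_symplectic hf) h5 (hf.alternating u) one_ne_zero hx hxu (hle (hΩ u 1))

theorem tp_line {k t : ℕ} {xs ys : Fin t → Fin k → F} (hx : ∀ i, xs i ≠ 0) (h : tp xs = tp ys) (i : Fin t) :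
    ∃ r : F, xs i = r • ys i := by
  classical
  choose a ha using fun j => Function.ne_iff.1 (hx j)
  have hprod : ∏ j ∈ Finset.univ.erase i, xs j (a j) ≠ 0 := Finset.prod_ne_zero_iff.2 fun j _ => ha j
  refine ⟨(∏ j ∈ Finset.univ.erase i, ys j (a j)) / ∏ j ∈ Finset.univ.erase i, xs j (a j), funext fun b => ?_⟩
  have hu : ∀ zs : Fin t → Fin k → F, ∏ j ∈ Finset.univ.erase i, zs j (Function.update a i b j) =
      ∏ j ∈ Finset.univ.erase i, zs j (a j) := fun zs => Finset.prod_congr rfl fun j hj => by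
    rw [Function.update_of_ne (Finset.ne_of_mem_erase hj)]
  have h1 := congrFun h (Function.update a i b)
  simp only [tp, ← Finset.mul_prod_erase Finset.univ _ (Finset.mem_univ i), Function.update_self, hu] at h1
  rw [Pi.smul_apply, smul_eq_mul, div_mul_eq_mul_div, eq_div_iff hprod]
  linear_combination h1

/-- A form transvection stabilises no tensor power with at least three factors. -/
theorem tv_not_wreath_many [Nonempty ι] {σ : F ≃+* F} {ε : F} (hf : Herm σ ε f) {u : ι → F} (hu0 : u ≠ 0)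
    (hu : f u u = 0) {c : F} (hc0 : c ≠ 0) {a t : ℕ} (ha : 2 ≤ a) (ht : 3 ≤ t) (e : ι ≃ (Fin t → Fin a)) (P : GL ι F) :
    formTv f u c ∉ tensorWreathSubgroup a t e P := by
  classical
  rintro ⟨_, ⟨y, hy, rfl⟩, hyt⟩
  simp only [MulEquiv.coe_toMonoidHom] at hyt
  obtain ⟨τ, as, hmon⟩ := isMonomial_of_mem hy
  let C := CfsgLib.Maximal.TensorTools.coord e P
  have hg : ∀ z, (formTv f u c : Matrix ι ι F) *ᵥ C z = C ((y : Matrix _ _ F) *ᵥ z) := fun z => by
    rw [← hyt]; exact CfsgLib.Maximal.TensorTools.conj_reindex_mulVec e P y z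
  let L : (Fin t → Fin a → F) → F := fun xs => f (C (tp xs)) u
  have hfix : ∀ xs, (∀ i, xs i ≠ 0) → L xs = 0 →
      ∀ i, ∃ r : F, xs i = r • ((as i : Matrix (Fin a) (Fin a) F) *ᵥ xs (τ i)) := fun xs hxs hL i => by
    refine tp_line (ys := fun j => (as j : Matrix (Fin a) (Fin a) F) *ᵥ xs (τ j)) hxs (C.injective ?_) i
    rw [← hmon, ← hg, tv_fixes hf hu c hL]
  have hlin : ∀ (xs : Fin t → Fin a → F) (k : Fin t),
      ∃ z : Fin a → F, z ≠ 0 ∧ L (Function.update xs k z) = 0 := by
    intro xs k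
    have hu : ∀ (z : Fin a → F) (b : Fin t → Fin a), ∏ j ∈ Finset.univ.erase k, Function.update xs k z j (b j) =
        ∏ j ∈ Finset.univ.erase k, xs j (b j) := fun z b => Finset.prod_congr rfl fun j hj => by
      rw [Function.update_of_ne (Finset.ne_of_mem_erase hj)]
    have hupd : ∀ (p q : Fin a → F) (s : F), tp (Function.update xs k (s • p + q)) =
        s • tp (Function.update xs k p) + tp (Function.update xs k q) := fun p q s => funext fun b => by
      simp only [tp, Pi.add_apply, Pi.smul_apply, smul_eq_mul, ← Finset.mul_prod_erase Finset.univ _ (Finset.mem_univ k),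
        Function.update_self]
      rw [hu, hu, hu]
      ring
    have hadd : ∀ p q, tp (Function.update xs k (p + q)) = tp (Function.update xs k p) + tp (Function.update xs k q) :=
      fun p q => by simpa using hupd p q 1
    have hzero : tp (Function.update xs k (0 : Fin a → F)) = 0 := by
      have := hadd 0 0; rw [add_zero] at this; exact left_eq_add.1 this
    let Lk : (Fin a → F) →ₗ[F] F :=
      { toFun := fun z => f (C (tp (Function.update xs k z))) u
        map_add' := fun p q => by rw [hadd, map_add, hf.add_left]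
        map_smul' := fun s p => by
          have h1 := hupd p 0 s
          rw [add_zero, hzero, add_zero] at h1
          rw [h1, map_smul, hf.smul_left]; rfl }
    obtain ⟨z, hz, hz0⟩ := (Submodule.ne_bot_iff _).1 (LinearMap.ker_ne_bot_of_finrank_lt (f := Lk) (by
      rw [Module.finrank_self, Module.finrank_fin_fun]; omega))
    exact ⟨z, hz0, hz⟩
  let e0 : Fin a → F := Pi.single ⟨0, by omega⟩ 1
  let e1 : Fin a → F := Pi.single ⟨1, by omega⟩ 1
  have he0 : e0 ≠ 0 := fun h => by simpa [e0] using congrFun h ⟨0, by omega⟩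
  have he1 : e1 ≠ 0 := fun h => by simpa [e1] using congrFun h ⟨1, by omega⟩
  -- every pair of vectors in two slots extends into the hyperplane
  have hext : ∀ i j : Fin t, ∀ v w : Fin a → F, v ≠ 0 → w ≠ 0 → (i = j → v = w) →
      ∃ r : F, τ i = j → v = r • ((as i : Matrix (Fin a) (Fin a) F) *ᵥ w) := by
    intro i j v w hv hw hij
    obtain ⟨k, hki, hkj⟩ : ∃ k, k ≠ i ∧ k ≠ j := by
      have hlt : ({i, j} : Finset (Fin t)).card < Fintype.card (Fin t) :=
        lt_of_le_of_lt Finset.card_le_two (by rw [Fintype.card_fin]; omega)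
      obtain ⟨k, -, hk⟩ := Finset.exists_mem_notMem_of_card_lt_card (s := ({i, j} : Finset (Fin t))) (t := Finset.univ)
        (by simpa using hlt)
      exact ⟨k, fun h => hk (by simp [h]), fun h => hk (by simp [h])⟩
    obtain ⟨z, hz0, hz⟩ := hlin (Function.update (Function.update (fun _ => e0) j w) i v) k
    set xs := Function.update (Function.update (Function.update (fun _ : Fin t => e0) j w) i v) k z
    have hxi : xs i = v := by simp [xs, Ne.symm hki]
    have hxj : xs j = w := by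
      by_cases h : i = j
      · subst h; rw [hxi, hij rfl]
      · simp [xs, Ne.symm hkj, Ne.symm h]
    obtain ⟨r, hr⟩ := hfix xs (fun l => by
      simp only [xs, Function.update_apply]
      split_ifs <;> assumption) hz i
    exact ⟨r, fun hτ => by rw [hτ, hxi, hxj] at hr; exact hr⟩
  by_cases hτ : τ = 1
  · have hsc : ∀ i, ∃ s : F, ∀ v, (as i : Matrix (Fin a) (Fin a) F) *ᵥ v = s • v := by
      intro i
      refine scalar_of_all_eigen fun v => ?_
      by_cases hv : v = 0
      · exact ⟨0, by rw [hv, Matrix.mulVec_zero, smul_zero]⟩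
      obtain ⟨r, hr⟩ := hext i i v v hv hv fun _ => rfl
      have hr' := hr (by rw [hτ]; rfl)
      have hr0 : r ≠ 0 := by rintro rfl; exact hv (by rw [hr', zero_smul])
      exact ⟨r⁻¹, by conv_rhs => rw [hr', smul_smul, inv_mul_cancel₀ hr0, one_smul]⟩
    choose s hs using hsc
    have hall : ∀ z, (formTv f u c : Matrix ι ι F) *ᵥ C z = (∏ i, s i) • C z := by
      intro z
      rw [hg, ← map_smul]
      congr 1
      have hM : (y : Matrix (Fin t → Fin a) (Fin t → Fin a) F) = (∏ i, s i) • 1 := ext_tp fun xs => by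
        rw [hmon, Matrix.smul_mulVec, Matrix.one_mulVec]
        funext b
        simp [tp, hs, hτ, Finset.prod_mul_distrib]
      rw [hM, Matrix.smul_mulVec, Matrix.one_mulVec]
    obtain ⟨z, hz, hz0⟩ := hlin (fun _ => e0) ⟨0, by omega⟩ |>.imp fun z h => And.intro h.2 h.1
    have hp1 : (∏ i, s i) = 1 := by
      set xs := Function.update (fun _ : Fin t => e0) ⟨0, by omega⟩ z
      have hne : C (tp xs) ≠ 0 := by
        intro h0
        have h1 : tp xs = 0 := C.injective (by rw [h0, map_zero])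
        choose b hb using fun j => Function.ne_iff.1 (show xs j ≠ 0 by
          simp only [xs, Function.update_apply]; split_ifs <;> assumption)
        have h2 := congrFun h1 b
        simp only [tp, Pi.zero_apply, Finset.prod_eq_zero_iff] at h2
        obtain ⟨j, -, hj⟩ := h2
        exact hb j hj
      have h1 := hall (tp xs)
      rw [tv_fixes hf hu c hz] at h1
      by_contra hne1
      have h3 : ((∏ i, s i) - 1) • C (tp xs) = 0 := by rw [sub_smul, one_smul, ← h1, sub_self]
      exact hne ((smul_eq_zero.1 h3).resolve_left (sub_ne_zero.2 hne1))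
    obtain ⟨x, hx⟩ := (hf.nondeg u hu0).1
    have h := hall (C.symm x)
    rw [C.apply_symm_apply, hp1, one_smul, hf.sesq.formTv_mulVec hu c x, add_eq_left, smul_eq_zero] at h
    exact h.elim (mul_ne_zero hc0 hx) hu0
  · obtain ⟨i, hi⟩ : ∃ i, τ i ≠ i := by
      by_contra h
      push Not at h
      exact hτ (Equiv.ext h)
    obtain ⟨r, hr⟩ := hext i (τ i) e0 e0 he0 he0 fun _ => rfl
    obtain ⟨r', hr'⟩ := hext i (τ i) e1 e0 he1 he0 fun h => absurd h.symm hi
    have h1 := hr rfl
    have h2 := hr' rfl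
    have h3 : r' • e0 = r • e1 := by rw [h1, h2, smul_comm]
    have h4 := congrFun h3 ⟨0, by omega⟩
    simp [e0, e1] at h4
    rw [h4, zero_smul] at h2
    exact he1 h2

theorem stv_not_le_wreath_many [Nonempty ι] (hf : IsSymplecticForm f) {Ω : Subgroup (GL ι F)} (hΩ : HasSTv f Ω)
    {a t : ℕ} (ha : 2 ≤ a) (ht : 3 ≤ t) (e : ι ≃ (Fin t → Fin a)) (P : GL ι F) :
    ¬ Ω ≤ tensorWreathSubgroup a t e P := fun hle => by
  obtain ⟨u, hu⟩ := exists_ne (0 : ι → F)
  exact tv_not_wreath_many (herm_symplectic hf) hu (hf.alternating u) one_ne_zero ha ht e P (hle (hΩ u 1))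

/-! ### Tensor cubes of planes -/

/-- The tensor cube of the plane form. -/
def cubeForm (z z' : (Fin 3 → Fin 2) → F) : F :=
  ∑ a, ∑ b, z a * (∏ i, gramMatrix (planeForm F) (a i) (b i)) * z' b

theorem cubeForm_tp (xs ys : Fin 3 → Fin 2 → F) :
    cubeForm (tp xs) (tp ys) = ∏ i, planeForm F (xs i) (ys i) :=
  bilinear_prod planeForm_symplectic.bilinear xs ys

/-- The opposite index in a cube. -/
def opp (a : Fin 3 → Fin 2) : Fin 3 → Fin 2 := fun i => (a i).rev

theorem opp_opp (a : Fin 3 → Fin 2) : opp (opp a) = a := funext fun i => Fin.rev_rev (a i)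

theorem gram_opp_eq_zero {a b : Fin 3 → Fin 2} (h : b ≠ opp a) :
    ∏ i, gramMatrix (planeForm F) (a i) (b i) = 0 := by
  obtain ⟨i, hi⟩ := Function.ne_iff.1 h
  refine Finset.prod_eq_zero (Finset.mem_univ i) ?_
  have key : ∀ p q : Fin 2, q ≠ p.rev → (planeJ : Matrix (Fin 2) (Fin 2) F) p q = 0 := by
    intro p q
    fin_cases p <;> fin_cases q <;> simp [planeJ, Fin.rev]
  rw [gram_planeForm]
  exact key _ _ hi

theorem gram_opp_ne_zero (a : Fin 3 → Fin 2) : ∏ i, gramMatrix (planeForm F) (a i) (opp a i) ≠ 0 := by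
  refine Finset.prod_ne_zero_iff.2 fun i _ => ?_
  have key : ∀ p : Fin 2, (planeJ : Matrix (Fin 2) (Fin 2) F) p p.rev ≠ 0 := by
    intro p
    fin_cases p <;> simp [planeJ, Fin.rev]
  rw [gram_planeForm]
  exact key _

theorem planeForm_mulVec (A : Matrix (Fin 2) (Fin 2) F) (u v : Fin 2 → F) :
    planeForm F (A *ᵥ u) (A *ᵥ v) = A.det * planeForm F u v := by
  simp [planeForm, Matrix.mulVec, dotProduct, Fin.sum_univ_two, Matrix.det_fin_two]
  ring

theorem cubeForm_bilinear : IsBilinearForm (cubeForm (F := F)) := by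
  refine ⟨fun x y v => ?_, fun c x v => ?_, fun v x y => ?_, fun c v x => ?_⟩ <;>
    simp only [cubeForm, Pi.add_apply, Pi.smul_apply, smul_eq_mul, Finset.mul_sum, ← Finset.sum_add_distrib] <;>
    exact Finset.sum_congr rfl fun a _ => Finset.sum_congr rfl fun b _ => by ring

theorem bilinear_ext {κ : Type} [Fintype κ] [DecidableEq κ] {B B' : (κ → F) → (κ → F) → F} (hB : IsBilinearForm B)
    (hB' : IsBilinearForm B') (h : ∀ a b, B (Pi.single a 1) (Pi.single b 1) = B' (Pi.single a 1) (Pi.single b 1))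
    (u v : κ → F) : B u v = B' u v := by
  let L : LinearMap.BilinForm F (κ → F) := LinearMap.mk₂ F B hB.add_left
    (fun c x y => by rw [hB.smul_left, smul_eq_mul]) (fun x y z => hB.add_right x y z)
    (fun c x y => by rw [hB.smul_right, smul_eq_mul])
  let L' : LinearMap.BilinForm F (κ → F) := LinearMap.mk₂ F B' hB'.add_left
    (fun c x y => by rw [hB'.smul_left, smul_eq_mul]) (fun x y z => hB'.add_right x y z)
    (fun c x y => by rw [hB'.smul_right, smul_eq_mul])
  have hLL : L = L' := LinearMap.BilinForm.ext_basis (Pi.basisFun F κ) fun a b => by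
    simpa [L, L'] using h a b
  exact congrArg (fun M : LinearMap.BilinForm F (κ → F) => M u v) hLL

theorem cubeForm_scale {M : Matrix (Fin 3 → Fin 2) (Fin 3 → Fin 2) F} {c : F}
    (h : ∀ a b, cubeForm (M *ᵥ Pi.single a 1) (M *ᵥ Pi.single b 1) = c * cubeForm (Pi.single a 1) (Pi.single b 1)) :
    ∀ z z', cubeForm (M *ᵥ z) (M *ᵥ z') = c * cubeForm z z' := by
  have hb := cubeForm_bilinear (F := F)
  exact bilinear_ext (B := fun z z' => cubeForm (M *ᵥ z) (M *ᵥ z')) (B' := fun z z' => c * cubeForm z z')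
    ⟨fun p q v => by simp only [Matrix.mulVec_add, hb.add_left], fun k p v => by simp only [Matrix.mulVec_smul, hb.smul_left],
      fun v p q => by simp only [Matrix.mulVec_add, hb.add_right], fun k v p => by simp only [Matrix.mulVec_smul, hb.smul_right]⟩
    ⟨fun p q v => by simp only [hb.add_left, mul_add], fun k p v => by simp only [hb.smul_left]; ring,
      fun v p q => by simp only [hb.add_right, mul_add], fun k v p => by simp only [hb.smul_right]; ring⟩ h

/-- The cube form is scaled by the wreath group. -/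
theorem cube_scale {y : GL (Fin 3 → Fin 2) F} (hy : y ∈ tensorWreathStandard 2 3 F) :
    ∃ c : F, c ≠ 0 ∧ ∀ z z', cubeForm ((y : Matrix _ _ F) *ᵥ z) ((y : Matrix _ _ F) *ᵥ z') = c * cubeForm z z' := by
  obtain ⟨τ, as, hmon⟩ := isMonomial_of_mem hy
  refine ⟨∏ i, (as i : Matrix (Fin 2) (Fin 2) F).det, Finset.prod_ne_zero_iff.2 fun i _ =>
    ((Matrix.isUnit_iff_isUnit_det _).1 (as i).isUnit).ne_zero, ?_⟩
  refine cubeForm_scale fun a b => ?_
  rw [← tp_single, ← tp_single, hmon, hmon, cubeForm_tp, cubeForm_tp]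
  simp only [planeForm_mulVec, Finset.prod_mul_distrib]
  congr 1
  exact Equiv.prod_comp τ fun i => planeForm F (Pi.single (a i) 1) (Pi.single (b i) 1)

/-- A perfect spanning group of isometries inside a tensor cube makes the form a tensor cube. -/
theorem cube_structure [Nonempty ι] (hf : IsSymplecticForm f) {N : Subgroup (GL ι F)} (hspan : algOf N = ⊤)
    (hperf : ⁅N, N⁆ = N) (hfN : FixesForm (matrixSet N) f) {e : ι ≃ (Fin 3 → Fin 2)} {P : GL ι F}
    (hle : N ≤ tensorWreathSubgroup 2 3 e P) : IsTensorPowerFormStructure id f (planeForm F) e P := by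
  classical
  let C := CfsgLib.Maximal.TensorTools.coord e P
  let B : (ι → F) → (ι → F) → F := fun u v => cubeForm (C.symm u) (C.symm v)
  have hb := cubeForm_bilinear (F := F)
  have hB : IsBilinearForm B :=
    ⟨fun x y v => by simp only [B, map_add, hb.add_left], fun k x v => by simp only [B, map_smul, hb.smul_left],
      fun v x y => by simp only [B, map_add, hb.add_right], fun k v x => by simp only [B, map_smul, hb.smul_right]⟩
  have hBn : IsNondegenerateForm B := by
    intro v hv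
    have hz : C.symm v ≠ 0 := fun h => hv (C.symm.map_eq_zero_iff.1 h)
    obtain ⟨a, ha⟩ := Function.ne_iff.1 hz
    have hnz := gram_opp_ne_zero (F := F)
    refine ⟨⟨C (Pi.single (opp a) 1), ?_⟩, ⟨C (Pi.single (opp a) 1), ?_⟩⟩
    · show cubeForm (C.symm (C _)) (C.symm v) ≠ 0
      rw [C.symm_apply_apply, cubeForm, Finset.sum_eq_single (opp a) (fun b _ hb => by simp [hb]) (by simp),
        Finset.sum_eq_single a (fun b _ hb' => by
          rw [gram_opp_eq_zero (by rw [opp_opp]; exact hb'), mul_zero, zero_mul]) (by simp)]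
      have h := hnz (opp a)
      rw [opp_opp] at h
      rw [Pi.single_eq_same, one_mul]
      exact mul_ne_zero h ha
    · show cubeForm (C.symm v) (C.symm (C _)) ≠ 0
      rw [C.symm_apply_apply, cubeForm, Finset.sum_comm, Finset.sum_eq_single (opp a) (fun b _ hb => by simp [hb]) (by simp),
        Finset.sum_eq_single a (fun b _ hb' => by
          rw [gram_opp_eq_zero (fun h => hb' (by rw [← opp_opp b, ← h, opp_opp])), mul_zero, zero_mul]) (by simp)]
      rw [Pi.single_eq_same, mul_one]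
      exact mul_ne_zero ha (hnz a)
  have hsim : tensorWreathSubgroup 2 3 e P ≤ similarityGroup B := by
    rintro _ ⟨_, ⟨y, hy, rfl⟩, rfl⟩
    obtain ⟨c, hc0, hc⟩ := cube_scale hy
    refine ⟨Units.mk0 c hc0, fun u v => ?_⟩
    have hmv : ∀ w, C.symm (((MulAut.conj P).toMonoidHom ((glReindex (F := F) e.symm).toMonoidHom y) : GL ι F) *ᵥ w) =
        (y : Matrix _ _ F) *ᵥ C.symm w := fun w => by
      apply C.injective
      rw [C.apply_symm_apply]
      show _ = C _
      rw [← CfsgLib.Maximal.TensorTools.conj_reindex_mulVec, C.apply_symm_apply]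
      rfl
    show cubeForm _ _ = _
    rw [hmv, hmv, hc]; rfl
  obtain ⟨μ, hμ⟩ := form_unique hspan (RingEquiv.refl F) (f := B) (g := f)
    ⟨hB.add_left, hB.smul_left, hB.add_right, fun k v x => hB.smul_right k v x⟩ (symplectic_isSesq hf) hBn
    hf.nondegenerate (fixes_of_perfect (hle.trans hsim) hperf) hfN
  refine ⟨μ, μ.ne_zero, fun x y => ?_⟩
  show f (C x) (C y) = _
  rw [hμ]
  simp [B, cubeForm, C.symm_apply_apply]

theorem cube_coord [Nonempty ι] {e : ι ≃ (Fin 3 → Fin 2)} {P : GL ι F}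
    (hT : IsTensorPowerFormStructure id f (planeForm F) e P) :
    ∃ c : F, c ≠ 0 ∧ ∀ z z', f (CfsgLib.Maximal.TensorTools.coord e P z) (CfsgLib.Maximal.TensorTools.coord e P z') =
      c * cubeForm z z' := by
  obtain ⟨c, hc, h⟩ := hT
  exact ⟨c, hc, h⟩

/-- An isometry in a tensor cube moving the first factor. -/
theorem exists_cube_swap [Nonempty ι] {e : ι ≃ (Fin 3 → Fin 2)} {P : GL ι F}
    (hT : IsTensorPowerFormStructure id f (planeForm F) e P) :
    ∃ (g : GL ι F) (p : GL (Fin 3 → Fin 2) F), g = MulAut.conj P (glReindex e.symm p) ∧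
      g ∈ tensorWreathSubgroup 2 3 e P ∧ (∀ u v, f ((g : Matrix ι ι F) *ᵥ u) ((g : Matrix ι ι F) *ᵥ v) = f u v) ∧
      ∀ X, ∃ Y, conjHom p (slot 0 X) = slot 1 Y := by
  classical
  obtain ⟨c, hc, hform⟩ := cube_coord hT
  obtain ⟨p, hp, hps⟩ := factorPerm_conj (F := F) (a := 2) (Equiv.swap (0 : Fin 3) 1)
  have hpW : p ∈ tensorWreathStandard 2 3 F := Subgroup.subset_closure (Or.inr ⟨_, hp.choose_spec⟩)
  obtain ⟨d, hd0, hd⟩ := cube_scale hpW
  let D : GL (Fin 2) F := ⟨!![d⁻¹, 0; 0, 1], !![d, 0; 0, 1],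
    by ext i j; fin_cases i <;> fin_cases j <;> simp [hd0],
    by ext i j; fin_cases i <;> fin_cases j <;> simp [hd0]⟩
  let Di : GL (Fin 3 → Fin 2) F := ⟨slot 0 (D : Matrix (Fin 2) (Fin 2) F), slot 0 ((D⁻¹ : GL (Fin 2) F) : Matrix (Fin 2) (Fin 2) F),
    by rw [slot_mul, ← Units.val_mul, mul_inv_cancel, Units.val_one, slot_one],
    by rw [slot_mul, ← Units.val_mul, inv_mul_cancel, Units.val_one, slot_one]⟩
  have hDW : Di ∈ tensorWreathStandard 2 3 F := by
    refine Subgroup.subset_closure (Or.inl ⟨Function.update 1 0 D, fun x y => ?_⟩)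
    show pm _ x y = _
    refine Finset.prod_congr rfl fun i _ => ?_
    by_cases h : i = 0
    · subst h; simp
    · simp [h]
  have hDscale : ∀ z z', cubeForm ((Di : Matrix _ _ F) *ᵥ z) ((Di : Matrix _ _ F) *ᵥ z') = d⁻¹ * cubeForm z z' := by
    refine cubeForm_scale fun a b => ?_
    show cubeForm (slot 0 (D : Matrix (Fin 2) (Fin 2) F) *ᵥ _) (slot 0 (D : Matrix (Fin 2) (Fin 2) F) *ᵥ _) = _
    rw [← tp_single, ← tp_single, slot_mulVec, slot_mulVec, cubeForm_tp, cubeForm_tp,
      ← Finset.mul_prod_erase Finset.univ _ (Finset.mem_univ 0), Function.update_self, Function.update_self,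
      planeForm_mulVec, show (D : Matrix (Fin 2) (Fin 2) F).det = d⁻¹ by simp [D, Matrix.det_fin_two], mul_assoc,
      ← Finset.mul_prod_erase Finset.univ (fun i => planeForm F (Pi.single (a i) 1) (Pi.single (b i) 1)) (Finset.mem_univ 0)]
    congr 2
  refine ⟨_, p * Di, rfl, ⟨_, ⟨p * Di, mul_mem hpW hDW, rfl⟩, rfl⟩, fun u v => ?_, fun X => ?_⟩
  · let C := CfsgLib.Maximal.TensorTools.coord e P
    rw [← C.apply_symm_apply u, ← C.apply_symm_apply v, CfsgLib.Maximal.TensorTools.conj_reindex_mulVec,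
      CfsgLib.Maximal.TensorTools.conj_reindex_mulVec, hform, hform, Units.val_mul, ← Matrix.mulVec_mulVec,
      ← Matrix.mulVec_mulVec, hd, hDscale, ← mul_assoc d, mul_inv_cancel₀ hd0, one_mul]
  · refine ⟨conjHom D X, ?_⟩
    have h1 : conjHom Di (slot 0 X) = slot 0 (conjHom D X) := by
      rw [conjHom_apply, conjHom_apply]
      show slot 0 (D : Matrix (Fin 2) (Fin 2) F) * slot 0 X * slot 0 ((D⁻¹ : GL (Fin 2) F) : Matrix (Fin 2) (Fin 2) F) = _
      rw [slot_mul, slot_mul]
    rw [conjHom_mul, h1, conjHom_apply, hps, mul_assoc, ← Units.val_mul, mul_inv_cancel, Units.val_one, mul_one,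
      Equiv.swap_apply_left]

/-- In characteristic two the tensor cube preserves a quadratic form. -/
theorem hasQuad_of_cube [Nonempty ι] (h2 : (2 : F) = 0) (hf : IsSymplecticForm f) {H : Subgroup (GL ι F)}
    (hH : IsoGrp f H) {e : ι ≃ (Fin 3 → Fin 2)} {P : GL ι F} (hT : IsTensorPowerFormStructure id f (planeForm F) e P)
    (hle : H ≤ tensorWreathSubgroup 2 3 e P) : HasQuad f H := by
  classical
  obtain ⟨c, hc, hform⟩ := cube_coord hT
  haveI : CharP F 2 := CharTwo.of_one_ne_zero_of_two_eq_zero one_ne_zero h2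
  let S : Finset (Fin 3 → Fin 2) := Finset.univ.filter fun a => a 0 = 0
  let Q0 : ((Fin 3 → Fin 2) → F) → F := fun z => ∑ a ∈ S, z a * z (opp a)
  let C := CfsgLib.Maximal.TensorTools.coord e P
  have hexp : ∀ z z' : (Fin 3 → Fin 2) → F, cubeForm z z' = ∑ a, z a * z' (opp a) := by
    intro z z'
    refine Finset.sum_congr rfl fun a _ => ?_
    rw [Finset.sum_eq_single (opp a)]
    · have : ∀ i, gramMatrix (planeForm F) (a i) (opp a i) = 1 := fun i => by
        have key : ∀ p : Fin 2, (planeJ : Matrix (Fin 2) (Fin 2) F) p p.rev = 1 := by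
          intro p
          fin_cases p <;> simp [planeJ, Fin.rev, CharTwo.neg_eq]
        rw [gram_planeForm]
        exact key _
      simp [this]
    · intro b _ hb
      rw [gram_opp_eq_zero hb, mul_zero, zero_mul]
    · simp
  have hpol : ∀ z z', Q0 (z + z') - Q0 z - Q0 z' = cubeForm z z' := by
    intro z z'
    rw [hexp, ← Finset.sum_filter_add_sum_filter_not Finset.univ (fun a : Fin 3 → Fin 2 => a 0 = 0)]
    have h' : ∑ a ∈ Finset.univ.filter (fun a : Fin 3 → Fin 2 => ¬ a 0 = 0), z a * z' (opp a) =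
        ∑ a ∈ S, z' a * z (opp a) := by
      refine Finset.sum_nbij' opp opp ?_ ?_ ?_ ?_ ?_
      · intro a ha
        simp only [S, Finset.mem_filter, Finset.mem_univ, true_and] at ha ⊢
        revert ha
        show ¬ a 0 = 0 → (a 0).rev = 0
        generalize a 0 = p
        fin_cases p <;> simp [Fin.rev]
      · intro a ha
        simp only [S, Finset.mem_filter, Finset.mem_univ, true_and] at ha ⊢
        show ¬ (a 0).rev = 0
        rw [ha]
        simp [Fin.rev]
      · intro a _; exact opp_opp a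
      · intro a _; exact opp_opp a
      · intro a _
        rw [opp_opp]
        ring
    rw [h']
    simp only [Q0, Pi.add_apply, ← Finset.sum_sub_distrib]
    show _ = ∑ a ∈ S, z a * z' (opp a) + ∑ a ∈ S, z' a * z (opp a)
    rw [← Finset.sum_add_distrib]
    exact Finset.sum_congr rfl fun a _ => by ring
  have htp : ∀ xs, Q0 (tp xs) = 0 := by
    intro xs
    have : ∀ a ∈ S, tp xs a * tp xs (opp a) = ∏ i, xs i 0 * xs i 1 := fun a _ => by
      simp only [tp, ← Finset.prod_mul_distrib]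
      refine Finset.prod_congr rfl fun i _ => ?_
      show xs i (a i) * xs i (a i).rev = _
      have key : ∀ p : Fin 2, xs i p * xs i p.rev = xs i 0 * xs i 1 := by
        intro p
        fin_cases p <;> simp [Fin.rev, mul_comm]
      exact key _
    simp only [Q0, Finset.sum_congr rfl this, Finset.sum_const]
    rw [show S.card = 4 by decide, nsmul_eq_mul, show ((4 : ℕ) : F) = 2 * 2 by norm_num, h2, zero_mul, zero_mul]
  have hQsm : ∀ (k : F) z, Q0 (k • z) = k ^ 2 * Q0 z := fun k z => by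
    simp only [Q0, Pi.smul_apply, smul_eq_mul, Finset.mul_sum]
    exact Finset.sum_congr rfl fun a _ => by ring
  refine hasQuad_mk hf (fun v => c * Q0 (C.symm v)) (fun k v => ?_) (fun u v => ?_) fun g hg v => ?_
  · simp only [map_smul, hQsm]; ring
  · rw [← C.apply_symm_apply u, ← C.apply_symm_apply v, hform, ← hpol]
    simp only [QuadraticMap.polar, map_add, C.apply_symm_apply]
    ring
  · obtain ⟨_, ⟨y, hy, rfl⟩, hgy⟩ := hle hg
    simp only [MulEquiv.coe_toMonoidHom] at hgy
    obtain ⟨τ, as, hmon⟩ := isMonomial_of_mem hy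
    have hiso : ∀ z z', cubeForm ((y : Matrix _ _ F) *ᵥ z) ((y : Matrix _ _ F) *ᵥ z') = cubeForm z z' := fun z z' => by
      apply mul_left_cancel₀ hc
      rw [← hform, ← hform, ← CfsgLib.Maximal.TensorTools.conj_reindex_mulVec,
        ← CfsgLib.Maximal.TensorTools.conj_reindex_mulVec, hgy, hH g hg]
    have hD : ∀ z, Q0 ((y : Matrix _ _ F) *ᵥ z) = Q0 z := by
      intro z
      let D : ((Fin 3 → Fin 2) → F) → F := fun z => Q0 ((y : Matrix _ _ F) *ᵥ z) - Q0 z
      have hadd : ∀ p q, D (p + q) = D p + D q := fun p q => by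
        have h1 := hpol ((y : Matrix _ _ F) *ᵥ p) ((y : Matrix _ _ F) *ᵥ q)
        rw [hiso, ← hpol] at h1
        simp only [D, Matrix.mulVec_add]
        linear_combination h1
      have h0 : D z = 0 := by
        rw [pi_eq_sum_univ' z]
        induction (Finset.univ : Finset (Fin 3 → Fin 2)) using Finset.induction with
        | empty => simp [D, Q0]
        | insert a s ha ih =>
          rw [Finset.sum_insert ha, hadd, ih, add_zero]
          simp only [D, Matrix.mulVec_smul, hQsm]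
          rw [← tp_single, hmon, htp, htp, mul_zero, sub_zero]
      exact sub_eq_zero.1 h0
    show c * Q0 (C.symm ((g : Matrix ι ι F) *ᵥ v)) = c * Q0 (C.symm v)
    congr 1
    rw [← C.apply_symm_apply v, ← hgy, CfsgLib.Maximal.TensorTools.conj_reindex_mulVec, C.symm_apply_apply, hD,
      C.symm_apply_apply]

theorem exists_two_three_factor (n : ℕ) (hn : n ≠ 0) (h : ∀ p, p.Prime → p ∣ n → p = 2 ∨ p = 3) :
    ∃ a b, n = 2 ^ a * 3 ^ b := by
  induction n using Nat.strong_induction_on with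
  | _ n ih =>
    by_cases h1 : n = 1
    · exact ⟨0, 0, by simp [h1]⟩
    obtain ⟨p, hp, hpn⟩ := Nat.exists_prime_and_dvd h1
    obtain ⟨k, rfl⟩ := hpn
    have hk : k ≠ 0 := right_ne_zero_of_mul hn
    obtain ⟨a, b, rfl⟩ := ih k (by
      calc k = 1 * k := (one_mul k).symm
        _ < p * k := Nat.mul_lt_mul_of_pos_right hp.one_lt (Nat.pos_of_ne_zero hk)) hk
      fun q hq hqk => h q hq (dvd_mul_of_dvd_right hqk p)
    rcases h p hp (dvd_mul_right p _) with rfl | rfl
    · exact ⟨a + 1, b, by ring⟩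
    · exact ⟨a, b + 1, by ring⟩

/-- Over three elements a tensor cube of planes has no perfect subgroup. -/
theorem no_perfect_in_cube_three [Nonempty ι] (h3 : Fintype.card F = 3) {e : ι ≃ (Fin 3 → Fin 2)} {P : GL ι F}
    {N : Subgroup (GL ι F)} (hperf : ⁅N, N⁆ = N) (hle : N ≤ tensorWreathSubgroup 2 3 e P) : N = ⊥ := by
  classical
  have hexp : ∀ g ∈ tensorWreathSubgroup 2 3 e P, g ^ (6 * 48) = 1 := by
    rintro _ ⟨_, ⟨y, hy, rfl⟩, rfl⟩
    rw [← map_pow, ← map_pow]
    suffices y ^ (6 * 48) = 1 by rw [this, map_one, map_one]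
    obtain ⟨τ, as, hmon⟩ := isMonomial_of_mem hy
    have hpow : ∀ k : ℕ, ∃ bs : Fin 3 → GL (Fin 2) F, ∀ xs, ((y ^ k : GL (Fin 3 → Fin 2) F) : Matrix _ _ F) *ᵥ tp xs =
        tp fun i => (bs i : Matrix (Fin 2) (Fin 2) F) *ᵥ xs ((τ ^ k) i) := by
      intro k
      induction k with
      | zero => exact ⟨fun _ => 1, fun xs => by simp⟩
      | succ k ih =>
        obtain ⟨bs, hbs⟩ := ih
        refine ⟨fun i => bs i * as ((τ ^ k) i), fun xs => ?_⟩
        rw [pow_succ, Units.val_mul, ← Matrix.mulVec_mulVec, hmon, hbs]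
        congr 1
        funext i
        rw [Matrix.mulVec_mulVec, ← Units.val_mul, pow_succ', Equiv.Perm.mul_apply]
    obtain ⟨bs, hbs⟩ := hpow 6
    have hτ : τ ^ 6 = 1 := by
      have h := pow_card_eq_one (x := τ)
      rwa [Fintype.card_perm, Fintype.card_fin] at h
    have hval : ((y ^ 6 : GL (Fin 3 → Fin 2) F) : Matrix _ _ F) = pm fun i => (bs i : Matrix (Fin 2) (Fin 2) F) :=
      ext_tp fun xs => by rw [hbs, pm_mulVec, hτ]; rfl
    have hpm : ∀ k : ℕ, (pm fun i => (bs i : Matrix (Fin 2) (Fin 2) F)) ^ k =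
        pm fun i => ((bs i ^ k : GL (Fin 2) F) : Matrix (Fin 2) (Fin 2) F) := by
      intro k
      induction k with
      | zero => simp only [pow_zero, Units.val_one]; exact pm_one.symm
      | succ k ih => rw [pow_succ, ih, pm_mul]; simp [pow_succ]
    have hGL : ∀ A : GL (Fin 2) F, A ^ 48 = 1 := fun A => by
      have h := pow_card_eq_one' (x := A)
      rwa [Matrix.card_GL_field, Fin.prod_univ_two, h3] at h
    apply Units.ext
    rw [pow_mul, Units.val_pow_eq_pow_val, hval, hpm, Units.val_one]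
    simp only [hGL, Units.val_one]
    exact pm_one
  obtain ⟨a, b, hab⟩ := exists_two_three_factor (Nat.card N) Nat.card_pos.ne' fun p hp hpN => by
    haveI := Fact.mk hp
    obtain ⟨x, hx⟩ := exists_prime_orderOf_dvd_card' (G := N) p hpN
    have h1 : x ^ (6 * 48) = 1 := Subtype.ext (hexp _ (hle x.2))
    have h2 : p ∣ 2 ^ 5 * 3 ^ 2 := by
      rw [show (2 : ℕ) ^ 5 * 3 ^ 2 = 6 * 48 from rfl, ← hx]
      exact orderOf_dvd_of_pow_eq_one h1
    rcases (Nat.Prime.dvd_mul hp).1 h2 with h | h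
    · exact Or.inl ((Nat.prime_dvd_prime_iff_eq hp Nat.prime_two).1 (hp.dvd_of_dvd_pow h))
    · exact Or.inr ((Nat.prime_dvd_prime_iff_eq hp Nat.prime_three).1 (hp.dvd_of_dvd_pow h))
  haveI := CfsgLib.Burnside.isSolvable_of_card_eq (G := N) Nat.prime_two Nat.prime_three a b hab
  by_contra hne
  haveI : Nontrivial N := (Subgroup.nontrivial_iff_ne_bot N).2 hne
  refine absurd ?_ (Group.IsSolvable.commutator_lt_top_of_nontrivial (G := N)).ne
  apply Subgroup.map_injective N.subtype_injective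
  rw [← MonoidHom.range_eq_map, Subgroup.range_subtype, commutator_def, Subgroup.map_commutator,
    ← MonoidHom.range_eq_map, Subgroup.range_subtype, hperf]

/-! ### The cases in degree eight -/

/-- The maximal subgroups of a symplectic group of degree eight. -/
theorem symplectic_eight_cases [Nonempty ι] (h8 : Fintype.card ι = 8) (hf : IsSymplecticForm f)
    {Ω H : Subgroup (GL ι F)} (hΩ : HasSTv f Ω) (hΩf : IsoGrp f Ω)
    (hΩall : ∀ g : GL ι F, (∀ u v, f ((g : Matrix ι ι F) *ᵥ u) ((g : Matrix ι ι F) *ᵥ v) = f u v) → g ∈ Ω)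
    (hH : IsMaximalIn Ω H) :
    (∃ W : Submodule F (ι → F), W ≠ ⊥ ∧ IsTotallySingularFor f W ∧ H = subspaceStabilizer W ⊓ Ω) ∨
    (∃ W : Submodule F (ι → F), W ≠ ⊥ ∧ IsNondegenerateOn f W ∧ Module.finrank F W < 4 ∧
      H = subspaceStabilizer W ⊓ Ω) ∨
    (3 ≤ Fintype.card F ∧ ∃ D : Fin 4 → Submodule F (ι → F), IsNondegenerateMDecomposition f 2 D ∧
      H = decompositionStabilizer D ⊓ Ω) ∨
    (∃ D : Fin 2 → Submodule F (ι → F), IsNondegenerateMDecomposition f 4 D ∧ H = decompositionStabilizer D ⊓ Ω) ∨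
    (Odd (Fintype.card F) ∧ ∃ D : Fin 2 → Submodule F (ι → F), IsMDecomposition 4 D ∧
      (∀ i, IsTotallySingularFor f (D i)) ∧ H = decompositionStabilizer D ⊓ Ω) ∨
    (∃ K : Subalgebra F (Matrix ι ι F), IsFieldSubalgebra 2 K ∧ IsSelfAdjointFor f K ∧
      (∀ k ∈ K, ∀ v, f (k *ᵥ v) v = 0) ∧ H = subalgebraNormalizer K ⊓ Ω) ∨
    (Odd (Fintype.card F) ∧ ∃ K : Subalgebra F (Matrix ι ι F), IsFieldSubalgebra 2 K ∧
      IsAdjointClosedFor f K ∧ ¬ IsSelfAdjointFor f K ∧ H = subalgebraNormalizer K ⊓ Ω) ∨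
    (Odd (Fintype.card F) ∧ ∃ (e : ι ≃ Fin 2 × Fin 4) (P : GL ι F) (f₁ : (Fin 2 → F) → (Fin 2 → F) → F)
      (f₂ : (Fin 4 → F) → (Fin 4 → F) → F), IsSymplecticForm f₁ ∧ IsSymmetricForm f₂ ∧
      ¬ IsPlusTypeOn (fun v : Fin 4 → F => f₂ v v) ⊤ ∧ IsTensorFormStructure id f f₁ f₂ e P ∧
      H = tensorProductSubgroup 2 4 e P ⊓ Ω) ∨
    (∃ (F₀ : Subfield F) (r : ℕ) (P : GL ι F) (ζ : F), r.Prime ∧ Fintype.card F = Nat.card F₀ ^ r ∧ ζ ≠ 0 ∧
      IsFormRationalStructure f F₀ ζ P ∧ H = subfieldSubgroup F₀ P ⊓ Ω) ∨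
    (∃ (p : ℕ) (R : Subgroup (GL ι F)), p.Prime ∧ Odd p ∧ Fintype.card F = p ∧ IsSymplecticTypeGroup 2 R ∧
      ActsAbsolutelyIrreducibly (matrixSet R) ∧ R ≤ similarityGroup f ∧ Nat.card R = 128 ∧
      Nat.card (Subgroup.center R) = 2 ∧ IsOfMinusType 3 R ∧ H = subgroupNormalizer R ⊓ Ω) ∨
    (Odd (Fintype.card F) ∧ 5 ≤ Fintype.card F ∧ ∃ (e : ι ≃ (Fin 3 → Fin 2)) (P : GL ι F)
      (f₁ : (Fin 2 → F) → (Fin 2 → F) → F), IsSymplecticForm f₁ ∧ IsTensorPowerFormStructure id f f₁ e P ∧
      H = tensorWreathSubgroup 2 3 e P ⊓ Ω) ∨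
    (¬ Odd (Fintype.card F) ∧ ∃ Q : (ι → F) → F, IsNondegenerateQuadraticForm Q ∧
      (∀ u v, QuadraticMap.polar Q u v = f u v) ∧ H = quadSimilarityGroup Q ⊓ Ω) ∨
    InSymplecticResidualClass H := by
  classical
  have hh := herm_symplectic hf
  have hHf : IsoGrp f H := fun g hg => hΩf g (hH.1.le hg)
  have hn : 3 ≤ Fintype.card ι := by omega
  have hn2 : 2 ≤ Fintype.card ι := by omega
  by_cases hquad : ¬ Odd (Fintype.card F) ∧ HasQuad f H
  · obtain ⟨hev, Q, hQ, hpol, hle⟩ := hquad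
    exact Or.inr (Or.inr (Or.inr (Or.inr (Or.inr (Or.inr (Or.inr (Or.inr (Or.inr (Or.inr (Or.inr (Or.inl
      ⟨hev, Q, hQ, hpol, eq_inf_of_le hH hle (stv_not_le_quad hf hn hΩ (two_eq_zero_of_not_odd hev) hQ hpol)⟩)))))))))))
  have hodd_of : HasQuad f H → Odd (Fintype.card F) := fun h => by_contra fun h' => hquad ⟨h', h⟩
  have hdec : ∀ {t m : ℕ} {D : Fin t → Submodule F (ι → F)}, IsNondegenerateMDecomposition f m D →
      H ≤ decompositionStabilizer D →
      (3 ≤ Fintype.card F ∧ ∃ D : Fin 4 → Submodule F (ι → F), IsNondegenerateMDecomposition f 2 D ∧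
        H = decompositionStabilizer D ⊓ Ω) ∨
      (∃ D : Fin 2 → Submodule F (ι → F), IsNondegenerateMDecomposition f 4 D ∧ H = decompositionStabilizer D ⊓ Ω) := by
    intro t m D hD hle
    let i : Fin t := ⟨0, lt_of_lt_of_le two_pos hD.decomp.two_le⟩
    have hm2 : 2 ∣ m := hD.decomp.finrank_eq i ▸ two_dvd_finrank_of_nondegenerate hf (hD.nondegenerate i)
    have hm : 2 ≤ m := Nat.le_of_dvd hD.decomp.pos hm2
    have htm := mdecomposition_card hD.decomp
    have ht := hD.decomp.two_le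
    have hEq := eq_inf_of_le hH hle (stv_not_le_decomposition hf hΩ hD.decomp hm)
    have hm4 : m ≤ 4 := by nlinarith
    obtain rfl | rfl : m = 2 ∨ m = 4 := by
      obtain ⟨k, rfl⟩ := hm2
      omega
    · obtain rfl : t = 4 := by omega
      refine Or.inl ⟨?_, D, hD, hEq⟩
      by_contra hq
      have hq2 : Fintype.card F = 2 := by have := Fintype.one_lt_card (α := F); omega
      exact hquad ⟨by rw [hq2]; decide, hasQuad_of_planes hq2 hf hD hle⟩
    · obtain rfl : t = 2 := by omega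
      exact Or.inr ⟨D, hD, hEq⟩
  by_cases hirr : ActsIrreducibly (matrixSet H)
  swap
  · rcases reducible_cases hh hHf hirr with ⟨W, h1, h2, hW, hle⟩ | ⟨W, h1, h2, hW, hd, hle⟩ | ⟨m, D, hD, hle⟩
    · exact Or.inl ⟨W, h1, hW, eq_inf_of_le hH hle (stv_not_le_subspace hf hΩ h1 h2)⟩
    · exact Or.inr (Or.inl ⟨W, h1, hW, by omega, eq_inf_of_le hH hle (stv_not_le_subspace hf hΩ h1 h2)⟩)
    · exact Or.inr (Or.inr ((hdec hD hle).elim Or.inl fun h => Or.inr (Or.inl h)))
  refine Or.inr (Or.inr ?_)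
  rcases irreducible_cases hn2 hh hHf hirr with hg | ⟨N, hNH, hinv, hns, hspan, hmin, hcase⟩
  swap
  · have hfN : FixesForm (matrixSet N) f := by
      rintro _ ⟨g, hg, rfl⟩ u v
      exact hHf g (hNH hg) u v
    have hsub : ∀ {F₀ : Subfield F}, F₀ ≠ ⊤ → RealisableOver F₀ (matrixSet N) →
        ∃ (F₀ : Subfield F) (r : ℕ) (P : GL ι F) (ζ : F), r.Prime ∧ Fintype.card F = Nat.card F₀ ^ r ∧ ζ ≠ 0 ∧
          IsFormRationalStructure f F₀ ζ P ∧ H = subfieldSubgroup F₀ P ⊓ Ω := by
      intro F₀ h0 hr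
      obtain ⟨F₁, r, P, hrp, hc, hle, hrat⟩ := exists_rational_subfield hspan hinv h0 hr
      obtain ⟨ζ, hζ, hform⟩ := exists_form_rational_bilinear hh hspan hfN P hrat
      exact ⟨F₁, r, P, ζ, hrp, hc, hζ, hform,
        eq_inf_of_le hH hle (stv_not_le_subfield hf hn hΩ (subfield_ne_top hrp hc) P)⟩
    rcases hcase with ⟨hcl, -⟩ | ⟨hperf, hcl⟩
    · obtain ⟨r, m, hm0, hR⟩ := exists_typeR hn hinv hspan hcl hmin
      obtain ⟨rfl, hc2⟩ := hR.two_of_bilinear hf.bilinear hf.nondegenerate hfN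
      obtain rfl : m = 3 := Nat.pow_right_injective le_rfl (show (2 : ℕ) ^ m = 2 ^ 3 by rw [← hR.deg, h8])
      obtain ⟨p, hchar⟩ := CharP.exists F
      obtain ⟨⟨k, hk0⟩, hp, hq⟩ := FiniteField.card F p
      simp only [PNat.mk_coe] at hq
      haveI := Fact.mk hp
      by_cases hk : k = 1
      swap
      · refine Or.inr (Or.inr (Or.inr (Or.inr (Or.inr (Or.inr (Or.inl (hsub (F₀ := ⊥) (fun htop => ?_)
          (hR.realisable_of_center_two hf.bilinear hf.nondegenerate hfN ⊥))))))))
        refine not_all_fixed hp hq one_pos (by omega) fun x => ?_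
        have hx : x ∈ RingHom.eqLocusField (frobenius F p) (RingHom.id F) :=
          (bot_le : (⊥ : Subfield F) ≤ _) (htop ▸ Subfield.mem_top x)
        rw [pow_one]
        exact hx
      subst hk
      rw [pow_one] at hq
      have hpodd : Odd p := hp.odd_of_ne_two fun h2 => by
        subst h2
        exact hR.prime_ne_zero (CharP.cast_eq_zero F 2)
      exact Or.inr (Or.inr (Or.inr (Or.inr (Or.inr (Or.inr (Or.inr (Or.inl ⟨p, N, hp, hpodd, hq,
        hR.isSymplecticTypeGroup hinv hmin, absIrred_of_algOf_eq_top hspan,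
        fun g hg => ⟨1, fun u v => by rw [Units.val_one, one_mul]; exact hfN _ ⟨g, hg, rfl⟩ u v⟩,
        by rw [hR.card_eq, hc2]; rfl, hc2, hR.minus_type hc2 hf hfN,
        eq_inf_of_le hH (le_normalizer_of_normalized hinv) (stv_not_le_typeR_normalizer hR hf (by omega) hΩ)⟩)))))))
    rcases simple_or_family_groups hNH hinv hspan hcl hmin with hsimple | ⟨a, t, ψ, ha, ht, hcard, hcomm, -, hperm⟩
    · rcases symplectic_residual_cases hn2 hf hHf hNH hinv hns hspan hperf hsimple with
        ⟨F₀, r, P, ζ, hr, hc, hζ, hform, hle⟩ | ⟨hev, Q, hQ, hpol, hle⟩ | h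
      · exact Or.inr (Or.inr (Or.inr (Or.inr (Or.inr (Or.inr (Or.inl ⟨F₀, r, P, ζ, hr, hc, hζ, hform,
          eq_inf_of_le hH hle (stv_not_le_subfield hf hn hΩ (subfield_ne_top hr hc) P)⟩))))))
      · exact absurd ⟨hev, Q, hQ, hpol, hle⟩ hquad
      · exact Or.inr (Or.inr (Or.inr (Or.inr (Or.inr (Or.inr (Or.inr (Or.inr (Or.inr (Or.inr h)))))))))
    rw [h8] at hcard
    have ha2 : a ≤ 2 := by
      have h1 : a ^ 2 ≤ a ^ t := Nat.pow_le_pow_right (by omega) ht
      nlinarith
    obtain rfl : a = 2 := by omega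
    obtain rfl : t = 3 := Nat.pow_right_injective le_rfl (show (2 : ℕ) ^ t = 2 ^ 3 by rw [← hcard])
    obtain ⟨e, P, hψ⟩ := exists_powerEmb (show 0 < 2 by omega) (by rw [h8]; rfl) ψ hcomm
    have hle : H ≤ tensorWreathSubgroup 2 3 e P := fun g hg => by
      obtain ⟨τ, hτ⟩ := hperm g hg
      exact mem_tensorWreath_of_family (by omega) (by omega) e P hψ hτ
    have hT := cube_structure hf hspan hperf hfN (hNH.trans hle)
    have hodd : Odd (Fintype.card F) := by
      by_contra hev
      exact hev (hodd_of (hasQuad_of_cube (two_eq_zero_of_not_odd hev) hf hHf hT hle))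
    have h5 : 5 ≤ Fintype.card F := by
      by_contra hlt
      have := Fintype.one_lt_card (α := F)
      obtain ⟨k, hk⟩ := hodd
      have h3 : Fintype.card F = 3 := by omega
      exact hns (no_perfect_in_cube_three h3 hperf (hNH.trans hle) ▸ bot_le)
    exact Or.inr (Or.inr (Or.inr (Or.inr (Or.inr (Or.inr (Or.inr (Or.inr (Or.inl ⟨hodd, h5, e, P, planeForm F,
      planeForm_symplectic, hT, eq_inf_of_le hH hle (stv_not_le_wreath_many hf hΩ le_rfl le_rfl e P)⟩))))))))
  -- the commutative structures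
  by_cases h3 : ((∃ (t m : ℕ) (D : Fin t → Submodule F (ι → F)), IsNondegenerateMDecomposition f m D ∧
        H ≤ decompositionStabilizer D) ∨
      (∃ (m : ℕ) (D : Fin 2 → Submodule F (ι → F)), IsMDecomposition m D ∧
        (∀ i, IsTotallySingularFor f (D i)) ∧ H ≤ decompositionStabilizer D) ∨
      (∃ (s : ℕ) (K : Subalgebra F (Matrix ι ι F)), s.Prime ∧ IsFieldSubalgebra s K ∧
        IsAdjointClosedFor f K ∧ Normalized H K))
  · rcases h3 with ⟨t, m, D, hD, hle⟩ | ⟨m, D, hD, hTS, hle⟩ | ⟨s, K, hs, hK, hKa, hHK⟩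
    · exact (hdec hD hle).elim Or.inl fun h => Or.inr (Or.inl h)
    · have hodd : Odd (Fintype.card F) := by
        by_contra hev
        exact hev (hodd_of (hasQuad_of_pair (two_eq_zero_of_not_odd hev) hf hHf hD hTS hle))
      obtain rfl : m = 4 := by have := mdecomposition_card hD; omega
      exact Or.inr (Or.inr (Or.inl ⟨hodd, D, hD, hTS,
        eq_inf_of_le hH hle (stv_not_le_decomposition hf hΩ hD (by omega))⟩))
    · have hEq := eq_inf_of_le hH (le_subalgebraNormalizer hHK) (stv_not_le_field hf hn hΩ hs.one_lt hK)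
      by_cases hself : IsSelfAdjointFor f K
      · have halt := selfAdjoint_alternating hf hK hself
        obtain rfl : s = 2 := by
          have hd := two_mul_dvd_of_alternating_field hf hK hself halt
          rw [h8, show 8 = 2 * 2 ^ 2 from rfl] at hd
          exact (Nat.prime_dvd_prime_iff_eq hs Nat.prime_two).1 (hs.dvd_of_dvd_pow (Nat.dvd_of_mul_dvd_mul_left two_pos hd))
        exact Or.inr (Or.inr (Or.inr (Or.inl ⟨K, hK, hself, halt, hEq⟩)))
      · obtain rfl : s = 2 := hs.eq_two_or_odd'.resolve_right fun ho => hself (selfAdjoint_of_odd hh hK ho hKa)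
        have hodd : Odd (Fintype.card F) := by
          by_contra hev
          exact hev (hodd_of (exists_quad_of_field (two_eq_zero_of_not_odd hev) hf hHf hK hKa hself hHK))
        exact Or.inr (Or.inr (Or.inr (Or.inr (Or.inl ⟨hodd, K, hK, hKa, hself, hEq⟩))))
  rcases hg with hD | hP | hK | ⟨a, b, e, P, ε₁, ε₂, f₁, f₂, ha, hb, h₁, h₂, hε, -, hT, hle⟩
  · exact absurd (Or.inl hD) h3
  · exact absurd (Or.inr (Or.inl hP)) h3
  · exact absurd (Or.inr (Or.inr hK)) h3
  have hodd : Odd (Fintype.card F) := by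
    by_contra hev
    exact hev (hodd_of (hasQuad_of_tensor (two_eq_zero_of_not_odd hev) hf hHf hirr ha hb h₁ h₂ hT hle))
  have h2 := two_ne_zero_of_odd hodd
  obtain ⟨a, b, e, P, f₁, f₂, ha, hb, h₁, h₂, hT, hle⟩ : ∃ (a b : ℕ) (e : ι ≃ Fin a × Fin b) (P : GL ι F)
      (f₁ : (Fin a → F) → (Fin a → F) → F) (f₂ : (Fin b → F) → (Fin b → F) → F), 2 ≤ a ∧ 2 ≤ b ∧
      Herm (RingEquiv.refl F) (-1) f₁ ∧ Herm (RingEquiv.refl F) 1 f₂ ∧
      IsTensorFormStructure ((RingEquiv.refl F : F ≃+* F) : F → F) f f₁ f₂ e P ∧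
      H ≤ tensorProductSubgroup a b e P := by
    haveI : Nonempty (Fin a) := ⟨⟨0, by omega⟩⟩
    rcases mul_self_eq_one_iff.1 (show ε₁ * ε₁ = 1 from h₁.eps_mul) with rfl | rfl
    · refine ⟨b, a, e.trans (Equiv.prodComm _ _), P, f₂, f₁, hb, ha, ?_, h₁, isTensorFormStructure_swap hT,
        tensorProductSubgroup_swap e P ▸ hle⟩
      rwa [show ε₂ = -1 by linear_combination hε] at h₂
    · refine ⟨a, b, e, P, f₁, f₂, ha, hb, h₁, ?_, hT, hle⟩
      rwa [show ε₂ = 1 by linear_combination -hε] at h₂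
  haveI : Nonempty (Fin a) := ⟨⟨0, by omega⟩⟩
  have hf₁ : IsSymplecticForm f₁ := by
    have hsk : ∀ v w, f₁ v w = - f₁ w v := fun v w => by
      rw [h₁.symm w v, neg_one_mul]; rfl
    exact ⟨⟨h₁.add_left, h₁.smul_left, h₁.add_right, fun c v x => h₁.smul_right c v x⟩, hsk,
      fun v => (mul_eq_zero.1 (show (2 : F) * f₁ v v = 0 by linear_combination hsk v v)).resolve_left h2, h₁.nondeg⟩
  have hf₂ : IsSymmetricForm f₂ :=
    ⟨⟨h₂.add_left, h₂.smul_left, h₂.add_right, fun c v x => h₂.smul_right c v x⟩,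
      fun v w => by rw [h₂.symm w v, one_mul]; rfl, h₂.nondeg⟩
  rcases eq_or_lt_of_le hb with hb2 | hb3
  · subst hb2
    exact (h3 (comm_of_symmetric_plane hh h2 hHf hirr h₂ h₁ (isTensorFormStructure_swap hT)
      (tensorProductSubgroup_swap e P ▸ hle))).elim
  have hab : a * b = 8 := by rw [← h8]; simpa using (Fintype.card_congr e).symm
  obtain rfl : a = 2 := by
    have : a < 3 := by by_contra h; nlinarith
    omega
  obtain rfl : b = 4 := by omega
  by_cases hplus : IsPlusTypeOn (fun v : Fin 4 → F => f₂ v v) ⊤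
  swap
  · exact Or.inr (Or.inr (Or.inr (Or.inr (Or.inr (Or.inl ⟨hodd, e, P, f₁, f₂, hf₁, hf₂, hplus, hT,
      eq_inf_of_le hH hle (stv_not_le_tensor hf hΩ le_rfl (by omega) e P)⟩)))))
  -- plus type is never maximal
  exfalso
  obtain ⟨e', P', hT', hle', hemb⟩ := plus_tensor_le_wreath h2 hf₁ hf₂ hplus hT hHf hle
  have hEq := eq_inf_of_le hH hle' (stv_not_le_wreath_many hf hΩ le_rfl le_rfl e' P')
  obtain ⟨g, p, hgp, hgW, hgf, hmove⟩ := exists_cube_swap hT'
  have hgH : g ∈ H := hEq ▸ ⟨hgW, hΩall g hgf⟩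
  obtain ⟨A, B, hAB⟩ := CfsgLib.Maximal.TensorTools.exists_factors (hle hgH)
  let X : Matrix (Fin 2) (Fin 2) F := Matrix.single 0 1 1
  have h1 := conj_tensorEmb e P A B hAB (X := X)
  rw [hemb, hemb, hgp] at h1
  let R : Matrix (Fin 3 → Fin 2) (Fin 3 → Fin 2) F →ₐ[F] Matrix ι ι F := (Matrix.reindexAlgEquiv F F e'.symm).toAlgHom
  have hR : ∀ M, conjHom (glReindex e'.symm p) (R M) = R (conjHom p M) := fun M => by
    rw [conjHom_apply, conjHom_apply, map_mul, map_mul, ← map_inv]
    rfl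
  change conjHom (P' * glReindex e'.symm p * P'⁻¹) (conjHom P' (R (slot 0 X))) = conjHom P' (R _) at h1
  rw [conjHom_mul, conjHom_mul, conjHom_inv_cancel, hR] at h1
  obtain ⟨Y, hY⟩ := hmove X
  rw [hY] at h1
  have h5 : slot (1 : Fin 3) Y = slot 0 (conjHom A X) :=
    (Matrix.reindexAlgEquiv F F e'.symm).injective ((conjHom P').toRingHom.injective h1)
  -- a moved factor element is central in the first factor
  have hsc : ∀ Z, Commute (slot (0 : Fin 3) (conjHom A X)) (slot 0 Z) := fun Z => by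
    rw [← h5]; exact slot_comm (by decide) Y Z
  have hmat : ∀ Z, conjHom A X * Z = Z * conjHom A X := fun Z => by
    have h := (hsc Z).eq
    rw [slot_mul, slot_mul] at h
    have hinj : Function.Injective fun W : Matrix (Fin 2) (Fin 2) F => slot (0 : Fin 3) W := fun W W' hW => by
      ext i j
      have h := congrFun (congrFun hW (Function.update (0 : Fin 3 → Fin 2) 0 i)) (Function.update (0 : Fin 3 → Fin 2) 0 j)
      simpa [slot_apply, pm, Fin.prod_univ_three] using h
    exact hinj h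
  have hX : ∀ Z, X * Z = Z * X := fun Z => by
    have h := congrArg (conjHom A⁻¹) (hmat (conjHom A Z))
    rwa [map_mul, map_mul, conjHom_inv_cancel, conjHom_inv_cancel] at h
  have := congrFun (congrFun (hX (Matrix.single 0 0 1)) 0) 1
  simp [X, Matrix.mul_apply, Fin.sum_univ_two] at this

end CfsgLib.Geo.Asch
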