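import Mathlib
import Cfsg.Prelude.Def_GeometricClasses
import Cfsg.Agent.Lib.Geo.AschWreath
import Cfsg.Agent.Lib.Geo.AschFormTensor
import Cfsg.Agent.Lib.Geo.AschFormQuad
import Cfsg.Agent.Lib.Geo.AschSympPower

/-! A tensor power decomposition normalised by a group of isometries carries the form as a tensor power. -/

set_option autoImplicit false
set_option linter.unusedSectionVars false

namespace CfsgLib.Geo.Asch

open Cfsg Cfsg.Geo Matrix CfsgLib.GeomClasses CfsgLib.Maximal.TensorPower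
open scoped MatrixGroups commutatorElement

variable {ι : Type} [Fintype ι] [DecidableEq ι] {F : Type*} [Field F] [Fintype F]
  {σ : F ≃+* F} {ε : F} {f : (ι → F) → (ι → F) → F}

/-- Injective homomorphisms of matrix algebras with comparable images have the same image. -/
theorem range_eq_of_le {a : ℕ} [NeZero a] {φ φ' : Matrix (Fin a) (Fin a) F →ₐ[F] Matrix ι ι F} [Nonempty ι]
    (h : φ.range ≤ φ'.range) : φ.range = φ'.range := by
  have hd : ∀ φ : Matrix (Fin a) (Fin a) F →ₐ[F] Matrix ι ι F, Module.finrank F φ.range = a * a := fun φ => by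
    rw [← (AlgEquiv.ofInjective φ φ.toRingHom.injective).toLinearEquiv.finrank_eq, Module.finrank_matrix]
    simp
  exact Subalgebra.eq_of_le_of_finrank_eq h ((hd φ).trans (hd φ').symm)

theorem powerEmb_mulVec {κ : Type} [Fintype κ] [DecidableEq κ] (e : ι ≃ κ) (P : GL ι F) (M : Matrix κ κ F)
    (x : κ → F) :
    conjHom P (Matrix.reindexAlgEquiv F F e.symm M) *ᵥ CfsgLib.Maximal.TensorTools.coord e P x =
      CfsgLib.Maximal.TensorTools.coord e P (M *ᵥ x) := by
  rw [CfsgLib.Maximal.TensorTools.coord_apply, CfsgLib.Maximal.TensorTools.coord_apply, conjHom_apply,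
    ← Matrix.mulVec_mulVec, ← Matrix.mulVec_mulVec, gl_inv_mulVec_mulVec]
  congr 1
  funext i
  simp only [Matrix.mulVec, dotProduct, Function.comp_apply]
  exact Fintype.sum_equiv e _ _ fun j => by simp

theorem slot_transpose {a t : ℕ} (i : Fin t) (X : Matrix (Fin a) (Fin a) F) :
    (slot i X)ᵀ = slot i Xᵀ := by
  rw [slot_apply, slot_apply, pm_transpose]
  congr 1
  funext j
  by_cases h : j = i
  · subst h; simp
  · simp [Function.update_of_ne h]

theorem slot_map {a t : ℕ} (i : Fin t) (X : Matrix (Fin a) (Fin a) F) :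
    (slot i X).map σ = slot i (X.map σ) := by
  ext x y
  simp only [slot_apply, pm, Matrix.map_apply, map_prod]
  refine Finset.prod_congr rfl fun j _ => ?_
  by_cases h : j = i
  · subst h; simp
  · rw [Function.update_of_ne h, Function.update_of_ne h]
    simp only [Pi.one_apply, Matrix.one_apply]
    split_ifs <;> simp

/-- The conjugates of one factor span all factors. -/
theorem family_transitive [Nonempty ι] {a t : ℕ} (ha : 2 ≤ a) {ψ : Fin t → (Matrix (Fin a) (Fin a) F →ₐ[F] Matrix ι ι F)}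
    (hcomm : ∀ i j, i ≠ j → ∀ X Y, Commute (ψ i X) (ψ j Y)) {H N : Subgroup (GL ι F)} (hspan : algOf N = ⊤)
    (hinv : ∀ g ∈ H, ∀ x ∈ N, g * x * g⁻¹ ∈ N)
    (hmin : ∀ K : Subgroup (GL ι F), K ≤ N → (∀ g ∈ H, ∀ x ∈ K, g * x * g⁻¹ ∈ K) → ¬ K ≤ scalars ι F → K = N)
    (hgrp : ∀ i, ∃ K : Subgroup (GL ι F), K ≤ N ∧ algOf K = (ψ i).range)
    (hperm : ∀ g ∈ H, ∃ τ : Equiv.Perm (Fin t), ∀ i X, ∃ Y, conjHom g (ψ i X) = ψ (τ i) Y) (i₀ j : Fin t) :
    ∃ g ∈ H, ∀ X, ∃ Y, conjHom g (ψ i₀ X) = ψ j Y := by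
  classical
  haveI : NeZero a := ⟨by omega⟩
  by_contra hj
  let O : Set (Fin t) := {k | ∃ g ∈ H, ∀ X, ∃ Y, conjHom g (ψ i₀ X) = ψ k Y}
  let S : Set (Matrix ι ι F) := {M | ∃ k ∈ O, ∃ X, ψ k X = M}
  let A : Subalgebra F (Matrix ι ι F) := Algebra.adjoin F S
  have hA : ∀ g ∈ H, ∀ M ∈ A, conjHom g M ∈ A := by
    intro g hg
    have hle : A ≤ A.comap (conjHom g) := by
      refine Algebra.adjoin_le ?_
      rintro _ ⟨k, ⟨g', hg', hk⟩, X, rfl⟩
      obtain ⟨τ, hτ⟩ := hperm g hg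
      obtain ⟨Y, hY⟩ := hτ k X
      show conjHom g (ψ k X) ∈ A
      rw [hY]
      refine Algebra.subset_adjoin ⟨τ k, ⟨g * g', mul_mem hg hg', fun X => ?_⟩, Y, rfl⟩
      obtain ⟨Z, hZ⟩ := hk X
      obtain ⟨W, hW⟩ := hτ k Z
      exact ⟨W, by rw [conjHom_mul, hZ, hW]⟩
    exact fun M hM => hle hM
  let N0 : Subgroup (GL ι F) :=
    { carrier := {x | x ∈ N ∧ (x : Matrix ι ι F) ∈ A ∧ ((x⁻¹ : GL ι F) : Matrix ι ι F) ∈ A}
      mul_mem' := fun {x y} hx hy => ⟨mul_mem hx.1 hy.1, by rw [Units.val_mul]; exact mul_mem hx.2.1 hy.2.1,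
        by rw [_root_.mul_inv_rev, Units.val_mul]; exact mul_mem hy.2.2 hx.2.2⟩
      one_mem' := ⟨one_mem _, by simp [one_mem], by simp [one_mem]⟩
      inv_mem' := fun {x} hx => ⟨inv_mem hx.1, hx.2.2, by rw [inv_inv]; exact hx.2.1⟩ }
  have hself : i₀ ∈ O := ⟨1, one_mem _, fun X => ⟨X, by rw [conjHom_apply]; simp⟩⟩
  obtain ⟨K, hKN, hK⟩ := hgrp i₀
  have hKA : K ≤ N0 := by
    intro x hx
    have h : ∀ y ∈ K, (y : Matrix ι ι F) ∈ A := fun y hy => by
      have := mem_algOf hy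
      rw [hK] at this
      obtain ⟨X, hX⟩ := this
      exact Algebra.subset_adjoin ⟨i₀, hself, X, hX⟩
    exact ⟨hKN hx, h x hx, h _ (inv_mem hx)⟩
  have hKns : ¬ K ≤ scalars ι F := by
    intro hle
    have hbot : algOf K = ⊥ := eq_bot_iff.2 (Algebra.adjoin_le (by
      rintro _ ⟨x, hx, rfl⟩
      obtain ⟨c, hc⟩ := (mem_scalars_iff x).1 (hle hx)
      show (x : Matrix ι ι F) ∈ (⊥ : Subalgebra F _)
      rw [hc]
      exact Subalgebra.smul_mem _ (one_mem _) _))
    let p : Fin a := ⟨0, by omega⟩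
    let p' : Fin a := ⟨1, by omega⟩
    obtain ⟨c, hc⟩ : (ψ i₀ (Matrix.single p p' 1)) ∈ (⊥ : Subalgebra F (Matrix ι ι F)) := by
      rw [← hbot, hK]
      exact ⟨_, rfl⟩
    have hinj := (ψ i₀).toRingHom.injective
    have h : Matrix.single p p' (1 : F) = algebraMap F _ c := hinj (by
      show ψ i₀ _ = ψ i₀ _
      rw [AlgHom.commutes, ← hc]; rfl)
    have := congrFun (congrFun h p) p'
    simp [Matrix.algebraMap_matrix_apply, p, p', Fin.ext_iff] at this
  have hN0 : N0 = N := by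
    refine hmin N0 (fun x hx => hx.1) (fun g hg x hx => ⟨hinv g hg x hx.1, ?_, ?_⟩) fun h => hKns (hKA.trans h)
    · rw [Units.val_mul, Units.val_mul, ← conjHom_apply]
      exact hA g hg _ hx.2.1
    · rw [show (g * x * g⁻¹)⁻¹ = g * x⁻¹ * g⁻¹ by group, Units.val_mul, Units.val_mul, ← conjHom_apply]
      exact hA g hg _ hx.2.2
  have htop : A = ⊤ := by
    rw [eq_top_iff, ← hspan]
    refine Algebra.adjoin_le ?_
    rintro _ ⟨x, hx, rfl⟩
    exact (hN0.ge hx).2.1
  -- the factor outside the orbit is central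
  let p : Fin a := ⟨0, by omega⟩
  let p' : Fin a := ⟨1, by omega⟩
  have hcen : ∀ M ∈ A, ψ j (Matrix.single p p' 1) * M = M * ψ j (Matrix.single p p' 1) := by
    intro M hM
    induction hM using Algebra.adjoin_induction with
    | mem s hs =>
      obtain ⟨k, hk, X, rfl⟩ := hs
      exact (hcomm j k (fun e => hj (e ▸ hk)) _ _).eq
    | algebraMap r => exact (Algebra.commutes r _).symm
    | add x y _ _ hx hy => rw [mul_add, add_mul, hx, hy]
    | mul x y _ _ hx hy => rw [← mul_assoc, hx, mul_assoc, hy, mul_assoc]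
  obtain ⟨c, hc⟩ := scalar_of_commute hspan (M := ψ j (Matrix.single p p' 1))
    fun s _ => hcen s (htop ▸ Algebra.mem_top)
  have h : Matrix.single p p' (1 : F) = algebraMap F _ c := (ψ j).toRingHom.injective (by
    show ψ j _ = ψ j _
    rw [AlgHom.commutes, hc, Algebra.algebraMap_eq_smul_one])
  have := congrFun (congrFun h p) p'
  simp [Matrix.algebraMap_matrix_apply, p, p', Fin.ext_iff] at this

/-- Normalised commuting factors carry the form as a power of one form, with the factors as the slots. -/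
theorem exists_power_form_emb [Nonempty ι] (hf : Herm σ ε f) {a t : ℕ} (ha : 2 ≤ a) (ht : 2 ≤ t)
    (hcard : Fintype.card ι = a ^ t) {ψ : Fin t → (Matrix (Fin a) (Fin a) F →ₐ[F] Matrix ι ι F)}
    (hcomm : ∀ i j, i ≠ j → ∀ X Y, Commute (ψ i X) (ψ j Y)) {H N : Subgroup (GL ι F)} (hHf : IsoGrp f H)
    (hNH : N ≤ H) (hspan : algOf N = ⊤) (hinv : ∀ g ∈ H, ∀ x ∈ N, g * x * g⁻¹ ∈ N)
    (hmin : ∀ K : Subgroup (GL ι F), K ≤ N → (∀ g ∈ H, ∀ x ∈ K, g * x * g⁻¹ ∈ K) → ¬ K ≤ scalars ι F → K = N)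
    (hgrp : ∀ i, ∃ K : Subgroup (GL ι F), K ≤ N ∧ algOf K = (ψ i).range)
    (hperm : ∀ g ∈ H, ∃ τ : Equiv.Perm (Fin t), ∀ i X, ∃ Y, conjHom g (ψ i X) = ψ (τ i) Y) :
    ∃ (e : ι ≃ (Fin t → Fin a)) (P : GL ι F) (G : Matrix (Fin a) (Fin a) F) (c ε₁ : F), c ≠ 0 ∧ IsUnit G ∧
      (∀ p q, G q p = ε₁ * σ (G p q)) ∧ ε₁ * σ ε₁ = 1 ∧ c * ε₁ ^ t = ε * σ c ∧
      (∀ x y, f (CfsgLib.Maximal.TensorTools.coord e P x) (CfsgLib.Maximal.TensorTools.coord e P y) =
        c * formOfGram (σ : F → F) (pm fun _ => G) x y) ∧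
      (∀ i X, ∃ Y, ψ i X = conjHom P (Matrix.reindexAlgEquiv F F e.symm (slot i Y))) ∧
      H ≤ tensorWreathSubgroup a t e P := by
  classical
  haveI : NeZero a := ⟨by omega⟩
  let z : Fin t := ⟨0, by omega⟩
  choose gj hgjH hgj using family_transitive ha hcomm hspan hinv hmin hgrp hperm z
  let φ : Fin t → (Matrix (Fin a) (Fin a) F →ₐ[F] Matrix ι ι F) := fun j => (conjHom (gj j)).comp (ψ z)
  have hr : ∀ j, (φ j).range = (ψ j).range := fun j => range_eq_of_le (by
    rintro _ ⟨X, rfl⟩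
    obtain ⟨Y, hY⟩ := hgj j X
    exact ⟨Y, hY.symm⟩)
  have hto : ∀ j X, ∃ Y, φ j X = ψ j Y := fun j X => by
    obtain ⟨Y, hY⟩ : φ j X ∈ (ψ j).range := hr j ▸ ⟨X, rfl⟩
    exact ⟨Y, hY.symm⟩
  have hfrom : ∀ j Y, ∃ X, ψ j Y = φ j X := fun j Y => by
    obtain ⟨X, hX⟩ : ψ j Y ∈ (φ j).range := (hr j).symm ▸ ⟨Y, rfl⟩
    exact ⟨X, hX.symm⟩
  have hφcomm : ∀ i j, i ≠ j → ∀ X Y, Commute (φ i X) (φ j Y) := fun i j hij X Y => by
    obtain ⟨X', hX⟩ := hto i X
    obtain ⟨Y', hY⟩ := hto j Y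
    rw [hX, hY]
    exact hcomm i j hij X' Y'
  obtain ⟨e, P, hP⟩ := exists_powerEmb (show 0 < a by omega) hcard φ hφcomm
  have hle : H ≤ tensorWreathSubgroup a t e P := by
    intro g hg
    obtain ⟨τ, hτ⟩ := hperm g hg
    refine mem_tensorWreath_of_family (by omega) (by omega) e P hP (τ := τ) fun i X => ?_
    obtain ⟨X', hX⟩ := hto i X
    obtain ⟨Y, hY⟩ := hτ i X'
    obtain ⟨Z, hZ⟩ := hfrom (τ i) Y
    exact ⟨Z, by rw [hX, hY, hZ]⟩
  -- the adjoint on one factor
  obtain ⟨K, hKN, hK⟩ := hgrp z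
  have hadj : IsAdjointClosedFor f (ψ z).range :=
    hK ▸ hf.adjointClosed_algOf fun g hg => hHf g (hNH (hKN hg))
  have hstar : ∀ X, ∃ X', Herm.Adj f (ψ z X) (ψ z X') := fun X => by
    obtain ⟨k', ⟨X', rfl⟩, hk⟩ := hadj (ψ z X) ⟨X, rfl⟩
    exact ⟨X', hk⟩
  choose star hstar using hstar
  have hinj : Function.Injective (ψ z) := (ψ z).toRingHom.injective
  have hφadj : ∀ j X, Herm.Adj f (φ j X) (φ j (star X)) := by
    intro j X u v
    have hg := hHf _ (hgjH j)
    simp only [φ, AlgHom.comp_apply, conjHom_apply, ← Matrix.mulVec_mulVec]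
    conv_lhs => rw [← gl_mulVec_inv_mulVec (gj j) v]
    conv_rhs => rw [← gl_mulVec_inv_mulVec (gj j) u]
    rw [hg, hstar, hg]
  let β : Matrix (Fin a) (Fin a) F →ₐ[F] Matrix (Fin a) (Fin a) F := AlgHom.ofLinearMap
    { toFun := fun X => ((star X).map σ)ᵀ
      map_add' := fun X Y => by
        have h : star (X + Y) = star X + star Y := hinj (hf.adj_unique (hstar _) (by
          rw [map_add, map_add]; exact hf.adj_add (hstar X) (hstar Y)))
        rw [h, Matrix.map_add _ (map_add σ), Matrix.transpose_add]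
      map_smul' := fun k X => by
        have h : star (k • X) = σ k • star X := hinj (hf.adj_unique (hstar _) (by
          rw [map_smul, map_smul]
          intro u v
          rw [Matrix.smul_mulVec, Matrix.smul_mulVec, hf.smul_left, hf.smul_right, hstar X, hf.invol]))
        rw [h, RingHom.id_apply]
        ext p q
        simp [hf.invol] }
    (by
      have h : star 1 = 1 := hinj (hf.adj_unique (hstar _) (by rw [map_one]; exact hf.adj_one))
      show ((star 1).map σ)ᵀ = 1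
      rw [h]
      simp)
    (fun X Y => by
      have h : star (X * Y) = star Y * star X := hinj (hf.adj_unique (hstar _) (by
        rw [map_mul, map_mul]; exact hf.adj_mul (hstar X) (hstar Y)))
      show ((star (X * Y)).map σ)ᵀ = ((star X).map σ)ᵀ * ((star Y).map σ)ᵀ
      rw [h, ← Matrix.transpose_mul]
      congr 1
      exact Matrix.map_mul (f := (σ : F →+* F)))
  obtain ⟨A, hA⟩ := exists_conj_eq' β
  let G : Matrix (Fin a) (Fin a) F := (A : Matrix (Fin a) (Fin a) F)ᵀ
  let G' : Matrix (Fin a) (Fin a) F := ((A⁻¹ : GL (Fin a) F) : Matrix (Fin a) (Fin a) F)ᵀ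
  have hGG : G * G' = 1 := by
    simp only [G, G', ← Matrix.transpose_mul, ← Units.val_mul, inv_mul_cancel, Units.val_one, Matrix.transpose_one]
  have hG'G : G' * G = 1 := by
    simp only [G, G', ← Matrix.transpose_mul, ← Units.val_mul, mul_inv_cancel, Units.val_one, Matrix.transpose_one]
  have hGX : ∀ X, (star X).map σ = G' * Xᵀ * G := by
    intro X
    have h : ((star X).map σ)ᵀ =
        (A : Matrix (Fin a) (Fin a) F) * X * ((A⁻¹ : GL (Fin a) F) : Matrix (Fin a) (Fin a) F) :=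
      (hA X).trans (conjHom_apply A X)
    rw [← Matrix.transpose_transpose ((star X).map σ), h, Matrix.transpose_mul, Matrix.transpose_mul]
    simp only [G, G', mul_assoc]
  -- the matrix of the form
  set C := CfsgLib.Maximal.TensorTools.coord e P with hC
  let M : Matrix (Fin t → Fin a) (Fin t → Fin a) F := fun x y => f (C (Pi.single x 1)) (C (Pi.single y 1))
  have hexp : ∀ x y, f (C x) (C y) = formOfGram (σ : F → F) M x y := by
    intro x y
    conv_lhs => rw [pi_eq_sum_univ' x, pi_eq_sum_univ' y]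
    simp only [map_sum, map_smul]
    rw [hf.sesq.sum_left]
    refine Finset.sum_congr rfl fun p _ => ?_
    rw [hf.smul_left, hf.sesq.sum_right, Finset.mul_sum]
    refine Finset.sum_congr rfl fun p' _ => ?_
    rw [hf.smul_right]
    show x p * (σ (y p') * f _ _) = _
    simp only [M]
    ring
  have hslot : ∀ i X, (slot i X)ᵀ * M = M * slot i ((star X).map σ) := by
    intro i X
    have h : ∀ x y, f (C (slot i X *ᵥ x)) (C y) = f (C x) (C (slot i (star X) *ᵥ y)) := fun x y => by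
      have h := hφadj i X (C x) (C y)
      rwa [hP, hP, powerEmb_mulVec, powerEmb_mulVec] at h
    rw [← slot_map]
    ext p p'
    have h' := h (Pi.single p 1) (Pi.single p' 1)
    rw [hexp, hexp, formOfGram_eq_dot, formOfGram_eq_dot] at h'
    rw [show (fun b => σ ((Pi.single p' (1 : F) : (Fin t → Fin a) → F) b)) = Pi.single p' 1 from funext fun b => by
      simp [Pi.single_apply, apply_ite σ]] at h'
    simp only [Matrix.mulVec_single_one, single_dotProduct, one_mul] at h'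
    simp only [dotProduct, Matrix.col_apply, Matrix.mulVec] at h'
    rw [Matrix.mul_apply, Matrix.mul_apply]
    simpa [Matrix.map_apply] using h'
  let PG : Matrix (Fin t → Fin a) (Fin t → Fin a) F := pm fun _ => G
  let PG' : Matrix (Fin t → Fin a) (Fin t → Fin a) F := pm fun _ => G'
  have hPG : PG' * PG = 1 := by simp only [PG, PG', pm_mul, hG'G]; exact pm_one
  have hcom : ∀ i X, (M * PG') * slot i X = slot i X * (M * PG') := by
    intro i X
    have h1 : slot i ((star Xᵀ).map σ) * PG' = PG' * slot i X := by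
      rw [hGX, Matrix.transpose_transpose, slot_apply, slot_apply]
      simp only [PG', pm_mul]
      congr 1
      funext j
      by_cases hj : j = i
      · subst hj
        simp only [Function.update_self]
        rw [mul_assoc _ G G', hGG, mul_one]
      · simp [Function.update_of_ne hj]
    have h2 := hslot i Xᵀ
    rw [slot_transpose, Matrix.transpose_transpose] at h2
    rw [mul_assoc, ← h1, ← mul_assoc, ← h2, mul_assoc]
  haveI : Nonempty (Fin t → Fin a) := ⟨fun _ => 0⟩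
  obtain ⟨c, hc⟩ := Matrix.mem_range_scalar_of_commute_single (M := M * PG')
    (fun x y _ => (commute_all (fun i X => hcom i X) (Matrix.single x y 1)).symm)
  have hM : M = c • PG := by
    calc M = M * (PG' * PG) := by rw [hPG, mul_one]
      _ = (M * PG') * PG := (mul_assoc _ _ _).symm
      _ = c • PG := by rw [← hc, Matrix.scalar_apply, ← Matrix.smul_one_eq_diagonal, Matrix.smul_mul, one_mul]
  have hform : ∀ x y, f (C x) (C y) = c * formOfGram (σ : F → F) PG x y := by
    intro x y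
    rw [hexp, hM]
    simp [formOfGram, Finset.mul_sum, mul_assoc, mul_left_comm]
  have hc0 : c ≠ 0 := by
    rintro rfl
    obtain ⟨v, hv⟩ := exists_ne (0 : ι → F)
    obtain ⟨u, hu⟩ := (hf.nondeg v hv).1
    rw [← C.apply_symm_apply u, ← C.apply_symm_apply v, hform, zero_mul] at hu
    exact hu rfl
  -- symmetry of one factor
  have hsym : ∀ x y, c * PG y x = ε * (σ c * σ (PG x y)) := fun x y => by
    have h := hf.symm (C (Pi.single x 1)) (C (Pi.single y 1))
    rw [hform, hform, formOfGram_single, formOfGram_single, map_mul] at h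
    exact h
  obtain ⟨p, q, hpq⟩ : ∃ p q, G p q ≠ 0 := by
    by_contra h
    push Not at h
    have h0 : G = 0 := Matrix.ext h
    rw [h0, zero_mul] at hGG
    exact zero_ne_one hGG
  have hε0 : ε ≠ 0 := left_ne_zero_of_mul_eq_one hf.eps_mul
  have hall : c * G q p ^ t = ε * (σ c * σ (G p q) ^ t) := by
    simpa [PG, pm] using hsym (fun _ => p) (fun _ => q)
  have hσc : σ c ≠ 0 := (map_ne_zero σ).2 hc0
  have hσpq : σ (G p q) ≠ 0 := (map_ne_zero σ).2 hpq
  have hqp : G q p ≠ 0 := by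
    intro h
    rw [h, zero_pow (by omega : t ≠ 0), mul_zero] at hall
    exact mul_ne_zero hε0 (mul_ne_zero hσc (pow_ne_zero _ hσpq)) hall.symm
  set ε₁ := ε * σ c * σ (G p q) ^ (t - 1) / (c * G q p ^ (t - 1)) with hε₁
  have hGsym : ∀ x y, G y x = ε₁ * σ (G x y) := by
    intro x y
    have h := hsym (Function.update (fun _ => p) z x) (Function.update (fun _ => q) z y)
    simp only [PG, pm, map_prod] at h
    rw [← Finset.mul_prod_erase Finset.univ _ (Finset.mem_univ z),
      ← Finset.mul_prod_erase Finset.univ (fun i => σ _) (Finset.mem_univ z)] at h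
    simp only [Function.update_self] at h
    have e1 : ∏ i ∈ Finset.univ.erase z, G (Function.update (fun _ : Fin t => q) z y i)
        (Function.update (fun _ : Fin t => p) z x i) = G q p ^ (t - 1) := by
      rw [Finset.prod_eq_pow_card (b := G q p) (fun i hi => by
        simp only [Function.update_of_ne (Finset.ne_of_mem_erase hi)])]
      simp
    have e2 : ∏ i ∈ Finset.univ.erase z, σ (G (Function.update (fun _ : Fin t => p) z x i)
        (Function.update (fun _ : Fin t => q) z y i)) = σ (G p q) ^ (t - 1) := by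
      rw [Finset.prod_eq_pow_card (b := σ (G p q)) (fun i hi => by
        simp only [Function.update_of_ne (Finset.ne_of_mem_erase hi)])]
      simp
    rw [e1, e2] at h
    rw [hε₁]
    field_simp
    linear_combination h
  have hεt : c * ε₁ ^ t = ε * σ c := by
    rw [hGsym p q, mul_pow] at hall
    exact mul_right_cancel₀ (pow_ne_zero t hσpq) (by linear_combination hall)
  have hεσ : ε₁ * σ ε₁ = 1 := by
    have h := hGsym q p
    rw [hGsym p q, map_mul, hf.invol, ← mul_assoc] at h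
    exact mul_right_cancel₀ hpq (by rw [← h, one_mul])
  refine ⟨e, P, G, c, ε₁, hc0, ⟨⟨G, G', hGG, hG'G⟩, rfl⟩, hGsym, hεσ, hεt, hform,
    fun i X => ?_, hle⟩
  obtain ⟨X', hX'⟩ := hfrom i X
  exact ⟨X', hX'.trans (hP i X')⟩

/-- Normalised commuting factors carry the form as a power of one form. -/
theorem exists_power_form [Nonempty ι] (hf : Herm σ ε f) {a t : ℕ} (ha : 2 ≤ a) (ht : 2 ≤ t)
    (hcard : Fintype.card ι = a ^ t) {ψ : Fin t → (Matrix (Fin a) (Fin a) F →ₐ[F] Matrix ι ι F)}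
    (hcomm : ∀ i j, i ≠ j → ∀ X Y, Commute (ψ i X) (ψ j Y)) {H N : Subgroup (GL ι F)} (hHf : IsoGrp f H)
    (hNH : N ≤ H) (hspan : algOf N = ⊤) (hinv : ∀ g ∈ H, ∀ x ∈ N, g * x * g⁻¹ ∈ N)
    (hmin : ∀ K : Subgroup (GL ι F), K ≤ N → (∀ g ∈ H, ∀ x ∈ K, g * x * g⁻¹ ∈ K) → ¬ K ≤ scalars ι F → K = N)
    (hgrp : ∀ i, ∃ K : Subgroup (GL ι F), K ≤ N ∧ algOf K = (ψ i).range)
    (hperm : ∀ g ∈ H, ∃ τ : Equiv.Perm (Fin t), ∀ i X, ∃ Y, conjHom g (ψ i X) = ψ (τ i) Y) :
    ∃ (e : ι ≃ (Fin t → Fin a)) (P : GL ι F) (G : Matrix (Fin a) (Fin a) F) (c ε₁ : F), c ≠ 0 ∧ IsUnit G ∧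
      (∀ p q, G q p = ε₁ * σ (G p q)) ∧ ε₁ * σ ε₁ = 1 ∧ c * ε₁ ^ t = ε * σ c ∧
      (∀ x y, f (CfsgLib.Maximal.TensorTools.coord e P x) (CfsgLib.Maximal.TensorTools.coord e P y) =
        c * formOfGram (σ : F → F) (pm fun _ => G) x y) ∧
      H ≤ tensorWreathSubgroup a t e P := by
  obtain ⟨e, P, G, c, ε₁, h1, h2, h3, h4, h5, h6, -, h7⟩ :=
    exists_power_form_emb hf ha ht hcard hcomm hHf hNH hspan hinv hmin hgrp hperm
  exact ⟨e, P, G, c, ε₁, h1, h2, h3, h4, h5, h6, h7⟩

end CfsgLib.Geo.Asch
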