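import Mathlib
import Cfsg.Prelude.Def_GeometricClasses
import Cfsg.Agent.Lib.Geo.AschPowerForm
import Cfsg.Agent.Lib.Geo.AschSympPower

/-! The structure theorem for subgroups of symplectic groups. -/

set_option autoImplicit false
set_option linter.unusedSectionVars false

namespace CfsgLib.Geo.Asch

open Cfsg Cfsg.Geo Matrix CfsgLib.GeomClasses CfsgLib.Maximal.TensorPower
open scoped MatrixGroups commutatorElement

variable {ι : Type} [Fintype ι] [DecidableEq ι] {F : Type*} [Field F] [Fintype F]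
  {f : (ι → F) → (ι → F) → F}

theorem tp_update_add {a t : ℕ} (xs : Fin t → Fin a → F) (i : Fin t) (x x' : Fin a → F) :
    tp (Function.update xs i (x + x')) = tp (Function.update xs i x) + tp (Function.update xs i x') := by
  funext b
  have h : ∀ y : Fin a → F, tp (Function.update xs i y) b = y (b i) * ∏ j ∈ Finset.univ.erase i, xs j (b j) :=
    fun y => by
      simp only [tp]
      rw [← Finset.mul_prod_erase Finset.univ _ (Finset.mem_univ i), Function.update_self]
      congr 1
      exact Finset.prod_congr rfl fun j hj => by rw [Function.update_of_ne (Finset.ne_of_mem_erase hj)]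
  rw [Pi.add_apply, h, h, h, Pi.add_apply, add_mul]

theorem tp_update_smul {a t : ℕ} (xs : Fin t → Fin a → F) (i : Fin t) (c : F) (x : Fin a → F) :
    tp (Function.update xs i (c • x)) = c • tp (Function.update xs i x) := by
  funext b
  have h : ∀ y : Fin a → F, tp (Function.update xs i y) b = y (b i) * ∏ j ∈ Finset.univ.erase i, xs j (b j) :=
    fun y => by
      simp only [tp]
      rw [← Finset.mul_prod_erase Finset.univ _ (Finset.mem_univ i), Function.update_self]
      congr 1
      exact Finset.prod_congr rfl fun j hj => by rw [Function.update_of_ne (Finset.ne_of_mem_erase hj)]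
  rw [Pi.smul_apply, h, h, Pi.smul_apply, smul_eq_mul, smul_eq_mul, mul_assoc]

theorem hasQuad_mk' (hf : IsSymplecticForm f) {H : Subgroup (GL ι F)} {κ : Type*} {w : κ → (ι → F)}
    (Q : (ι → F) → F) (hw : ∀ k, Q (w k) = 0)
    (hsm : ∀ (c : F) v, Q (c • v) = c ^ 2 * Q v) (hpol : ∀ u v, QuadraticMap.polar Q u v = f u v)
    (hQ : ∀ g ∈ H, ∀ v, Q ((g : Matrix ι ι F) *ᵥ v) = Q v) : ∃ Q : (ι → F) → F,
    IsNondegenerateQuadraticForm Q ∧ (∀ u v, QuadraticMap.polar Q u v = f u v) ∧
      H ≤ quadSimilarityGroup Q ∧ ∀ k, Q (w k) = 0 := by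
  have hpol' : QuadraticMap.polar Q = f := funext fun u => funext fun v => hpol u v
  exact ⟨Q, ⟨hsm, hpol' ▸ hf.bilinear, hpol' ▸ hf.nondegenerate⟩, hpol,
    fun g hg => ⟨1, fun v => by rw [Units.val_one, one_mul, hQ g hg]⟩, hw⟩

/-- In characteristic two a power of an alternating form comes from a quadratic form. -/
theorem hasQuad_of_power_zero [Nonempty ι] (h2 : (2 : F) = 0) (hf : IsSymplecticForm f) {H : Subgroup (GL ι F)}
    (hH : IsoGrp f H) {a t : ℕ} (ht : 2 ≤ t) {e : ι ≃ (Fin t → Fin a)} {P : GL ι F}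
    {G : Matrix (Fin a) (Fin a) F} {c : F} (hc : c ≠ 0) (hsym : ∀ p q, G q p = G p q) (hdiag : ∀ p, G p p = 0)
    (hform : ∀ x y, f (CfsgLib.Maximal.TensorTools.coord e P x) (CfsgLib.Maximal.TensorTools.coord e P y) =
      c * formOfGram id (pm fun _ => G) x y)
    (hle : H ≤ tensorWreathSubgroup a t e P) : ∃ Q : (ι → F) → F,
    IsNondegenerateQuadraticForm Q ∧ (∀ u v, QuadraticMap.polar Q u v = f u v) ∧
      H ≤ quadSimilarityGroup Q ∧ ∀ k, Q (CfsgLib.Maximal.TensorTools.coord e P (Pi.single k 1)) = 0 := by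
  classical
  let T := Fin t → Fin a
  let M : Matrix T T F := pm fun _ => G
  have hMsym : ∀ x y, M y x = M x y := fun x y => Finset.prod_congr rfl fun i _ => hsym _ _
  have hMdiag : ∀ x, M x x = 0 := fun x =>
    Finset.prod_eq_zero (Finset.mem_univ (⟨0, by omega⟩ : Fin t)) (hdiag _)
  let r := Fintype.equivFin T
  let Q0 : (T → F) → F := fun z => ∑ x, ∑ y, if r x < r y then z x * M x y * z y else 0
  let B : (T → F) → (T → F) → F := formOfGram id M
  have hpol : ∀ z z', Q0 (z + z') - Q0 z - Q0 z' = B z z' := by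
    intro z z'
    have h1 : Q0 (z + z') - Q0 z - Q0 z' =
        (∑ x, ∑ y, if r x < r y then z x * M x y * z' y else 0) +
          ∑ x, ∑ y, if r x < r y then z' x * M x y * z y else 0 := by
      simp only [Q0, ← Finset.sum_sub_distrib, ← Finset.sum_add_distrib]
      refine Finset.sum_congr rfl fun x _ => Finset.sum_congr rfl fun y _ => ?_
      simp only [Pi.add_apply]
      split_ifs <;> ring
    rw [h1, Finset.sum_comm (f := fun x y => if r x < r y then z' x * M x y * z y else 0)]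
    simp only [B, formOfGram, ← Finset.sum_add_distrib, id]
    refine Finset.sum_congr rfl fun x _ => Finset.sum_congr rfl fun y _ => ?_
    rcases lt_trichotomy (r x) (r y) with h | h | h
    · rw [if_pos h, if_neg (not_lt.2 h.le), add_zero]
    · obtain rfl := r.injective h
      rw [show M x x = 0 from hMdiag x]
      simp
    · rw [if_neg (not_lt.2 h.le), if_pos h, zero_add, hMsym x y]
      ring
  have hQsm : ∀ (k : F) z, Q0 (k • z) = k ^ 2 * Q0 z := fun k z => by
    simp only [Q0, Pi.smul_apply, smul_eq_mul, Finset.mul_sum]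
    exact Finset.sum_congr rfl fun x _ => Finset.sum_congr rfl fun y _ => by split_ifs <;> ring
  let g₁ : (Fin a → F) → (Fin a → F) → F := formOfGram ((RingEquiv.refl F : F ≃+* F) : F → F) G
  have hg₁ : IsBilinearForm g₁ := by
    refine ⟨fun x y v => ?_, fun k x v => ?_, fun v x y => ?_, fun k v x => ?_⟩
    · simp [g₁, formOfGram, add_mul, Finset.sum_add_distrib]
    · simp [g₁, formOfGram, Finset.mul_sum, mul_assoc]
    · simp [g₁, formOfGram, mul_add, Finset.sum_add_distrib]
    · simp only [g₁, formOfGram, Pi.smul_apply, smul_eq_mul, Finset.mul_sum]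
      exact Finset.sum_congr rfl fun _ _ => Finset.sum_congr rfl fun _ _ => by
        simp; ring
  have halt : ∀ v : Fin a → F, g₁ v v = 0 := by
    intro v
    show ∑ p, ∑ q, v p * G p q * v q = 0
    rw [← Fintype.sum_prod_type' (f := fun p q => v p * G p q * v q)]
    refine Finset.sum_involution (fun x _ => (x.2, x.1)) (fun x _ => ?_) (fun x _ hx => ?_) (by simp) (by simp)
    · show v x.1 * G x.1 x.2 * v x.2 + v x.2 * G x.2 x.1 * v x.1 = 0
      rw [hsym x.1 x.2]
      linear_combination (v x.1 * G x.1 x.2 * v x.2) * h2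
    · intro h
      apply hx
      have h' : x.2 = x.1 := congrArg Prod.fst h
      show v x.1 * G x.1 x.2 * v x.2 = 0
      rw [h', hdiag, mul_zero, zero_mul]
  have hcross : ∀ xs ys : Fin t → Fin a → F, B (tp xs) (tp ys) = ∏ i, g₁ (xs i) (ys i) := by
    intro xs ys
    rw [← bilinear_prod hg₁ xs ys]
    simp only [B, M, formOfGram, pm, g₁, gramMatrix_formOfGram, id]
    rfl
  have htp : ∀ (s : Finset (Fin t)) (xs : Fin t → Fin a → F), (∀ i ∉ s, ∃ k, xs i = Pi.single k 1) →
      Q0 (tp xs) = 0 := by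
    intro s
    induction s using Finset.induction with
    | empty =>
      intro xs h
      choose k hk using fun i => h i (Finset.notMem_empty i)
      rw [show xs = fun i => Pi.single (k i) 1 from funext hk, tp_single]
      refine Finset.sum_eq_zero fun x _ => Finset.sum_eq_zero fun y _ => ?_
      split_ifs with hxy
      · by_cases hx : x = k
        · rw [Pi.single_eq_of_ne (show y ≠ k from fun hy => (hx ▸ hy ▸ hxy).false), mul_zero]
        · rw [Pi.single_eq_of_ne hx, zero_mul, zero_mul]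
      · rfl
    | @insert i s hi ih =>
      intro xs h
      obtain ⟨j, hj⟩ : ∃ j : Fin t, j ≠ i := by
        haveI : Nontrivial (Fin t) := Fin.nontrivial_iff_two_le.2 ht
        exact exists_ne i
      let φ : (Fin a → F) → F := fun x => Q0 (tp (Function.update xs i x))
      have hadd : ∀ x x', φ (x + x') = φ x + φ x' := fun x x' => by
        have h := hpol (tp (Function.update xs i x)) (tp (Function.update xs i x'))
        rw [← tp_update_add, hcross, Finset.prod_eq_zero (Finset.mem_univ j) (by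
          rw [Function.update_of_ne hj, Function.update_of_ne hj]; exact halt _)] at h
        simp only [φ]
        linear_combination h
      have hsm : ∀ (k : F) x, φ (k • x) = k ^ 2 * φ x := fun k x => by
        simp only [φ, tp_update_smul, hQsm]
      have hs : ∀ k : Fin a, φ (Pi.single k 1) = 0 := fun k => ih _ fun l hl => by
        by_cases hli : l = i
        · subst hli; exact ⟨k, by simp⟩
        · rw [Function.update_of_ne hli]; exact h l (by simp [hli, hl])
      have hφ : φ (xs i) = 0 := by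
        rw [pi_eq_sum_univ' (xs i)]
        induction (Finset.univ : Finset (Fin a)) using Finset.induction with
        | empty =>
          have := hsm 0 0
          simpa using this
        | insert k u hk ihk =>
          rw [Finset.sum_insert hk, hadd, ihk, hsm, hs, mul_zero, add_zero]
      simpa [φ] using hφ
  let C := CfsgLib.Maximal.TensorTools.coord e P
  have hzero : ∀ k, c * Q0 (C.symm (C (Pi.single k 1))) = 0 := fun k => by
    rw [C.symm_apply_apply, ← tp_single, htp Finset.univ _ (by simp), mul_zero]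
  refine hasQuad_mk' hf (fun v => c * Q0 (C.symm v)) hzero (fun k v => ?_) (fun u v => ?_) fun g hg v => ?_
  · simp only [map_smul, hQsm]; ring
  · rw [← C.apply_symm_apply u, ← C.apply_symm_apply v, hform]
    simp only [QuadraticMap.polar, map_add, C.apply_symm_apply]
    have := hpol (C.symm u) (C.symm v)
    simp only [B] at this
    linear_combination c * this
  · obtain ⟨_, ⟨y, hy, rfl⟩, hgy⟩ := hle hg
    simp only [MulEquiv.coe_toMonoidHom] at hgy
    obtain ⟨τ, as, hmon⟩ := isMonomial_of_mem hy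
    have hiso : ∀ z z', B ((y : Matrix _ _ F) *ᵥ z) ((y : Matrix _ _ F) *ᵥ z') = B z z' := fun z z' => by
      apply mul_left_cancel₀ hc
      show c * formOfGram id (pm fun _ => G) _ _ = c * formOfGram id (pm fun _ => G) z z'
      rw [← hform, ← hform, ← CfsgLib.Maximal.TensorTools.conj_reindex_mulVec,
        ← CfsgLib.Maximal.TensorTools.conj_reindex_mulVec, hgy, hH g hg]
    have hD : ∀ z, Q0 ((y : Matrix _ _ F) *ᵥ z) = Q0 z := by
      intro z
      let D : (T → F) → F := fun z => Q0 ((y : Matrix _ _ F) *ᵥ z) - Q0 z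
      have hadd : ∀ p q, D (p + q) = D p + D q := fun p q => by
        have h1 := hpol ((y : Matrix _ _ F) *ᵥ p) ((y : Matrix _ _ F) *ᵥ q)
        rw [hiso, ← hpol] at h1
        simp only [D, Matrix.mulVec_add]
        linear_combination h1
      have h0 : D z = 0 := by
        rw [pi_eq_sum_univ' z]
        induction (Finset.univ : Finset T) using Finset.induction with
        | empty =>
          have h : Q0 0 = 0 := Finset.sum_eq_zero fun x _ => Finset.sum_eq_zero fun y _ => by
            rw [Pi.zero_apply, Pi.zero_apply, mul_zero, ite_self]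
          simp only [Finset.sum_empty, D, Matrix.mulVec_zero, h, sub_zero]
        | insert b s hb ih =>
          rw [Finset.sum_insert hb, hadd, ih, add_zero]
          simp only [D, Matrix.mulVec_smul, hQsm]
          rw [← tp_single, hmon, htp Finset.univ _ (by simp), htp Finset.univ _ (by simp), mul_zero, sub_zero]
      exact sub_eq_zero.1 h0
    show c * Q0 (C.symm ((g : Matrix ι ι F) *ᵥ v)) = c * Q0 (C.symm v)
    congr 1
    rw [← C.apply_symm_apply v, ← hgy, CfsgLib.Maximal.TensorTools.conj_reindex_mulVec, C.symm_apply_apply, hD,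
      C.symm_apply_apply]

/-- A power of an alternating form gives a quadratic form in characteristic two. -/
theorem hasQuad_of_power [Nonempty ι] (h2 : (2 : F) = 0) (hf : IsSymplecticForm f) {H : Subgroup (GL ι F)}
    (hH : IsoGrp f H) {a t : ℕ} (ht : 2 ≤ t) {e : ι ≃ (Fin t → Fin a)} {P : GL ι F}
    {G : Matrix (Fin a) (Fin a) F} {c : F} (hc : c ≠ 0) (hsym : ∀ p q, G q p = G p q) (hdiag : ∀ p, G p p = 0)
    (hform : ∀ x y, f (CfsgLib.Maximal.TensorTools.coord e P x) (CfsgLib.Maximal.TensorTools.coord e P y) =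
      c * formOfGram id (pm fun _ => G) x y)
    (hle : H ≤ tensorWreathSubgroup a t e P) : HasQuad f H :=
  let ⟨Q, h1, h3, h4, _⟩ := hasQuad_of_power_zero h2 hf hH ht hc hsym hdiag hform hle
  ⟨Q, h1, h3, h4⟩

/-- Over three elements a perfect group does not have planes as tensor factors. -/
theorem no_perfect_planes_three [Nonempty ι] (h3 : Fintype.card F = 3) {t : ℕ}
    {ψ : Fin t → (Matrix (Fin 2) (Fin 2) F →ₐ[F] Matrix ι ι F)} (hcard : Fintype.card ι = 2 ^ t)
    (hcomm : ∀ i j, i ≠ j → ∀ X Y, Commute (ψ i X) (ψ j Y)) {H N : Subgroup (GL ι F)} (hperf : ⁅N, N⁆ = N)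
    (hns : ¬ N ≤ scalars ι F) (hinv : ∀ g ∈ H, ∀ x ∈ N, g * x * g⁻¹ ∈ N)
    (hmin : ∀ K : Subgroup (GL ι F), K ≤ N → (∀ g ∈ H, ∀ x ∈ K, g * x * g⁻¹ ∈ K) → ¬ K ≤ scalars ι F → K = N)
    (hgrp : ∀ i, ∃ K : Subgroup (GL ι F), K ≤ N ∧ algOf K = (ψ i).range)
    (hperm : ∀ g ∈ H, ∃ τ : Equiv.Perm (Fin t), ∀ i X, ∃ Y, conjHom g (ψ i X) = ψ (τ i) Y)
    (ht : 0 < t) : False := by
  classical
  let Fix : GL ι F → Prop := fun x => ∀ i X, ∃ Y, conjHom x (ψ i X) = ψ i Y
  let N1 : Subgroup (GL ι F) :=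
    { carrier := {x | x ∈ N ∧ Fix x ∧ Fix x⁻¹}
      mul_mem' := fun {x y} hx hy => ⟨mul_mem hx.1 hy.1, fun i X => by
          obtain ⟨Y, hY⟩ := hy.2.1 i X
          obtain ⟨Z, hZ⟩ := hx.2.1 i Y
          exact ⟨Z, by rw [conjHom_mul, hY, hZ]⟩, fun i X => by
          obtain ⟨Y, hY⟩ := hx.2.2 i X
          obtain ⟨Z, hZ⟩ := hy.2.2 i Y
          exact ⟨Z, by rw [_root_.mul_inv_rev, conjHom_mul, hY, hZ]⟩⟩
      one_mem' := ⟨one_mem _, fun i X => ⟨X, by simp [conjHom_apply]⟩, fun i X => ⟨X, by simp [conjHom_apply]⟩⟩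
      inv_mem' := fun {x} hx => ⟨inv_mem hx.1, hx.2.2, by rw [inv_inv]; exact hx.2.1⟩ }
  have hN1 : N1 = N := by
    obtain ⟨K, hKN, hK⟩ := hgrp ⟨0, ht⟩
    have hfix : ∀ x ∈ K, Fix x := fun x hx i X => by
      obtain ⟨A, hA⟩ : (x : Matrix ι ι F) ∈ (ψ ⟨0, ht⟩).range := hK ▸ mem_algOf hx
      obtain ⟨A', hA'⟩ : ((x⁻¹ : GL ι F) : Matrix ι ι F) ∈ (ψ ⟨0, ht⟩).range := hK ▸ mem_algOf (inv_mem hx)
      change ψ ⟨0, ht⟩ A = _ at hA
      change ψ ⟨0, ht⟩ A' = _ at hA'
      by_cases hi : i = ⟨0, ht⟩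
      · subst hi
        exact ⟨A * X * A', by rw [conjHom_apply, ← hA, ← hA', map_mul, map_mul]⟩
      · refine ⟨X, ?_⟩
        rw [conjHom_apply, ← hA, ← (hcomm i _ hi X A).eq, mul_assoc, hA, Units.mul_inv, mul_one]
    refine hmin N1 (fun x hx => hx.1) (fun g hg x hx => ?_) fun hle => ?_
    · obtain ⟨τ, hτ⟩ := hperm g hg
      have hto : ∀ k Y, ∃ X, conjHom g⁻¹ (ψ k Y) = ψ (τ.symm k) X := by
        intro k Y
        have hr : ((conjHom g).comp (ψ (τ.symm k))).range = (ψ k).range := range_eq_of_le (by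
          rintro _ ⟨X, rfl⟩
          obtain ⟨Z, hZ⟩ := hτ (τ.symm k) X
          rw [Equiv.apply_symm_apply] at hZ
          exact ⟨Z, hZ.symm⟩)
        obtain ⟨X, hX⟩ : ψ k Y ∈ ((conjHom g).comp (ψ (τ.symm k))).range := hr.symm ▸ ⟨Y, rfl⟩
        change conjHom g (ψ (τ.symm k) X) = _ at hX
        exact ⟨X, by rw [← hX, conjHom_inv_cancel]⟩
      have hc : ∀ y, Fix y → Fix (g * y * g⁻¹) := fun y hy k Y => by
        obtain ⟨X, hX⟩ := hto k Y
        obtain ⟨Z, hZ⟩ := hy (τ.symm k) X
        obtain ⟨W, hW⟩ := hτ (τ.symm k) Z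
        rw [Equiv.apply_symm_apply] at hW
        exact ⟨W, by rw [conjHom_mul, conjHom_mul, hX, hZ, hW]⟩
      exact ⟨hinv g hg x hx.1, hc x hx.2.1, by
        rw [show (g * x * g⁻¹)⁻¹ = g * x⁻¹ * g⁻¹ by group]; exact hc _ hx.2.2⟩
    · have hKs : K ≤ scalars ι F := fun x hx => hle ⟨hKN hx, hfix x hx, hfix _ (inv_mem hx)⟩
      have hbot : algOf K = ⊥ := eq_bot_iff.2 (Algebra.adjoin_le (by
        rintro _ ⟨x, hx, rfl⟩
        obtain ⟨c, hc⟩ := (mem_scalars_iff x).1 (hKs hx)
        show (x : Matrix ι ι F) ∈ (⊥ : Subalgebra F _)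
        rw [hc]
        exact Subalgebra.smul_mem _ (one_mem _) _))
      obtain ⟨c, hc⟩ : (ψ ⟨0, ht⟩ (Matrix.single (0 : Fin 2) (1 : Fin 2) (1 : F))) ∈ (⊥ : Subalgebra F (Matrix ι ι F)) := by
        rw [← hbot, hK]; exact ⟨_, rfl⟩
      have h : Matrix.single (0 : Fin 2) (1 : Fin 2) (1 : F) = algebraMap F _ c := (ψ ⟨0, ht⟩).toRingHom.injective (by
        show ψ ⟨0, ht⟩ _ = ψ ⟨0, ht⟩ _
        rw [AlgHom.commutes, ← hc]; rfl)
      have := congrFun (congrFun h 0) 1
      simp [Matrix.algebraMap_matrix_apply] at this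
  obtain ⟨e, P, hP⟩ := exists_powerEmb (show 0 < 2 by omega) hcard ψ hcomm
  have hGL : ∀ A : GL (Fin 2) F, A ^ 48 = 1 := fun A => by
    have h := pow_card_eq_one' (x := A)
    rwa [Matrix.card_GL_field, Fin.prod_univ_two, h3] at h
  have hexp : ∀ x ∈ N, x ^ (48 * 2) = 1 := by
    intro x hx
    have hfx : Fix x := (hN1.ge hx).2.1
    have h48 : ∀ i X, conjHom (x ^ 48) (ψ i X) = ψ i X := by
      intro i
      choose β hβ using hfx i
      have hinj : Function.Injective (ψ i) := (ψ i).toRingHom.injective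
      obtain ⟨d, hd⟩ := exists_conj_eq (AlgHom.ofLinearMap
        { toFun := β
          map_add' := fun X Y => hinj (by rw [map_add, ← hβ, ← hβ, ← hβ, map_add, map_add])
          map_smul' := fun k X => hinj (by rw [RingHom.id_apply, map_smul, ← hβ, ← hβ, map_smul, map_smul]) }
        (hinj (by show ψ i (β 1) = ψ i 1; rw [← hβ]; simp))
        fun X Y => hinj (by
          show ψ i (β (X * Y)) = ψ i (β X * β Y)
          rw [map_mul, ← hβ, ← hβ, ← hβ, map_mul, map_mul]))
      have hpow : ∀ (k : ℕ) X, conjHom (x ^ k) (ψ i X) = ψ i (conjHom (d ^ k) X) := by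
        intro k
        induction k with
        | zero => intro X; simp [conjHom_apply]
        | succ k ih =>
          intro X
          rw [pow_succ', pow_succ', conjHom_mul, conjHom_mul, ih, hβ]
          exact congrArg (ψ i) (hd _)
      intro X
      rw [hpow, hGL]
      simp [conjHom_apply]
    let R := glReindex (F := F) e.symm
    obtain ⟨h, hh⟩ : ∃ h, R h = P⁻¹ * x ^ 48 * P := ⟨R.symm _, R.apply_symm_apply _⟩
    have hhs : ∀ i X, conjHom h (slot i X) = slot i X := by
      intro i X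
      apply (Matrix.reindexAlgEquiv F F e.symm).injective
      have hre : ∀ (v : GL (Fin t → Fin 2) F) M, conjHom (R v) (Matrix.reindexAlgEquiv F F e.symm M) =
          Matrix.reindexAlgEquiv F F e.symm (conjHom v M) := by
        intro v M
        rw [conjHom_apply, conjHom_apply, map_mul, map_mul, ← map_inv R]
        rfl
      rw [← hre, hh, conjHom_mul, conjHom_mul, ← hP, h48, hP, conjHom_inv_cancel]
    obtain ⟨k, hk⟩ := Matrix.mem_range_scalar_of_commute_single (M := (h : Matrix (Fin t → Fin 2) (Fin t → Fin 2) F))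
      (fun y z _ => (commute_all (Z := (h : Matrix (Fin t → Fin 2) (Fin t → Fin 2) F)) (fun i X => by
        conv_rhs => rw [← hhs i X, conjHom_apply, mul_assoc, Units.inv_mul, mul_one]) (Matrix.single y z 1)).symm)
    have hsq : h ^ 2 = 1 := by
      have hk0 : k ≠ 0 := by
        rintro rfl
        rw [map_zero] at hk
        exact one_ne_zero (α := Matrix (Fin t → Fin 2) (Fin t → Fin 2) F) (by rw [← Units.mul_inv h, ← hk, zero_mul])
      have hk2 : k ^ 2 = 1 := by
        have := FiniteField.pow_card_sub_one_eq_one k hk0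
        rwa [h3] at this
      refine Units.ext ?_
      rw [Units.val_pow_eq_pow_val, ← hk, ← map_pow, hk2, map_one, Units.val_one]
    have h' : (P⁻¹ * x ^ 48 * P) ^ 2 = 1 := by rw [← hh, ← map_pow, hsq, map_one]
    rw [pow_mul]
    rw [show P⁻¹ * x ^ 48 * P = P⁻¹ * x ^ 48 * P⁻¹⁻¹ by rw [inv_inv], conj_pow, inv_inv] at h'
    have := congrArg (fun y => P * y * P⁻¹) h'
    simpa [mul_assoc] using this
  obtain ⟨a, b, hab⟩ := exists_two_three_factor (Nat.card N) Nat.card_pos.ne' fun p hp hpN => by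
    haveI := Fact.mk hp
    obtain ⟨x, hx⟩ := exists_prime_orderOf_dvd_card' (G := N) p hpN
    have h1 : x ^ (48 * 2) = 1 := Subtype.ext (hexp _ x.2)
    have h2 : p ∣ 2 ^ 5 * 3 := by
      rw [show (2 : ℕ) ^ 5 * 3 = 48 * 2 from rfl, ← hx]
      exact orderOf_dvd_of_pow_eq_one h1
    rcases (Nat.Prime.dvd_mul hp).1 h2 with h | h
    · exact Or.inl ((Nat.prime_dvd_prime_iff_eq hp Nat.prime_two).1 (hp.dvd_of_dvd_pow h))
    · exact Or.inr ((Nat.prime_dvd_prime_iff_eq hp Nat.prime_three).1 h)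
  haveI := CfsgLib.Burnside.isSolvable_of_card_eq (G := N) Nat.prime_two Nat.prime_three a b hab
  have hne : N ≠ ⊥ := fun h => hns (h ▸ bot_le)
  haveI : Nontrivial N := (Subgroup.nontrivial_iff_ne_bot N).2 hne
  refine absurd ?_ (Group.IsSolvable.commutator_lt_top_of_nontrivial (G := N)).ne
  apply Subgroup.map_injective N.subtype_injective
  rw [← MonoidHom.range_eq_map, Subgroup.range_subtype, commutator_def, Subgroup.map_commutator,
    ← MonoidHom.range_eq_map, Subgroup.range_subtype, hperf]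

/-- Every group of symplectic isometries lies in a geometric class or is residual. -/
theorem symplectic_containment [Nonempty ι] (hf : IsSymplecticForm f) {H : Subgroup (GL ι F)} (hHf : IsoGrp f H)
    (hn : 3 ≤ Fintype.card ι) :
    (∃ W : Submodule F (ι → F), W ≠ ⊥ ∧ IsTotallySingularFor f W ∧ H ≤ subspaceStabilizer W) ∨
    (∃ W : Submodule F (ι → F), W ≠ ⊥ ∧ IsNondegenerateOn f W ∧ 2 * Module.finrank F W < Fintype.card ι ∧
      H ≤ subspaceStabilizer W) ∨
    (∃ (t m : ℕ) (D : Fin t → Submodule F (ι → F)), IsNondegenerateMDecomposition f m D ∧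
      H ≤ decompositionStabilizer D) ∨
    (Odd (Fintype.card F) ∧ ∃ (m : ℕ) (D : Fin 2 → Submodule F (ι → F)), 2 * m = Fintype.card ι ∧ IsMDecomposition m D ∧
      (∀ i, IsTotallySingularFor f (D i)) ∧ H ≤ decompositionStabilizer D) ∨
    (∃ (s : ℕ) (K : Subalgebra F (Matrix ι ι F)), s.Prime ∧ IsFieldSubalgebra s K ∧
      IsSelfAdjointFor f K ∧ (∀ k ∈ K, ∀ v, f (k *ᵥ v) v = 0) ∧ H ≤ subalgebraNormalizer K) ∨
    (Odd (Fintype.card F) ∧ ∃ K : Subalgebra F (Matrix ι ι F), IsFieldSubalgebra 2 K ∧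
      IsAdjointClosedFor f K ∧ ¬ IsSelfAdjointFor f K ∧ H ≤ subalgebraNormalizer K) ∨
    (Odd (Fintype.card F) ∧ ∃ (a b : ℕ) (e : ι ≃ Fin a × Fin b) (P : GL ι F) (f₁ : (Fin a → F) → (Fin a → F) → F)
      (f₂ : (Fin b → F) → (Fin b → F) → F), 3 ≤ b ∧ IsSymplecticForm f₁ ∧ IsSymmetricForm f₂ ∧
      IsTensorFormStructure id f f₁ f₂ e P ∧ H ≤ tensorProductSubgroup a b e P) ∨
    (∃ (F₀ : Subfield F) (r : ℕ) (P : GL ι F) (ζ : F), r.Prime ∧ Fintype.card F = Nat.card F₀ ^ r ∧ ζ ≠ 0 ∧
      IsFormRationalStructure f F₀ ζ P ∧ H ≤ subfieldSubgroup F₀ P) ∨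
    (∃ (p k : ℕ) (R : Subgroup (GL ι F)), p.Prime ∧ Odd p ∧ Fintype.card F = p ∧ IsSymplecticTypeGroup 2 R ∧
      ActsAbsolutelyIrreducibly (matrixSet R) ∧ R ≤ similarityGroup f ∧ Nat.card R = 2 ^ (1 + 2 * k) ∧
      Nat.card (Subgroup.center R) = 2 ∧ IsOfMinusType k R ∧ H ≤ subgroupNormalizer R) ∨
    (Odd (Fintype.card F) ∧ ∃ (k t : ℕ) (e : ι ≃ (Fin t → Fin k)) (P : GL ι F) (f₁ : (Fin k → F) → (Fin k → F) → F),
      Odd t ∧ 3 ≤ t ∧ ¬ (Fintype.card F = 3 ∧ k = 2) ∧ IsSymplecticForm f₁ ∧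
      IsTensorPowerFormStructure id f f₁ e P ∧ H ≤ tensorWreathSubgroup k t e P) ∨
    (¬ Odd (Fintype.card F) ∧ ∃ Q : (ι → F) → F, IsNondegenerateQuadraticForm Q ∧
      (∀ u v, QuadraticMap.polar Q u v = f u v) ∧ H ≤ quadSimilarityGroup Q) ∨
    InSymplecticResidualClass H := by
  classical
  have hh := herm_symplectic hf
  have hn2 : 2 ≤ Fintype.card ι := by omega
  by_cases hquad : ¬ Odd (Fintype.card F) ∧ HasQuad f H
  · obtain ⟨hev, Q, hQ, hpol, hle⟩ := hquad
    exact Or.inr (Or.inr (Or.inr (Or.inr (Or.inr (Or.inr (Or.inr (Or.inr (Or.inr (Or.inr (Or.inl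
      ⟨hev, Q, hQ, hpol, hle⟩))))))))))
  have hodd_of : HasQuad f H → Odd (Fintype.card F) := fun h => by_contra fun h' => hquad ⟨h', h⟩
  by_cases hirr : ActsIrreducibly (matrixSet H)
  swap
  · rcases reducible_cases hh hHf hirr with ⟨W, h1, h2, hW, hle⟩ | ⟨W, h1, h2, hW, hd, hle⟩ | ⟨m, D, hD, hle⟩
    · exact Or.inl ⟨W, h1, hW, hle⟩
    · exact Or.inr (Or.inl ⟨W, h1, hW, hd, hle⟩)
    · exact Or.inr (Or.inr (Or.inl ⟨2, m, D, hD, hle⟩))
  refine Or.inr (Or.inr ?_)
  rcases irreducible_cases hn2 hh hHf hirr with hg | ⟨N, hNH, hinv, hns, hspan, hmin, hcase⟩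
  swap
  · have hfN : FixesForm (matrixSet N) f := by
      rintro _ ⟨g, hg, rfl⟩ u v
      exact hHf g (hNH hg) u v
    rcases hcase with ⟨hcl, -⟩ | ⟨hperf, hcl⟩
    · obtain ⟨r, m, hm0, hR⟩ := exists_typeR hn hinv hspan hcl hmin
      obtain ⟨rfl, hc2⟩ := hR.two_of_bilinear hf.bilinear hf.nondegenerate hfN
      obtain ⟨p, hchar⟩ := CharP.exists F
      obtain ⟨⟨k, hk0⟩, hp, hq⟩ := FiniteField.card F p
      simp only [PNat.mk_coe] at hq
      haveI := Fact.mk hp
      by_cases hk : k = 1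
      swap
      · refine Or.inr (Or.inr (Or.inr (Or.inr (Or.inr (Or.inl ?_)))))
        have h0 : (⊥ : Subfield F) ≠ ⊤ := fun htop => by
          refine not_all_fixed hp hq one_pos (by omega) fun x => ?_
          have hx : x ∈ RingHom.eqLocusField (frobenius F p) (RingHom.id F) :=
            (bot_le : (⊥ : Subfield F) ≤ _) (htop ▸ Subfield.mem_top x)
          rw [pow_one]
          exact hx
        obtain ⟨F₁, r, P, hrp, hc, hle, hrat⟩ := exists_rational_subfield hspan hinv h0
          (hR.realisable_of_center_two hf.bilinear hf.nondegenerate hfN ⊥)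
        obtain ⟨ζ, hζ, hform⟩ := exists_form_rational_bilinear hh hspan hfN P hrat
        exact ⟨F₁, r, P, ζ, hrp, hc, hζ, hform, hle⟩
      subst hk
      rw [pow_one] at hq
      have hpodd : Odd p := hp.odd_of_ne_two fun h2 => by
        subst h2
        exact hR.prime_ne_zero (CharP.cast_eq_zero F 2)
      refine Or.inr (Or.inr (Or.inr (Or.inr (Or.inr (Or.inr (Or.inl ⟨p, m, N, hp, hpodd, hq,
        hR.isSymplecticTypeGroup hinv hmin, absIrred_of_algOf_eq_top hspan,
        fun g hg => ⟨1, fun u v => by rw [Units.val_one, one_mul]; exact hfN _ ⟨g, hg, rfl⟩ u v⟩,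
        ?_, hc2, hR.minus_type hc2 hf hfN, le_normalizer_of_normalized hinv⟩))))))
      rw [hR.card_eq, hc2, ← pow_succ, Nat.add_comm 1]
    rcases simple_or_family_groups hNH hinv hspan hcl hmin with
      hsimple | ⟨a, t, ψ, ha, ht, hcard, hcomm, hgrp, hperm⟩
    · rcases symplectic_residual_cases hn2 hf hHf hNH hinv hns hspan hperf hsimple with
        h | ⟨hev, Q, hQ, hpol, hle⟩ | h
      · exact Or.inr (Or.inr (Or.inr (Or.inr (Or.inr (Or.inl h)))))
      · exact absurd ⟨hev, Q, hQ, hpol, hle⟩ hquad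
      · exact Or.inr (Or.inr (Or.inr (Or.inr (Or.inr (Or.inr (Or.inr (Or.inr (Or.inr h))))))))
    obtain ⟨e, P, G, c, ε₁, hc, hG, hsym, hεσ, hεt, hform, hle⟩ :=
      exists_power_form hh ha ht hcard hcomm hHf hNH hspan hinv hmin hgrp hperm
    change ε₁ * ε₁ = 1 at hεσ
    change c * ε₁ ^ t = -1 * c at hεt
    have hεt' : ε₁ ^ t = -1 := mul_left_cancel₀ hc (by linear_combination hεt)
    have hodd : Odd (Fintype.card F) := by
      by_contra hev
      have h2 := two_eq_zero_of_not_odd hev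
      have he : ε₁ = 1 := by
        rcases mul_self_eq_one_iff.1 hεσ with h | h
        · exact h
        · linear_combination h - h2
      have hdiag : ∀ p, G p p = 0 := fun p => by
        have h := hf.alternating (CfsgLib.Maximal.TensorTools.coord e P (Pi.single (fun _ => p) 1))
        rw [hform, formOfGram_single] at h
        simp only [pm, Finset.prod_const, Finset.card_univ, Fintype.card_fin] at h
        exact (pow_eq_zero_iff (by omega : t ≠ 0)).1 ((mul_eq_zero.1 h).resolve_left hc)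
      exact hev (hodd_of (hasQuad_of_power h2 hf hHf ht hc (fun p q => by
        rw [hsym p q, he, one_mul]; rfl) hdiag hform hle))
    have h2 := two_ne_zero_of_odd hodd
    obtain ⟨rfl, hto⟩ : ε₁ = -1 ∧ Odd t := by
      rcases mul_self_eq_one_iff.1 hεσ with rfl | rfl
      · rw [one_pow] at hεt'
        exact absurd (show (2 : F) = 0 by linear_combination hεt') h2
      · refine ⟨rfl, ?_⟩
        rcases Nat.even_or_odd t with he | ho
        · rw [he.neg_one_pow] at hεt'
          exact absurd (show (2 : F) = 0 by linear_combination hεt') h2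
        · exact ho
    have h1 : Herm (RingEquiv.refl F) (-1) (formOfGram ((RingEquiv.refl F : F ≃+* F) : F → F) G) :=
      herm_formOfGram (fun _ => rfl) hG hsym
    have hsk : ∀ v w, formOfGram ((RingEquiv.refl F : F ≃+* F) : F → F) G v w =
        - formOfGram ((RingEquiv.refl F : F ≃+* F) : F → F) G w v := fun v w => by
      rw [h1.symm w v, neg_one_mul]; rfl
    refine Or.inr (Or.inr (Or.inr (Or.inr (Or.inr (Or.inr (Or.inr (Or.inl ⟨hodd, a, t, e, P,
      formOfGram ((RingEquiv.refl F : F ≃+* F) : F → F) G, hto, ?_, ?_,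
      ⟨⟨h1.add_left, h1.smul_left, h1.add_right, fun c v x => h1.smul_right c v x⟩, hsk,
        fun v => (mul_eq_zero.1 (show (2 : F) * formOfGram ((RingEquiv.refl F : F ≃+* F) : F → F) G v v = 0 by
          linear_combination hsk v v)).resolve_left h2, h1.nondeg⟩, ⟨c, hc, fun x y => ?_⟩, hle⟩)))))))
    · obtain ⟨k, rfl⟩ := hto
      omega
    · rintro ⟨h3, rfl⟩
      exact no_perfect_planes_three h3 hcard hcomm hperf hns hinv hmin hgrp hperm (by omega)
    · rw [gramMatrix_formOfGram]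
      exact hform x y
  -- the commutative structures
  by_cases h3 : ((∃ (t m : ℕ) (D : Fin t → Submodule F (ι → F)), IsNondegenerateMDecomposition f m D ∧
        H ≤ decompositionStabilizer D) ∨
      (∃ (m : ℕ) (D : Fin 2 → Submodule F (ι → F)), IsMDecomposition m D ∧
        (∀ i, IsTotallySingularFor f (D i)) ∧ H ≤ decompositionStabilizer D) ∨
      (∃ (s : ℕ) (K : Subalgebra F (Matrix ι ι F)), s.Prime ∧ IsFieldSubalgebra s K ∧
        IsAdjointClosedFor f K ∧ Normalized H K))
  · rcases h3 with h | ⟨m, D, hD, hTS, hle⟩ | ⟨s, K, hs, hK, hKa, hHK⟩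
    · exact Or.inl h
    · have hodd : Odd (Fintype.card F) := by
        by_contra hev
        exact hev (hodd_of (hasQuad_of_pair (two_eq_zero_of_not_odd hev) hf hHf hD hTS hle))
      exact Or.inr (Or.inl ⟨hodd, m, D, mdecomposition_card hD, hD, hTS, hle⟩)
    · by_cases hself : IsSelfAdjointFor f K
      · exact Or.inr (Or.inr (Or.inl ⟨s, K, hs, hK, hself, selfAdjoint_alternating hf hK hself,
          le_subalgebraNormalizer hHK⟩))
      · obtain rfl : s = 2 := hs.eq_two_or_odd'.resolve_right fun ho => hself (selfAdjoint_of_odd hh hK ho hKa)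
        have hodd : Odd (Fintype.card F) := by
          by_contra hev
          exact hev (hodd_of (exists_quad_of_field (two_eq_zero_of_not_odd hev) hf hHf hK hKa hself hHK))
        exact Or.inr (Or.inr (Or.inr (Or.inl ⟨hodd, K, hK, hKa, hself, le_subalgebraNormalizer hHK⟩)))
  rcases hg with hD | hP | hK | ⟨a, b, e, P, ε₁, ε₂, f₁, f₂, ha, hb, h₁, h₂, hε, -, hT, hle⟩
  · exact absurd (Or.inl hD) h3
  · exact absurd (Or.inr (Or.inl hP)) h3
  · exact absurd (Or.inr (Or.inr hK)) h3
  have hodd : Odd (Fintype.card F) := by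
    by_contra hev
    exact hev (hodd_of (hasQuad_of_tensor (two_eq_zero_of_not_odd hev) hf hHf hirr ha hb h₁ h₂ hT hle))
  have h2 := two_ne_zero_of_odd hodd
  obtain ⟨a, b, e, P, f₁, f₂, ha, hb, h₁, h₂, hT, hle⟩ : ∃ (a b : ℕ) (e : ι ≃ Fin a × Fin b) (P : GL ι F)
      (f₁ : (Fin a → F) → (Fin a → F) → F) (f₂ : (Fin b → F) → (Fin b → F) → F), 2 ≤ a ∧ 2 ≤ b ∧
      Herm (RingEquiv.refl F) (-1) f₁ ∧ Herm (RingEquiv.refl F) 1 f₂ ∧
      IsTensorFormStructure ((RingEquiv.refl F : F ≃+* F) : F → F) f f₁ f₂ e P ∧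
      H ≤ tensorProductSubgroup a b e P := by
    haveI : Nonempty (Fin a) := ⟨⟨0, by omega⟩⟩
    rcases mul_self_eq_one_iff.1 (show ε₁ * ε₁ = 1 from h₁.eps_mul) with rfl | rfl
    · refine ⟨b, a, e.trans (Equiv.prodComm _ _), P, f₂, f₁, hb, ha, ?_, h₁, isTensorFormStructure_swap hT,
        tensorProductSubgroup_swap e P ▸ hle⟩
      rwa [show ε₂ = -1 by linear_combination hε] at h₂
    · refine ⟨a, b, e, P, f₁, f₂, ha, hb, h₁, ?_, hT, hle⟩
      rwa [show ε₂ = 1 by linear_combination -hε] at h₂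
  have hsk : ∀ v w, f₁ v w = - f₁ w v := fun v w => by
    rw [h₁.symm w v, neg_one_mul]; rfl
  rcases eq_or_lt_of_le hb with hb2 | hb3
  · subst hb2
    exact (h3 (comm_of_symmetric_plane hh h2 hHf hirr h₂ h₁ (isTensorFormStructure_swap hT)
      (tensorProductSubgroup_swap e P ▸ hle))).elim
  exact Or.inr (Or.inr (Or.inr (Or.inr (Or.inl ⟨hodd, a, b, e, P, f₁, f₂, hb3,
    ⟨⟨h₁.add_left, h₁.smul_left, h₁.add_right, fun c v x => h₁.smul_right c v x⟩, hsk,
      fun v => (mul_eq_zero.1 (show (2 : F) * f₁ v v = 0 by linear_combination hsk v v)).resolve_left h2, h₁.nondeg⟩,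
    ⟨⟨h₂.add_left, h₂.smul_left, h₂.add_right, fun c v x => h₂.smul_right c v x⟩,
      fun v w => by rw [h₂.symm w v, one_mul]; rfl, h₂.nondeg⟩, hT, hle⟩))))

end CfsgLib.Geo.Asch
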