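import Mathlib
import Cfsg.Prelude.Def_GeometricClasses
import Cfsg.Agent.Lib.Geo.AschOrth
import Cfsg.Agent.Lib.Geo.AschSympFull
import Cfsg.Agent.Lib.Geo.AschUnitSquare
import Cfsg.Agent.Lib.QuadFin.Gram

/-! The structure theorem for subgroups of orthogonal groups in odd dimension. -/

set_option autoImplicit false
set_option linter.unusedSectionVars false

namespace CfsgLib.Geo.Asch

open Cfsg Cfsg.Geo Matrix QuadraticMap CfsgLib.GeomClasses CfsgLib.Maximal.TensorPower CfsgLib.Maximal.TensorTools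
open scoped MatrixGroups Kronecker commutatorElement

variable {ι : Type} [Fintype ι] [DecidableEq ι] {F : Type*} [Field F] [Fintype F]

theorem gram_det_ne_zero' {κ : Type} [Fintype κ] [DecidableEq κ] {ε : F} {g : (κ → F) → (κ → F) → F}
    (h : Herm (RingEquiv.refl F) ε g) : (gramMatrix g).det ≠ 0 := by
  intro h0
  obtain ⟨w, hw0, hw⟩ := Matrix.exists_mulVec_eq_zero_iff.2 h0
  obtain ⟨x, hx⟩ := (h.nondeg w hw0).1
  apply hx
  conv_lhs => rw [pi_eq_sum_univ' x, pi_eq_sum_univ' w]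
  rw [h.sesq.sum_left]
  refine Finset.sum_eq_zero fun i _ => ?_
  have h5 : ∑ j, g (Pi.single i 1) (Pi.single j 1) * w j = 0 := congrFun hw i
  rw [h.smul_left, h.sesq.sum_right, Finset.sum_congr rfl fun j _ => h.smul_right (w j) _ _]
  show x i * ∑ j, w j * g _ _ = 0
  rw [Finset.sum_congr rfl fun j _ => mul_comm (w j) _, h5, mul_zero]

/-- An invertible matrix of odd degree with Gᵀ = ε G has ε = 1. -/
theorem sign_eq_one_of_odd {a : ℕ} (ha : Odd a) (h2 : (2 : F) ≠ 0) {G : Matrix (Fin a) (Fin a) F} (hG : G.det ≠ 0)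
    {ε : F} (hε : ε * ε = 1) (hsym : ∀ p q, G q p = ε * G p q) : ε = 1 := by
  rcases mul_self_eq_one_iff.1 hε with h | h
  · exact h
  · exfalso
    subst h
    have hT : Gᵀ = -G := Matrix.ext fun p q => by rw [Matrix.transpose_apply, hsym p q, Matrix.neg_apply]; ring
    have h1 := congrArg Matrix.det hT
    rw [Matrix.det_transpose, Matrix.det_neg, Fintype.card_fin, ha.neg_one_pow] at h1
    exact hG ((mul_eq_zero.1 (show (2 : F) * G.det = 0 by linear_combination h1)).resolve_left h2)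

/-- In odd degree a symmetric form is similar to the standard one. -/
theorem exists_gram_scalar {a : ℕ} (ha : Odd a) (h2 : (2 : F) ≠ 0) {G : Matrix (Fin a) (Fin a) F}
    (hsym : ∀ p q, G q p = G p q) (hG : G.det ≠ 0) :
    ∃ (B : GL (Fin a) F) (d : F), d ≠ 0 ∧
      (B : Matrix (Fin a) (Fin a) F)ᵀ * G * (B : Matrix (Fin a) (Fin a) F) = d • 1 := by
  classical
  let mk : Matrix (Fin a) (Fin a) F → QuadraticForm F (Fin a → F) :=
    fun M => LinearMap.BilinMap.toQuadraticMap (Matrix.toLinearMap₂' F M)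
  have hgram : ∀ M : Matrix (Fin a) (Fin a) F, Mᵀ = M → QuadFin.gram ⇑(mk M) = (2 : F) • M := fun M hM => by
    ext i j
    rw [QuadFin.gram, Matrix.of_apply]
    simp only [mk, LinearMap.BilinMap.polar_toQuadraticMap, Matrix.toLinearMap₂'_apply', Matrix.mulVec_single_one,
      single_dotProduct, one_mul, Matrix.col_apply, Matrix.smul_apply, smul_eq_mul]
    rw [show M j i = M i j from congrFun (congrFun hM i) j]
    ring
  have hnd : ∀ M : Matrix (Fin a) (Fin a) F, Mᵀ = M → M.det ≠ 0 → (mk M).polarBilin.Nondegenerate := fun M hM hd => by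
    refine (LinearMap.BilinForm.nondegenerate_iff_det_ne_zero (Pi.basisFun F (Fin a))).2 ?_
    rw [← QuadFin.gram_eq_toMatrix, hgram M hM, Matrix.det_smul]
    exact mul_ne_zero (pow_ne_zero _ h2) hd
  set d := G.det with hd
  have hD : ((d • 1 : Matrix (Fin a) (Fin a) F)).det = d ^ a := by
    rw [Matrix.det_smul, Matrix.det_one, mul_one, Fintype.card_fin]
  have hDT : (d • 1 : Matrix (Fin a) (Fin a) F)ᵀ = d • 1 := by rw [Matrix.transpose_smul, Matrix.transpose_one]
  have hGT : Gᵀ = G := Matrix.ext fun p q => hsym p q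
  have hD0 : ((d • 1 : Matrix (Fin a) (Fin a) F)).det ≠ 0 := by rw [hD]; exact pow_ne_zero _ hG
  obtain ⟨g, hg⟩ := (QuadFin.equiv_iff_isSquare h2 (mk G) (mk (d • 1)) (hnd G hGT hG) (hnd _ hDT hD0)).2 (by
    obtain ⟨k, hk⟩ := ha
    rw [hgram G hGT, hgram _ hDT, Matrix.det_smul, Matrix.det_smul (d • 1 : Matrix (Fin a) (Fin a) F), hD, ← hd,
      Fintype.card_fin]
    exact ⟨2 ^ a * d ^ (k + 1), by rw [hk]; ring⟩)
  set A := LinearMap.toMatrix' g.toLinearMap with hA
  have h1 : (2 : F) • G = Aᵀ * ((2 : F) • (d • 1)) * A := by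
    rw [← hgram G hGT, ← hgram _ hDT, hA, ← QuadFin.gram_comp]
    exact congrArg QuadFin.gram (funext fun v => (hg v).symm)
  have hA0 : A.det ≠ 0 := by
    rw [hA, LinearMap.det_toMatrix']
    exact (LinearEquiv.isUnit_det' g).ne_zero
  have h1' : G = d • (Aᵀ * A) := by
    refine smul_right_injective (Matrix (Fin a) (Fin a) F) h2 ?_
    show (2 : F) • G = (2 : F) • (d • (Aᵀ * A))
    rw [h1]
    simp [Matrix.mul_smul, Matrix.smul_mul]
  refine ⟨(Matrix.GeneralLinearGroup.mkOfDetNeZero A hA0)⁻¹, d, hG, ?_⟩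
  set u := Matrix.GeneralLinearGroup.mkOfDetNeZero A hA0 with hu
  set B := ((u⁻¹ : GL (Fin a) F) : Matrix (Fin a) (Fin a) F)
  have hAB : A * B = 1 := u.mul_inv
  rw [h1', Matrix.mul_smul, Matrix.smul_mul, ← Matrix.mul_assoc, ← Matrix.transpose_mul, Matrix.mul_assoc, hAB,
    Matrix.transpose_one, Matrix.mul_one]

/-- A tensor power of symmetric forms of odd degree is the power of the standard form in a suitable basis. -/
theorem exists_power_std {f : (ι → F) → (ι → F) → F} {a t : ℕ} (ha : Odd a) (h2 : (2 : F) ≠ 0)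
    {G : Fin t → Matrix (Fin a) (Fin a) F} (hsym : ∀ i p q, G i q p = G i p q) (hG : ∀ i, (G i).det ≠ 0)
    (e : ι ≃ (Fin t → Fin a)) (P : GL ι F) {c : F} (hc : c ≠ 0)
    (hform : ∀ x y, f (coord e P x) (coord e P y) = c * formOfGram id (pm G) x y) :
    ∃ (P' : GL ι F) (c' : F), c' ≠ 0 ∧ tensorWreathSubgroup a t e P ≤ tensorWreathSubgroup a t e P' ∧
      ∀ x y, f (coord e P' x) (coord e P' y) = c' * (x ⬝ᵥ y) := by
  classical
  choose B d hd hB using fun i => exists_gram_scalar ha h2 (hsym i) (hG i)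
  let K : GL (Fin t → Fin a) F :=
    ⟨pm fun i => (B i : Matrix (Fin a) (Fin a) F), pm fun i => ((B i)⁻¹ : GL (Fin a) F).val,
      by rw [pm_mul]; simp only [← Units.val_mul, mul_inv_cancel, Units.val_one]; exact pm_one,
      by rw [pm_mul]; simp only [← Units.val_mul, inv_mul_cancel, Units.val_one]; exact pm_one⟩
  have hK : K ∈ tensorWreathStandard a t F := Subgroup.subset_closure (Or.inl ⟨B, fun x y => rfl⟩)
  let P' := P * glReindex e.symm K
  have hP' : ∀ z, coord e P' z = coord e P ((K : Matrix _ _ F) *ᵥ z) := fun z => by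
    rw [← conj_reindex_mulVec, coord_apply, coord_apply, Matrix.mulVec_mulVec, ← Units.val_mul]
    congr 2
    simp [P', mul_assoc]
  have hgram : (K : Matrix (Fin t → Fin a) (Fin t → Fin a) F)ᵀ * pm G * (K : Matrix (Fin t → Fin a) (Fin t → Fin a) F) =
      (∏ i, d i) • 1 := by
    show (pm fun i => (B i : Matrix (Fin a) (Fin a) F))ᵀ * _ * pm _ = _
    rw [pm_transpose, pm_mul, pm_mul, show (fun i => (B i : Matrix (Fin a) (Fin a) F)ᵀ * G i * (B i : Matrix (Fin a) (Fin a) F)) =
      fun i => d i • (1 : Matrix (Fin a) (Fin a) F) from funext hB]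
    ext x y
    rw [Matrix.smul_apply, ← pm_one (F := F) (k := a) (t := t)]
    simp only [pm, Matrix.smul_apply, smul_eq_mul, Finset.prod_mul_distrib, Pi.one_apply]
  refine ⟨P', c * ∏ i, d i, mul_ne_zero hc (Finset.prod_ne_zero_iff.2 fun i _ => hd i), ?_, fun x y => ?_⟩
  · rintro _ ⟨_, ⟨k, hk, rfl⟩, rfl⟩
    refine ⟨_, ⟨K⁻¹ * k * K, mul_mem (mul_mem (inv_mem hK) hk) hK, rfl⟩, ?_⟩
    simp [P', mul_assoc]
  · rw [hP', hP', hform, formOfGram_eq_dot]
    show c * ((K : Matrix _ _ F) *ᵥ x ⬝ᵥ pm G *ᵥ ((K : Matrix _ _ F) *ᵥ y)) = _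
    rw [Matrix.mulVec_mulVec, ← Matrix.vecMul_transpose, ← Matrix.dotProduct_mulVec, Matrix.mulVec_mulVec,
      ← Matrix.mul_assoc, hgram, Matrix.smul_mulVec, Matrix.one_mulVec, dotProduct_smul, smul_eq_mul, mul_assoc]

theorem dot_tp {a t : ℕ} (xs ys : Fin t → Fin a → F) : tp xs ⬝ᵥ tp ys = ∏ i, xs i ⬝ᵥ ys i := by
  simp only [dotProduct, tp]
  rw [Fintype.prod_sum]
  simp only [Finset.prod_mul_distrib]

/-- Over three elements the wreath product of three dimensional orthogonal groups permutes an orthogonal frame. -/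
theorem three_frame {f : (ι → F) → (ι → F) → F} (hf : Herm (RingEquiv.refl F) 1 f) (h3 : Fintype.card F = 3) {t : ℕ}
    (ht : 0 < t) (e : ι ≃ (Fin t → Fin 3)) (P : GL ι F) {c : F} (hc : c ≠ 0)
    (hform : ∀ x y, f (coord e P x) (coord e P y) = c * (x ⬝ᵥ y)) {H : Subgroup (GL ι F)} (hHf : IsoGrp f H)
    (hle : H ≤ tensorWreathSubgroup 3 t e P) :
    ∃ (n : ℕ) (D : Fin n → Submodule F (ι → F)), IsNondegenerateMDecomposition f 1 D ∧
      H ≤ decompositionStabilizer D := by
  classical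
  let T := Fin t → Fin 3
  let r : Fin (Fintype.card T) ≃ T := (Fintype.equivFin T).symm
  let b : Module.Basis (Fin (Fintype.card T)) F (ι → F) :=
    ((Pi.basisFun F T).map (coord e P)).reindex r.symm
  have hb : ∀ k, b k = coord e P (Pi.single (r k) 1) := fun k => by simp [b]
  let D : Fin (Fintype.card T) → Submodule F (ι → F) := fun k => Submodule.span F {b k}
  refine ⟨_, D, ⟨⟨?_, one_pos, fun k => finrank_span_singleton (b.ne_zero k), ?_, ?_⟩, ?_, ?_⟩, fun g hg => ?_⟩
  · have h := Fintype.card_fun (α := Fin t) (β := Fin 3)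
    simp only [Fintype.card_fin] at h
    have : 2 ≤ 3 ^ t := le_trans (by norm_num) (Nat.le_self_pow ht.ne' 3)
    show 2 ≤ Fintype.card (Fin t → Fin 3)
    omega
  · exact b.linearIndependent.iSupIndep_span_singleton
  · rw [show iSup D = Submodule.span F (Set.range b) from (Submodule.span_range_eq_iSup).symm, b.span_eq]
  · intro k w hw hw0
    obtain ⟨z, rfl⟩ := Submodule.mem_span_singleton.1 hw
    have hz : z ≠ 0 := fun h => hw0 (by rw [h, zero_smul])
    have hkk : f (b k) (b k) = c := by rw [hb, hform]; simp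
    refine ⟨⟨b k, Submodule.mem_span_singleton_self _, ?_⟩, ⟨b k, Submodule.mem_span_singleton_self _, ?_⟩⟩
    · rw [hf.smul_right, hkk]; exact mul_ne_zero hz hc
    · rw [hf.smul_left, hkk]; exact mul_ne_zero hz hc
  · intro k l hkl u hu v hv
    obtain ⟨z, rfl⟩ := Submodule.mem_span_singleton.1 hu
    obtain ⟨z', rfl⟩ := Submodule.mem_span_singleton.1 hv
    rw [hf.smul_left, hf.smul_right, hb, hb, hform]
    simp [r.injective.eq_iff, Ne.symm hkl, Pi.single_apply, hkl]
  · obtain ⟨_, ⟨y, hy, rfl⟩, hgy⟩ := hle hg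
    simp only [MulEquiv.coe_toMonoidHom] at hgy
    obtain ⟨τ, as, hmon⟩ := isMonomial_of_mem hy
    have hiso : ∀ x z, ((y : Matrix T T F) *ᵥ x) ⬝ᵥ ((y : Matrix T T F) *ᵥ z) = x ⬝ᵥ z := fun x z => by
      refine mul_left_cancel₀ hc ?_
      rw [← hform, ← hform, ← conj_reindex_mulVec, ← conj_reindex_mulVec, hgy, hHf g hg]
    let A : Fin t → Matrix (Fin 3) (Fin 3) F := fun i => (as i : Matrix (Fin 3) (Fin 3) F)
    have hsq : ∀ x : F, x ≠ 0 → x * x = 1 := fun x hx => by
      have := FiniteField.pow_card_sub_one_eq_one x hx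
      rwa [h3, pow_two] at this
    have hdot : ∀ i u v, (A i *ᵥ u) ⬝ᵥ (A i *ᵥ v) = u ⬝ᵥ v := by
      intro i
      set K := ∏ j ∈ Finset.univ.erase i, (A j *ᵥ Pi.single 0 1) ⬝ᵥ (A j *ᵥ Pi.single 0 1) with hK
      have hkey : ∀ u v, (A i *ᵥ u) ⬝ᵥ (A i *ᵥ v) * K = u ⬝ᵥ v := fun u v => by
        have h := hiso (tp (Function.update (fun _ => Pi.single 0 1) (τ i) u)) (tp (Function.update (fun _ => Pi.single 0 1) (τ i) v))
        rw [hmon, hmon, dot_tp, dot_tp, ← Finset.mul_prod_erase Finset.univ _ (Finset.mem_univ i),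
          ← Finset.mul_prod_erase Finset.univ (fun j => _ ⬝ᵥ _) (Finset.mem_univ (τ i))] at h
        simp only [Function.update_self] at h
        rw [Finset.prod_congr rfl (g := fun j => (A j *ᵥ Pi.single 0 1) ⬝ᵥ (A j *ᵥ Pi.single 0 1)) (fun j hj => by
          rw [Function.update_of_ne (fun h => Finset.ne_of_mem_erase hj (τ.injective h)),
            Function.update_of_ne (fun h => Finset.ne_of_mem_erase hj (τ.injective h))]), ← hK,
          Finset.prod_eq_one (fun j hj => by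
            rw [Function.update_of_ne (Finset.ne_of_mem_erase hj), Function.update_of_ne (Finset.ne_of_mem_erase hj)]
            simp), mul_one] at h
        exact h
      have hK0 : K ≠ 0 := fun h0 => by
        have := hkey (Pi.single 0 1) (Pi.single 0 1)
        rw [h0, mul_zero] at this
        simp at this
      have hM : K • ((A i)ᵀ * A i) = 1 := by
        ext p q
        have := hkey (Pi.single p 1) (Pi.single q 1)
        rw [Matrix.mulVec_single_one, Matrix.mulVec_single_one, single_dotProduct, one_mul] at this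
        rw [Matrix.smul_apply, smul_eq_mul, Matrix.mul_apply, Matrix.one_apply, mul_comm]
        simp only [dotProduct, Matrix.col_apply] at this
        simp only [Matrix.transpose_apply]
        rw [this, Pi.single_apply]
      have hA0 : (A i).det ≠ 0 := (Matrix.GeneralLinearGroup.det (as i)).ne_zero
      have h := congrArg Matrix.det hM
      rw [Matrix.det_smul, Matrix.det_mul, Matrix.det_transpose, Matrix.det_one, Fintype.card_fin, hsq _ hA0, mul_one,
        pow_succ, pow_two, hsq _ hK0, one_mul] at h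
      intro u v
      have := hkey u v
      rwa [h, mul_one] at this
    have hcol : ∀ i q, ∃ p, ∃ z : F, A i *ᵥ Pi.single q 1 = z • (Pi.single p 1 : Fin 3 → F) := by
      intro i q
      have h := hdot i (Pi.single q 1) (Pi.single q 1)
      rw [single_dotProduct, Pi.single_eq_same, one_mul] at h
      simp only [dotProduct, Fin.sum_univ_three] at h
      set v := A i *ᵥ Pi.single q 1 with hv
      have h30 : (3 : F) = 0 := by
        have := FiniteField.cast_card_eq_zero F
        rwa [h3] at this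
      by_cases h0 : v 0 = 0 <;> by_cases h1 : v 1 = 0 <;> by_cases hh : v 2 = 0
      · refine ⟨0, 0, ?_⟩; funext x; fin_cases x <;> simp [h0, h1, hh]
      · refine ⟨2, v 2, ?_⟩; funext x; fin_cases x <;> simp [h0, h1]
      · refine ⟨1, v 1, ?_⟩; funext x; fin_cases x <;> simp [h0, hh]
      · exfalso
        rw [h0, mul_zero, zero_add, hsq _ h1, hsq _ hh] at h
        exact one_ne_zero (α := F) (by linear_combination h)
      · refine ⟨0, v 0, ?_⟩; funext x; fin_cases x <;> simp [h1, hh]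
      · exfalso
        rw [h1, mul_zero, add_zero, hsq _ h0, hsq _ hh] at h
        exact one_ne_zero (α := F) (by linear_combination h)
      · exfalso
        rw [hh, mul_zero, add_zero, hsq _ h0, hsq _ h1] at h
        exact one_ne_zero (α := F) (by linear_combination h)
      · exfalso
        rw [hsq _ h0, hsq _ h1, hsq _ hh] at h
        exact one_ne_zero (α := F) (by linear_combination h30 - h)
    choose π z hπ using hcol
    let ρ : T → T := fun x i => π i (x (τ i))
    have hy : ∀ x, (y : Matrix T T F) *ᵥ Pi.single x 1 = (∏ i, z i (x (τ i))) • (Pi.single (ρ x) 1 : T → F) := fun x => by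
      rw [← tp_single, hmon, ← tp_single]
      funext w
      simp only [tp, Pi.smul_apply, smul_eq_mul, ← Finset.prod_mul_distrib]
      refine Finset.prod_congr rfl fun i _ => ?_
      rw [show (as i : Matrix (Fin 3) (Fin 3) F) = A i from rfl, hπ]
      rfl
    have hρ : Function.Injective ρ := fun x x' hxx => by
      by_contra hne
      have h := hiso (Pi.single x 1) (Pi.single x' 1)
      rw [hy, hy, ← hxx] at h
      have h' := hiso (Pi.single x 1) (Pi.single x 1)
      have h'' := hiso (Pi.single x' 1) (Pi.single x' 1)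
      rw [hy] at h'
      rw [hy, ← hxx] at h''
      simp only [smul_dotProduct, dotProduct_smul, single_dotProduct, smul_eq_mul, Pi.single_eq_same,
        Pi.single_eq_of_ne hne, mul_one, one_mul] at h h' h''
      rcases mul_eq_zero.1 h with h0 | h0 <;> first | (rw [h0] at h'; simp at h') | (rw [h0] at h''; simp at h'')
    let π' : Equiv.Perm (Fin (Fintype.card T)) :=
      r.trans ((Equiv.ofBijective ρ (Finite.injective_iff_bijective.1 hρ)).trans r.symm)
    refine ⟨π', fun k => ?_⟩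
    simp only [D, Submodule.map_span, Set.image_singleton, Matrix.toLin'_apply]
    rw [hb, hb, ← hgy, conj_reindex_mulVec, hy, map_smul,
      show r (π' k) = ρ (r k) by simp [π']]
    refine Submodule.span_singleton_smul_eq (IsUnit.mk0 _ fun h0 => ?_) _
    have := hiso (Pi.single (r k) 1) (Pi.single (r k) 1)
    rw [hy, h0] at this
    simp at this

variable {Q : (ι → F) → F}

/-- A field subalgebra of full degree is not normalised by an irreducible orthogonal group in odd dimension. -/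
theorem field_full_false [Nonempty ι] (hQ : IsNondegenerateQuadraticForm Q) (hodd : Odd (Fintype.card ι))
    (hn : 2 ≤ Fintype.card ι) (h2 : (2 : F) ≠ 0) {H : Subgroup (GL ι F)} (hHf : IsoGrp (polar Q) H)
    (hirr : ActsIrreducibly (matrixSet H)) {K : Subalgebra F (Matrix ι ι F)}
    (hK : IsFieldSubalgebra (Fintype.card ι) K) (hKs : IsSelfAdjointFor (polar Q) K) (hHK : Normalized H K) : False := by
  classical
  have hh := herm_polar hQ
  refine not_le_scalars_of_irreducible hirr hn (abelian_irreducible_false hQ hodd h2 hHf (fun x hx y hy => ?_) hirr)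
  letI : Field K := FieldTransvection.fieldOf hK
  haveI : Finite K := inferInstance
  let φ : H → (K ≃ₐ[F] K) := fun g => AlgEquiv.ofAlgHom
    (((conjHom (g : GL ι F)).comp K.val).codRestrict K fun k => hHK g g.2 k k.2)
    (((conjHom ((g : GL ι F)⁻¹)).comp K.val).codRestrict K fun k => hHK _ (H.inv_mem g.2) k k.2)
    (AlgHom.ext fun k => Subtype.ext (by
      show conjHom (g : GL ι F) (conjHom ((g : GL ι F)⁻¹) (k : Matrix ι ι F)) = k
      rw [← conjHom_mul, mul_inv_cancel]; simp [conjHom_apply]))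
    (AlgHom.ext fun k => Subtype.ext (by
      show conjHom ((g : GL ι F)⁻¹) (conjHom (g : GL ι F) (k : Matrix ι ι F)) = k
      rw [← conjHom_mul, inv_mul_cancel]; simp [conjHom_apply]))
  obtain ⟨γ, hγ⟩ := IsCyclic.exists_generator (α := K ≃ₐ[F] K)
  have hcomm : φ ⟨x, hx⟩ * φ ⟨y, hy⟩ = φ ⟨y, hy⟩ * φ ⟨x, hx⟩ := by
    obtain ⟨i, hi⟩ := Subgroup.mem_zpowers_iff.1 (hγ (φ ⟨x, hx⟩))
    obtain ⟨j, hj⟩ := Subgroup.mem_zpowers_iff.1 (hγ (φ ⟨y, hy⟩))
    rw [← hi, ← hj]
    exact (Commute.zpow_zpow (Commute.refl γ) i j).eq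
  set c := x * y * x⁻¹ * y⁻¹ with hc
  have hcK : ∀ k ∈ K, (c : Matrix ι ι F) * k = k * (c : Matrix ι ι F) := by
    intro k hk
    have h := congrArg (fun (e : K ≃ₐ[F] K) => (e ⟨k, hk⟩ : K)) hcomm
    have h' : conjHom x (conjHom y k) = conjHom y (conjHom x k) := congrArg Subtype.val h
    have h'' : conjHom c k = k := by
      have hk' : ∀ k ∈ K, conjHom (x * y) k = conjHom (y * x) k := fun k hk => by
        have h := congrArg (fun (e : K ≃ₐ[F] K) => (e ⟨k, hk⟩ : K)) hcomm
        rw [conjHom_mul, conjHom_mul]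
        exact congrArg Subtype.val h
      have := hk' (conjHom ((y * x)⁻¹) k) (hHK _ (inv_mem (mul_mem hy hx)) k hk)
      rw [← conjHom_mul, ← conjHom_mul, mul_inv_cancel] at this
      rw [show c = x * y * (y * x)⁻¹ by rw [hc]; group, this]
      simp [conjHom_apply]
    rw [conjHom_apply] at h''
    calc (c : Matrix ι ι F) * k = (c : Matrix ι ι F) * k * ((c⁻¹ : GL ι F) : Matrix ι ι F) * (c : Matrix ι ι F) := by
          rw [mul_assoc ((c : Matrix ι ι F) * k), Units.inv_mul, mul_one]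
      _ = _ := by rw [h'']
  obtain ⟨v, hv⟩ := exists_ne (0 : ι → F)
  let L : K →ₗ[F] (ι → F) :=
    { toFun := fun k => (k : Matrix ι ι F) *ᵥ v
      map_add' := fun a b => by rw [Subalgebra.coe_add, Matrix.add_mulVec]
      map_smul' := fun r a => by rw [Subalgebra.coe_smul, Matrix.smul_mulVec, RingHom.id_apply] }
  have hLinj : Function.Injective L := by
    refine (injective_iff_map_eq_zero L).2 fun k hk => ?_
    by_contra hk0
    obtain ⟨w, hwK, hw⟩ := hK.inv _ k.2 (fun h => hk0 (Subtype.ext h))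
    apply hv
    rw [hK.comm _ k.2 w hwK] at hw
    calc v = (w * (k : Matrix ι ι F)) *ᵥ v := by rw [hw, Matrix.one_mulVec]
      _ = 0 := by rw [← Matrix.mulVec_mulVec]; exact (congrArg (w *ᵥ ·) hk).trans (Matrix.mulVec_zero w)
  have hLsurj : Function.Surjective L := (LinearMap.injective_iff_surjective_of_finrank_eq_finrank (by
    rw [Module.finrank_fintype_fun_eq_card]; exact hK.finrank_eq)).1 hLinj
  obtain ⟨k, hk⟩ := hLsurj ((c : Matrix ι ι F) *ᵥ v)
  have hck : ∀ w, (c : Matrix ι ι F) *ᵥ w = (k : Matrix ι ι F) *ᵥ w := fun w => by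
    obtain ⟨k', rfl⟩ := hLsurj w
    show _ *ᵥ ((k' : Matrix ι ι F) *ᵥ v) = _ *ᵥ ((k' : Matrix ι ι F) *ᵥ v)
    rw [Matrix.mulVec_mulVec, hcK _ k'.2, ← Matrix.mulVec_mulVec, ← hk]
    show (k' : Matrix ι ι F) *ᵥ ((k : Matrix ι ι F) *ᵥ v) = _
    rw [Matrix.mulVec_mulVec, hK.comm _ k'.2 _ k.2, ← Matrix.mulVec_mulVec]
  have hval : (c : Matrix ι ι F) = k := Matrix.ext_of_mulVec_single fun i => hck _
  have hcH : c ∈ H := mul_mem (mul_mem (mul_mem hx hy) (inv_mem hx)) (inv_mem hy)
  have hsq : (k : Matrix ι ι F) * k = 1 := by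
    refine hh.adj_unique (k := 1) ?_ hh.adj_one
    intro u w
    rw [Matrix.one_mulVec, ← Matrix.mulVec_mulVec, ← hKs _ k.2, ← hval]
    exact (hHf c hcH u w).symm
  have hk2 : (k : K) * k = 1 := Subtype.ext hsq
  have hdet : (c : Matrix ι ι F).det = 1 := by
    have h1 : Matrix.GeneralLinearGroup.det c = 1 := by simp [hc, mul_comm]
    have h2 := congrArg Units.val h1
    rwa [Matrix.GeneralLinearGroup.val_det_apply, Units.val_one] at h2
  have hc1 : c = 1 := by
    rcases mul_self_eq_one_iff.1 hk2 with h | h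
    · exact Units.ext (by rw [hval, h, Units.val_one]; rfl)
    · exfalso
      have hm : (k : Matrix ι ι F) = -1 := by rw [h]; rfl
      rw [hval, hm, Matrix.det_neg, Matrix.det_one, mul_one, hodd.neg_one_pow] at hdet
      exact h2 (by linear_combination -hdet)
  calc x * y = c * (y * x) := by rw [hc]; group
    _ = y * x := by rw [hc1, one_mul]

/-- A non-degenerate decomposition of an irreducible group is isometric; lines over a non-prime field give a
subfield group. -/
theorem orth_decomposition_cases [Nonempty ι] (hQ : IsNondegenerateQuadraticForm Q) (hoddn : Odd (Fintype.card ι))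
    (h2 : (2 : F) ≠ 0) (hQ0 : ∀ (F₀ : Subfield F) (v : ι → F), (∀ i, v i ∈ F₀) → Q v ∈ F₀)
    {H : Subgroup (GL ι F)} (hHf : IsoGrp (polar Q) H) (hirr : ActsIrreducibly (matrixSet H)) {t m : ℕ}
    {D : Fin t → Submodule F (ι → F)} (hnd : IsNondegenerateMDecomposition (polar Q) m D)
    (hle : H ≤ decompositionStabilizer D) :
    (IsOrthogonalMDecomposition Q m D ∧ (1 < m ∨ (Fintype.card F).Prime ∧ m = 1)) ∨
    ∃ (F₀ : Subfield F) (r : ℕ) (P : GL ι F), r.Prime ∧ Fintype.card F = Nat.card F₀ ^ r ∧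
      IsQuadFormRationalStructure Q F₀ P ∧ H ≤ subfieldSubgroup F₀ P := by
  classical
  have hs := polar_isSesq hQ
  have hD := hnd.decomp
  have hm0 := hD.pos
  haveI : NeZero t := ⟨by have := hD.two_le; omega⟩
  have hHQ : ∀ g ∈ H, ∀ u, Q ((g : Matrix ι ι F) *ᵥ u) = Q u := fun g hg u => by
    have h1 := hHf g hg u u
    rw [quad_polar_self hQ, quad_polar_self hQ] at h1
    exact mul_left_cancel₀ h2 h1
  have hDne : ∀ i, D i ≠ ⊥ := fun i h => by
    have := hD.finrank_eq i
    rw [h, finrank_bot] at this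
    omega
  have htrans : ∀ j, ∃ g ∈ H, (D 0).map (Matrix.toLin' (g : Matrix ι ι F)) = D j := by
    intro j
    by_contra hno
    push Not at hno
    let S : Submodule F (ι → F) := ⨆ (g : GL ι F) (_ : g ∈ H), (D 0).map (Matrix.toLin' (g : Matrix ι ι F))
    have hS : S = ⊤ := by
      refine (hirr S ?_).resolve_left ?_
      · rintro _ ⟨k, hk, rfl⟩
        simp only [S, Submodule.map_iSup]
        refine iSup₂_le fun g hg => le_iSup₂_of_le (k * g) (H.mul_mem hk hg) (le_of_eq ?_)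
        simp only [← Submodule.map_comp, Units.val_mul, Matrix.toLin'_mul]
      · intro h0
        have h1 : (D 0).map (Matrix.toLin' ((1 : GL ι F) : Matrix ι ι F)) ≤ S := le_iSup₂_of_le 1 H.one_mem le_rfl
        rw [h0] at h1
        simp at h1
        exact hDne 0 h1
    have hle' : S ≤ ⨆ (i : Fin t) (_ : i ≠ j), D i := by
      refine iSup₂_le fun g hg => ?_
      obtain ⟨τ, hτ⟩ := hle hg
      rw [hτ]
      exact le_iSup₂_of_le (τ 0) (fun h => hno g hg (h ▸ hτ 0)) le_rfl
    have hd := iSupIndep_def.1 hD.indep j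
    rw [hS, top_le_iff] at hle'
    rw [hle', disjoint_top] at hd
    exact hDne j hd
  choose gs hgsH hgs using htrans
  have hiso : ∀ i j, AreIsometricFor Q (D i) (D j) := by
    intro i j
    have hm : (D i).map (Matrix.toLin' ((gs j * (gs i)⁻¹ : GL ι F) : Matrix ι ι F)) = D j := by
      rw [← hgs i, ← Submodule.map_comp, ← Matrix.toLin'_mul, ← Units.val_mul, inv_mul_cancel_right, hgs j]
    refine ⟨(Submodule.equivMapOfInjective _ (toLin'_unit_injective _) (D i)).trans (LinearEquiv.ofEq _ _ hm),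
      fun w => ?_⟩
    show Q (Matrix.toLin' _ (w : ι → F)) = _
    rw [Matrix.toLin'_apply]
    exact hHQ _ (H.mul_mem (hgsH j) (H.inv_mem (hgsH i))) _
  by_cases hm1 : 1 < m
  · exact Or.inl ⟨⟨hnd, hiso⟩, Or.inl hm1⟩
  obtain rfl : m = 1 := by omega
  by_cases hqp : (Fintype.card F).Prime
  · exact Or.inl ⟨⟨hnd, hiso⟩, Or.inr ⟨hqp, rfl⟩⟩
  refine Or.inr ?_
  have hn : Fintype.card ι = t := by have := mdecomposition_card hD; omega
  obtain ⟨F₀, r, hr, hcard⟩ := exists_prime_index hqp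
  obtain ⟨v₀, hv₀, hv₀0⟩ := Submodule.exists_mem_ne_zero_of_ne_bot (hDne 0)
  let v : Fin t → ι → F := fun j => (gs j : Matrix ι ι F) *ᵥ v₀
  have hvD : ∀ j, v j ∈ D j := fun j => hgs j ▸ ⟨v₀, hv₀, Matrix.toLin'_apply _ _⟩
  have hv0 : ∀ j, v j ≠ 0 := fun j => gl_mulVec_ne_zero _ hv₀0
  set c := polar Q v₀ v₀ with hc
  have hvc : ∀ j, polar Q (v j) (v j) = c := fun j => hHf _ (hgsH j) _ _
  have hline : ∀ {j x}, x ∈ D j → ∃ a : F, x = a • v j := fun {j x} hx => by
    obtain ⟨z, -, hz⟩ := finrank_eq_one_iff'.1 (hD.finrank_eq j)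
    obtain ⟨a, ha⟩ := hz ⟨x, hx⟩
    obtain ⟨b, hb⟩ := hz ⟨v j, hvD j⟩
    have ha' : a • (z : ι → F) = x := congrArg Subtype.val ha
    have hb' : b • (z : ι → F) = v j := congrArg Subtype.val hb
    have hb0 : b ≠ 0 := fun h => hv0 j (by rw [← hb', h, zero_smul])
    exact ⟨a / b, by rw [← ha', ← hb', smul_smul, div_mul_cancel₀ _ hb0]⟩
  have hc0 : c ≠ 0 := fun h => by
    obtain ⟨-, y, hy, hne⟩ := hnd.nondegenerate 0 (v 0) (hvD 0) (hv0 0)
    obtain ⟨a, rfl⟩ := hline hy
    rw [hs.smul_right, hvc, h, mul_zero] at hne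
    exact hne rfl
  let e : ι ≃ Fin t := Fintype.equivFinOfCardEq hn
  let V : Matrix ι ι F := Matrix.of fun a b => v (e b) a
  have hVcol : ∀ b, V *ᵥ Pi.single b 1 = v (e b) := fun b => by funext a; simp [V]
  have hgram : ∀ a b, polar Q (V *ᵥ Pi.single a 1) (V *ᵥ Pi.single b 1) = if a = b then c else 0 := fun a b => by
    rw [hVcol, hVcol]
    split_ifs with h
    · rw [h, hvc]
    · exact hnd.orthogonal _ _ (fun h' => h (e.injective h')) _ (hvD _) _ (hvD _)
  set g0 := (gramMatrix (polar Q)).det with hg0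
  have hdetV : V.det ^ 2 * g0 = c ^ t := by
    have h1 : Vᵀ * gramMatrix (polar Q) * V = c • (1 : Matrix ι ι F) := by
      ext a b; rw [gram_conj hQ, hgram, Matrix.smul_apply, Matrix.one_apply]; simp
    have h2 := congrArg Matrix.det h1
    rw [Matrix.det_mul, Matrix.det_mul, Matrix.det_transpose, Matrix.det_smul, Matrix.det_one, mul_one, hn] at h2
    rw [← h2]; ring
  have hV0 : V.det ≠ 0 := fun h => pow_ne_zero t hc0 (by rw [← hdetV, h]; ring)
  obtain ⟨k, hk⟩ : Odd t := hn ▸ hoddn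
  set l := c ^ k / V.det with hl
  have hl0 : l ≠ 0 := div_ne_zero (pow_ne_zero _ hc0) hV0
  have hlc : l ^ 2 * c = g0 := by
    rw [hl, div_pow, div_mul_eq_mul_div, div_eq_iff (pow_ne_zero 2 hV0), mul_comm g0, hdetV, hk]
    ring
  let P : GL ι F := Matrix.GeneralLinearGroup.mkOfDetNeZero (l • V)
    (by rw [Matrix.det_smul]; exact mul_ne_zero (pow_ne_zero _ hl0) hV0)
  have hP : ∀ b, (P : Matrix ι ι F) *ᵥ Pi.single b 1 = l • v (e b) := fun b => by
    show (l • V) *ᵥ _ = _
    rw [Matrix.smul_mulVec, hVcol]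
  refine ⟨F₀, r, P, hr, hcard, fun u hu => quad_mem_of_gram hQ h2 (fun a b => ?_) hu, ?_⟩
  · rw [hP, hP, ← hVcol, ← hVcol, hs.smul_left, hs.smul_right, RingHom.id_apply, ← mul_assoc, ← _root_.sq, hgram]
    split_ifs
    · rw [hlc]; exact det_gram_mem hQ0 F₀
    · rw [mul_zero]; exact F₀.zero_mem
  refine fun g hg => mem_subfieldSubgroup_of_entries fun i j => ?_
  obtain ⟨τ, hτ⟩ := hle hg
  obtain ⟨a, ha⟩ := hline (hτ (e j) ▸ ⟨_, hvD _, Matrix.toLin'_apply _ _⟩ :
    (g : Matrix ι ι F) *ᵥ v (e j) ∈ D (τ (e j)))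
  have ha2 : a = 1 ∨ a = -1 := by
    have h1 := hHf g hg (v (e j)) (v (e j))
    rw [ha, hs.smul_left, hs.smul_right, RingHom.id_apply, hvc, hvc] at h1
    exact mul_self_eq_one_iff.1 (mul_right_cancel₀ hc0 (by rw [one_mul, mul_assoc, h1]))
  have h1 : (g : Matrix ι ι F) *ᵥ ((P : Matrix ι ι F) *ᵥ Pi.single j 1) =
      (P : Matrix ι ι F) *ᵥ (a • Pi.single (e.symm (τ (e j))) 1) := by
    rw [hP, Matrix.mulVec_smul, ha, Matrix.mulVec_smul, hP, Equiv.apply_symm_apply, smul_comm]
  have h3 : ((P⁻¹ * g * P : GL ι F) : Matrix ι ι F) *ᵥ Pi.single j 1 =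
      a • (Pi.single (e.symm (τ (e j))) 1 : ι → F) := by
    rw [Units.val_mul, Units.val_mul, ← Matrix.mulVec_mulVec, ← Matrix.mulVec_mulVec, h1, gl_inv_mulVec_mulVec]
  have h4 := congrFun h3 i
  simp only [Matrix.mulVec_single_one, Matrix.col_apply, Pi.smul_apply, smul_eq_mul] at h4
  rw [h4]
  refine F₀.mul_mem ?_ (by by_cases h : i = e.symm (τ (e j)) <;> simp [h, F₀.one_mem, F₀.zero_mem])
  rcases ha2 with rfl | rfl
  · exact F₀.one_mem
  · exact F₀.neg_mem F₀.one_mem

theorem isSymmetricForm_of_herm {κ : Type} [Fintype κ] [DecidableEq κ] {g : (κ → F) → (κ → F) → F}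
    (h : Herm (RingEquiv.refl F) 1 g) : IsSymmetricForm g :=
  ⟨⟨h.add_left, h.smul_left, h.add_right, fun c v x => h.smul_right c v x⟩,
    fun u v => by rw [h.symm v u, one_mul]; rfl, h.nondeg⟩

/-- Every group of orthogonal isometries in odd dimension lies in a geometric class or is residual. -/
theorem orth_odd_containment [Nonempty ι] (hQ : IsNondegenerateQuadraticForm Q) (h2 : (2 : F) ≠ 0)
    (hoddn : Odd (Fintype.card ι)) (hn : 3 ≤ Fintype.card ι)
    (hQ0 : ∀ (F₀ : Subfield F) (v : ι → F), (∀ i, v i ∈ F₀) → Q v ∈ F₀)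
    {H : Subgroup (GL ι F)} (hHf : IsoGrp (polar Q) H) :
    (∃ W : Submodule F (ι → F), W ≠ ⊥ ∧ IsTotallySingularQuad Q W ∧ H ≤ subspaceStabilizer W) ∨
    (∃ W : Submodule F (ι → F), W ≠ ⊥ ∧ W ≠ ⊤ ∧ IsNondegenerateOn (polar Q) W ∧ H ≤ subspaceStabilizer W) ∨
    (∃ (t m : ℕ) (D : Fin t → Submodule F (ι → F)), (1 < m ∨ (Fintype.card F).Prime ∧ m = 1) ∧
      IsOrthogonalMDecomposition Q m D ∧ H ≤ decompositionStabilizer D) ∨
    (∃ (r : ℕ) (K : Subalgebra F (Matrix ι ι F)), r.Prime ∧ Fintype.card ι ≠ r ∧ IsFieldSubalgebra r K ∧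
      IsSelfAdjointFor (polar Q) K ∧ H ≤ subalgebraNormalizer K) ∨
    (∃ (a b : ℕ) (e : ι ≃ Fin a × Fin b) (P : GL ι F) (f₁ : (Fin a → F) → (Fin a → F) → F)
      (f₂ : (Fin b → F) → (Fin b → F) → F), 3 ≤ a ∧ a < b ∧ IsSymmetricForm f₁ ∧ IsSymmetricForm f₂ ∧
      IsTensorFormStructure id (polar Q) f₁ f₂ e P ∧ H ≤ tensorProductSubgroup a b e P) ∨
    (∃ (F₀ : Subfield F) (r : ℕ) (P : GL ι F), r.Prime ∧ Fintype.card F = Nat.card F₀ ^ r ∧
      IsQuadFormRationalStructure Q F₀ P ∧ H ≤ subfieldSubgroup F₀ P) ∨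
    (∃ (k t : ℕ) (e : ι ≃ (Fin t → Fin k)) (P : GL ι F) (f₁ : (Fin k → F) → (Fin k → F) → F),
      3 ≤ k ∧ 2 ≤ t ∧ ¬ (Fintype.card F = 3 ∧ k = 3) ∧ IsSymmetricForm f₁ ∧
      IsTensorPowerFormStructure id (polar Q) f₁ e P ∧ H ≤ tensorWreathSubgroup k t e P) ∨
    InOrthogonalResidualClass H := by
  classical
  have hh := herm_polar hQ
  have hn2 : 2 ≤ Fintype.card ι := by omega
  by_cases hirr : ActsIrreducibly (matrixSet H)
  swap
  · rcases reducible_cases hh hHf hirr with ⟨W, h1, h2', hW, hle⟩ | ⟨W, h1, h2', hW, hd, hle⟩ | ⟨m, D, hD, hle⟩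
    · refine Or.inl ⟨W, h1, fun w hw => ?_, hle⟩
      have h := hW w hw w hw
      rw [quad_polar_self hQ] at h
      exact (mul_eq_zero.1 h).resolve_left h2
    · exact Or.inr (Or.inl ⟨W, h1, h2', hW, hle⟩)
    · exfalso
      obtain ⟨k, hk⟩ := hoddn
      have := mdecomposition_card hD.decomp
      omega
  refine Or.inr (Or.inr ?_)
  have hdec : ∀ (t m : ℕ) (D : Fin t → Submodule F (ι → F)), IsNondegenerateMDecomposition (polar Q) m D →
      H ≤ decompositionStabilizer D →
      (∃ (t m : ℕ) (D : Fin t → Submodule F (ι → F)), (1 < m ∨ (Fintype.card F).Prime ∧ m = 1) ∧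
        IsOrthogonalMDecomposition Q m D ∧ H ≤ decompositionStabilizer D) ∨
      (∃ (F₀ : Subfield F) (r : ℕ) (P : GL ι F), r.Prime ∧ Fintype.card F = Nat.card F₀ ^ r ∧
        IsQuadFormRationalStructure Q F₀ P ∧ H ≤ subfieldSubgroup F₀ P) := fun t m D hD hle => by
    rcases orth_decomposition_cases hQ hoddn h2 hQ0 hHf hirr hD hle with ⟨h, h'⟩ | h
    · exact Or.inl ⟨t, m, D, h', h, hle⟩
    · exact Or.inr h
  -- powers of the standard form
  have hpow : ∀ (a t : ℕ) (e : ι ≃ (Fin t → Fin a)) (P : GL ι F) (G : Fin t → Matrix (Fin a) (Fin a) F) (c : F),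
      Odd a → 3 ≤ a → 2 ≤ t → c ≠ 0 → (∀ i p q, G i q p = G i p q) → (∀ i, (G i).det ≠ 0) →
      (∀ x y, polar Q (coord e P x) (coord e P y) = c * formOfGram id (pm G) x y) →
      H ≤ tensorWreathSubgroup a t e P →
      (∃ (t m : ℕ) (D : Fin t → Submodule F (ι → F)), (1 < m ∨ (Fintype.card F).Prime ∧ m = 1) ∧
        IsOrthogonalMDecomposition Q m D ∧ H ≤ decompositionStabilizer D) ∨
      (∃ (F₀ : Subfield F) (r : ℕ) (P : GL ι F), r.Prime ∧ Fintype.card F = Nat.card F₀ ^ r ∧
        IsQuadFormRationalStructure Q F₀ P ∧ H ≤ subfieldSubgroup F₀ P) ∨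
      (∃ (k t : ℕ) (e : ι ≃ (Fin t → Fin k)) (P : GL ι F) (f₁ : (Fin k → F) → (Fin k → F) → F),
        3 ≤ k ∧ 2 ≤ t ∧ ¬ (Fintype.card F = 3 ∧ k = 3) ∧ IsSymmetricForm f₁ ∧
        IsTensorPowerFormStructure id (polar Q) f₁ e P ∧ H ≤ tensorWreathSubgroup k t e P) := by
    intro a t e P G c hao ha3 ht hc hsym hdet hform hle
    obtain ⟨P', c', hc', hw, hform'⟩ := exists_power_std hao h2 hsym hdet e P hc hform
    by_cases h33 : Fintype.card F = 3 ∧ a = 3
    · obtain ⟨h3, rfl⟩ := h33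
      obtain ⟨n, D, hD, hleD⟩ := three_frame hh h3 (show 0 < t by omega) e P' hc' hform' hHf (hle.trans hw)
      rcases hdec n 1 D hD hleD with h | h
      · exact Or.inl h
      · exact Or.inr (Or.inl h)
    refine Or.inr (Or.inr ⟨a, t, e, P', formOfGram ((RingEquiv.refl F : F ≃+* F) : F → F) 1, ha3, ht, h33,
      isSymmetricForm_of_herm (herm_stdHerm (fun _ => rfl) a), ⟨c', hc', fun x y => ?_⟩, hle.trans hw⟩)
    rw [gramMatrix_formOfGram]
    refine (hform' x y).trans ?_
    simp [Matrix.one_apply, Fintype.prod_boole, ← funext_iff, dotProduct]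
  rcases irreducible_cases hn2 hh hHf hirr with hg | ⟨N, hNH, hinv, hns, hspan, hmin, hcase⟩
  swap
  · have hfN : FixesForm (matrixSet N) (polar Q) := by
      rintro _ ⟨g, hg, rfl⟩ u v
      exact hHf g (hNH hg) u v
    rcases hcase with ⟨hcl, -⟩ | ⟨hperf, hcl⟩
    · exfalso
      obtain ⟨r, m, hm, hR⟩ := exists_typeR hn hinv hspan hcl hmin
      obtain ⟨rfl, -⟩ := hR.two_of_bilinear
        ⟨hh.add_left, hh.smul_left, hh.add_right, fun c v x => hh.smul_right c v x⟩ hQ.nondegenerate hfN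
      rw [hR.deg] at hoddn
      exact (Nat.not_even_iff_odd.2 hoddn) ((Nat.even_pow' (by omega)).2 even_two)
    rcases simple_or_family_groups hNH hinv hspan hcl hmin with
      hsimple | ⟨a, t, ψ, ha, ht, hcard, hcomm, hgrp, hperm⟩
    · by_cases hreal : ∃ F₀ : Subfield F, F₀ ≠ ⊤ ∧ RealisableOver F₀ (matrixSet N)
      · obtain ⟨F₀, h0, hr⟩ := hreal
        obtain ⟨F₁, r, P, hrp, hc, hle, hrat⟩ := exists_rational_subfield hspan hinv h0 hr
        obtain ⟨P', hPP, hform⟩ := exists_quad_rational hQ h2 hoddn hQ0 hspan hfN F₁ P hrat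
        exact Or.inr (Or.inr (Or.inr (Or.inl ⟨F₁, r, P', hrp, hc, hform, hPP ▸ hle⟩)))
      refine Or.inr (Or.inr (Or.inr (Or.inr (Or.inr ⟨N, residualCore_of_simple hNH hinv hspan hperf hns hsimple
        (fun F₀ h0 hr => hreal ⟨F₀, h0, hr⟩), ?_⟩))))
      rintro ⟨σ, f, hf, hfix⟩
      exact hreal (realisable_of_bilinear hspan hf hfix (polar_isSesq hQ) hQ.nondegenerate hfN)
    obtain ⟨e, P, G, c, ε₁, hc, hG, hsym, hεσ, -, hform, hle⟩ :=
      exists_power_form hh ha ht hcard hcomm hHf hNH hspan hinv hmin hgrp hperm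
    have hao : Odd a := by
      rw [hcard, Nat.odd_pow_iff (by omega)] at hoddn
      exact hoddn
    have hdet : G.det ≠ 0 := ((Matrix.isUnit_iff_isUnit_det G).1 hG).ne_zero
    obtain rfl := sign_eq_one_of_odd hao h2 hdet hεσ hsym
    have ha3 : 3 ≤ a := by obtain ⟨k, rfl⟩ := hao; omega
    rcases hpow a t e P (fun _ => G) c hao ha3 ht hc (fun _ p q => by rw [hsym p q, one_mul]; rfl) (fun _ => hdet)
      hform hle with h | h | h
    · exact Or.inl h
    · exact Or.inr (Or.inr (Or.inr (Or.inl h)))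
    · exact Or.inr (Or.inr (Or.inr (Or.inr (Or.inl h))))
  rcases hg with ⟨t, m, D, hD, hle⟩ | ⟨m, D, hD, hTS, hle⟩ | ⟨s, K, hs, hK, hKa, hHK⟩ |
      ⟨a, b, e, P, ε₁, ε₂, f₁, f₂, ha, hb, h₁, h₂, hε, -, hT, hle⟩
  · rcases hdec t m D hD hle with h | h
    · exact Or.inl h
    · exact Or.inr (Or.inr (Or.inr (Or.inl h)))
  · exfalso
    obtain ⟨k, hk⟩ := hoddn
    have := mdecomposition_card hD
    omega
  · have hso : Odd s := hoddn.of_dvd_nat (isFieldSubalgebra_dvd hK)
    have hself := selfAdjoint_of_odd hh hK hso hKa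
    refine Or.inr (Or.inl ⟨s, K, hs, fun he => ?_, hK, hself, le_subalgebraNormalizer hHK⟩)
    subst he
    exact field_full_false hQ hoddn hn2 h2 hHf hirr hK hself hHK
  have hab : a * b = Fintype.card ι := by simpa using (Fintype.card_congr e).symm
  have hao : Odd a := hoddn.of_dvd_nat ⟨b, hab.symm⟩
  have hbo : Odd b := hoddn.of_dvd_nat ⟨a, by rw [mul_comm]; exact hab.symm⟩
  have ha3 : 3 ≤ a := by obtain ⟨k, rfl⟩ := hao; omega
  have hb3 : 3 ≤ b := by obtain ⟨k, rfl⟩ := hbo; omega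
  have hs1 : ∀ p q, gramMatrix f₁ q p = ε₁ * gramMatrix f₁ p q := fun p q => h₁.symm _ _
  haveI : Nonempty (Fin a) := ⟨⟨0, by omega⟩⟩
  obtain rfl : ε₁ = 1 := sign_eq_one_of_odd hao h2 (gram_det_ne_zero' h₁) h₁.eps_mul hs1
  obtain rfl : ε₂ = 1 := by rwa [one_mul] at hε
  have hT' : IsTensorFormStructure id (polar Q) f₁ f₂ e P := hT
  by_cases heq : a = b
  · subst heq
    obtain ⟨c, hc, hc'⟩ := hT'
    let e₂ : ι ≃ (Fin 2 → Fin a) := e.trans (finTwoArrowEquiv (Fin a)).symm
    rcases hpow a 2 e₂ P ![gramMatrix f₁, gramMatrix f₂] c hao ha3 le_rfl hc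
      (Fin.forall_fin_two.2 ⟨fun p q => (hs1 p q).trans (one_mul _), fun p q => (h₂.symm _ _).trans (one_mul _)⟩)
      (fun i => by fin_cases i <;> simp [gram_det_ne_zero' h₁, gram_det_ne_zero' h₂])
      (fun x y => by
        rw [coord_apply, coord_apply,
          show x ∘ e₂ = (x ∘ (finTwoArrowEquiv (Fin a)).symm) ∘ e from rfl,
          show y ∘ e₂ = (y ∘ (finTwoArrowEquiv (Fin a)).symm) ∘ e from rfl, hc']
        congr 1
        simp only [formOfGram, Function.comp_apply, id]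
        refine Fintype.sum_equiv (finTwoArrowEquiv (Fin a)).symm _ _ fun p =>
          Fintype.sum_equiv (finTwoArrowEquiv (Fin a)).symm _ _ fun q => ?_
        simp [pm, Fin.prod_univ_two])
      (hle.trans (tensorProductSubgroup_le_wreath e P)) with h | h | h
    · exact Or.inl h
    · exact Or.inr (Or.inr (Or.inr (Or.inl h)))
    · exact Or.inr (Or.inr (Or.inr (Or.inr (Or.inl h))))
  rcases lt_or_gt_of_ne heq with h | h
  · exact Or.inr (Or.inr (Or.inl ⟨a, b, e, P, f₁, f₂, ha3, h, isSymmetricForm_of_herm h₁, isSymmetricForm_of_herm h₂,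
      hT', hle⟩))
  · exact Or.inr (Or.inr (Or.inl ⟨b, a, e.trans (Equiv.prodComm _ _), P, f₂, f₁, hb3, h, isSymmetricForm_of_herm h₂,
      isSymmetricForm_of_herm h₁, isTensorFormStructure_swap hT', tensorProductSubgroup_swap e P ▸ hle⟩))

end CfsgLib.Geo.Asch
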