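import Mathlib
import Cfsg.Prelude.Def_GeometricClasses
import Cfsg.Agent.Lib.Geo.AschOrthEven
import Cfsg.Agent.Lib.Geo.AschPlusTensor
import Cfsg.Agent.Lib.Geo.AschSympFull

/-! The structure theorem for maximal subgroups of Ω_8^-. -/

set_option autoImplicit false
set_option linter.unusedSectionVars false
set_option maxHeartbeats 1000000

namespace CfsgLib.Geo.Asch

open Cfsg Cfsg.Geo Matrix QuadraticMap CfsgLib.GeomClasses CfsgLib.Maximal.TensorTools CfsgLib.Maximal.TensorPower
open scoped MatrixGroups Kronecker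

variable {ι : Type} [Fintype ι] [DecidableEq ι] {F : Type*} [Field F] [Fintype F] {Q : (ι → F) → F}

/-- A tensor decomposition in characteristic two: both forms alternate and the canonical form vanishes on the basis. -/
theorem tensor_two_zero [Nonempty ι] {f : (ι → F) → (ι → F) → F} (h2 : (2 : F) = 0) (hf : IsSymplecticForm f)
    {H : Subgroup (GL ι F)} (hH : IsoGrp f H) (hirr : ActsIrreducibly (matrixSet H)) {a b : ℕ} (ha : 2 ≤ a) (hb : 2 ≤ b)
    {e : ι ≃ Fin a × Fin b} {P : GL ι F} {ε₁ ε₂ : F} {f₁ : (Fin a → F) → (Fin a → F) → F}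
    {f₂ : (Fin b → F) → (Fin b → F) → F} (h₁ : Herm (RingEquiv.refl F) ε₁ f₁) (h₂ : Herm (RingEquiv.refl F) ε₂ f₂)
    (hT : IsTensorFormStructure ((RingEquiv.refl F : F ≃+* F) : F → F) f f₁ f₂ e P)
    (hle : H ≤ tensorProductSubgroup a b e P) :
    (∀ x, f₁ x x = 0) ∧ ∃ Q : (ι → F) → F, IsNondegenerateQuadraticForm Q ∧
      (∀ u v, QuadraticMap.polar Q u v = f u v) ∧ H ≤ quadSimilarityGroup Q ∧
      ∀ p, Q (coord e P (Pi.single p 1)) = 0 := by
  haveI : Nonempty (Fin a) := ⟨⟨0, by omega⟩⟩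
  obtain ⟨Q, hsm, hpol, hinv, hz⟩ := exists_tensor_quad h2 hf hH hirr ha hb h₁ h₂ hT hle
  have hε : ε₁ = 1 := by
    rcases mul_self_eq_one_iff.1 (show ε₁ * ε₁ = 1 from h₁.eps_mul) with h | h
    · exact h
    · rw [h]; linear_combination (-1 : F) * h2
  have hs1 : ∀ x y, f₁ y x = f₁ x y := fun x y => by rw [h₁.symm x y, hε, one_mul]; rfl
  have hpol' : QuadraticMap.polar Q = f := funext fun u => funext fun v => hpol u v
  refine ⟨factor_alternating h2 hH hirr (a := b) (b := a) (by omega) ha h₂ h₁ hs1 (isTensorFormStructure_swap hT)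
    (tensorProductSubgroup_swap e P ▸ hle), Q, ⟨hsm, hpol' ▸ hf.bilinear, hpol' ▸ hf.nondegenerate⟩, hpol,
    fun g hg => ⟨1, fun v => by rw [Units.val_one, one_mul, hinv g hg]⟩, fun p => ?_⟩
  rw [show (Pi.single p (1 : F) : Fin a × Fin b → F) =
    CfsgLib.Maximal.TensorTools.pure (Pi.single p.1 1) (Pi.single p.2 1) by
    funext r; simp [CfsgLib.Maximal.TensorTools.pure, Pi.single_apply, Prod.ext_iff, ← ite_and, and_comm]]
  exact hz _ _

theorem quad_sum_orth (hQ : IsNondegenerateQuadraticForm Q) {α : Type*} (s : Finset α) (v : α → (ι → F))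
    (h : ∀ a ∈ s, ∀ b ∈ s, a ≠ b → polar Q (v a) (v b) = 0) : Q (∑ a ∈ s, v a) = ∑ a ∈ s, Q (v a) := by
  classical
  have hs := polar_isSesq hQ
  induction s using Finset.induction with
  | empty => simpa using hQ.smul 0 0
  | insert a s ha ih =>
    rw [Finset.sum_insert ha, Finset.sum_insert ha, quad_add hQ,
      ih fun x hx y hy => h x (Finset.mem_insert_of_mem hx) y (Finset.mem_insert_of_mem hy), hs.sum_right,
      Finset.sum_eq_zero fun b hb => h a (Finset.mem_insert_self a s) b (Finset.mem_insert_of_mem hb) fun hab => ha (hab ▸ hb),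
      add_zero]

/-- An irreducibly permuted orthogonal decomposition into an even number of blocks gives plus type. -/
theorem plus_of_decomposition [Nonempty ι] (hQ : IsNondegenerateQuadraticForm Q) {H : Subgroup (GL ι F)}
    (hHQ : ∀ g ∈ H, ∀ u, Q ((g : Matrix ι ι F) *ᵥ u) = Q u) (hirr : ActsIrreducibly (matrixSet H)) {t m h : ℕ}
    {D : Fin t → Submodule F (ι → F)} (hD : IsNondegenerateMDecomposition (polar Q) m D) (ht : t = 2 * h)
    (hev : Even (h * m)) (hle : H ≤ decompositionStabilizer D) : IsPlusTypeOn Q ⊤ := by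
  classical
  subst ht
  have hs := polar_isSesq hQ
  have h0 : 0 < h := by have := hD.decomp.two_le; omega
  let z : Fin (2 * h) := ⟨0, by omega⟩
  have hDne : ∀ i, D i ≠ ⊥ := fun i hb => by
    have := hD.decomp.finrank_eq i
    rw [hb, finrank_bot] at this
    exact hD.decomp.pos.ne this
  have htrans : ∀ j, ∃ g ∈ H, (D z).map (Matrix.toLin' (g : Matrix ι ι F)) = D j := by
    intro j
    by_contra hno
    push Not at hno
    let S : Submodule F (ι → F) := ⨆ (g : GL ι F) (_ : g ∈ H), (D z).map (Matrix.toLin' (g : Matrix ι ι F))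
    have hS : S = ⊤ := by
      refine (hirr S ?_).resolve_left ?_
      · rintro _ ⟨k, hk, rfl⟩
        simp only [S, Submodule.map_iSup]
        refine iSup₂_le fun g hg => le_iSup₂_of_le (k * g) (H.mul_mem hk hg) (le_of_eq ?_)
        simp only [← Submodule.map_comp, Units.val_mul, Matrix.toLin'_mul]
      · intro hb
        have h1 : (D z).map (Matrix.toLin' ((1 : GL ι F) : Matrix ι ι F)) ≤ S := le_iSup₂_of_le 1 H.one_mem le_rfl
        rw [hb] at h1
        simp at h1
        exact hDne z h1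
    have hle' : S ≤ ⨆ (i : Fin (2 * h)) (_ : i ≠ j), D i := by
      refine iSup₂_le fun g hg => ?_
      obtain ⟨τ, hτ⟩ := hle hg
      rw [hτ]
      exact le_iSup₂_of_le (τ z) (fun hzj => hno g hg (hzj ▸ hτ z)) le_rfl
    have hd := iSupIndep_def.1 hD.decomp.indep j
    rw [hS, top_le_iff] at hle'
    rw [hle', disjoint_top] at hd
    exact hDne j hd
  choose gs hgsH hgs using htrans
  let e : Fin h × Fin 2 ≃ Fin (2 * h) := finProdFinEquiv.trans (finCongr (mul_comm h 2))
  let Lp : Fin 2 → ((Fin h → D z) →ₗ[F] (ι → F)) := fun p =>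
    ∑ k, (Matrix.toLin' (gs (e (k, p)) : Matrix ι ι F)).comp ((D z).subtype.comp (LinearMap.proj k))
  have hLp : ∀ p x, Lp p x = ∑ k, (gs (e (k, p)) : Matrix ι ι F) *ᵥ (x k : ι → F) := fun p x => by
    simp [Lp]
  have hmem : ∀ j (w : D z), (gs j : Matrix ι ι F) *ᵥ (w : ι → F) ∈ D j := fun j w =>
    hgs j ▸ ⟨_, w.2, Matrix.toLin'_apply _ _⟩
  have hQp : ∀ p x, Q (Lp p x) = ∑ k, Q (x k : ι → F) := fun p x => by
    rw [hLp, quad_sum_orth hQ _ _ fun a _ b _ hab => hD.orthogonal _ _ (fun he => hab (by simpa using e.injective he))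
      _ (hmem _ _) _ (hmem _ _)]
    exact Finset.sum_congr rfl fun k _ => hHQ _ (hgsH _) _
  have hrange : ∀ k p, D (e (k, p)) ≤ LinearMap.range (Lp p) := fun k p w hw => by
    rw [← hgs (e (k, p))] at hw
    obtain ⟨w0, hw0, rfl⟩ := hw
    refine ⟨Pi.single k ⟨w0, hw0⟩, ?_⟩
    rw [hLp, Finset.sum_eq_single k (fun b _ hb => by simp [hb, Matrix.mulVec_zero]) (by simp), Matrix.toLin'_apply]
    simp
  have hk : Module.finrank F (Fin h → D z) = h * m := by
    rw [Module.finrank_pi_fintype, Finset.sum_const, Finset.card_univ, Fintype.card_fin, hD.decomp.finrank_eq,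
      smul_eq_mul]
  refine plus_of_similar_halves hQ (by rw [hk]; exact hev)
    (by rw [hk, ← mdecomposition_card hD.decomp]; ring) (Lp 0) (Lp 1) one_ne_zero
    (fun x => by rw [hQp, hQp, one_mul]) (fun x x' => ?_) ?_
  · rw [hLp, hLp, hs.sum_left]
    refine Finset.sum_eq_zero fun a _ => ?_
    rw [hs.sum_right]
    exact Finset.sum_eq_zero fun b _ =>
      hD.orthogonal _ _ (fun he => by simpa using (Prod.ext_iff.1 (e.injective he)).2) _ (hmem _ _) _ (hmem _ _)
  · rw [eq_top_iff, ← hD.decomp.iSup_eq_top]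
    refine iSup_le fun j => ?_
    obtain ⟨⟨k, p⟩, rfl⟩ := e.surjective j
    fin_cases p
    exacts [(hrange k 0).trans le_sup_left, (hrange k 1).trans le_sup_right]

/-- A pair of totally singular subspaces permuted irreducibly gives plus type. -/
theorem plus_of_pair (hQ : IsNondegenerateQuadraticForm Q) (hn : 3 ≤ Fintype.card ι) [Nonempty ι] {H : Subgroup (GL ι F)}
    (hHQ : ∀ g ∈ H, ∀ u, Q ((g : Matrix ι ι F) *ᵥ u) = Q u) (hirr : ActsIrreducibly (matrixSet H)) {m : ℕ}
    {D : Fin 2 → Submodule F (ι → F)} (hD : IsMDecomposition m D) (hTS : ∀ i, IsTotallySingularFor (polar Q) (D i))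
    (hle : H ≤ decompositionStabilizer D) : IsPlusTypeOn Q ⊤ := by
  classical
  have hs := polar_isSesq hQ
  have hz : Q 0 = 0 := by simpa using hQ.smul 0 0
  have hm := mdecomposition_card hD
  let K : Fin 2 → Submodule F (ι → F) := fun i =>
    { carrier := {v | v ∈ D i ∧ Q v = 0}
      zero_mem' := ⟨(D i).zero_mem, hz⟩
      add_mem' := fun {a b} ha hb => ⟨(D i).add_mem ha.1 hb.1, by
        rw [quad_add hQ, ha.2, hb.2, hTS i a ha.1 b hb.1]; ring⟩
      smul_mem' := fun c a ha => ⟨(D i).smul_mem c ha.1, by rw [hQ.smul, ha.2, mul_zero]⟩ }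
  rcases hirr (⨆ i, K i) (by
    rintro _ ⟨g, hg, rfl⟩
    obtain ⟨τ, hτ⟩ := hle hg
    rw [Submodule.map_iSup]
    refine iSup_le fun i => le_iSup_of_le (τ i) ?_
    rintro _ ⟨v, hv, rfl⟩
    refine ⟨hτ i ▸ ⟨v, hv.1, rfl⟩, ?_⟩
    rw [Matrix.toLin'_apply, hHQ g hg]
    exact hv.2) with hbot | htop
  · exfalso
    have h2 : (2 : F) = 0 := by
      by_contra h2
      obtain ⟨v, hv, hv0⟩ := Submodule.exists_mem_ne_zero_of_ne_bot (p := D 0) fun h => by
        have := hD.finrank_eq 0
        rw [h, finrank_bot] at this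
        exact hD.pos.ne this
      have hq : Q v = 0 := by
        have := hTS 0 v hv v hv
        rw [quad_polar_self hQ] at this
        exact (mul_eq_zero.1 this).resolve_left h2
      exact hv0 ((Submodule.mem_bot F).1 (hbot ▸ Submodule.mem_iSup_of_mem 0 ⟨hv, hq⟩))
    haveI : CharP F 2 := CharTwo.of_one_ne_zero_of_two_eq_zero one_ne_zero h2
    obtain ⟨v, hv, hv0⟩ := Submodule.exists_mem_ne_zero_of_ne_bot (p := D 0) fun h => by
      have := hD.finrank_eq 0
      rw [h, finrank_bot] at this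
      exact hD.pos.ne this
    obtain ⟨w, hw, hwv⟩ : ∃ w ∈ D 0, w ∉ Submodule.span F {v} := by
      by_contra h
      push Not at h
      have := Submodule.finrank_mono (show D 0 ≤ Submodule.span F {v} from h)
      rw [finrank_span_singleton hv0, hD.finrank_eq] at this
      omega
    have hzero : ∀ x ∈ D 0, Q x = 0 → x = 0 := fun x hx hq =>
      (Submodule.mem_bot F).1 (hbot ▸ Submodule.mem_iSup_of_mem 0 ⟨hx, hq⟩)
    have hQv : Q v ≠ 0 := fun h => hv0 (hzero v hv h)
    obtain ⟨r, hr⟩ := FiniteField.isSquare_of_char_two (ringChar.eq F 2) (Q w / Q v)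
    apply hwv
    have h3 : w + r • v = 0 := hzero _ ((D 0).add_mem hw ((D 0).smul_mem r hv)) (by
      rw [quad_add hQ, hQ.smul, hs.smul_right, hTS 0 w hw v hv, _root_.sq, ← hr, div_mul_cancel₀ _ hQv]
      linear_combination (Q w) * h2)
    exact Submodule.mem_span_singleton.2 ⟨-r, by rw [neg_smul, eq_comm, eq_neg_iff_add_eq_zero, h3]⟩
  · have hle0 : ⨆ i, K i ≤ K 0 ⊔ D 1 := iSup_le fun i => by
      fin_cases i
      exacts [le_sup_left, le_trans (fun v hv => hv.1) le_sup_right]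
    rw [htop, top_le_iff] at hle0
    have h1 := Submodule.finrank_add_le_finrank_add_finrank (K 0) (D 1)
    rw [hle0, finrank_top, Module.finrank_fintype_fun_eq_card, hD.finrank_eq] at h1
    exact plus_of_ts hQ (U := K 0) (fun v hv => hv.2) (by omega)

/-- Two plane tensor factors of the same symmetry force plus type. -/
theorem plus_of_zero_block (hQ : IsNondegenerateQuadraticForm Q) {κ : Type} [Fintype κ] [DecidableEq κ] (e : ι ≃ κ)
    (P : GL ι F) (S : Finset κ) (hS : Fintype.card ι ≤ 2 * S.card)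
    (h0 : ∀ k ∈ S, Q (coord e P (Pi.single k 1)) = 0)
    (hp : ∀ k ∈ S, ∀ l ∈ S, polar Q (coord e P (Pi.single k 1)) (coord e P (Pi.single l 1)) = 0) :
    IsPlusTypeOn Q ⊤ := by
  classical
  let w : S → (ι → F) := fun k => coord e P (Pi.single (k : κ) 1)
  have hli : LinearIndependent F w := by
    have h1 : LinearIndependent F (fun k : κ => (Pi.single k 1 : κ → F)) := by
      rw [show (fun k : κ => (Pi.single k 1 : κ → F)) = ⇑(Pi.basisFun F κ) from funext fun k => by simp]
      exact (Pi.basisFun F κ).linearIndependent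
    exact (h1.map' (coord e P).toLinearMap (coord e P).ker).comp _ Subtype.val_injective
  refine plus_of_ts hQ (U := Submodule.span F (Set.range w)) (ts_span hQ ?_ ?_) ?_
  · rintro _ ⟨k, rfl⟩
    exact h0 k k.2
  · rintro _ ⟨k, rfl⟩ _ ⟨l, rfl⟩
    exact hp k k.2 l l.2
  · rw [finrank_span_eq_card hli, Fintype.card_coe]
    exact hS

theorem symmetric_alt_or_orth {f₁ : (Fin 2 → F) → (Fin 2 → F) → F} (h₁ : Herm (RingEquiv.refl F) 1 f₁)
    (h2 : (2 : F) ≠ 0) : ∃ v w : Fin 2 → F, f₁ v v ≠ 0 ∧ f₁ w w ≠ 0 ∧ f₁ v w = 0 ∧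
      Submodule.span F {v, w} = ⊤ := by
  have hsym : ∀ x y, f₁ y x = f₁ x y := fun x y => by rw [h₁.symm x y, one_mul]; rfl
  obtain ⟨v, hv⟩ : ∃ v, f₁ v v ≠ 0 := by
    by_contra hall
    push Not at hall
    obtain ⟨x, hx⟩ := exists_ne (0 : Fin 2 → F)
    obtain ⟨⟨y, hy⟩, -⟩ := h₁.nondeg x hx
    have h := hall (x + y)
    rw [h₁.add_left, h₁.add_right, h₁.add_right, hall x, hall y, hsym y x] at h
    exact hy ((mul_eq_zero.1 (show (2 : F) * f₁ y x = 0 by linear_combination h)).resolve_left h2)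
  have hv0 : v ≠ 0 := fun h => hv (by rw [h, h₁.zero_left])
  obtain ⟨u, hu⟩ : ∃ u, u ∉ Submodule.span F {v} := by
    by_contra hall
    push Not at hall
    have := Submodule.finrank_mono (show (⊤ : Submodule F (Fin 2 → F)) ≤ Submodule.span F {v} from fun x _ => hall x)
    rw [finrank_span_singleton hv0, finrank_top, Module.finrank_fin_fun] at this
    omega
  set w := f₁ v v • u - f₁ v u • v with hw
  have hvw : f₁ v w = 0 := by
    rw [hw, h₁.sub_right, h₁.smul_right, h₁.smul_right]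
    show f₁ v v * f₁ v u - f₁ v u * f₁ v v = 0
    ring
  have hspan : Submodule.span F ({v, w} : Set (Fin 2 → F)) = ⊤ := by
    refine top_le_iff.1 (le_trans ?_ (show Submodule.span F ({v, u} : Set (Fin 2 → F)) ≤ _ from ?_))
    · refine (Submodule.eq_top_of_finrank_eq ?_).ge
      have hli : LinearIndependent F ![v, u] :=
        (LinearIndependent.pair_iff' hv0).2 fun a ha => hu (Submodule.mem_span_singleton.2 ⟨a, ha⟩)
      have h1 := finrank_span_eq_card hli
      rw [Matrix.range_cons, Matrix.range_cons, Matrix.range_empty, Set.union_empty, Set.singleton_union,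
        Fintype.card_fin] at h1
      rw [Module.finrank_fin_fun]
      exact h1
    · rw [Submodule.span_le]
      rintro x (rfl | rfl)
      · exact Submodule.subset_span (by simp)
      · rw [show x = (f₁ v v)⁻¹ • w + ((f₁ v v)⁻¹ * f₁ v x) • v by
          rw [hw, smul_sub, smul_smul, smul_smul, inv_mul_cancel₀ hv, one_smul]; abel]
        exact add_mem (Submodule.smul_mem _ _ (Submodule.subset_span (by simp)))
          (Submodule.smul_mem _ _ (Submodule.subset_span (by simp)))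
  refine ⟨v, w, hv, fun hww => ?_, hvw, hspan⟩
  have hw0 : w ≠ 0 := fun h => hu (Submodule.mem_span_singleton.2 ⟨(f₁ v v)⁻¹ * f₁ v u, by
    have h' : f₁ v v • u = f₁ v u • v := sub_eq_zero.1 (hw ▸ h)
    rw [mul_smul, ← h', inv_smul_smul₀ hv]⟩)
  obtain ⟨⟨x, hx⟩, -⟩ := h₁.nondeg w hw0
  obtain ⟨a, b, rfl⟩ := Submodule.mem_span_pair.1 (hspan ▸ Submodule.mem_top : x ∈ Submodule.span F {v, w})
  apply hx
  rw [h₁.add_left, h₁.smul_left, h₁.smul_left, hvw, hww]
  ring

/-- The linear map `y ↦ x ⊗ y`. -/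
noncomputable def pureMap {a b : ℕ} (e : ι ≃ Fin a × Fin b) (P : GL ι F) (x : Fin a → F) :
    (Fin b → F) →ₗ[F] (ι → F) where
  toFun y := coord e P (CfsgLib.Maximal.TensorTools.pure x y)
  map_add' y y' := by
    rw [← map_add]; congr 1; funext p; simp [CfsgLib.Maximal.TensorTools.pure, mul_add]
  map_smul' r y := by
    rw [RingHom.id_apply, ← map_smul]; congr 1; funext p; simp [CfsgLib.Maximal.TensorTools.pure, mul_left_comm]

/-- A tensor product of two symmetric forms on spaces of even dimensions 2 and b is of plus type. -/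
theorem plus_of_tensor_symmetric [Nonempty ι] (hQ : IsNondegenerateQuadraticForm Q) (h2 : (2 : F) ≠ 0) {b : ℕ}
    (hb : Even b) {e : ι ≃ Fin 2 × Fin b} {P : GL ι F} {f₁ : (Fin 2 → F) → (Fin 2 → F) → F}
    {f₂ : (Fin b → F) → (Fin b → F) → F} (h₁ : Herm (RingEquiv.refl F) 1 f₁) (h₂ : Herm (RingEquiv.refl F) 1 f₂)
    (hT : IsTensorFormStructure ((RingEquiv.refl F : F ≃+* F) : F → F) (polar Q) f₁ f₂ e P) :
    IsPlusTypeOn Q ⊤ := by
  classical
  obtain ⟨c, hc, hform⟩ := form_coord hT h₁ h₂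
  obtain ⟨v, w, hv, hw, hvw, hspan⟩ := symmetric_alt_or_orth h₁ h2
  let L : (Fin 2 → F) → ((Fin b → F) →ₗ[F] (ι → F)) := pureMap e P
  have hQL : ∀ x y, (2 : F) * Q (L x y) = c * (f₁ x x * f₂ y y) := fun x y => by
    rw [← quad_polar_self hQ]
    exact hform x y x y
  refine plus_of_similar_halves hQ (by rw [Module.finrank_fin_fun]; exact hb)
    (by rw [Module.finrank_fin_fun, Fintype.card_congr e]; simp) (L v) (L w) (div_ne_zero hw hv) (fun y => ?_)
    (fun y y' => ?_) ?_
  · apply mul_left_cancel₀ h2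
    rw [hQL, mul_left_comm (2 : F), hQL]
    field_simp
  · show polar Q (coord e P _) (coord e P _) = 0
    rw [← show c * (f₁ v w * f₂ y y') = 0 by rw [hvw]; ring]
    exact hform v y w y'
  · rw [eq_top_iff]
    rintro x -
    obtain ⟨z, rfl⟩ := (coord e P).surjective x
    have hz : z = ∑ i, CfsgLib.Maximal.TensorTools.pure (Pi.single i (1 : F)) (fun j => z (i, j)) := by
      funext p
      rw [Finset.sum_apply, Finset.sum_eq_single p.1 (fun i _ hi => by
        simp [CfsgLib.Maximal.TensorTools.pure, hi.symm]) (by simp)]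
      simp [CfsgLib.Maximal.TensorTools.pure]
    rw [hz, map_sum]
    refine Submodule.sum_mem _ fun i _ => ?_
    obtain ⟨a, d, had⟩ := Submodule.mem_span_pair.1
      (hspan ▸ Submodule.mem_top : (Pi.single i (1 : F) : Fin 2 → F) ∈ Submodule.span F {v, w})
    set y : Fin b → F := fun j => z (i, j)
    have : coord e P (CfsgLib.Maximal.TensorTools.pure (Pi.single i (1 : F)) y) = a • L v y + d • L w y := by
      show _ = a • coord e P _ + d • coord e P _
      rw [← map_smul, ← map_smul, ← map_add, ← had]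
      congr 1
      funext p
      simp [CfsgLib.Maximal.TensorTools.pure, add_mul, mul_assoc]
    rw [this]
    exact add_mem (Submodule.smul_mem _ _ (Submodule.mem_sup_left ⟨y, rfl⟩))
      (Submodule.smul_mem _ _ (Submodule.mem_sup_right ⟨y, rfl⟩))

/-- Two quadratic forms with one polar form fixed by an irreducible group in characteristic two coincide. -/
theorem quad_eq_of_similarity [Nonempty ι] (hn2 : 2 ≤ Fintype.card ι) (h2 : (2 : F) = 0)
    (hQ : IsNondegenerateQuadraticForm Q) {H : Subgroup (GL ι F)}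
    (hHQ : ∀ g ∈ H, ∀ u, Q ((g : Matrix ι ι F) *ᵥ u) = Q u) (hirr : ActsIrreducibly (matrixSet H))
    {Q' : (ι → F) → F} (hQ' : IsNondegenerateQuadraticForm Q') (hpol : ∀ u v, polar Q' u v = polar Q u v)
    (hle : H ≤ quadSimilarityGroup Q') : ∀ v, Q v = Q' v := by
  have h0 := quadratic_defect_eq_zero hn2 h2 hirr (fun v => Q v - Q' v)
    (fun u v => by
      have := hpol u v
      simp only [quad_add hQ, quad_add hQ', this]; ring)
    (fun c v => by simp only [hQ.smul, hQ'.smul]; ring) (fun g hg v => by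
      obtain ⟨μ, hμ⟩ := hle hg
      obtain ⟨x, hx⟩ := exists_ne (0 : ι → F)
      obtain ⟨-, y, hy⟩ := hQ.nondegenerate x hx
      have h1 : polar Q' ((g : Matrix ι ι F) *ᵥ x) ((g : Matrix ι ι F) *ᵥ y) = (μ : F) * polar Q' x y := by
        simp only [polar, ← Matrix.mulVec_add, hμ]; ring
      have h3 : polar Q ((g : Matrix ι ι F) *ᵥ x) ((g : Matrix ι ι F) *ᵥ y) = polar Q x y := by
        simp only [polar, ← Matrix.mulVec_add, hHQ g hg]
      rw [hpol, hpol, h3] at h1
      have hμ1 : (μ : F) = 1 := (mul_right_cancel₀ hy ((one_mul _).trans h1)).symm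
      simp only [hHQ g hg, hμ, hμ1, one_mul])
  exact fun v => sub_eq_zero.1 (h0 v)

/-- A group of symplectic type of degree eight fixing the form gives plus type. -/
theorem plus_of_typeR [Nonempty ι] (hQ : IsNondegenerateQuadraticForm Q) (hn : Fintype.card ι = 8) {r m : ℕ}
    {N : Subgroup (GL ι F)} (hR : TypeR r m N) (hNQ : ∀ g ∈ N, ∀ u, Q ((g : Matrix ι ι F) *ᵥ u) = Q u) :
    IsPlusTypeOn Q ⊤ := by
  classical
  have hs := polar_isSesq hQ
  obtain rfl : r = 2 := by
    have h := hR.deg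
    rw [hn] at h
    have hr2 : r ∣ 2 ^ 3 := by
      rcases Nat.eq_zero_or_pos m with rfl | hm
      · simp at h
      rw [show (2 : ℕ) ^ 3 = 8 from rfl, h]
      exact dvd_pow_self r hm.ne'
    exact (Nat.prime_dvd_prime_iff_eq hR.prime Nat.prime_two).1 (hR.prime.dvd_of_dvd_pow hr2)
  obtain rfl : m = 3 := Nat.pow_right_injective le_rfl (hR.deg.symm.trans hn)
  have h2 : (2 : F) ≠ 0 := by simpa using hR.prime_ne_zero
  have hsc : ∀ g ∈ N, g ∈ scalars ι F → g = 1 ∨ g = -1 := by
    intro g hg hgs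
    obtain ⟨c, hc⟩ := (mem_scalars_iff g).1 hgs
    obtain ⟨v, hv⟩ := exists_ne (0 : ι → F)
    obtain ⟨-, w, hw⟩ := hQ.nondegenerate v hv
    have h1 : polar Q ((g : Matrix ι ι F) *ᵥ v) ((g : Matrix ι ι F) *ᵥ w) = polar Q v w := by
      simp only [polar, ← Matrix.mulVec_add, hNQ g hg]
    rw [hc, Matrix.smul_mulVec, Matrix.smul_mulVec, Matrix.one_mulVec, Matrix.one_mulVec, hs.smul_left,
      hs.smul_right, RingHom.id_apply, ← mul_assoc] at h1
    rcases mul_self_eq_one_iff.1 (mul_right_cancel₀ hw (h1.trans (one_mul _).symm)) with h | h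
    · exact Or.inl (Units.ext (by rw [hc, h, one_smul, Units.val_one]))
    · exact Or.inr (Units.ext (by rw [hc, h, Units.val_neg, Units.val_one, neg_one_smul]))
  have hns1 : ∀ g : GL ι F, g = 1 ∨ g = -1 → g ∈ scalars ι F := by
    rintro g (rfl | rfl)
    · exact (scalars ι F).one_mem
    · exact (mem_scalars_iff _).2 ⟨-1, by simp⟩
  -- a non-scalar involution
  obtain ⟨x, hx, hxs, hx2⟩ : ∃ x ∈ N, x ∉ scalars ι F ∧ x * x = 1 := by
    by_contra hall
    push Not at hall
    obtain ⟨x, hx, hxs⟩ := hR.exists_nonscalar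
    have hsq : ∀ g ∈ N, g ∉ scalars ι F → g * g = -1 := fun g hg hgs =>
      (hsc _ (N.mul_mem hg hg) (by simpa [_root_.sq] using hR.pow_mem g hg)).resolve_left (hall g hg hgs)
    obtain ⟨y, hy, s, hsr, -, -, hyx⟩ := hR.exists_comm hx hxs
    have hs1 : s = -1 := hsr.eq_neg_one_of_two_right
    have hxy : y * x = -(x * y) := Units.ext (by
      have h1 := congrArg (· * (y : Matrix ι ι F)) hyx
      simp only [hs1, neg_one_smul, ← Units.val_mul, inv_mul_cancel_right, neg_mul] at h1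
      rw [Units.val_neg]
      exact h1)
    have hclass : ∀ g ∈ N, g * x = x * g → g = 1 ∨ g = -1 ∨ g = x ∨ g = -x := by
      intro g hg hgx
      by_cases hgs : g ∈ scalars ι F
      · rcases hsc g hg hgs with h | h <;> simp [h]
      by_cases hgxs : g * x ∈ scalars ι F
      swap
      · exfalso
        refine hall _ (N.mul_mem hg hx) hgxs ?_
        rw [mul_assoc, ← mul_assoc x g x, ← hgx, mul_assoc g x x, ← mul_assoc g g, hsq g hg hgs, hsq x hx hxs]
        simp
      have hxinv : x⁻¹ = -x := inv_eq_of_mul_eq_one_right (by rw [mul_neg, hsq x hx hxs, neg_neg])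
      rcases hsc _ (N.mul_mem hg hx) hgxs with h | h
      · exact Or.inr (Or.inr (Or.inr (by rw [← hxinv]; exact eq_inv_of_mul_eq_one_left h)))
      · refine Or.inr (Or.inr (Or.inl ?_))
        rw [eq_mul_inv_of_mul_eq h, hxinv, neg_mul_neg, one_mul]
    let S : Finset (GL ι F) := {1, -1, x, -x, y⁻¹, -y⁻¹, x * y⁻¹, -x * y⁻¹}
    have hsub : ∀ g ∈ N, g ∈ S := by
      intro g hg
      obtain ⟨c, hc⟩ := (mem_scalars_iff _).1 (hR.cls g hg x hx)
      have hmem : g * x * g⁻¹ * x⁻¹ ∈ N := N.mul_mem (N.mul_mem (N.mul_mem hg hx) (N.inv_mem hg)) (N.inv_mem hx)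
      rcases hsc _ hmem (hR.cls g hg x hx) with h | h
      · have hgx : g * x = x * g := by
          calc g * x = (g * x * g⁻¹ * x⁻¹) * (x * g) := by group
            _ = x * g := by rw [h, one_mul]
        rcases hclass g hg hgx with h' | h' | h' | h' <;> simp [S, h']
      · have hgx : g * x = -(x * g) := by
          calc g * x = (g * x * g⁻¹ * x⁻¹) * (x * g) := by group
            _ = _ := by rw [h, neg_one_mul]
        have hgy : g * y * x = x * (g * y) := by
          rw [mul_assoc, hxy, mul_neg, ← mul_assoc, hgx, neg_mul, neg_neg, mul_assoc]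
        rcases hclass _ (N.mul_mem hg hy) hgy with h' | h' | h' | h' <;>
          simp [S, eq_mul_inv_of_mul_eq h']
    have hcard : Nat.card N ≤ 8 := by
      rw [show Nat.card N = ((N : Set (GL ι F))).ncard from (Nat.card_coe_set_eq _)]
      refine (Set.ncard_le_ncard (t := (S : Set (GL ι F))) hsub S.finite_toSet).trans ?_
      rw [Set.ncard_coe_finset]
      simp only [S]
      iterate 7 refine (Finset.card_insert_le _ _).trans (Nat.succ_le_succ ?_)
      rw [Finset.card_singleton]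
    rw [hR.card_eq] at hcard
    have := Nat.card_pos (α := Subgroup.center N)
    omega
  obtain ⟨y, hy, s, hsr, -, -, hyx⟩ := hR.exists_comm hx hxs
  have hs1 : s = -1 := hsr.eq_neg_one_of_two_right
  set X : Matrix ι ι F := (x : Matrix ι ι F)
  set Y : Matrix ι ι F := (y : Matrix ι ι F)
  have hXX : ∀ v, X *ᵥ (X *ᵥ v) = v := fun v => by
    rw [Matrix.mulVec_mulVec, ← Units.val_mul, hx2, Units.val_one, Matrix.one_mulVec]
  have hYX : ∀ v, Y *ᵥ (X *ᵥ v) = -(X *ᵥ (Y *ᵥ v)) := fun v => by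
    have h1 := congrArg (· * Y) hyx
    simp only [Y, hs1, ← Units.val_mul, inv_mul_cancel_right, Matrix.smul_mul] at h1
    rw [Units.val_mul] at h1
    rw [Matrix.mulVec_mulVec, h1, Matrix.smul_mulVec, neg_one_smul, Matrix.mulVec_mulVec]
  let M : Submodule F (ι → F) := LinearMap.ker (Matrix.toLin' X - LinearMap.id)
  have hM : ∀ {v}, v ∈ M ↔ X *ᵥ v = v := fun {v} => by
    simp [M, sub_eq_zero, Matrix.toLin'_apply]
  have hpol : ∀ (g : GL ι F), g ∈ N → ∀ u v, polar Q ((g : Matrix ι ι F) *ᵥ u) ((g : Matrix ι ι F) *ᵥ v) = polar Q u v :=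
    fun g hg u v => by simp only [polar, ← Matrix.mulVec_add, hNQ g hg]
  have hneg : ∀ {v}, v ∈ M → X *ᵥ (Y *ᵥ v) = -(Y *ᵥ v) := fun {v} hv => by
    conv_rhs => rw [← hM.1 hv, hYX, neg_neg]
  let L' := (Matrix.toLin' Y).comp M.subtype
  have hsup : LinearMap.range M.subtype ⊔ LinearMap.range L' = ⊤ := by
    rw [eq_top_iff]
    rintro v -
    have hp : (2 : F)⁻¹ • (v + X *ᵥ v) ∈ M := hM.2 (by rw [Matrix.mulVec_smul, Matrix.mulVec_add, hXX, add_comm])
    set w := ((y⁻¹ : GL ι F) : Matrix ι ι F) *ᵥ ((2 : F)⁻¹ • (v - X *ᵥ v)) with hw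
    have hYw : Y *ᵥ w = (2 : F)⁻¹ • (v - X *ᵥ v) := gl_mulVec_inv_mulVec y _
    have hwM : w ∈ M := hM.2 (gl_mulVec_injective y (by
      show Y *ᵥ (X *ᵥ w) = Y *ᵥ w
      rw [hYX, hYw, Matrix.mulVec_smul, Matrix.mulVec_sub, hXX, ← smul_neg, neg_sub]))
    rw [show v = (2 : F)⁻¹ • (v + X *ᵥ v) + Y *ᵥ w by
      rw [hYw, ← smul_add, show v + X *ᵥ v + (v - X *ᵥ v) = (2 : F) • v by rw [two_smul]; abel,
        inv_smul_smul₀ h2]]
    exact Submodule.mem_sup.2 ⟨_, ⟨⟨_, hp⟩, rfl⟩, _, ⟨⟨w, hwM⟩, Matrix.toLin'_apply _ _⟩, rfl⟩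
  have hdis : LinearMap.range M.subtype ⊓ LinearMap.range L' = ⊥ := by
    rw [eq_bot_iff]
    rintro v ⟨⟨a, ha⟩, ⟨b, hb⟩⟩
    have h1 : X *ᵥ v = v := hM.1 (ha ▸ a.2)
    have h3 : X *ᵥ v = -v := by rw [← hb]; show X *ᵥ (Matrix.toLin' Y _) = _; rw [Matrix.toLin'_apply]; exact hneg b.2
    have h4 : (2 : F) • v = 0 := by rw [two_smul]; nth_rw 2 [← h1]; rw [h3, add_neg_cancel]
    exact (Submodule.mem_bot F).2 ((smul_eq_zero.1 h4).resolve_left h2)
  have hd := Submodule.finrank_sup_add_finrank_inf_eq (LinearMap.range M.subtype) (LinearMap.range L')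
  rw [hsup, hdis, finrank_top, finrank_bot, Module.finrank_fintype_fun_eq_card, Submodule.range_subtype] at hd
  have hL' : Module.finrank F (LinearMap.range L') = Module.finrank F M :=
    LinearMap.finrank_range_of_inj fun a b hab => Subtype.ext (gl_mulVec_injective y (by
      simpa [L', Y, Matrix.toLin'_apply] using hab))
  refine plus_of_similar_halves hQ (M := M) ⟨2, by omega⟩ (by omega) M.subtype L' one_ne_zero
    (fun a => by rw [one_mul]; exact hNQ y hy _) (fun a b => ?_) hsup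
  show polar Q (a : ι → F) (Matrix.toLin' Y (b : ι → F)) = 0
  rw [Matrix.toLin'_apply]
  have h1 := hpol x hx (a : ι → F) (Y *ᵥ (b : ι → F))
  rw [show X *ᵥ (a : ι → F) = a from hM.1 a.2, hneg b.2, ← neg_one_smul F (Y *ᵥ (b : ι → F)), hs.smul_right,
    RingHom.id_apply] at h1
  exact (mul_eq_zero.1 (show (2 : F) * polar Q (a : ι → F) (Y *ᵥ (b : ι → F)) = 0 by linear_combination -h1)).resolve_left h2

theorem isUnit_kron_reindex {G : Matrix (Fin 2) (Fin 2) F} (hG : IsUnit G) :
    IsUnit (Matrix.reindex fin22 fin22 (G ⊗ₖ G)) := by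
  rw [Matrix.isUnit_iff_isUnit_det, Matrix.det_reindex_self, Matrix.det_kronecker]
  have h := (Matrix.isUnit_iff_isUnit_det _).1 hG
  exact (h.pow _).mul (h.pow _)

/-- Maximal subgroups of Ω in degree eight with a form of minus type. -/
theorem orth_minus_eight_cases (hn : Fintype.card ι = 8) (hQ : IsNondegenerateQuadraticForm Q)
    (hminus : ¬ IsPlusTypeOn Q ⊤) {H : Subgroup (GL ι F)} (hH : IsMaximalIn (omegaGL Q) H) :
    (∃ W : Submodule F (ι → F), W ≠ ⊥ ∧ IsTotallySingularQuad Q W ∧ H = subspaceStabilizer W ⊓ omegaGL Q) ∨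
    (¬ Odd (Fintype.card F) ∧ ∃ v : ι → F, Q v ≠ 0 ∧
      H = subspaceStabilizer (Submodule.span F {v}) ⊓ omegaGL Q) ∨
    (∃ W : Submodule F (ι → F), W ≠ ⊥ ∧ W ≠ ⊤ ∧ IsNondegenerateOn (polar Q) W ∧
      2 * Module.finrank F W ≤ Fintype.card ι ∧
      ¬ (Fintype.card F ≤ 3 ∧ Module.finrank F W = 2 ∧ IsPlusTypeOn Q W) ∧
      (Odd (Module.finrank F W) → Odd (Fintype.card F)) ∧ H = subspaceStabilizer W ⊓ omegaGL Q) ∨
    (∃ K : Subalgebra F (Matrix ι ι F), IsFieldSubalgebra 2 K ∧ H = subalgebraNormalizer K ⊓ omegaGL Q) ∨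
    (∃ (F₀ : Subfield F) (r : ℕ) (P : GL ι F) (ζ : F), r.Prime ∧ Odd r ∧ Fintype.card F = Nat.card F₀ ^ r ∧ ζ ≠ 0 ∧
      IsQuadFormRationalStructure (fun v => ζ * Q v) F₀ P ∧ H = subfieldSubgroup F₀ P ⊓ omegaGL Q) ∨
    InOrthogonalResidualClass H := by
  classical
  haveI : Nonempty ι := Fintype.card_pos_iff.1 (by omega)
  have h7 : 7 ≤ Fintype.card ι := by omega
  have hn2 : 2 ≤ Fintype.card ι := by omega
  by_cases hirr : ActsIrreducibly (matrixSet H)
  swap
  · rcases orth_even_reducible hQ h7 hH hirr with h | h | h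
    exacts [Or.inl h, Or.inr (Or.inl h), Or.inr (Or.inr (Or.inl h))]
  refine Or.inr (Or.inr (Or.inr ?_))
  have hHQ : ∀ g ∈ H, ∀ u, Q ((g : Matrix ι ι F) *ᵥ u) = Q u := fun g hg u =>
    isometry_of_omega (hH.1.le hg) u 0
  have hh := herm_polar hQ
  have hHf : IsoGrp (polar Q) H := fun g hg => omega_polar hQ (hH.1.le hg)
  have hQ0 : (2 : F) ≠ 0 → ∀ v, polar Q v v = 0 → Q v = 0 := fun h2 v hv => by
    rw [quad_polar_self hQ] at hv
    exact (mul_eq_zero.1 hv).resolve_left h2
  have hsymp : (2 : F) = 0 → IsSymplecticForm (polar Q) := fun h2 => ⟨hQ.polar_bilinear, fun a b => by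
    rw [polar_comm]; linear_combination (polar Q b a) * h2, fun a => by
    rw [quad_polar_self hQ]; linear_combination (Q a) * h2, hQ.nondegenerate⟩
  rcases irreducible_cases hn2 hh hHf hirr with hg | ⟨N, hNH, hinv, hns, hspan, hmin, hcase⟩
  · rcases hg with ⟨t, m, D, hD, hle⟩ | ⟨m, D, hD, hTS, hle⟩ | ⟨s, K, hsp, hK, -, hHK⟩ |
      ⟨a, b, e, P, ε₁, ε₂, f₁, f₂, ha, hb, h₁, h₂, hε, -, hT, hle⟩
    · exfalso
      have hcard := mdecomposition_card hD.decomp
      rw [hn] at hcard
      have ht2 := hD.decomp.two_le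
      have hd : t ∣ 8 := ⟨m, hcard.symm⟩
      have hle8 := Nat.le_of_dvd (by norm_num) hd
      obtain ⟨h, rfl, hev⟩ : ∃ h, t = 2 * h ∧ Even (h * m) := by
        rcases (show (t = 2 ∧ m = 4) ∨ (t = 4 ∧ m = 2) ∨ (t = 8 ∧ m = 1) by
          interval_cases t <;> omega) with ⟨rfl, rfl⟩ | ⟨rfl, rfl⟩ | ⟨rfl, rfl⟩
        · exact ⟨1, rfl, by decide⟩
        · exact ⟨2, rfl, by decide⟩
        · exact ⟨4, rfl, by decide⟩
      exact hminus (plus_of_decomposition hQ hHQ hirr hD rfl hev hle)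
    · exact absurd (plus_of_pair hQ (by omega) hHQ hirr hD hTS hle) hminus
    · refine Or.inl ⟨K, ?_, eq_inf_of_le hH (le_subalgebraNormalizer hHK) (omega_not_le_field_even hQ h7 hsp.one_lt hK)⟩
      have hd := isFieldSubalgebra_dvd hK
      rw [hn, show (8 : ℕ) = 2 ^ 3 from rfl] at hd
      rwa [← (Nat.prime_dvd_prime_iff_eq hsp Nat.prime_two).1 (hsp.dvd_of_dvd_pow hd)]
    · exfalso
      -- orient the plane factor first
      obtain ⟨e, f₁, f₂, η₁, η₂, h₁, h₂, hη, hT, hle⟩ : ∃ (e : ι ≃ Fin 2 × Fin 4)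
          (f₁ : (Fin 2 → F) → (Fin 2 → F) → F) (f₂ : (Fin 4 → F) → (Fin 4 → F) → F) (η₁ η₂ : F),
          Herm (RingEquiv.refl F) η₁ f₁ ∧ Herm (RingEquiv.refl F) η₂ f₂ ∧ η₁ * η₂ = 1 ∧
          IsTensorFormStructure ((RingEquiv.refl F : F ≃+* F) : F → F) (polar Q) f₁ f₂ e P ∧
          H ≤ tensorProductSubgroup 2 4 e P := by
        have hab : a * b = 8 := by
          have := Fintype.card_congr e
          simp only [Fintype.card_prod, Fintype.card_fin, hn] at this
          exact this.symm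
        have ha8 : a ≤ 4 := by nlinarith
        interval_cases a
        · obtain rfl : b = 4 := by omega
          exact ⟨e, f₁, f₂, ε₁, ε₂, h₁, h₂, hε, hT, hle⟩
        · omega
        · obtain rfl : b = 2 := by omega
          exact ⟨e.trans (Equiv.prodComm _ _), f₂, f₁, ε₂, ε₁, h₂, h₁, by rw [mul_comm]; exact hε,
            isTensorFormStructure_swap hT, tensorProductSubgroup_swap e P ▸ hle⟩
      let S : Finset (Fin 2 × Fin 4) := Finset.univ.filter fun p => p.1 = 0
      have hScard : Fintype.card ι ≤ 2 * S.card := by rw [hn]; decide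
      obtain ⟨c, hc, hform⟩ := form_coord hT h₁ h₂
      have hsingle : ∀ p : Fin 2 × Fin 4, (Pi.single p (1 : F) : Fin 2 × Fin 4 → F) =
          CfsgLib.Maximal.TensorTools.pure (Pi.single p.1 1) (Pi.single p.2 1) := fun p => by
        funext r; simp [CfsgLib.Maximal.TensorTools.pure, Pi.single_apply, Prod.ext_iff, ← ite_and, and_comm]
      have hzero : (∀ x, f₁ x x = 0) → ∀ k ∈ S, ∀ l ∈ S,
          polar Q (coord e P (Pi.single k 1)) (coord e P (Pi.single l 1)) = 0 := fun halt k hk l hl => by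
        simp only [S, Finset.mem_filter, Finset.mem_univ, true_and] at hk hl
        rw [hsingle, hsingle, hform, hk, hl, halt]; ring
      by_cases h2 : (2 : F) = 0
      · obtain ⟨halt, Q', hQ', hpol, hle', h0⟩ :=
          tensor_two_zero h2 (hsymp h2) hHf hirr (by norm_num) (by norm_num) h₁ h₂ hT hle
        have heq := quad_eq_of_similarity hn2 h2 hQ hHQ hirr hQ' hpol hle'
        exact hminus (plus_of_zero_block hQ e P S hScard (fun k _ => by rw [heq, h0]) (hzero halt))
      rcases mul_self_eq_one_iff.1 (show η₁ * η₁ = 1 from h₁.eps_mul) with rfl | rfl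
      · rw [one_mul] at hη
        subst hη
        exact hminus (plus_of_tensor_symmetric hQ h2 ⟨2, rfl⟩ h₁ h₂ hT)
      · have halt : ∀ x, f₁ x x = 0 := fun x => (mul_eq_zero.1 (show (2 : F) * f₁ x x = 0 by
          have h := h₁.symm x x
          simp only [RingEquiv.refl_apply] at h
          linear_combination h)).resolve_left h2
        exact hminus (plus_of_zero_block hQ e P S hScard (fun k hk => hQ0 h2 _ (hzero halt k hk k hk)) (hzero halt))
  have hNf : FixesForm (matrixSet N) (polar Q) := by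
    rintro _ ⟨g, hg, rfl⟩ u v
    exact hHf g (hNH hg) u v
  rcases hcase with ⟨hcl, -⟩ | ⟨hperf, hcl⟩
  · obtain ⟨r, m, -, hR⟩ := exists_typeR (by omega) hinv hspan hcl hmin
    exact absurd (plus_of_typeR hQ hn hR fun g hg => hHQ g (hNH hg)) hminus
  rcases simple_or_family_groups hNH hinv hspan hcl hmin with
    hsimple | ⟨a, t, ψ, ha, ht, hcard, hcomm, hgrp, hperm⟩
  · by_cases hreal : ∃ F₀ : Subfield F, F₀ ≠ ⊤ ∧ RealisableOver F₀ (matrixSet N)
    · obtain ⟨F₀, h0, hr⟩ := hreal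
      obtain ⟨F₁, r, P, hrp, hc, hle, hrat⟩ := exists_rational_subfield hspan hinv h0 hr
      obtain ⟨ζ, hζ, hform⟩ := exists_quad_rational_scalar hQ hn2 hspan (fun g hg => hHQ g (hNH hg)) F₁ P hrat
      have hrodd : Odd r := hrp.odd_of_ne_two fun h2 => hminus
        (plus_of_index_two hQ (h2 ▸ hc) (by rw [hn]; decide) hn2 P hζ hform)
      exact Or.inr (Or.inl ⟨F₁, r, P, ζ, hrp, hrodd, hc, hζ, hform,
        eq_inf_of_le hH hle (omega_not_le_subfield hQ h7 (subfield_ne_top hrp hc) P)⟩)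
    refine Or.inr (Or.inr ⟨N, residualCore_of_simple hNH hinv hspan hperf hns hsimple
      (fun F₀ h0 hr => hreal ⟨F₀, h0, hr⟩), ?_⟩)
    rintro ⟨σ, f, hf, hfix⟩
    exact hreal (realisable_of_bilinear hspan hf hfix (polar_isSesq hQ) hQ.nondegenerate hNf)
  exfalso
  obtain ⟨rfl, rfl⟩ : a = 2 ∧ t = 3 := by
    rw [hn] at hcard
    have hd : a ∣ 2 ^ 3 := ⟨a ^ (t - 1), by rw [← pow_succ', Nat.sub_add_cancel (by omega)]; exact hcard⟩
    obtain ⟨j, hj, rfl⟩ := (Nat.dvd_prime_pow Nat.prime_two).1 hd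
    have h3 : 3 = j * t := Nat.pow_right_injective le_rfl (by simpa [← pow_mul] using hcard)
    interval_cases j
    · simp at ha
    · exact ⟨rfl, by omega⟩
    · omega
    · exfalso; omega
  obtain ⟨e, P, G, c, ε₁, hc, hG, hsym, hεσ, hεt, hform, hle⟩ :=
    exists_power_form hh ha ht hcard hcomm hHf hNH hspan hinv hmin hgrp hperm
  change ε₁ * ε₁ = 1 at hεσ
  obtain rfl : ε₁ = 1 := by
    have h3 : c * ε₁ ^ 3 = c * 1 := by
      rw [hεt, mul_one, one_mul]; rfl
    have h4 := mul_left_cancel₀ hc h3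
    rw [pow_succ, _root_.sq, hεσ, one_mul] at h4
    exact h4
  have hsym' : ∀ p q, G q p = G p q := fun p q => by rw [hsym p q, one_mul]; rfl
  by_cases h2 : (2 : F) = 0
  · have hdiag : ∀ p, G p p = 0 := fun p => by
      have h := (hsymp h2).alternating (CfsgLib.Maximal.TensorTools.coord e P (Pi.single (fun _ => p) 1))
      rw [hform, formOfGram_single] at h
      simp only [pm, Finset.prod_const, Finset.card_univ, Fintype.card_fin] at h
      exact (pow_eq_zero_iff (by omega : (3 : ℕ) ≠ 0)).1 ((mul_eq_zero.1 h).resolve_left hc)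
    obtain ⟨Q', hQ', hpol, hle', h0⟩ := hasQuad_of_power_zero h2 (hsymp h2) hHf (by norm_num) hc hsym' hdiag hform hle
    have heq := quad_eq_of_similarity hn2 h2 hQ hHQ hirr hQ' hpol hle'
    refine hminus (plus_of_zero_block hQ e P (Finset.univ.filter fun x => x 0 = 0) (by rw [hn]; decide)
      (fun k _ => by rw [heq, h0]) fun k hk l hl => ?_)
    simp only [Finset.mem_filter, Finset.mem_univ, true_and] at hk hl
    rw [hform, formOfGram_single]
    have : pm (fun _ => G) k l = 0 := Finset.prod_eq_zero (Finset.mem_univ 0) (by show G (k 0) (l 0) = 0; rw [hk, hl, hdiag])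
    rw [this, mul_zero]
  let G2 : Matrix (Fin 4) (Fin 4) F := Matrix.reindex fin22 fin22 (G ⊗ₖ G)
  have h1 : Herm (RingEquiv.refl F) 1 (formOfGram ((RingEquiv.refl F : F ≃+* F) : F → F) G) :=
    herm_formOfGram (fun _ => rfl) hG (fun p q => by rw [hsym' p q, one_mul]; rfl)
  have hG2 : Herm (RingEquiv.refl F) 1 (formOfGram ((RingEquiv.refl F : F ≃+* F) : F → F) G2) :=
    herm_formOfGram (fun _ => rfl) (isUnit_kron_reindex hG) (fun p q => by
      simp only [G2, Matrix.reindex_apply, Matrix.submatrix_apply, Matrix.kroneckerMap_apply, RingEquiv.refl_apply,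
        one_mul]
      rw [hsym' (fin22.symm p).1, hsym' (fin22.symm p).2])
  refine hminus (plus_of_tensor_symmetric hQ h2 ⟨2, rfl⟩ (e := e.trans cubeEquiv.symm) (P := P) h1 hG2
    ⟨c, hc, fun x y => ?_⟩)
  rw [gramMatrix_formOfGram, gramMatrix_formOfGram]
  have h3 := hform (x ∘ cubeEquiv.symm) (y ∘ cubeEquiv.symm)
  rw [coord_apply, coord_apply, Function.comp_assoc, Function.comp_assoc] at h3
  rw [Equiv.coe_trans, h3]
  congr 1
  simp only [formOfGram, RingEquiv.refl_apply]
  rw [← Equiv.sum_comp cubeEquiv]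
  refine Finset.sum_congr rfl fun p _ => ?_
  rw [← Equiv.sum_comp cubeEquiv]
  refine Finset.sum_congr rfl fun q _ => ?_
  simp only [Function.comp_apply, Equiv.symm_apply_apply]
  rw [← pm_cube G G G p q, show (fun _ : Fin 3 => G) = ![G, G, G] by funext i; fin_cases i <;> rfl]

end CfsgLib.Geo.Asch
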