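import Mathlib
import Cfsg.Prelude.Def_GeometricClasses
import Cfsg.Agent.Lib.Geo.AschOrth
import Cfsg.Agent.Lib.Geo.AschFormFactor
import Cfsg.Agent.Lib.Geo.AschWreath
import Cfsg.Agent.Lib.QuadFin.Gram

/-! Symmetric forms in odd dimension: tensor squares, frames, decompositions. -/

set_option autoImplicit false
set_option linter.unusedSectionVars false

namespace CfsgLib.Geo.Asch

open Cfsg Cfsg.Geo Matrix QuadraticMap CfsgLib.GeomClasses
open scoped MatrixGroups Kronecker commutatorElement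

variable {ι : Type} [Fintype ι] [DecidableEq ι] {F : Type*} [Field F] [Fintype F]

theorem herm_gram_det_ne_zero {ε : F} {κ : Type} [Fintype κ] [DecidableEq κ] {f : (κ → F) → (κ → F) → F}
    (h : Herm (RingEquiv.refl F) ε f) : (gramMatrix f).det ≠ 0 := by
  intro h0
  obtain ⟨z, hz0, hz⟩ := Matrix.exists_mulVec_eq_zero_iff.2 h0
  obtain ⟨x, hx⟩ := (h.nondeg z hz0).1
  apply hx
  rw [Tensor.sesq_expand h.sesq]
  refine Finset.sum_eq_zero fun p _ => ?_
  have h1 : ∑ q, gramMatrix f p q * z q = 0 := congrFun hz p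
  simp only [show ∀ q, (((RingEquiv.refl F : F ≃+* F) : F →+* F) (z q)) = z q from fun _ => rfl, mul_assoc]
  rw [← Finset.mul_sum, h1, mul_zero]

/-- A reflexive bilinear form in odd dimension is symmetric. -/
theorem herm_odd_eps {ε : F} {κ : Type} [Fintype κ] [DecidableEq κ] {f : (κ → F) → (κ → F) → F}
    (h2 : (2 : F) ≠ 0) (hodd : Odd (Fintype.card κ)) (h : Herm (RingEquiv.refl F) ε f) : ε = 1 := by
  haveI : Nonempty κ := Fintype.card_pos_iff.1 hodd.pos
  rcases mul_self_eq_one_iff.1 (show ε * ε = 1 from h.eps_mul) with he | he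
  · exact he
  exfalso
  have hT : (gramMatrix f)ᵀ = -gramMatrix f := by
    ext i j
    show f (Pi.single j 1) (Pi.single i 1) = -f (Pi.single i 1) (Pi.single j 1)
    rw [h.symm (Pi.single i 1) (Pi.single j 1), he, RingEquiv.refl_apply, neg_one_mul]
  have h1 := congrArg Matrix.det hT
  rw [Matrix.det_transpose, Matrix.det_neg, hodd.neg_one_pow, neg_one_mul] at h1
  exact mul_ne_zero h2 (herm_gram_det_ne_zero h) (by linear_combination h1)

theorem isSymmetricForm_of_herm {κ : Type} [Fintype κ] [DecidableEq κ] {f : (κ → F) → (κ → F) → F}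
    (h : Herm (RingEquiv.refl F) 1 f) : IsSymmetricForm f :=
  ⟨⟨h.add_left, h.smul_left, h.add_right, fun c v x => h.smul_right c v x⟩,
    fun u v => by rw [h.symm v u, one_mul]; rfl, h.nondeg⟩

/-- Two symmetric forms in odd dimension are similar. -/
theorem exists_similar_gram (h2 : (2 : F) ≠ 0) {a : ℕ} (ha : Odd a) {f₁ f₂ : (Fin a → F) → (Fin a → F) → F}
    (h₁ : Herm (RingEquiv.refl F) 1 f₁) (h₂ : Herm (RingEquiv.refl F) 1 f₂) :
    ∃ (B : GL (Fin a) F) (μ : F), μ ≠ 0 ∧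
      (B : Matrix (Fin a) (Fin a) F)ᵀ * gramMatrix f₂ * (B : Matrix (Fin a) (Fin a) F) = μ • gramMatrix f₁ := by
  classical
  let mkB : ∀ {f : (Fin a → F) → (Fin a → F) → F}, Herm (RingEquiv.refl F) 1 f → LinearMap.BilinForm F (Fin a → F) :=
    fun {f} h => LinearMap.mk₂ F f h.add_left (fun c x y => by rw [h.smul_left, smul_eq_mul])
      (fun x y z => h.add_right x y z) (fun c x y => by rw [h.smul_right, smul_eq_mul]; rfl)
  set d₁ := (gramMatrix f₁).det with hd₁
  set d₂ := (gramMatrix f₂).det with hd₂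
  have hd₁0 : d₁ ≠ 0 := herm_gram_det_ne_zero h₁
  have hd₂0 : d₂ ≠ 0 := herm_gram_det_ne_zero h₂
  set l := d₁ * d₂ with hl
  have hl0 : l ≠ 0 := mul_ne_zero hd₁0 hd₂0
  let Q₁ : QuadraticForm F (Fin a → F) := (mkB h₁).toQuadraticMap
  let Q₂ : QuadraticForm F (Fin a → F) := (l • mkB h₂).toQuadraticMap
  have hp₁ : ∀ u v, QuadraticMap.polar Q₁ u v = 2 * f₁ u v := fun u v => by
    rw [show QuadraticMap.polar Q₁ u v = f₁ u v + f₁ v u from LinearMap.BilinMap.polar_toQuadraticMap _ _,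
      (isSymmetricForm_of_herm h₁).symm v u, two_mul]
  have hp₂ : ∀ u v, QuadraticMap.polar Q₂ u v = 2 * l * f₂ u v := fun u v => by
    rw [show QuadraticMap.polar Q₂ u v = l * f₂ u v + l * f₂ v u from LinearMap.BilinMap.polar_toQuadraticMap _ _,
      (isSymmetricForm_of_herm h₂).symm v u]
    ring
  have hg₁ : QuadFin.gram ⇑Q₁ = (2 : F) • gramMatrix f₁ := by
    ext i j; simp [QuadFin.gram, hp₁, gramMatrix]
  have hg₂ : QuadFin.gram ⇑Q₂ = (2 * l) • gramMatrix f₂ := by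
    ext i j; simp [QuadFin.gram, hp₂, gramMatrix]
  have hne₁ : (QuadFin.gram ⇑Q₁).det ≠ 0 := by
    rw [hg₁, Matrix.det_smul]
    exact mul_ne_zero (pow_ne_zero _ h2) hd₁0
  have hne₂ : (QuadFin.gram ⇑Q₂).det ≠ 0 := by
    rw [hg₂, Matrix.det_smul]
    exact mul_ne_zero (pow_ne_zero _ (mul_ne_zero h2 hl0)) hd₂0
  have hnd : ∀ Q : QuadraticForm F (Fin a → F), (QuadFin.gram ⇑Q).det ≠ 0 → Q.polarBilin.Nondegenerate :=
    fun Q hQ => (LinearMap.BilinForm.nondegenerate_iff_det_ne_zero (Pi.basisFun F (Fin a))).2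
      (QuadFin.gram_eq_toMatrix Q ▸ hQ)
  have hsq : IsSquare ((QuadFin.gram ⇑Q₁).det * (QuadFin.gram ⇑Q₂).det) := by
    obtain ⟨k, hk⟩ := ha
    refine ⟨2 ^ a * l ^ (k + 1), ?_⟩
    rw [hg₁, hg₂, Matrix.det_smul, Matrix.det_smul, Fintype.card_fin, mul_pow, ← hd₁, ← hd₂, hl, hk]
    ring
  obtain ⟨g, hg⟩ := (QuadFin.equiv_iff_isSquare h2 Q₁ Q₂ (hnd _ hne₁) (hnd _ hne₂)).2 hsq
  have hf : ∀ u v, f₂ (g u) (g v) = l⁻¹ * f₁ u v := by
    intro u v
    have h : QuadraticMap.polar Q₂ (g u) (g v) = QuadraticMap.polar Q₁ u v := by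
      simp only [QuadraticMap.polar, ← map_add, hg]
    rw [hp₁, hp₂, mul_assoc] at h
    rw [← mul_left_cancel₀ h2 h, ← mul_assoc, inv_mul_cancel₀ hl0, one_mul]
  let B : GL (Fin a) F :=
    ⟨LinearMap.toMatrix' g.toLinearMap, LinearMap.toMatrix' g.symm.toLinearMap,
      by rw [← LinearMap.toMatrix'_comp]; simp, by rw [← LinearMap.toMatrix'_comp]; simp⟩
  refine ⟨B, l⁻¹, inv_ne_zero hl0, ?_⟩
  ext i j
  have hcol : ∀ i, (g (Pi.single i 1) : Fin a → F) = fun p => (B : Matrix (Fin a) (Fin a) F) p i := fun i => by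
    funext p
    exact (LinearMap.toMatrix'_apply g.toLinearMap p i).symm
  have h := hf (Pi.single i 1) (Pi.single j 1)
  rw [hcol, hcol, Tensor.sesq_expand h₂.sesq] at h
  simp only [Matrix.mul_apply, Matrix.transpose_apply, Matrix.smul_apply, smul_eq_mul, Finset.sum_mul]
  rw [Finset.sum_comm]
  simpa [gramMatrix] using h

/-- A tensor square of symmetric forms in odd dimension is a tensor power of one form in a suitable basis. -/
theorem exists_square_symm (h2 : (2 : F) ≠ 0) {f : (ι → F) → (ι → F) → F} {a : ℕ} (ha : Odd a)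
    (e : ι ≃ Fin a × Fin a) (P : GL ι F) {f₁ f₂ : (Fin a → F) → (Fin a → F) → F}
    (h₁ : Herm (RingEquiv.refl F) 1 f₁) (h₂ : Herm (RingEquiv.refl F) 1 f₂)
    (hT : IsTensorFormStructure ((RingEquiv.refl F : F ≃+* F) : F → F) f f₁ f₂ e P) :
    ∃ P' : GL ι F,
      tensorWreathSubgroup a 2 (e.trans (finTwoArrowEquiv (Fin a)).symm) P ≤
        tensorWreathSubgroup a 2 (e.trans (finTwoArrowEquiv (Fin a)).symm) P' ∧
      IsTensorPowerFormStructure id f f₁ (e.trans (finTwoArrowEquiv (Fin a)).symm) P' := by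
  classical
  obtain ⟨B, μ, hμ, hB⟩ := exists_similar_gram h2 ha h₁ h₂
  obtain ⟨c, hc, hT⟩ := hT
  change ∀ x y : Fin a × Fin a → F, f ((P : Matrix ι ι F) *ᵥ (x ∘ e)) ((P : Matrix ι ι F) *ᵥ (y ∘ e)) =
    c * formOfGram id (gramMatrix f₁ ⊗ₖ gramMatrix f₂) x y at hT
  let K : GL (Fin a × Fin a) F :=
    ⟨(1 : Matrix (Fin a) (Fin a) F) ⊗ₖ (B : Matrix (Fin a) (Fin a) F),
      (1 : Matrix (Fin a) (Fin a) F) ⊗ₖ ((B⁻¹ : GL (Fin a) F) : Matrix (Fin a) (Fin a) F),
      by rw [← Matrix.mul_kronecker_mul]; simp, by rw [← Matrix.mul_kronecker_mul]; simp⟩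
  let P' := P * glReindex e.symm K
  have hP' : ∀ x : Fin a × Fin a → F, (P' : Matrix ι ι F) *ᵥ (x ∘ e) =
      (P : Matrix ι ι F) *ᵥ (((K : Matrix _ _ F) *ᵥ x) ∘ e) := by
    intro x
    simp only [P', Units.val_mul, ← Matrix.mulVec_mulVec]
    congr 1
    funext i
    simp only [Matrix.mulVec, dotProduct, Function.comp_apply]
    exact Fintype.sum_equiv e _ _ fun j => by simp [glReindex]
  have hgram : (K : Matrix (Fin a × Fin a) (Fin a × Fin a) F)ᵀ * (gramMatrix f₁ ⊗ₖ gramMatrix f₂) *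
      (K : Matrix (Fin a × Fin a) (Fin a × Fin a) F) = μ • (gramMatrix f₁ ⊗ₖ gramMatrix f₁) := by
    show ((1 : Matrix (Fin a) (Fin a) F) ⊗ₖ (B : Matrix (Fin a) (Fin a) F))ᵀ * _ *
      ((1 : Matrix (Fin a) (Fin a) F) ⊗ₖ (B : Matrix (Fin a) (Fin a) F)) = _
    rw [← Matrix.kroneckerMap_transpose, ← Matrix.mul_kronecker_mul, ← Matrix.mul_kronecker_mul,
      Matrix.transpose_one, Matrix.one_mul, Matrix.mul_one, hB, Matrix.kronecker_smul]
  have hstd : ∀ x y : Fin a × Fin a → F, f ((P' : Matrix ι ι F) *ᵥ (x ∘ e)) ((P' : Matrix ι ι F) *ᵥ (y ∘ e)) =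
      (c * μ) * formOfGram id (gramMatrix f₁ ⊗ₖ gramMatrix f₁) x y := by
    intro x y
    rw [hP', hP', hT, formOfGram_eq_dot, formOfGram_eq_dot, mul_assoc]
    congr 1
    simp only [id_eq]
    rw [← Matrix.vecMul_transpose, Matrix.mulVec_mulVec, ← Matrix.dotProduct_mulVec, Matrix.mulVec_mulVec,
      ← Matrix.mul_assoc, hgram, Matrix.smul_mulVec, dotProduct_smul, smul_eq_mul]
  refine ⟨P', ?_, c * μ, mul_ne_zero hc hμ, fun x y => ?_⟩
  · let e₀ := e.trans (finTwoArrowEquiv (Fin a)).symm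
    let K' : GL (Fin 2 → Fin a) F := glReindex (finTwoArrowEquiv (Fin a)).symm K
    have hK' : K' ∈ tensorWreathStandard a 2 F :=
      Subgroup.subset_closure (Or.inl ⟨![1, B], fun x z => by simp [K', K, glReindex, Fin.prod_univ_two]⟩)
    have hP'' : P' = P * glReindex e₀.symm K' := by
      show P * glReindex e.symm K = _
      congr 1
    rintro _ ⟨_, ⟨k, hk, rfl⟩, rfl⟩
    refine ⟨_, ⟨K'⁻¹ * k * K', mul_mem (mul_mem (inv_mem hK') hk) hK', rfl⟩, ?_⟩
    simp [hP'', e₀, mul_assoc]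
  · rw [show x ∘ (e.trans (finTwoArrowEquiv (Fin a)).symm) = (x ∘ (finTwoArrowEquiv (Fin a)).symm) ∘ e from rfl,
      show y ∘ (e.trans (finTwoArrowEquiv (Fin a)).symm) = (y ∘ (finTwoArrowEquiv (Fin a)).symm) ∘ e from rfl,
      hstd]
    congr 1
    simp only [formOfGram]
    refine Fintype.sum_equiv (finTwoArrowEquiv (Fin a)).symm _ _ fun p =>
      Fintype.sum_equiv (finTwoArrowEquiv (Fin a)).symm _ _ fun q => ?_
    simp [Fin.prod_univ_two, Matrix.kroneckerMap_apply]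

variable {Q : (ι → F) → F}

/-- Orthogonal non-singular vectors give a decomposition into non-degenerate lines. -/
theorem lines_of_orth_vectors (hQ : IsNondegenerateQuadraticForm Q) {n : ℕ} (hn : n = Fintype.card ι) (hn2 : 2 ≤ n)
    (v : Fin n → ι → F) (horth : ∀ i j, i ≠ j → polar Q (v i) (v j) = 0) (hne : ∀ i, polar Q (v i) (v i) ≠ 0) :
    IsNondegenerateMDecomposition (polar Q) 1 fun i => Submodule.span F {v i} := by
  have hh := herm_polar hQ
  have hv0 : ∀ i, v i ≠ 0 := fun i h => hne i (by rw [h, hh.zero_left])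
  have hli : LinearIndependent F v := by
    rw [Fintype.linearIndependent_iff]
    intro g hg i
    have h1 : polar Q (∑ l, g l • v l) (v i) = g i * polar Q (v i) (v i) := by
      rw [hh.sesq.sum_left, Finset.sum_eq_single i]
      · rw [hh.smul_left]
      · intro l _ hl; rw [hh.smul_left, horth l i hl, mul_zero]
      · simp
    rw [hg, hh.zero_left, eq_comm, mul_eq_zero] at h1
    exact h1.resolve_right (hne i)
  haveI : Nonempty (Fin n) := ⟨⟨0, by omega⟩⟩
  refine ⟨⟨hn2, one_pos, fun i => finrank_span_singleton (hv0 i), hli.iSupIndep_span_singleton, ?_⟩,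
    fun i w hw hw0 => ?_, fun i j hij u hu w hw => ?_⟩
  · rw [← Submodule.span_range_eq_iSup,
      hli.span_eq_top_of_card_eq_finrank (by rw [Fintype.card_fin, Module.finrank_fintype_fun_eq_card, hn])]
  · obtain ⟨c, rfl⟩ := Submodule.mem_span_singleton.1 hw
    have hc : c ≠ 0 := fun h => hw0 (by rw [h, zero_smul])
    refine ⟨⟨v i, Submodule.mem_span_singleton_self _, ?_⟩, ⟨v i, Submodule.mem_span_singleton_self _, ?_⟩⟩
    · rw [hh.smul_right, RingEquiv.refl_apply]; exact mul_ne_zero hc (hne i)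
    · rw [hh.smul_left]; exact mul_ne_zero hc (hne i)
  · obtain ⟨c, rfl⟩ := Submodule.mem_span_singleton.1 hu
    obtain ⟨d, rfl⟩ := Submodule.mem_span_singleton.1 hw
    rw [hh.smul_left, hh.smul_right, horth i j hij, mul_zero, mul_zero]

/-- An irreducible group permutes the summands of a decomposition transitively. -/
theorem transitive_of_irreducible {H : Subgroup (GL ι F)} (hirr : ActsIrreducibly (matrixSet H)) {t m : ℕ}
    {D : Fin t → Submodule F (ι → F)} (hD : IsMDecomposition m D) (hle : H ≤ decompositionStabilizer D)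
    (i₀ j : Fin t) : ∃ g ∈ H, (D i₀).map (Matrix.toLin' (g : Matrix ι ι F)) = D j := by
  have hDne : ∀ i, D i ≠ ⊥ := fun i h => by
    have := hD.finrank_eq i
    rw [h, finrank_bot] at this
    have := hD.pos
    omega
  by_contra hno
  push Not at hno
  let S : Submodule F (ι → F) := ⨆ (g : GL ι F) (_ : g ∈ H), (D i₀).map (Matrix.toLin' (g : Matrix ι ι F))
  have hS : S = ⊤ := by
    refine (hirr S ?_).resolve_left ?_
    · rintro _ ⟨k, hk, rfl⟩
      simp only [S, Submodule.map_iSup]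
      refine iSup₂_le fun g hg => le_iSup₂_of_le (k * g) (H.mul_mem hk hg) (le_of_eq ?_)
      simp only [← Submodule.map_comp, Units.val_mul, Matrix.toLin'_mul]
    · intro h0
      have h1 : (D i₀).map (Matrix.toLin' ((1 : GL ι F) : Matrix ι ι F)) ≤ S :=
        le_iSup₂_of_le 1 H.one_mem le_rfl
      rw [h0] at h1
      simp at h1
      exact hDne i₀ h1
  have hle' : S ≤ ⨆ (i : Fin t) (_ : i ≠ j), D i := by
    refine iSup₂_le fun g hg => ?_
    obtain ⟨τ, hτ⟩ := hle hg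
    rw [hτ]
    exact le_iSup₂_of_le (τ i₀) (fun h => hno g hg (h ▸ hτ i₀)) le_rfl
  have hd := iSupIndep_def.1 hD.indep j
  rw [hS, top_le_iff] at hle'
  rw [hle', disjoint_top] at hd
  exact hDne j hd

/-- The summands of a decomposition stabilised by an irreducible group of isometries are isometric. -/
theorem isometric_of_irreducible {H : Subgroup (GL ι F)} (hirr : ActsIrreducibly (matrixSet H))
    (hHQ : ∀ g ∈ H, ∀ u, Q ((g : Matrix ι ι F) *ᵥ u) = Q u) {t m : ℕ}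
    {D : Fin t → Submodule F (ι → F)} (hD : IsMDecomposition m D) (hle : H ≤ decompositionStabilizer D)
    (i j : Fin t) : AreIsometricFor Q (D i) (D j) := by
  obtain ⟨g, hg, hm⟩ := transitive_of_irreducible hirr hD hle i j
  refine ⟨(Submodule.equivMapOfInjective _ (toLin'_unit_injective g) (D i)).trans (LinearEquiv.ofEq _ _ hm),
    fun w => ?_⟩
  show Q (Matrix.toLin' _ (w : ι → F)) = _
  rw [Matrix.toLin'_apply]
  exact hHQ _ hg _

/-- Over three elements a decomposition into 3-spaces refines to an orthogonal frame. -/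
theorem lines_of_threes (hQ : IsNondegenerateQuadraticForm Q) (h3 : Fintype.card F = 3) {H : Subgroup (GL ι F)}
    (hHf : ∀ g ∈ H, ∀ u v, polar Q ((g : Matrix ι ι F) *ᵥ u) ((g : Matrix ι ι F) *ᵥ v) = polar Q u v)
    (hirr : ActsIrreducibly (matrixSet H)) {t : ℕ} (ht : t * 3 = Fintype.card ι)
    {D : Fin t → Submodule F (ι → F)} (hD : IsNondegenerateMDecomposition (polar Q) 3 D)
    (hle : H ≤ decompositionStabilizer D) :
    ∃ D' : Fin (t * 3) → Submodule F (ι → F),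
      IsNondegenerateMDecomposition (polar Q) 1 D' ∧ H ≤ decompositionStabilizer D' := by
  classical
  have hh := herm_polar hQ
  have ht2 := hD.decomp.two_le
  let i₀ : Fin t := ⟨0, by omega⟩
  choose gs hgsH hgs using transitive_of_irreducible hirr hD.decomp hle i₀
  haveI : FiniteDimensional F (D i₀) := inferInstance
  let b := Module.finBasisOfFinrankEq F (D i₀) (hD.decomp.finrank_eq i₀)
  let φ : (Fin 3 → F) ≃ₗ[F] D i₀ := b.equivFun.symm
  let f₂ : (Fin 3 → F) → (Fin 3 → F) → F := fun x y => polar Q (φ x : ι → F) (φ y : ι → F)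
  have hf₂ : Herm (RingEquiv.refl F) 1 f₂ := by
    refine ⟨⟨fun x y v => ?_, fun c x v => ?_, fun v x y => ?_, fun c v x => ?_⟩, fun x hx => ?_, fun _ => rfl,
      fun u v => ?_⟩
    · simp [f₂, hh.add_left]
    · simp [f₂, hh.smul_left]
    · simp [f₂, hh.add_right]
    · simp [f₂, hh.smul_right]
    · have hne : (φ x : ι → F) ≠ 0 := fun h => hx (φ.injective ((Subtype.ext h).trans (map_zero φ).symm))
      obtain ⟨⟨y, hy, h1⟩, ⟨z, hz, h4⟩⟩ := hD.nondegenerate i₀ _ (φ x).2 hne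
      exact ⟨⟨φ.symm ⟨y, hy⟩, by simpa [f₂] using h1⟩, ⟨φ.symm ⟨z, hz⟩, by simpa [f₂] using h4⟩⟩
    · simp [f₂, polar_comm (f := Q) (φ u : ι → F)]
  obtain ⟨w, hwne, hworth, hframe⟩ := orth_three_frame h3 hf₂
  let v : Fin (t * 3) → ι → F := fun p =>
    (gs (finProdFinEquiv.symm p).1 : Matrix ι ι F) *ᵥ (φ (w (finProdFinEquiv.symm p).2) : ι → F)
  have hvD : ∀ j, ∀ z : D i₀, (gs j : Matrix ι ι F) *ᵥ (z : ι → F) ∈ D j := fun j z =>
    hgs j ▸ ⟨z, z.2, Matrix.toLin'_apply _ _⟩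
  refine ⟨fun p => Submodule.span F {v p},
    lines_of_orth_vectors hQ ht (by omega) v (fun p p' hp => ?_) (fun p => ?_), fun g hg => ?_⟩
  · by_cases h1 : (finProdFinEquiv.symm p).1 = (finProdFinEquiv.symm p').1
    · have h2 : (finProdFinEquiv.symm p).2 ≠ (finProdFinEquiv.symm p').2 := fun h =>
        hp (finProdFinEquiv.symm.injective (Prod.ext h1 h))
      simp only [v, h1]
      rw [hHf _ (hgsH _)]
      exact hworth _ _ h2
    · exact hD.orthogonal _ _ h1 _ (hvD _ _) _ (hvD _ _)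
  · simp only [v]
    rw [hHf _ (hgsH _)]
    exact hwne _
  refine Decomp.mem_stabilizer_of_image
    (lines_of_orth_vectors hQ ht (by omega) v (fun p p' hp => ?_) (fun p => ?_)).decomp fun p => ?_
  · by_cases h1 : (finProdFinEquiv.symm p).1 = (finProdFinEquiv.symm p').1
    · have h2 : (finProdFinEquiv.symm p).2 ≠ (finProdFinEquiv.symm p').2 := fun h =>
        hp (finProdFinEquiv.symm.injective (Prod.ext h1 h))
      simp only [v, h1]
      rw [hHf _ (hgsH _)]
      exact hworth _ _ h2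
    · exact hD.orthogonal _ _ h1 _ (hvD _ _) _ (hvD _ _)
  · simp only [v]
    rw [hHf _ (hgsH _)]
    exact hwne _
  obtain ⟨τ, hτ⟩ := hle hg
  set j := (finProdFinEquiv.symm p).1 with hj
  set k := (finProdFinEquiv.symm p).2 with hk
  set h := (gs (τ j))⁻¹ * g * gs j with hhdef
  have hmem : ∀ z ∈ D i₀, Matrix.toLin' (h : Matrix ι ι F) z ∈ D i₀ := by
    intro z hz
    have h1 : (g : Matrix ι ι F) *ᵥ ((gs j : Matrix ι ι F) *ᵥ z) ∈ D (τ j) :=
      hτ j ▸ ⟨_, hvD j ⟨z, hz⟩, Matrix.toLin'_apply _ _⟩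
    rw [← hgs (τ j)] at h1
    obtain ⟨z', hz', he⟩ := h1
    rw [Matrix.toLin'_apply] at he
    rw [Matrix.toLin'_apply, hhdef, Units.val_mul, Units.val_mul, ← Matrix.mulVec_mulVec, ← Matrix.mulVec_mulVec, ← he,
      gl_inv_mulVec_mulVec]
    exact hz'
  let ψ : (Fin 3 → F) →ₗ[F] (Fin 3 → F) :=
    φ.symm.toLinearMap ∘ₗ ((Matrix.toLin' (h : Matrix ι ι F)).restrict hmem) ∘ₗ φ.toLinearMap
  have hψ : ∀ x, (φ (ψ x) : ι → F) = (h : Matrix ι ι F) *ᵥ (φ x : ι → F) := fun x => by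
    simp [ψ, Matrix.toLin'_apply]
  have hψinj : Function.Injective (LinearMap.toMatrix' ψ).mulVec := fun x y hxy => by
    change LinearMap.toMatrix' ψ *ᵥ x = LinearMap.toMatrix' ψ *ᵥ y at hxy
    rw [LinearMap.toMatrix'_mulVec, LinearMap.toMatrix'_mulVec] at hxy
    exact φ.injective (Subtype.ext (gl_mulVec_injective h (show (h : Matrix ι ι F) *ᵥ _ = (h : Matrix ι ι F) *ᵥ _ by
      rw [← hψ, ← hψ, hxy])))
  let B : GL (Fin 3) F := (Matrix.mulVec_injective_iff_isUnit.1 hψinj).unit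
  obtain ⟨l, r, hl⟩ := hframe B 1 one_ne_zero (fun x y => by
    simp only [B, IsUnit.unit_spec, LinearMap.toMatrix'_mulVec, f₂, hψ, one_mul]
    exact hHf h (H.mul_mem (H.mul_mem (H.inv_mem (hgsH _)) hg) (hgsH _)) _ _) k
  simp only [B, IsUnit.unit_spec, LinearMap.toMatrix'_mulVec] at hl
  refine ⟨finProdFinEquiv (τ j, l), fun x hx => ?_⟩
  obtain ⟨c, rfl⟩ := Submodule.mem_span_singleton.1 hx
  rw [Matrix.mulVec_smul]
  refine Submodule.smul_mem _ _ ?_
  have h1 : (g : Matrix ι ι F) *ᵥ v p = (gs (τ j) : Matrix ι ι F) *ᵥ (φ (ψ (w k)) : ι → F) := by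
    rw [hψ, hhdef]
    simp only [v, ← hj, ← hk, Matrix.mulVec_mulVec, ← Units.val_mul]
    congr 2
    group
  rw [h1, hl, map_smul, Submodule.coe_smul, Matrix.mulVec_smul]
  refine Submodule.smul_mem _ _ ?_
  simp only [v, Equiv.symm_apply_apply]
  exact Submodule.mem_span_singleton_self _

/-- A frame stabilised by a maximal subgroup gives a frame stabiliser or a subfield group. -/
theorem frame_cases [Nonempty ι] (hQ : IsNondegenerateQuadraticForm Q) (h7 : 7 ≤ Fintype.card ι)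
    (hodd : Odd (Fintype.card ι)) (h2 : (2 : F) ≠ 0)
    (hQ0 : ∀ (F₀ : Subfield F) (v : ι → F), (∀ i, v i ∈ F₀) → Q v ∈ F₀)
    {H : Subgroup (GL ι F)} (hH : IsMaximalIn (omegaGL Q) H) (hirr : ActsIrreducibly (matrixSet H)) {t : ℕ}
    {D : Fin t → Submodule F (ι → F)} (hnd : IsNondegenerateMDecomposition (polar Q) 1 D)
    (hle : H ≤ decompositionStabilizer D) :
    ((Fintype.card F).Prime ∧ IsOrthogonalMDecomposition Q 1 D ∧ H = decompositionStabilizer D ⊓ omegaGL Q) ∨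
    (∃ (F₀ : Subfield F) (r : ℕ) (P : GL ι F), r.Prime ∧ Fintype.card F = Nat.card F₀ ^ r ∧
      IsQuadFormRationalStructure Q F₀ P ∧ H = subfieldSubgroup F₀ P ⊓ omegaGL Q) := by
  classical
  have hD := hnd.decomp
  have hn : Fintype.card ι = t := by rw [← mdecomposition_card hD, mul_one]
  have hs := polar_isSesq hQ
  have hHf : ∀ g ∈ H, ∀ u v, polar Q ((g : Matrix ι ι F) *ᵥ u) ((g : Matrix ι ι F) *ᵥ v) = polar Q u v :=
    fun g hg => CfsgLib.Maximal.TensorTools.omega_polar hQ (hH.1.le hg)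
  have hHQ : ∀ g ∈ H, ∀ u, Q ((g : Matrix ι ι F) *ᵥ u) = Q u := fun g hg u => by
    have h1 := hHf g hg u u
    rw [quad_polar_self hQ, quad_polar_self hQ] at h1
    exact mul_left_cancel₀ h2 h1
  have hiso := isometric_of_irreducible hirr hHQ hD hle
  by_cases hqp : (Fintype.card F).Prime
  · exact Or.inl ⟨hqp, ⟨hnd, hiso⟩, eq_inf_of_le hH hle (omega_not_le_decomposition hQ h7 h2 hD)⟩
  refine Or.inr ?_
  haveI : NeZero t := ⟨by omega⟩
  have hDne : ∀ i, D i ≠ ⊥ := fun i h => by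
    have := hD.finrank_eq i
    rw [h, finrank_bot] at this
    omega
  choose gs hgsH hgs using transitive_of_irreducible hirr hD hle 0
  obtain ⟨F₀, r, hr, hcard⟩ := exists_prime_index hqp
  obtain ⟨v₀, hv₀, hv₀0⟩ := Submodule.exists_mem_ne_zero_of_ne_bot (hDne 0)
  let v : Fin t → ι → F := fun j => (gs j : Matrix ι ι F) *ᵥ v₀
  have hvD : ∀ j, v j ∈ D j := fun j => hgs j ▸ ⟨v₀, hv₀, Matrix.toLin'_apply _ _⟩
  have hv0 : ∀ j, v j ≠ 0 := fun j => gl_mulVec_ne_zero _ hv₀0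
  set c := polar Q v₀ v₀ with hc
  have hvc : ∀ j, polar Q (v j) (v j) = c := fun j => hHf _ (hgsH j) _ _
  have hline : ∀ {j x}, x ∈ D j → ∃ a : F, x = a • v j := fun {j x} hx => by
    obtain ⟨z, -, hz⟩ := finrank_eq_one_iff'.1 (hD.finrank_eq j)
    obtain ⟨a, ha⟩ := hz ⟨x, hx⟩
    obtain ⟨b, hb⟩ := hz ⟨v j, hvD j⟩
    have ha' : a • (z : ι → F) = x := congrArg Subtype.val ha
    have hb' : b • (z : ι → F) = v j := congrArg Subtype.val hb
    have hb0 : b ≠ 0 := fun h => hv0 j (by rw [← hb', h, zero_smul])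
    exact ⟨a / b, by rw [← ha', ← hb', smul_smul, div_mul_cancel₀ _ hb0]⟩
  have hc0 : c ≠ 0 := fun h => by
    obtain ⟨-, y, hy, hne⟩ := hnd.nondegenerate 0 (v 0) (hvD 0) (hv0 0)
    obtain ⟨a, rfl⟩ := hline hy
    rw [hs.smul_right, hvc, h, mul_zero] at hne
    exact hne rfl
  let e : ι ≃ Fin t := Fintype.equivFinOfCardEq hn
  let V : Matrix ι ι F := Matrix.of fun a b => v (e b) a
  have hVcol : ∀ b, V *ᵥ Pi.single b 1 = v (e b) := fun b => by funext a; simp [V]
  have hgram : ∀ a b, polar Q (V *ᵥ Pi.single a 1) (V *ᵥ Pi.single b 1) = if a = b then c else 0 := fun a b => by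
    rw [hVcol, hVcol]
    split_ifs with h
    · rw [h, hvc]
    · exact hnd.orthogonal _ _ (fun h' => h (e.injective h')) _ (hvD _) _ (hvD _)
  set g0 := (gramMatrix (polar Q)).det with hg0
  have hdetV : V.det ^ 2 * g0 = c ^ t := by
    have h1 : Vᵀ * gramMatrix (polar Q) * V = c • (1 : Matrix ι ι F) := by
      ext a b; rw [gram_conj hQ, hgram, Matrix.smul_apply, Matrix.one_apply]; simp
    have h2 := congrArg Matrix.det h1
    rw [Matrix.det_mul, Matrix.det_mul, Matrix.det_transpose, Matrix.det_smul, Matrix.det_one, mul_one, hn] at h2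
    rw [← h2]; ring
  have hV0 : V.det ≠ 0 := fun h => pow_ne_zero t hc0 (by rw [← hdetV, h]; ring)
  obtain ⟨k, hk⟩ : Odd t := hn ▸ hodd
  set l := c ^ k / V.det with hl
  have hl0 : l ≠ 0 := div_ne_zero (pow_ne_zero _ hc0) hV0
  have hlc : l ^ 2 * c = g0 := by
    rw [hl, div_pow, div_mul_eq_mul_div, div_eq_iff (pow_ne_zero 2 hV0), mul_comm g0, hdetV, hk]
    ring
  let P : GL ι F := Matrix.GeneralLinearGroup.mkOfDetNeZero (l • V)
    (by rw [Matrix.det_smul]; exact mul_ne_zero (pow_ne_zero _ hl0) hV0)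
  have hP : ∀ b, (P : Matrix ι ι F) *ᵥ Pi.single b 1 = l • v (e b) := fun b => by
    show (l • V) *ᵥ _ = _
    rw [Matrix.smul_mulVec, hVcol]
  refine ⟨F₀, r, P, hr, hcard, fun u hu => quad_mem_of_gram hQ h2 (fun a b => ?_) hu, ?_⟩
  · rw [hP, hP, ← hVcol, ← hVcol, hs.smul_left, hs.smul_right, RingHom.id_apply, ← mul_assoc, ← _root_.sq, hgram]
    split_ifs
    · rw [hlc]; exact det_gram_mem hQ0 F₀
    · rw [mul_zero]; exact F₀.zero_mem
  refine eq_inf_of_le hH (fun g hg => mem_subfieldSubgroup_of_entries fun i j => ?_)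
    (omega_not_le_subfield hQ h7 (subfield_ne_top hr hcard) P)
  obtain ⟨τ, hτ⟩ := hle hg
  obtain ⟨a, ha⟩ := hline (hτ (e j) ▸ ⟨_, hvD _, Matrix.toLin'_apply _ _⟩ :
    (g : Matrix ι ι F) *ᵥ v (e j) ∈ D (τ (e j)))
  have ha2 : a = 1 ∨ a = -1 := by
    have h1 := hHf g hg (v (e j)) (v (e j))
    rw [ha, hs.smul_left, hs.smul_right, RingHom.id_apply, hvc, hvc] at h1
    exact mul_self_eq_one_iff.1 (mul_right_cancel₀ hc0 (by rw [one_mul, mul_assoc, h1]))
  have h1 : (g : Matrix ι ι F) *ᵥ ((P : Matrix ι ι F) *ᵥ Pi.single j 1) =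
      (P : Matrix ι ι F) *ᵥ (a • Pi.single (e.symm (τ (e j))) 1) := by
    rw [hP, Matrix.mulVec_smul, ha, Matrix.mulVec_smul, hP, Equiv.apply_symm_apply, smul_comm]
  have h3 : ((P⁻¹ * g * P : GL ι F) : Matrix ι ι F) *ᵥ Pi.single j 1 =
      a • (Pi.single (e.symm (τ (e j))) 1 : ι → F) := by
    rw [Units.val_mul, Units.val_mul, ← Matrix.mulVec_mulVec, ← Matrix.mulVec_mulVec, h1, gl_inv_mulVec_mulVec]
  have h4 := congrFun h3 i
  simp only [Matrix.mulVec_single_one, Matrix.col_apply, Pi.smul_apply, smul_eq_mul] at h4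
  rw [h4]
  refine F₀.mul_mem ?_ (by by_cases h : i = e.symm (τ (e j)) <;> simp [h, F₀.one_mem, F₀.zero_mem])
  rcases ha2 with rfl | rfl
  · exact F₀.one_mem
  · exact F₀.neg_mem F₀.one_mem

/-- Over three elements no perfect spanning group preserves a tensor square of three dimensional forms. -/
theorem no_perfect_square_three [Nonempty ι] {f : (ι → F) → (ι → F) → F} (hf : Herm (RingEquiv.refl F) 1 f)
    (h3 : Fintype.card F = 3) (hcard : Fintype.card ι = 3 ^ 2)
    {ψ : Fin 2 → (Matrix (Fin 3) (Fin 3) F →ₐ[F] Matrix ι ι F)}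
    (hcomm : ∀ i j, i ≠ j → ∀ X Y, Commute (ψ i X) (ψ j Y)) {H N : Subgroup (GL ι F)} (hHf : IsoGrp f H)
    (hNH : N ≤ H) (hspan : algOf N = ⊤) (hperf : ⁅N, N⁆ = N)
    (hgrp : ∀ i, ∃ K : Subgroup (GL ι F), K ≤ N ∧ algOf K = (ψ i).range)
    (hperm : ∀ g ∈ H, ∃ τ : Equiv.Perm (Fin 2), ∀ i X, ∃ Y, conjHom g (ψ i X) = ψ (τ i) Y) : False := by
  classical
  have h2 : (2 : F) ≠ 0 := two_ne_zero_of_odd (by rw [h3]; decide)
  let A : Fin 2 → Subalgebra F (Matrix ι ι F) := fun i => (ψ i).range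
  let R : GL ι F → Equiv.Perm (Fin 2) → Prop := fun x τ => ∀ i, ∀ M ∈ A i, conjHom x M ∈ A (τ i)
  have hRmul : ∀ {x y σ τ}, R x σ → R y τ → R (x * y) (σ * τ) := fun {x y σ τ} hx hy i M hM => by
    rw [conjHom_mul]
    exact hx _ _ (hy i M hM)
  have hex : ∀ x ∈ N, ∃ τ, R x τ := fun x hx => by
    obtain ⟨τ, hτ⟩ := hperm x (hNH hx)
    refine ⟨τ, fun i M hM => ?_⟩
    obtain ⟨X, rfl⟩ := hM
    obtain ⟨Y, hY⟩ := hτ i X
    exact ⟨Y, hY.symm⟩
  have hinvR : ∀ {x σ}, R x σ → R x⁻¹ σ⁻¹ := fun {x σ} hx i M hM => by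
    have hmap : (A (σ⁻¹ i)).toSubmodule.map (conjHom x).toLinearMap = (A i).toSubmodule := by
      refine Submodule.eq_of_le_of_finrank_eq ?_ ?_
      · rintro _ ⟨M', hM', rfl⟩
        have h := hx _ M' hM'
        rwa [Equiv.Perm.inv_def, Equiv.apply_symm_apply] at h
      · have hinj : Function.Injective (conjHom x).toLinearMap := fun a b h => by
          have h' := congrArg (conjHom x⁻¹) (show conjHom x a = conjHom x b from h)
          rwa [conjHom_inv_cancel, conjHom_inv_cancel] at h'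
        rw [← (Submodule.equivMapOfInjective _ hinj _).finrank_eq]
        show Module.finrank F (A _) = Module.finrank F (A _)
        simp only [A]
        rw [← (AlgEquiv.ofInjective _ (ψ _).toRingHom.injective).toLinearEquiv.finrank_eq,
          ← (AlgEquiv.ofInjective _ (ψ _).toRingHom.injective).toLinearEquiv.finrank_eq]
    have hM' : M ∈ (A (σ⁻¹ i)).toSubmodule.map (conjHom x).toLinearMap := by rw [hmap]; exact hM
    obtain ⟨M', hM'', rfl⟩ := hM'
    show conjHom x⁻¹ (conjHom x M') ∈ _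
    rw [conjHom_inv_cancel]
    exact hM''
  let S : Subgroup (GL ι F) :=
    { carrier := {x | R x 1}
      one_mem' := fun i M hM => by simpa [conjHom_apply] using hM
      mul_mem' := fun {x y} hx hy => by simpa using hRmul hx hy
      inv_mem' := fun {x} hx => by simpa using hinvR hx }
  have hNS : N ≤ S := by
    rw [← hperf, Subgroup.commutator_le]
    intro x hx y hy
    obtain ⟨σ, hσ⟩ := hex x hx
    obtain ⟨τ, hτ⟩ := hex y hy
    have h := hRmul (hRmul (hRmul hσ hτ) (hinvR hσ)) (hinvR hτ)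
    have key : ∀ a b : Equiv.Perm (Fin 2), a * b * a⁻¹ * b⁻¹ = 1 := by decide
    rw [key, ← commutatorElement_def] at h
    exact h
  obtain ⟨e₀, P, hP⟩ := exists_powerEmb (show 0 < 3 by omega) hcard ψ hcomm
  let e : ι ≃ Fin 3 × Fin 3 := e₀.trans (finTwoArrowEquiv (Fin 3))
  have hrange : tensorEmb 3 3 e P = ψ 0 := by
    refine AlgHom.ext fun X => ?_
    rw [hP 0 X, conjHom_apply]
    show (P : Matrix ι ι F) * Matrix.reindexAlgEquiv F F e.symm (kroneckerHom 3 3 X) * ((P⁻¹ : GL ι F) : Matrix ι ι F) = _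
    congr 2
    ext i j
    simp [kroneckerHom_apply, CfsgLib.Maximal.TensorPower.slot_apply, CfsgLib.Maximal.TensorPower.pm,
      Fin.prod_univ_two, e, Matrix.one_apply]
  obtain ⟨K, hKN, hKr⟩ := hgrp 0
  obtain ⟨ε₁, ε₂, f₁, f₂, h₁, h₂, -, -, hT⟩ := exists_tensor_form hf e P
    (by rw [hrange, ← hKr]; exact hf.adjointClosed_algOf fun g hg => hHf g (hNH (hKN hg)))
  have hodd3 : Odd (Fintype.card (Fin 3)) := by rw [Fintype.card_fin]; decide
  obtain rfl := herm_odd_eps h2 hodd3 h₁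
  obtain rfl := herm_odd_eps h2 hodd3 h₂
  have hNT : N ≤ tensorProductSubgroup 3 3 e P := fun g hg => mem_tensorProductSubgroup e P g fun X => by
    obtain ⟨Y, hY⟩ := hNS hg 0 (ψ 0 X) ⟨X, rfl⟩
    exact ⟨Y, by rw [hrange]; exact hY.symm⟩
  obtain ⟨w, hne, horth, hframe⟩ := orth_three_frame h3 h₂
  obtain ⟨D, hD, hle⟩ := tensor_frame_decomposition hf hT h₁ h₂ (by omega) (by omega) w hne horth hNT
    (fun g hg => hHf g (hNH hg)) hframe
  let R' : GL ι F → Equiv.Perm (Fin 3) → Prop := fun x τ => ∀ i, (D i).map (Matrix.toLin' (x : Matrix ι ι F)) = D (τ i)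
  have hR'mul : ∀ {x y σ τ}, R' x σ → R' y τ → R' (x * y) (σ * τ) := fun {x y σ τ} hx hy i => by
    rw [Units.val_mul, Matrix.toLin'_mul, Submodule.map_comp, hy, hx]
    rfl
  have hR'inv : ∀ {x σ}, R' x σ → R' x⁻¹ σ⁻¹ := fun {x σ} hx i => by
    have h := hx (σ⁻¹ i)
    rw [Equiv.Perm.inv_def, Equiv.apply_symm_apply] at h
    rw [← h, ← Submodule.map_comp, ← Matrix.toLin'_mul, ← Units.val_mul, inv_mul_cancel, Units.val_one,
      Matrix.toLin'_one, Submodule.map_id]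
    rfl
  let S₁ : Subgroup (GL ι F) :=
    { carrier := {x | ∃ τ, R' x τ ∧ Equiv.Perm.sign τ = 1}
      one_mem' := ⟨1, fun i => by simp, map_one _⟩
      mul_mem' := fun {x y} ⟨σ, hσ, hσs⟩ ⟨τ, hτ, hτs⟩ => ⟨σ * τ, hR'mul hσ hτ, by rw [map_mul, hσs, hτs, one_mul]⟩
      inv_mem' := fun {x} ⟨σ, hσ, hσs⟩ => ⟨σ⁻¹, hR'inv hσ, by rw [map_inv, hσs, inv_one]⟩ }
  let S₂ : Subgroup (GL ι F) :=
    { carrier := {x | R' x 1}
      one_mem' := fun i => by simp
      mul_mem' := fun {x y} hx hy => by simpa using hR'mul hx hy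
      inv_mem' := fun {x} hx => by simpa using hR'inv hx }
  have hN1 : N ≤ S₁ := by
    rw [← hperf, Subgroup.commutator_le]
    intro x hx y hy
    obtain ⟨σ, hσ⟩ := hle hx
    obtain ⟨τ, hτ⟩ := hle hy
    refine ⟨σ * τ * σ⁻¹ * τ⁻¹, ?_, ?_⟩
    · rw [commutatorElement_def]
      exact hR'mul (hR'mul (hR'mul hσ hτ) (hR'inv hσ)) (hR'inv hτ)
    · rcases Int.units_eq_one_or (Equiv.Perm.sign σ) with h | h <;>
        rcases Int.units_eq_one_or (Equiv.Perm.sign τ) with h' | h' <;> simp [h, h']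
  have hN2 : N ≤ S₂ := by
    rw [← hperf, Subgroup.commutator_le]
    intro x hx y hy
    obtain ⟨σ, hσ, hσs⟩ := hN1 hx
    obtain ⟨τ, hτ, hτs⟩ := hN1 hy
    have key : ∀ a b : Equiv.Perm (Fin 3), Equiv.Perm.sign a = 1 → Equiv.Perm.sign b = 1 →
        a * b * a⁻¹ * b⁻¹ = 1 := by decide
    have h := hR'mul (hR'mul (hR'mul hσ hτ) (hR'inv hσ)) (hR'inv hτ)
    rw [key σ τ hσs hτs, ← commutatorElement_def] at h
    exact h
  rcases irreducible_of_algOf_eq_top hspan (D 0) (by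
    rintro _ ⟨g, hg, rfl⟩
    exact (hN2 hg 0).le) with h | h
  · have := hD.decomp.finrank_eq 0
    rw [h, finrank_bot] at this
    omega
  · have := hD.decomp.finrank_eq 0
    rw [h, finrank_top, Module.finrank_fintype_fun_eq_card, hcard] at this
    omega

end CfsgLib.Geo.Asch
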