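import Mathlib
import Cfsg.Prelude.Def_GeometricClasses
import Cfsg.Agent.Lib.Geo.AschOrthProper
import Cfsg.Agent.Lib.Geo.AschWreath
import Cfsg.Agent.Lib.Geo.AschFormProper

/-! Ω stabilises no decomposition into 3-spaces, no field of degree at least 3, no tensor square. -/

set_option autoImplicit false
set_option linter.unusedSectionVars false

namespace CfsgLib.Geo.Asch

open Cfsg Cfsg.Geo Matrix QuadraticMap CfsgLib.GeomClasses CfsgLib.Maximal.TensorPower
open scoped MatrixGroups

variable {ι : Type} [Fintype ι] [DecidableEq ι] {F : Type*} [Field F] [Fintype F] {Q : (ι → F) → F}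

/-- Root elements `1 + s L` of Ω with `L` of square zero and rank at most two. -/
structure SiegelData (Q : (ι → F) → F) (L : (ι → F) →ₗ[F] (ι → F)) : Prop where
  sq : ∀ x, L (L x) = 0
  skew : ∀ x y, polar Q (L x) y = - polar Q x (L y)
  perp : ∀ x, polar Q x (L x) = 0
  ne : ∃ x, L x ≠ 0
  rank : Module.finrank F (LinearMap.range L) ≤ 2
  mem : ∀ s : F, ∃ g ∈ omegaGL Q, ∀ x, (g : Matrix ι ι F) *ᵥ x = x + s • L x

theorem exists_siegelData (hQ : IsNondegenerateQuadraticForm Q) (hn : 7 ≤ Fintype.card ι) :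
    ∃ L : (ι → F) →ₗ[F] (ι → F), SiegelData Q L := by
  classical
  obtain ⟨u, b, hu0, hb0, hbu, hu, hb, hub, hg⟩ := exists_siegel_element hQ hn
  have hs := polar_isSesq hQ
  have hh := herm_polar hQ
  let L : (ι → F) →ₗ[F] (ι → F) :=
    { toFun := fun x => polar Q x b • u - polar Q x u • b
      map_add' := fun x y => by simp only [hs.add_left]; module
      map_smul' := fun c x => by simp only [hs.smul_left, RingHom.id_apply]; module }
  refine ⟨L, fun x => siegel_sq_zero hQ hu hb hub x, fun x y => ?_, fun x => ?_, ?_, ?_, hg⟩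
  · show polar Q (polar Q x b • u - polar Q x u • b) y = - polar Q x (polar Q y b • u - polar Q y u • b)
    rw [hh.sub_left, hh.sub_right, hh.smul_left, hh.smul_left, hh.smul_right, hh.smul_right,
      polar_comm (f := Q) u y, polar_comm (f := Q) b y]
    simp only [RingEquiv.refl_apply]
    ring
  · show polar Q x (polar Q x b • u - polar Q x u • b) = 0
    rw [hh.sub_right, hh.smul_right, hh.smul_right]
    simp only [RingEquiv.refl_apply]
    ring
  · obtain ⟨⟨x, hx⟩, -⟩ := hQ.nondegenerate u hu0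
    refine ⟨x, fun h0 => hbu (Submodule.mem_span_singleton.2 ⟨(polar Q x u)⁻¹ * polar Q x b, ?_⟩)⟩
    have h : polar Q x b • u = polar Q x u • b := sub_eq_zero.1 h0
    rw [mul_smul, h, inv_smul_smul₀ hx]
  · refine (Submodule.finrank_mono (?_ : LinearMap.range L ≤ Submodule.span F (Set.range ![u, b]))).trans
      ((finrank_range_le_card (R := F) ![u, b]).trans (by simp))
    rintro _ ⟨x, rfl⟩
    exact sub_mem (Submodule.smul_mem _ _ (Submodule.subset_span ⟨0, rfl⟩))
      (Submodule.smul_mem _ _ (Submodule.subset_span ⟨1, rfl⟩))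

theorem SiegelData.totally_singular {L : (ι → F) →ₗ[F] (ι → F)} (hL : SiegelData Q L)
    (hQ : IsNondegenerateQuadraticForm Q) (x y : ι → F) : polar Q (L x) (L y) = 0 := by
  rw [hL.skew, hL.sq, (polar_isSesq hQ).zero_right, neg_zero]

/-- Ω does not stabilise a decomposition into three dimensional non-degenerate subspaces. -/
theorem omega_not_le_threes (hQ : IsNondegenerateQuadraticForm Q) (hn : 7 ≤ Fintype.card ι) {t : ℕ}
    {D : Fin t → Submodule F (ι → F)} (hD : IsNondegenerateMDecomposition (polar Q) 3 D) :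
    ¬ omegaGL Q ≤ decompositionStabilizer D := by
  classical
  intro hle
  have hh := herm_polar hQ
  obtain ⟨L, hL⟩ := exists_siegelData hQ hn
  obtain ⟨g, hgΩ, hgx⟩ := hL.mem 1
  simp only [one_smul] at hgx
  obtain ⟨τ, hτ⟩ := hle hgΩ
  have hgD : ∀ i, ∀ v ∈ D i, (g : Matrix ι ι F) *ᵥ v ∈ D (τ i) := fun i v hv =>
    hτ i ▸ ⟨v, hv, Matrix.toLin'_apply _ _⟩
  have hfix : ∀ i, τ i = i := by
    intro i
    by_contra hi
    let ψ : D i →ₗ[F] LinearMap.range L := L.rangeRestrict.domRestrict (D i)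
    have hinj : Function.Injective ψ := by
      rw [← LinearMap.ker_eq_bot, Submodule.eq_bot_iff]
      rintro ⟨v, hv⟩ h0
      have h1 : L v = 0 := congrArg Subtype.val (LinearMap.mem_ker.1 h0)
      have h2 := hgD i v hv
      rw [hgx, h1, add_zero] at h2
      exact Subtype.ext (Submodule.disjoint_def.1 (hD.decomp.indep.pairwiseDisjoint (Ne.symm hi)) v hv h2)
    have := LinearMap.finrank_le_finrank_of_injective hinj
    rw [hD.decomp.finrank_eq] at this
    have := hL.rank
    omega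
  obtain ⟨i, x, hx, hLx⟩ : ∃ i, ∃ x ∈ D i, L x ≠ 0 := by
    by_contra h
    push Not at h
    obtain ⟨x, hx⟩ := hL.ne
    have hker : iSup D ≤ LinearMap.ker L := iSup_le fun i v hv => LinearMap.mem_ker.2 (h i v hv)
    rw [hD.decomp.iSup_eq_top] at hker
    exact hx (LinearMap.mem_ker.1 (hker Submodule.mem_top))
  have hLD : ∀ y ∈ D i, L y ∈ D i := fun y hy => by
    have h2 := hgD i y hy
    rw [hfix, hgx] at h2
    exact ((D i).add_mem_iff_right hy).1 h2
  obtain ⟨y, hy, hyw⟩ : ∃ y ∈ D i, L y ∉ Submodule.span F {L x} := by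
    by_contra h
    push Not at h
    obtain ⟨z, hz, hne⟩ := (hD.nondegenerate i _ (hLD x hx) hLx).2
    obtain ⟨c, hc⟩ := Submodule.mem_span_singleton.1 (h z hz)
    rw [hL.skew, ← hc, hh.smul_right, hL.perp, mul_zero, neg_zero] at hne
    exact hne rfl
  set w₁ := L x
  set w₂ := L y
  obtain ⟨⟨y₁, hy₁, hne₁⟩, -⟩ := hD.nondegenerate i w₁ (hLD x hx) hLx
  set c := polar Q y₁ w₂ / polar Q y₁ w₁ with hc
  have hw : w₂ - c • w₁ ≠ 0 := fun h0 => hyw (by
    rw [sub_eq_zero.1 h0]; exact Submodule.smul_mem _ _ (Submodule.mem_span_singleton_self _))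
  obtain ⟨⟨y₂, hy₂, hne₂⟩, -⟩ := hD.nondegenerate i _ ((D i).sub_mem (hLD y hy) ((D i).smul_mem c (hLD x hx))) hw
  rw [hh.sub_right, hh.smul_right, RingEquiv.refl_apply] at hne₂
  let φ : D i →ₗ[F] F × F :=
    { toFun := fun z => (polar Q (z : ι → F) w₁, polar Q (z : ι → F) w₂)
      map_add' := fun z z' => by simp [hh.add_left]
      map_smul' := fun k z => by simp [hh.smul_left] }
  have hrange : 2 ≤ Module.finrank F (LinearMap.range φ) := by
    have hli : LinearIndependent F
        ![(⟨φ ⟨y₁, hy₁⟩, LinearMap.mem_range_self _ _⟩ : LinearMap.range φ),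
          ⟨φ ⟨y₂, hy₂⟩, LinearMap.mem_range_self _ _⟩] := by
      rw [LinearIndependent.pair_iff]
      intro a b hab
      have h1 := congrArg (fun z : LinearMap.range φ => (z : F × F).1) hab
      have h2 := congrArg (fun z : LinearMap.range φ => (z : F × F).2) hab
      simp [φ] at h1 h2
      have hc1 : c * polar Q y₁ w₁ = polar Q y₁ w₂ := by rw [hc, div_mul_cancel₀ _ hne₁]
      have hb : b * (polar Q y₂ w₂ - c * polar Q y₂ w₁) = 0 := by
        linear_combination h2 - c * h1 + a * hc1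
      have hb0 : b = 0 := (mul_eq_zero.1 hb).resolve_right hne₂
      refine ⟨?_, hb0⟩
      rw [hb0, zero_mul, add_zero] at h1
      exact (mul_eq_zero.1 h1).resolve_right hne₁
    simpa using hli.fintype_card_le_finrank
  have hker : 2 ≤ Module.finrank F (LinearMap.ker φ) := by
    have hmem : ∀ v : ι → F, ∀ hv : v ∈ D i, (∃ z, v = L z) → (⟨v, hv⟩ : D i) ∈ LinearMap.ker φ := by
      rintro v hv ⟨z, rfl⟩
      rw [LinearMap.mem_ker]
      exact Prod.ext (hL.totally_singular hQ _ _) (hL.totally_singular hQ _ _)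
    have hli : LinearIndependent F ![w₁, w₂] := by
      rw [LinearIndependent.pair_iff]
      intro a b h1
      have hb0 : b = 0 := by
        by_contra hb
        refine hyw (Submodule.mem_span_singleton.2 ⟨-(b⁻¹ * a), ?_⟩)
        have h2 : b • w₂ = -(a • w₁) := eq_neg_of_add_eq_zero_right h1
        rw [← inv_smul_smul₀ hb w₂, h2, smul_neg, smul_smul, neg_smul]
      rw [hb0, zero_smul, add_zero] at h1
      exact ⟨(smul_eq_zero.1 h1).resolve_right hLx, hb0⟩
    have hsub : Submodule.span F (Set.range ![w₁, w₂]) ≤ (LinearMap.ker φ).map (D i).subtype := by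
      rw [Submodule.span_le]
      rintro _ ⟨l, rfl⟩
      fin_cases l
      · exact ⟨_, hmem _ (hLD x hx) ⟨x, rfl⟩, rfl⟩
      · exact ⟨_, hmem _ (hLD y hy) ⟨y, rfl⟩, rfl⟩
    have h1 := Submodule.finrank_mono hsub
    rw [finrank_span_eq_card hli, Submodule.finrank_map_subtype_eq, Fintype.card_fin] at h1
    exact h1
  have h3 := φ.finrank_range_add_finrank_ker
  rw [hD.decomp.finrank_eq] at h3
  omega

/-- Ω does not normalise a field of degree at least three. -/
theorem omega_not_le_field [Nonempty ι] (hQ : IsNondegenerateQuadraticForm Q) (hn : 7 ≤ Fintype.card ι) {s : ℕ}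
    (hs : 3 ≤ s) {K : Subalgebra F (Matrix ι ι F)} (hK : IsFieldSubalgebra s K) :
    ¬ omegaGL Q ≤ subalgebraNormalizer K := by
  classical
  intro hle
  obtain ⟨L, hL⟩ := exists_siegelData hQ hn
  obtain ⟨g, hgΩ, hgx⟩ := hL.mem 1
  simp only [one_smul] at hgx
  have hrank := hL.rank
  have hcomm : ∀ k ∈ K, ∀ z, L (k *ᵥ z) = k *ᵥ L z := by
    intro k hk
    set k' := (g : Matrix ι ι F) * k * ((g⁻¹ : GL ι F) : Matrix ι ι F) with hk'
    have hk'K : k' ∈ K := (hle hgΩ k).1 hk
    have hgk : ∀ z, (g : Matrix ι ι F) *ᵥ (k *ᵥ z) = k' *ᵥ ((g : Matrix ι ι F) *ᵥ z) := fun z => by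
      rw [hk', ← Matrix.mulVec_mulVec, ← Matrix.mulVec_mulVec, gl_inv_mulVec_mulVec]
    let T : (ι → F) →ₗ[F] LinearMap.range L × LinearMap.range L :=
      L.rangeRestrict.prod (L.rangeRestrict.comp (Matrix.toLin' k))
    obtain ⟨v, hv, hv0⟩ : ∃ v ∈ LinearMap.ker T, v ≠ 0 := by
      refine Submodule.exists_mem_ne_zero_of_ne_bot fun h0 => ?_
      have h1 := LinearMap.finrank_le_finrank_of_injective (LinearMap.ker_eq_bot.1 h0)
      rw [Module.finrank_fintype_fun_eq_card, Module.finrank_prod] at h1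
      omega
    rw [LinearMap.mem_ker] at hv
    have hv1 : L v = 0 := congrArg (fun p : LinearMap.range L × LinearMap.range L => ((p.1 : ι → F))) hv
    have hv2 : L (k *ᵥ v) = 0 := congrArg (fun p : LinearMap.range L × LinearMap.range L => ((p.2 : ι → F))) hv
    have h1 := hgk v
    rw [hgx, hgx, hv1, hv2, add_zero, add_zero] at h1
    have heq : k' = k := by
      by_contra hne
      obtain ⟨y, hy, hy1⟩ := hK.inv _ (K.sub_mem hk'K hk) (sub_ne_zero.2 hne)
      refine hv0 ?_
      have hy2 : y * (k' - k) = 1 := by rw [hK.comm y hy _ (K.sub_mem hk'K hk), hy1]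
      rw [← Matrix.one_mulVec v, ← hy2, ← Matrix.mulVec_mulVec, Matrix.sub_mulVec, ← h1, sub_self, Matrix.mulVec_zero]
    intro z
    have h2 := hgk z
    rw [heq, hgx, hgx, Matrix.mulVec_add] at h2
    exact add_left_cancel h2
  obtain ⟨x, hx⟩ := hL.ne
  let ev : K →ₗ[F] LinearMap.range L :=
    { toFun := fun k => ⟨(k : Matrix ι ι F) *ᵥ L x, ⟨(k : Matrix ι ι F) *ᵥ x, hcomm _ k.2 x⟩⟩
      map_add' := fun k k' => Subtype.ext (Matrix.add_mulVec _ _ _)
      map_smul' := fun c k => Subtype.ext (Matrix.smul_mulVec _ _ _) }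
  have hinj : Function.Injective ev := by
    rw [← LinearMap.ker_eq_bot, Submodule.eq_bot_iff]
    intro k hk
    have h1 : (k : Matrix ι ι F) *ᵥ L x = 0 := congrArg Subtype.val (LinearMap.mem_ker.1 hk)
    by_contra hne
    obtain ⟨y, hy, hy1⟩ := hK.inv _ k.2 (fun h => hne (Subtype.ext h))
    refine hx ?_
    have hy2 : y * (k : Matrix ι ι F) = 1 := by rw [hK.comm y hy _ k.2, hy1]
    rw [← Matrix.one_mulVec (L x), ← hy2, ← Matrix.mulVec_mulVec, h1, Matrix.mulVec_zero]
  have h1 := LinearMap.finrank_le_finrank_of_injective hinj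
  rw [hK.finrank_eq] at h1
  omega

/-- Ω does not stabilise a tensor square. -/
theorem omega_not_le_wreath_two [Nonempty ι] (hQ : IsNondegenerateQuadraticForm Q) (hn : 7 ≤ Fintype.card ι)
    (h2 : (2 : F) ≠ 0) {a : ℕ} (ha : 3 ≤ a) (e : ι ≃ (Fin 2 → Fin a)) (P : GL ι F) :
    ¬ omegaGL Q ≤ tensorWreathSubgroup a 2 e P := by
  classical
  intro hle
  obtain ⟨L, hL⟩ := exists_siegelData hQ hn
  obtain ⟨g, hgΩ, hgx⟩ := hL.mem ((2 : F)⁻¹)
  obtain ⟨_, ⟨y, hy, rfl⟩, hyt⟩ := hle hgΩ
  simp only [MulEquiv.coe_toMonoidHom] at hyt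
  obtain ⟨τ, as, hmon⟩ := isMonomial_of_mem hy
  set C := CfsgLib.Maximal.TensorTools.coord e P with hC
  have hgC : ∀ z : (Fin 2 → Fin a) → F, (g : Matrix ι ι F) *ᵥ C z = C ((y : Matrix _ _ F) *ᵥ z) := by
    intro z
    rw [← hyt, hC, CfsgLib.Maximal.TensorTools.coord_apply, CfsgLib.Maximal.TensorTools.coord_apply, MulAut.conj_apply,
      Units.val_mul, Units.val_mul, ← Matrix.mulVec_mulVec, ← Matrix.mulVec_mulVec, gl_inv_mulVec_mulVec]
    congr 1
    funext i
    simp only [Matrix.mulVec, dotProduct, Function.comp_apply]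
    exact Fintype.sum_equiv e _ _ fun j => by simp [glReindex]
  have hττ : ∀ i, τ (τ i) = i := by
    have key : ∀ τ : Equiv.Perm (Fin 2), ∀ i, τ (τ i) = i := by decide
    exact key τ
  let M : Fin 2 → Matrix (Fin a) (Fin a) F := fun i =>
    (as i : Matrix (Fin a) (Fin a) F) * (as (τ i) : Matrix (Fin a) (Fin a) F)
  have hsq : ∀ xs : Fin 2 → Fin a → F, C (tp xs) + L (C (tp xs)) = C (tp fun i => M i *ᵥ xs i) := by
    intro xs
    have h1 : (g : Matrix ι ι F) *ᵥ ((g : Matrix ι ι F) *ᵥ C (tp xs)) = C (tp xs) + L (C (tp xs)) := by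
      rw [hgx, hgx, map_add, map_smul, hL.sq, smul_zero, add_zero, add_assoc, ← add_smul, ← two_mul,
        mul_inv_cancel₀ h2, one_smul]
    rw [← h1, hgC, hgC, hmon, hmon]
    congr 2
    funext i
    rw [hττ, Matrix.mulVec_mulVec]
  have hrank := hL.rank
  have key : ∀ i j : Fin 2, i ≠ j → ∀ v, ∃ r : F, M i *ᵥ v = r • v := by
    intro i j hij v
    let xs : (Fin a → F) → Fin 2 → Fin a → F := fun w l => if l = i then v else w
    have htp : ∀ (zs : Fin 2 → Fin a → F) (s : Fin 2 → Fin a), tp zs s = zs i (s i) * zs j (s j) := by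
      intro zs s
      fin_cases i <;> fin_cases j <;>
        first
          | exact absurd rfl hij
          | simp [tp, Fin.prod_univ_two, mul_comm]
    let emb : (Fin a → F) →ₗ[F] ((Fin 2 → Fin a) → F) :=
      { toFun := fun w s => v (s i) * w (s j)
        map_add' := fun w w' => funext fun s => by simp [mul_add]
        map_smul' := fun k w => funext fun s => by simp [mul_left_comm] }
    have hemb : ∀ w, emb w = tp (xs w) := fun w => funext fun s => by
      rw [htp]
      simp [xs, emb, Ne.symm hij]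
    let ψ : (Fin a → F) →ₗ[F] LinearMap.range L := L.rangeRestrict.comp (C.toLinearMap.comp emb)
    obtain ⟨w, hw, hw0⟩ : ∃ w ∈ LinearMap.ker ψ, w ≠ 0 := by
      refine Submodule.exists_mem_ne_zero_of_ne_bot fun h0 => ?_
      have h1 := LinearMap.finrank_le_finrank_of_injective (LinearMap.ker_eq_bot.1 h0)
      rw [Module.finrank_fin_fun] at h1
      omega
    have hw1 : L (C (emb w)) = 0 := congrArg Subtype.val (LinearMap.mem_ker.1 hw)
    have h1 := hsq (xs w)
    rw [← hemb, hw1, add_zero] at h1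
    have h3 := C.injective h1
    obtain ⟨k, hk⟩ := Function.ne_iff.1 hw0
    have hval : ∀ p, v p * w k = (M i *ᵥ v) p * (M j *ᵥ w) k := fun p => by
      have h4 := congrFun h3 (fun l => if l = i then p else k)
      rw [htp] at h4
      simpa [emb, xs, Ne.symm hij] using h4
    by_cases hc : (M j *ᵥ w) k = 0
    · refine ⟨0, ?_⟩
      have hv : v = 0 := funext fun p => (mul_eq_zero.1 ((hval p).trans (by rw [hc, mul_zero]))).resolve_right hk
      rw [hv, Matrix.mulVec_zero, smul_zero]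
    · refine ⟨w k / (M j *ᵥ w) k, funext fun p => ?_⟩
      rw [Pi.smul_apply, smul_eq_mul, div_mul_eq_mul_div, eq_div_iff hc, ← hval, mul_comm]
  obtain ⟨r₀, hr₀⟩ := scalar_of_all_eigen (key 0 1 (by decide))
  obtain ⟨r₁, hr₁⟩ := scalar_of_all_eigen (key 1 0 (by decide))
  have hscal : ∀ xs : Fin 2 → Fin a → F, L (C (tp xs)) = (r₀ * r₁ - 1) • C (tp xs) := by
    intro xs
    have h1 : (tp fun i => M i *ᵥ xs i) = (r₀ * r₁) • tp xs := by
      funext s
      simp only [tp, Fin.prod_univ_two, hr₀, hr₁, Pi.smul_apply, smul_eq_mul]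
      ring
    rw [sub_smul, one_smul, ← map_smul, ← h1, ← hsq]
    abel
  have hall : ∀ z, L z = (r₀ * r₁ - 1) • z := by
    intro z
    obtain ⟨z, rfl⟩ := C.surjective z
    have h1 : L.comp C.toLinearMap = (r₀ * r₁ - 1) • C.toLinearMap := (Pi.basisFun F _).ext fun b => by
      simp only [Pi.basisFun_apply, LinearMap.comp_apply, LinearEquiv.coe_coe, LinearMap.smul_apply]
      rw [← tp_single]
      exact hscal _
    exact LinearMap.congr_fun h1 z
  obtain ⟨x, hx⟩ := hL.ne
  have h1 := hL.sq x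
  rw [hall, hall, smul_smul] at h1
  have hx0 : x ≠ 0 := fun h => hx (by rw [h, map_zero])
  have h4 : r₀ * r₁ - 1 = 0 := mul_self_eq_zero.1 ((smul_eq_zero.1 h1).resolve_right hx0)
  exact hx (by rw [hall, h4, zero_smul])

end CfsgLib.Geo.Asch
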