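import Mathlib
import Cfsg.Prelude.Def_GeometricClasses
import Cfsg.Agent.Lib.Geo.AschOrthNineProper
import Cfsg.Agent.Lib.Geo.AschOrthNineForms
import Cfsg.Agent.Lib.Geo.AschPowerForm
import Cfsg.Agent.Lib.Geo.AschFormCore
import Cfsg.Agent.Lib.Geo.AschFormField

/-! The structure theorem for maximal subgroups of Ω₉. -/

set_option autoImplicit false
set_option linter.unusedSectionVars false

namespace CfsgLib.Geo.Asch

open Cfsg Cfsg.Geo Matrix QuadraticMap CfsgLib.GeomClasses CfsgLib.Maximal.TensorTools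
open scoped MatrixGroups

variable {ι : Type} [Fintype ι] [DecidableEq ι] {F : Type*} [Field F] [Fintype F] {Q : (ι → F) → F}

theorem nine_eq_pow {a t : ℕ} (ha : 2 ≤ a) (ht : 2 ≤ t) (h : 9 = a ^ t) : a = 3 ∧ t = 2 := by
  have ha9 : a ≤ 9 := h ▸ Nat.le_self_pow (by omega) a
  have ht3 : t ≤ 3 := by
    by_contra h'
    have := (Nat.pow_le_pow_left ha t).trans h.ge
    have := Nat.pow_le_pow_right (show 1 ≤ 2 by omega) (show 4 ≤ t by omega)
    omega
  interval_cases a <;> interval_cases t <;> first | exact ⟨rfl, rfl⟩ | norm_num at h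

set_option maxHeartbeats 1600000 in
/-- Maximal subgroups of Ω in dimension nine. -/
theorem orth_nine_cases {n : ℕ} (hn : Fintype.card ι = n) (h9 : n = 9) (hq : Odd (Fintype.card F))
    (hQ : IsNondegenerateQuadraticForm Q)
    (hQ0 : ∀ (F₀ : Subfield F) (v : ι → F), (∀ i, v i ∈ F₀) → Q v ∈ F₀)
    {H : Subgroup (GL ι F)} (hH : IsMaximalIn (omegaGL Q) H) :
    (∃ W : Submodule F (ι → F), W ≠ ⊥ ∧ IsTotallySingularQuad Q W ∧ H = subspaceStabilizer W ⊓ omegaGL Q) ∨
    (∃ W : Submodule F (ι → F), W ≠ ⊥ ∧ Even (Module.finrank F W) ∧ IsNondegenerateOn (polar Q) W ∧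
      ¬ (Fintype.card F = 3 ∧ Module.finrank F W = 2 ∧ IsPlusTypeOn Q W) ∧
      H = subspaceStabilizer W ⊓ omegaGL Q) ∨
    ((Fintype.card F).Prime ∧ ∃ D : Fin 9 → Submodule F (ι → F), IsOrthogonalMDecomposition Q 1 D ∧
      H = decompositionStabilizer D ⊓ omegaGL Q) ∨
    (5 ≤ Fintype.card F ∧ ∃ D : Fin 3 → Submodule F (ι → F), IsOrthogonalMDecomposition Q 3 D ∧
      H = decompositionStabilizer D ⊓ omegaGL Q) ∨
    (∃ K : Subalgebra F (Matrix ι ι F), IsFieldSubalgebra 3 K ∧ IsSelfAdjointFor (polar Q) K ∧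
      H = subalgebraNormalizer K ⊓ omegaGL Q) ∨
    (∃ (F₀ : Subfield F) (r : ℕ) (P : GL ι F), r.Prime ∧ Fintype.card F = Nat.card F₀ ^ r ∧
      IsQuadFormRationalStructure Q F₀ P ∧ H = subfieldSubgroup F₀ P ⊓ omegaGL Q) ∨
    (5 ≤ Fintype.card F ∧ ∃ (e : ι ≃ (Fin 2 → Fin 3)) (P : GL ι F) (f₁ : (Fin 3 → F) → (Fin 3 → F) → F),
      IsSymmetricForm f₁ ∧ IsTensorPowerFormStructure id (polar Q) f₁ e P ∧
      H = tensorWreathSubgroup 3 2 e P ⊓ omegaGL Q) ∨
    InOrthogonalResidualClass H := by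
  classical
  have h7 : 7 ≤ n := by omega
  haveI : Nonempty ι := Fintype.card_pos_iff.1 (by omega)
  have hodd : Odd (Fintype.card ι) := ⟨4, by omega⟩
  have h7' : 7 ≤ Fintype.card ι := hn ▸ h7
  have h2 : (2 : F) ≠ 0 := two_ne_zero_of_odd hq
  have hs := polar_isSesq hQ
  have hqd := OrthTools.quadOf_nondegenerate hQ
  have hHΩ : H ≤ omegaGL Q := hH.1.le
  have hHf : ∀ g ∈ H, ∀ u v, polar Q ((g : Matrix ι ι F) *ᵥ u) ((g : Matrix ι ι F) *ᵥ v) = polar Q u v :=
    fun g hg => omega_polar hQ (hHΩ hg)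
  have hHQ : ∀ g ∈ H, ∀ u, Q ((g : Matrix ι ι F) *ᵥ u) = Q u := fun g hg u => by
    have h1 := hHf g hg u u
    rw [quad_polar_self hQ, quad_polar_self hQ] at h1
    exact mul_left_cancel₀ h2 h1
  by_cases hirr : ActsIrreducibly (matrixSet H)
  swap
  · obtain ⟨W, hW, hW1, hW2⟩ : ∃ W : Submodule F (ι → F),
        (∀ s ∈ matrixSet H, W.map (Matrix.toLin' s) ≤ W) ∧ W ≠ ⊥ ∧ W ≠ ⊤ := by
      unfold ActsIrreducibly at hirr
      push Not at hirr
      exact hirr
    let o := OrthTools.orth (quadOf hQ)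
    have hmo : ∀ {X : Submodule F (ι → F)} {x}, x ∈ o X ↔ ∀ y ∈ X, polar Q y x = 0 := fun {X x} => OrthTools.mem_orth
    have hdim : ∀ X : Submodule F (ι → F), Module.finrank F X + Module.finrank F (o X) = n := fun X => by
      have := OrthTools.finrank_orth hqd X
      have h' := Submodule.finrank_le X
      rw [Module.finrank_fintype_fun_eq_card] at h'
      show _ + Module.finrank F (OrthTools.orth (quadOf hQ) X) = n
      omega
    have hinvo : ∀ X : Submodule F (ι → F), (∀ g ∈ H, ∀ v ∈ X, (g : Matrix ι ι F) *ᵥ v ∈ X) →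
        ∀ g ∈ H, ∀ v ∈ o X, (g : Matrix ι ι F) *ᵥ v ∈ o X := fun X hX g hg v hv => by
      rw [hmo] at hv ⊢
      intro y hy
      rw [← gl_mulVec_inv_mulVec g y, hHf g hg]
      exact hv _ (hX _ (H.inv_mem hg) y hy)
    have hmk : ∀ X : Submodule F (ι → F), (∀ g ∈ H, ∀ v ∈ X, (g : Matrix ι ι F) *ᵥ v ∈ X) → X ≠ ⊥ → X ≠ ⊤ →
        H = subspaceStabilizer X ⊓ omegaGL Q := fun X hX h1 h3 =>
      eq_inf_of_le hH (fun g hg => mem_subspaceStabilizer.2 (hX g hg)) (omega_not_le_subspace hQ h7' h1 h3)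
    have hWinv : ∀ g ∈ H, ∀ v ∈ W, (g : Matrix ι ι F) *ᵥ v ∈ W := fun g hg v hv =>
      invariant_map_mem hW ⟨g, hg, rfl⟩ hv
    by_cases hR : W ⊓ o W = ⊥
    swap
    · refine Or.inl ⟨_, hR, fun v hv => ?_, hmk _ (fun g hg v hv => ⟨hWinv g hg v hv.1, hinvo W hWinv g hg v hv.2⟩) hR
        (fun h => hW2 (top_le_iff.1 (h ▸ inf_le_left)))⟩
      have h1 := hmo.1 hv.2 v hv.1
      rw [quad_polar_self hQ] at h1
      exact (mul_eq_zero.1 h1).resolve_left h2
    refine Or.inr (Or.inl ?_)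
    have hnd : ∀ x ∈ W, x ≠ 0 → ∃ y ∈ W, polar Q x y ≠ 0 := by
      intro x hx hx0
      by_contra hc
      push Not at hc
      exact hx0 ((Submodule.eq_bot_iff _).1 hR x ⟨hx, hmo.2 fun y hy => by rw [polar_comm]; exact hc y hy⟩)
    have hon : ∀ X : Submodule F (ι → F), (∀ x ∈ X, x ≠ 0 → ∃ y ∈ X, polar Q x y ≠ 0) →
        IsNondegenerateOn (polar Q) X := fun X hX w hw hw0 => by
      obtain ⟨y, hy, hne⟩ := hX w hw hw0
      exact ⟨⟨y, hy, by rwa [polar_comm]⟩, ⟨y, hy, hne⟩⟩
    have hWlt := Submodule.finrank_lt hW2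
    rw [Module.finrank_fintype_fun_eq_card, hn] at hWlt
    have hWpos : 0 < Module.finrank F W := Nat.pos_of_ne_zero fun h => hW1 (Submodule.finrank_eq_zero.1 h)
    have hne : ∀ X : Submodule F (ι → F), 0 < Module.finrank F X → Module.finrank F X < n → X ≠ ⊥ ∧ X ≠ ⊤ :=
      fun X h1 h3 => ⟨fun h => by rw [h, finrank_bot] at h1; omega,
        fun h => by rw [h, finrank_top, Module.finrank_fintype_fun_eq_card, hn] at h3; omega⟩
    have key : ∀ U : Submodule F (ι → F), (∀ g ∈ H, ∀ v ∈ U, (g : Matrix ι ι F) *ᵥ v ∈ U) →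
        (∀ x ∈ U, x ≠ 0 → ∃ y ∈ U, polar Q x y ≠ 0) → Even (Module.finrank F U) → 0 < Module.finrank F U →
        Module.finrank F U < n →
        ∃ W : Submodule F (ι → F), W ≠ ⊥ ∧ Even (Module.finrank F W) ∧ IsNondegenerateOn (polar Q) W ∧
          ¬ (Fintype.card F = 3 ∧ Module.finrank F W = 2 ∧ IsPlusTypeOn Q W) ∧
          H = subspaceStabilizer W ⊓ omegaGL Q := by
      intro U hU hUn hUe hU0 hUlt
      by_cases hbad : Fintype.card F = 3 ∧ Module.finrank F U = 2 ∧ IsPlusTypeOn Q U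
      swap
      · exact ⟨U, (hne U hU0 hUlt).1, hUe, hon U hUn, hbad, hmk U hU (hne U hU0 hUlt).1 (hne U hU0 hUlt).2⟩
      obtain ⟨h3, hU2, U₁, hU₁, hts, hU₁d⟩ := hbad
      rw [hU2] at hU₁d
      obtain ⟨e, he, he0⟩ := Submodule.exists_mem_ne_zero_of_ne_bot (p := U₁)
        (fun h => by rw [h, finrank_bot] at hU₁d; omega)
      obtain ⟨f, hf, hqf, hef⟩ := OrthTools.exists_partner (q := quadOf hQ) hUn (hU₁ he) he0 (hts e he)
      change Q f = 0 at hqf
      change polar Q e f = 1 at hef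
      have hqe : Q e = 0 := hts e he
      have hcomb : ∀ a b : F, Q (a • e + b • f) = a * b := fun a b => by
        have h1 : polar Q (a • e) (b • f) = a * b := by
          rw [hs.smul_left, hs.smul_right, hef, RingHom.id_apply, mul_one]
        rw [polar, hQ.smul, hQ.smul, hqe, hqf] at h1
        simp only [mul_zero, sub_zero] at h1
        exact h1
      have hli : LinearIndependent F ![e, f] := by
        rw [LinearIndependent.pair_iff]
        intro a b hab
        have h1 := congrArg (fun z => polar Q z f) hab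
        have h1' := congrArg (fun z => polar Q z e) hab
        have hff : polar Q f f = 0 := by rw [quad_polar_self hQ, hqf, mul_zero]
        have hee : polar Q e e = 0 := by rw [quad_polar_self hQ, hqe, mul_zero]
        simp only [hs.add_left, hs.smul_left, hs.zero_left, hef, hff, hee, polar_comm (f := Q) f e] at h1 h1'
        exact ⟨by linear_combination h1, by linear_combination h1'⟩
      have hspan : Submodule.span F (Set.range ![e, f]) = U := by
        refine Submodule.eq_of_le_of_finrank_eq (Submodule.span_le.2 ?_) ?_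
        · rintro _ ⟨i, rfl⟩
          fin_cases i
          · exact hU₁ he
          · exact hf
        · rw [finrank_span_eq_card hli, Fintype.card_fin, hU2]
      set z := e + f with hz
      have hqz : Q z = 1 := by simpa [hz] using hcomb 1 1
      have hzz : polar Q z z ≠ 0 := by rw [quad_polar_self hQ, hqz, mul_one]; exact h2
      have hz0 : z ≠ 0 := fun h => hzz (by rw [h, hs.zero_left])
      set L := Submodule.span F {z} with hL
      have hLinv : ∀ g ∈ H, ∀ v ∈ L, (g : Matrix ι ι F) *ᵥ v ∈ L := by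
        intro g hg v hv
        obtain ⟨c, rfl⟩ := Submodule.mem_span_singleton.1 hv
        rw [Matrix.mulVec_smul]
        refine L.smul_mem _ ?_
        have hmem : (g : Matrix ι ι F) *ᵥ z ∈ U := hU g hg z (U.add_mem (hU₁ he) hf)
        rw [← hspan, Matrix.range_cons, Matrix.range_cons, Matrix.range_empty, Set.union_empty,
          Set.singleton_union, Submodule.mem_span_pair] at hmem
        obtain ⟨a, b, hab⟩ := hmem
        have h1 := hHQ g hg z
        rw [hqz, ← hab, hcomb] at h1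
        have ha0 : a ≠ 0 := fun h => by rw [h, zero_mul] at h1; exact zero_ne_one h1
        have ha2 := FiniteField.pow_card_sub_one_eq_one a ha0
        rw [h3, _root_.sq] at ha2
        have hba : b = a := mul_left_cancel₀ ha0 (h1.trans ha2.symm)
        rw [← hab, hba, ← smul_add]
        exact L.smul_mem _ (Submodule.mem_span_singleton_self z)
      have hLn : ∀ x ∈ L, x ≠ 0 → ∃ y ∈ L, polar Q x y ≠ 0 := by
        intro x hx hx0
        obtain ⟨c, rfl⟩ := Submodule.mem_span_singleton.1 hx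
        refine ⟨z, Submodule.mem_span_singleton_self z, ?_⟩
        rw [hs.smul_left]
        exact mul_ne_zero (fun h => hx0 (by rw [h, zero_smul])) hzz
      have hL1 : Module.finrank F L = 1 := finrank_span_singleton hz0
      have h4 := hdim L
      rw [hL1] at h4
      have he' : Even (Module.finrank F (o L)) := by
        obtain ⟨k, hk⟩ := hn ▸ hodd
        exact ⟨k, by omega⟩
      obtain ⟨h5, h6⟩ := hne (o L) (by omega) (by omega)
      exact ⟨o L, h5, he', hon _ (OrthTools.orth_nondegenerate hqd hLn), fun h => by have := h.2.1; omega,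
        hmk _ (hinvo L hLinv) h5 h6⟩
    have h4 := hdim W
    rcases Nat.even_or_odd (Module.finrank F W) with he | ⟨k, hk⟩
    · exact key W hWinv hnd he hWpos hWlt
    · obtain ⟨m, hm⟩ := hn ▸ hodd
      exact key (o W) (hinvo W hWinv) (OrthTools.orth_nondegenerate hqd hnd) ⟨m - k, by omega⟩ (by omega) (by omega)
  refine Or.inr (Or.inr ?_)
  have hh := herm_polar hQ
  have hq5 : Fintype.card F ≠ 3 → 5 ≤ Fintype.card F := fun h => by
    obtain ⟨k, hk⟩ := hq
    have := Fintype.one_lt_card (α := F)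
    omega
  have hframe : ∀ {t : ℕ} {D : Fin t → Submodule F (ι → F)}, IsNondegenerateMDecomposition (polar Q) 1 D →
      H ≤ decompositionStabilizer D →
      ((Fintype.card F).Prime ∧ ∃ D : Fin 9 → Submodule F (ι → F), IsOrthogonalMDecomposition Q 1 D ∧
        H = decompositionStabilizer D ⊓ omegaGL Q) ∨
      (∃ (F₀ : Subfield F) (r : ℕ) (P : GL ι F), r.Prime ∧ Fintype.card F = Nat.card F₀ ^ r ∧
        IsQuadFormRationalStructure Q F₀ P ∧ H = subfieldSubgroup F₀ P ⊓ omegaGL Q) := by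
    intro t D hD hle
    obtain rfl : t = 9 := by
      have := mdecomposition_card hD.decomp
      omega
    exact (frame_cases hQ h7' hodd h2 hQ0 hH hirr hD hle).imp (fun ⟨h1, h3, h4⟩ => ⟨h1, D, h3, h4⟩) id
  have hthrees : ∀ {t : ℕ} {D : Fin t → Submodule F (ι → F)}, IsNondegenerateMDecomposition (polar Q) 3 D →
      H ≤ decompositionStabilizer D →
      ((Fintype.card F).Prime ∧ ∃ D : Fin 9 → Submodule F (ι → F), IsOrthogonalMDecomposition Q 1 D ∧
        H = decompositionStabilizer D ⊓ omegaGL Q) ∨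
      (5 ≤ Fintype.card F ∧ ∃ D : Fin 3 → Submodule F (ι → F), IsOrthogonalMDecomposition Q 3 D ∧
        H = decompositionStabilizer D ⊓ omegaGL Q) ∨
      (∃ (F₀ : Subfield F) (r : ℕ) (P : GL ι F), r.Prime ∧ Fintype.card F = Nat.card F₀ ^ r ∧
        IsQuadFormRationalStructure Q F₀ P ∧ H = subfieldSubgroup F₀ P ⊓ omegaGL Q) := by
    intro t D hD hle
    have htm := mdecomposition_card hD.decomp
    obtain rfl : t = 3 := by omega
    by_cases h3 : Fintype.card F = 3
    · obtain ⟨D', hD', hle'⟩ := lines_of_threes hQ h3 hHf hirr htm hD hle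
      exact (hframe hD' hle').imp_right Or.inr
    · exact Or.inr (Or.inl ⟨hq5 h3, D, ⟨hD, isometric_of_irreducible hirr hHQ hD.decomp hle⟩,
        eq_inf_of_le hH hle (omega_not_le_threes hQ h7' hD)⟩)
  rcases irreducible_cases (by omega) hh hHf hirr with hg | ⟨N, hNH, hinv, hns, hspan, hmin, hcase⟩
  swap
  · have hfN : FixesForm (matrixSet N) (polar Q) := by
      rintro _ ⟨g, hg, rfl⟩ u v
      exact hHf g (hNH hg) u v
    rcases hcase with ⟨hcl, -⟩ | ⟨hperf, hcl⟩
    · exfalso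
      obtain ⟨r, m, hm, hR⟩ := exists_typeR (by omega) hinv hspan hcl hmin
      obtain ⟨rfl, -⟩ := hR.two_of_bilinear hQ.polar_bilinear hQ.nondegenerate hfN
      rw [hR.deg] at hodd
      exact Nat.not_even_iff_odd.2 hodd (Nat.even_pow.2 ⟨even_two, by omega⟩)
    rcases simple_or_family_groups hNH hinv hspan hcl hmin with
      hsimple | ⟨a, t, ψ, ha, ht, hcard, hcomm, hgrp, hperm⟩
    · by_cases hreal : ∃ F₀ : Subfield F, F₀ ≠ ⊤ ∧ RealisableOver F₀ (matrixSet N)
      · obtain ⟨F₀, h0, hr⟩ := hreal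
        obtain ⟨F₁, r, P, hrp, hc, hle, hrat⟩ := exists_rational_subfield hspan hinv h0 hr
        obtain ⟨P', hPP, hform⟩ := exists_quad_rational hQ h2 hodd hQ0 hspan hfN F₁ P hrat
        exact Or.inr (Or.inr (Or.inr (Or.inl ⟨F₁, r, P', hrp, hc, hform, eq_inf_of_le hH (hPP ▸ hle)
          (omega_not_le_subfield hQ h7' (subfield_ne_top hrp hc) P')⟩)))
      · refine Or.inr (Or.inr (Or.inr (Or.inr (Or.inr ⟨N,
          residualCore_of_simple hNH hinv hspan hperf hns hsimple (fun F₀ h0 hr => hreal ⟨F₀, h0, hr⟩), ?_⟩))))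
        rintro ⟨σ, f, hf, hfix⟩
        exact hreal (realisable_of_bilinear hspan hf hfix hs hQ.nondegenerate hfN)
    obtain ⟨rfl, rfl⟩ := nine_eq_pow ha ht ((h9 ▸ hn).symm.trans hcard)
    by_cases h3 : Fintype.card F = 3
    · exact (no_perfect_square_three hh h3 hcard hcomm hHf hNH hspan hperf hgrp hperm).elim
    obtain ⟨e, P, G, c, ε₁, hc, hG, hsym, -, -, hform, hle⟩ :=
      exists_power_form hh ha ht hcard hcomm hHf hNH hspan hinv hmin hgrp hperm
    have h1 : Herm (RingEquiv.refl F) ε₁ (formOfGram ((RingEquiv.refl F : F ≃+* F) : F → F) G) :=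
      herm_formOfGram (fun _ => rfl) hG hsym
    obtain rfl := herm_odd_eps h2 (by rw [Fintype.card_fin]; decide) h1
    refine Or.inr (Or.inr (Or.inr (Or.inr (Or.inl ⟨hq5 h3, e, P,
      formOfGram ((RingEquiv.refl F : F ≃+* F) : F → F) G, isSymmetricForm_of_herm h1, ⟨c, hc, fun x y => ?_⟩,
      eq_inf_of_le hH hle (omega_not_le_wreath_two hQ h7' h2 le_rfl e P)⟩))))
    rw [gramMatrix_formOfGram]
    exact hform x y
  rcases hg with ⟨t, m, D, hD, hle⟩ | ⟨m, D, hD, -, -⟩ | ⟨s, K, hs', hK, hKa, hHK⟩ |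
      ⟨a, b, e, P, ε₁, ε₂, f₁, f₂, ha, hb, h₁, h₂, -, -, hT, hle⟩
  · have htm := mdecomposition_card hD.decomp
    have ht := hD.decomp.two_le
    rw [hn, h9] at htm
    have hm4 : m ≤ 4 := by nlinarith
    have hm0 := hD.decomp.pos
    interval_cases m
    · exact (hframe hD hle).elim Or.inl fun h => Or.inr (Or.inr (Or.inr (Or.inl h)))
    · omega
    · exact (hthrees hD hle).elim Or.inl
        fun h => h.elim (fun h => Or.inr (Or.inl h)) fun h => Or.inr (Or.inr (Or.inr (Or.inl h)))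
    · omega
  · exfalso
    have := mdecomposition_card hD
    omega
  · have hdvd := isFieldSubalgebra_dvd hK
    rw [hn, h9] at hdvd
    obtain rfl := (Nat.prime_dvd_prime_iff_eq hs' Nat.prime_three).1 (hs'.dvd_of_dvd_pow (show s ∣ 3 ^ 2 from hdvd))
    exact Or.inr (Or.inr (Or.inl ⟨K, hK, selfAdjoint_of_odd hh hK (by decide) hKa,
      eq_inf_of_le hH (le_subalgebraNormalizer hHK) (omega_not_le_field hQ h7' le_rfl hK)⟩))
  have hab : a * b = 9 := by
    rw [← h9, ← hn]
    simpa using (Fintype.card_congr e).symm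
  obtain rfl : a = 3 := by
    have ha4 : a ≤ 4 := by nlinarith
    interval_cases a <;> omega
  obtain rfl : b = 3 := by omega
  have hodd3 : Odd (Fintype.card (Fin 3)) := by rw [Fintype.card_fin]; decide
  obtain rfl := herm_odd_eps h2 hodd3 h₁
  obtain rfl := herm_odd_eps h2 hodd3 h₂
  by_cases h3 : Fintype.card F = 3
  · obtain ⟨w, hne, horth, hfr⟩ := orth_three_frame h3 h₂
    obtain ⟨D, hD, hleD⟩ := tensor_frame_decomposition hh hT h₁ h₂ (by omega) (by omega) w hne horth hle hHf hfr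
    exact (hthrees hD hleD).elim Or.inl
      fun h => h.elim (fun h => Or.inr (Or.inl h)) fun h => Or.inr (Or.inr (Or.inr (Or.inl h)))
  obtain ⟨P', hPP, hTP⟩ := exists_square_symm h2 (show Odd 3 by decide) e P h₁ h₂ hT
  exact Or.inr (Or.inr (Or.inr (Or.inr (Or.inl ⟨hq5 h3, _, P', f₁, isSymmetricForm_of_herm h₁, hTP,
    eq_inf_of_le hH ((hle.trans (tensorProductSubgroup_le_wreath e P)).trans hPP)
      (omega_not_le_wreath_two hQ h7' h2 le_rfl _ P')⟩))))

end CfsgLib.Geo.Asch
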