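import Mathlib

/-! Tables for subgroups of SU3(3) and SU3(5): a model of the fields with 9 and 25 elements on natural numbers,
generators of 3.A7, 3.M10 and L2(7), and the finite checks on them. -/

set_option autoImplicit false
set_option maxRecDepth 4000
set_option synthInstance.maxSize 8000
set_option synthInstance.maxHeartbeats 400000

namespace CfsgLib.Geo.Asch.SU3Tables

/-- A coded vector. -/
abbrev Vec : Type := ℕ × ℕ × ℕ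

/-- A coded matrix, by rows. -/
abbrev Mat : Type := Vec × Vec × Vec

/-- Addition in the field with p² elements; a * p + b codes a + b √2. -/
def add (p a b : ℕ) : ℕ := (a / p + b / p) % p * p + (a + b) % p

/-- Multiplication in the field with p² elements. -/
def mul (p a b : ℕ) : ℕ :=
  (a / p * (b / p) + 2 * (a % p * (b % p))) % p * p + (a / p * (b % p) + a % p * (b / p)) % p

/-- Conjugation in the field with p² elements. -/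
def cj (p a : ℕ) : ℕ := a / p % p * p + (p - a % p) % p

/-- Negation in the field with p² elements. -/
def neg (p a : ℕ) : ℕ := (p - a / p % p) % p * p + (p - a % p) % p

/-- Powers. -/
def pw (p a : ℕ) : ℕ → ℕ
  | 0 => p
  | k + 1 => mul p a (pw p a k)

/-- The product of a row and a column. -/
def dot (p : ℕ) (u v : Vec) : ℕ :=
  add p (add p (mul p u.1 v.1) (mul p u.2.1 v.2.1)) (mul p u.2.2 v.2.2)

/-- Matrix times vector. -/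
def mvec (p : ℕ) (A : Mat) (v : Vec) : Vec := (dot p A.1 v, dot p A.2.1 v, dot p A.2.2 v)

/-- The transposed matrix. -/
def tp (A : Mat) : Mat :=
  ((A.1.1, A.2.1.1, A.2.2.1), (A.1.2.1, A.2.1.2.1, A.2.2.2.1), (A.1.2.2, A.2.1.2.2, A.2.2.2.2))

/-- Scalar times vector. -/
def scl (p c : ℕ) (v : Vec) : Vec := (mul p c v.1, mul p c v.2.1, mul p c v.2.2)

/-- Scalar times matrix. -/
def smat (p c : ℕ) (A : Mat) : Mat := (scl p c A.1, scl p c A.2.1, scl p c A.2.2)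

/-- Matrix product. -/
def mmul (p : ℕ) (A B : Mat) : Mat :=
  ((dot p A.1 (tp B).1, dot p A.1 (tp B).2.1, dot p A.1 (tp B).2.2),
   (dot p A.2.1 (tp B).1, dot p A.2.1 (tp B).2.1, dot p A.2.1 (tp B).2.2),
   (dot p A.2.2 (tp B).1, dot p A.2.2 (tp B).2.1, dot p A.2.2 (tp B).2.2))

/-- Conjugate of a vector. -/
def cjv (p : ℕ) (v : Vec) : Vec := (cj p v.1, cj p v.2.1, cj p v.2.2)

/-- Conjugate transpose. -/
def adj (p : ℕ) (A : Mat) : Mat := tp (cjv p A.1, cjv p A.2.1, cjv p A.2.2)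

/-- The identity matrix. -/
def one (p : ℕ) : Mat := ((p, 0, 0), (0, p, 0), (0, 0, p))

/-- The determinant. -/
def det (p : ℕ) (A : Mat) : ℕ :=
  add p (add p
    (mul p A.1.1 (add p (mul p A.2.1.2.1 A.2.2.2.2) (neg p (mul p A.2.1.2.2 A.2.2.2.1))))
    (mul p (neg p A.1.2.1) (add p (mul p A.2.1.1 A.2.2.2.2) (neg p (mul p A.2.1.2.2 A.2.2.1)))))
    (mul p A.1.2.2 (add p (mul p A.2.1.1 A.2.2.2.1) (neg p (mul p A.2.1.2.1 A.2.2.1))))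

/-- Membership in the special unitary group. -/
def IsSU (p : ℕ) (A : Mat) : Prop := mmul p (adj p A) A = one p ∧ det p A = p

instance (p : ℕ) (A : Mat) : Decidable (IsSU p A) := by unfold IsSU; infer_instance

/-- The product of listed generators. -/
def word (p : ℕ) (L : List Mat) : List ℕ → Mat
  | [] => one p
  | k :: w => mmul p (L.getD k (one p)) (word p L w)

/-- The first non-zero coordinate. -/
def lead (v : Vec) : ℕ := if v.1 ≠ 0 then v.1 else if v.2.1 ≠ 0 then v.2.1 else v.2.2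

/-- The list is stable on points, with witnessing scalar. -/
def Stable (p : ℕ) (L : List Mat) (S : List Vec) : Prop :=
  ∀ A ∈ L, ∀ s ∈ S, pw p (lead (mvec p A s)) (p * p - 2) ≠ 0 ∧
    scl p (pw p (lead (mvec p A s)) (p * p - 2)) (mvec p A s) ∈ S

/-- The permutations of three points. -/
def perms : List Vec := [(0, 1, 2), (0, 2, 1), (1, 0, 2), (1, 2, 0), (2, 0, 1), (2, 1, 0)]

/-- A unit coordinate vector times a scalar. -/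
def unitv (i a : ℕ) : Vec := (if i = 0 then a else 0, if i = 1 then a else 0, if i = 2 then a else 0)

/-- The monomial matrix with column j equal to a_j e_(π j). -/
def monMat (π a : Vec) : Mat := tp (unitv π.1 a.1, unitv π.2.1 a.2.1, unitv π.2.2 a.2.2)

/-- A primitive cube root of unity with 25 elements, and its square. -/
def om : ℕ := 12

/-- The norm one elements with 25 elements. -/
def normOne : List ℕ :=
 [
  5, 12, 13, 17, 18, 20]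

/-- Generators of 3.A7 in SU3(5). -/
def gens5 : List Mat :=
 [
  ((0, 1, 7), (1, 21, 6), (23, 24, 15)), ((1, 9, 6), (0, 23, 22), (4, 9, 6)), ((12, 0, 0), (0, 12, 0), (0, 0, 12)),
  ((0, 0, 5), (5, 0, 0), (0, 5, 0)), ((0, 5, 0), (5, 0, 0), (0, 0, 20)), ((17, 0, 0), (0, 18, 0), (0, 0, 5)),
  ((5, 0, 0), (0, 17, 0), (0, 0, 18)), ((0, 1, 1), (1, 10, 15), (4, 10, 15)), ((0, 0, 5), (0, 5, 0), (20, 0, 0)),
  ((5, 5, 10), (5, 10, 5), (10, 5, 5)), ((5, 5, 15), (5, 10, 20), (15, 20, 5)),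
  ((5, 15, 5), (5, 20, 10), (10, 20, 5)), ((5, 15, 20), (5, 20, 15), (15, 5, 5))]

/-- An orbit of 3.A7 on points. -/
def orbit5 : List Vec :=
 [
  (0, 0, 5), (0, 5, 0), (0, 5, 5), (0, 5, 12), (0, 5, 13), (0, 5, 17), (0, 5, 18), (0, 5, 20), (5, 0, 0),
  (5, 0, 5), (5, 0, 12), (5, 0, 13), (5, 0, 17), (5, 0, 18), (5, 0, 20), (5, 1, 1), (5, 1, 4), (5, 2, 5),
  (5, 2, 20), (5, 3, 5), (5, 3, 20), (5, 4, 1), (5, 4, 4), (5, 5, 0), (5, 5, 2), (5, 5, 3), (5, 5, 5), (5, 5, 10),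
  (5, 5, 15), (5, 5, 20), (5, 6, 9), (5, 6, 13), (5, 6, 17), (5, 6, 21), (5, 7, 8), (5, 7, 22), (5, 8, 7),
  (5, 8, 23), (5, 9, 6), (5, 9, 12), (5, 9, 18), (5, 9, 24), (5, 10, 5), (5, 10, 10), (5, 10, 15), (5, 10, 20),
  (5, 11, 13), (5, 11, 17), (5, 12, 0), (5, 12, 9), (5, 12, 13), (5, 12, 14), (5, 12, 16), (5, 12, 17),
  (5, 12, 21), (5, 13, 0), (5, 13, 6), (5, 13, 11), (5, 13, 12), (5, 13, 18), (5, 13, 19), (5, 13, 24),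
  (5, 14, 12), (5, 14, 18), (5, 15, 5), (5, 15, 10), (5, 15, 15), (5, 15, 20), (5, 16, 12), (5, 16, 18),
  (5, 17, 0), (5, 17, 6), (5, 17, 11), (5, 17, 12), (5, 17, 18), (5, 17, 19), (5, 17, 24), (5, 18, 0), (5, 18, 9),
  (5, 18, 13), (5, 18, 14), (5, 18, 16), (5, 18, 17), (5, 18, 21), (5, 19, 13), (5, 19, 17), (5, 20, 0),
  (5, 20, 2), (5, 20, 3), (5, 20, 5), (5, 20, 10), (5, 20, 15), (5, 20, 20), (5, 21, 6), (5, 21, 12), (5, 21, 18),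
  (5, 21, 24), (5, 22, 7), (5, 22, 23), (5, 23, 8), (5, 23, 22), (5, 24, 9), (5, 24, 13), (5, 24, 17), (5, 24, 21)]

/-- An element moving the orbit, and a point of the orbit. -/
def moved5 : Mat × Vec := (((14, 22, 5), (19, 13, 1), (14, 3, 3)), (0, 0, 5))

/-- The monomial matrices as products of the generators. -/
def monoWords : List (List ℕ) :=
 [
  [], [6, 6], [6, 6, 6, 6], [6], [5, 3, 6, 3, 3], [6, 6, 6], [4, 6, 6, 4], [5, 4, 6, 3, 4, 3], [5, 5],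
  [3, 4, 6, 3, 4], [6, 5, 5], [4, 6, 6, 3, 4, 3], [3, 6, 6, 3, 3], [4, 5, 5, 4], [4, 5, 3, 4, 5, 3],
  [3, 6, 6, 5, 3, 3], [5, 3, 4, 3, 4], [6, 4, 5, 5, 4], [6, 5], [6, 6, 6, 5], [5, 5, 3, 6, 3, 3], [6, 6, 5], [5],
  [4, 6, 3, 4, 3], [3, 6, 3, 3], [6, 4, 5, 4], [4, 5, 3, 4, 3], [4, 5, 4], [5, 3, 6, 6, 3, 3], [4, 3, 4, 5, 3],
  [3, 4, 3, 4], [6, 6, 3, 4, 3, 4], [6, 5, 5, 5], [6, 3, 4, 3, 4], [3, 4, 5, 3, 4], [5, 5, 5], [3, 3, 4],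
  [6, 4, 3], [4, 3, 6], [6, 6, 4, 3], [6, 3, 3, 4], [4, 3], [3, 4, 6, 3, 3], [5, 4, 6, 3], [3, 3, 4, 5, 5],
  [4, 6, 6, 3], [5, 3, 3, 4, 5], [5, 5, 4, 3], [5, 3, 4, 3, 3], [6, 4, 5, 5, 3], [4, 5, 5, 3, 6],
  [5, 3, 4, 5, 3, 3], [3, 4, 3, 6, 3], [4, 5, 5, 3], [5, 3, 3, 4], [4, 6, 3], [5, 4, 3, 6], [6, 4, 6, 3],
  [3, 3, 4, 5], [5, 4, 3], [3, 6, 5, 3, 4], [6, 4, 5, 3], [4, 5, 3, 6], [3, 6, 3, 4], [4, 5, 3, 6, 6], [4, 5, 3],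
  [3, 4, 3, 3], [5, 5, 4, 6, 3], [6, 6, 3, 4, 3, 3], [3, 4, 5, 3, 3], [6, 3, 4, 3, 3], [5, 5, 5, 4, 3], [4],
  [4, 6, 6], [3, 4, 3, 6], [4, 6], [3, 6, 3, 3, 4], [3, 4, 3], [6, 6, 4], [6, 3, 4, 6, 3], [4, 5, 5], [6, 6, 4, 6],
  [6, 4, 5], [6, 6, 3, 4, 3], [6, 6, 6, 6, 4], [5, 5, 4], [5, 3, 4, 5, 3], [5, 4, 3, 6, 3, 3], [5, 5, 3, 4, 3],
  [5, 5, 4, 6], [6, 4], [3, 4, 6, 3], [6, 3, 4, 3, 6], [6, 4, 6], [4, 5], [6, 3, 4, 3], [4, 3, 6, 3, 3], [5, 4, 6],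
  [5, 3, 4, 3], [5, 4], [5, 3, 4, 3, 6], [3, 4, 5, 3], [6, 6, 6, 4], [6, 6, 3, 4, 6, 3], [6, 4, 5, 5],
  [6, 6, 6, 4, 6], [6, 6, 4, 5], [5, 5, 5, 4], [3], [3, 6, 6], [4, 6, 6, 4, 3], [3, 6], [6, 5, 3], [4, 3, 3, 4],
  [4, 5, 5, 4, 3], [6, 4, 5, 3, 3, 4], [6, 6, 3], [6, 6, 4, 3, 3, 4], [3, 6, 5, 5], [6, 6, 6, 5, 3], [5, 5, 3],
  [6, 6, 6, 6, 3], [5, 4, 3, 6, 3, 4], [5, 5, 3, 6], [6, 5, 5, 5, 3], [4, 5, 3, 4, 3, 3], [3, 6, 5],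
  [6, 4, 3, 3, 4], [6, 6, 5, 3], [3, 6, 6, 5], [6, 3], [4, 5, 3, 3, 4], [5, 3], [5, 3, 6, 6], [4, 3, 6, 3, 4],
  [5, 3, 6], [6, 5, 5, 3], [5, 4, 3, 3, 4], [5, 5, 5, 3], [4, 6, 3, 4, 3, 3], [3, 6, 5, 5, 5], [5, 5, 5, 3, 6],
  [6, 4, 5, 5, 4, 3], [6, 6, 6, 3], [3, 3], [5, 5, 3, 3], [4, 5, 5, 4, 3, 3], [5, 3, 3], [3, 6, 5, 3],
  [5, 5, 5, 3, 3], [6, 4, 3, 4], [5, 4, 6, 3, 4], [3, 6, 6, 3], [4, 6, 3, 4], [5, 3, 6, 6, 3], [6, 4, 3, 3, 4, 3],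
  [6, 6, 3, 3], [4, 6, 6, 4, 3, 3], [4, 5, 3, 4, 5], [6, 6, 5, 3, 3], [4, 3, 4, 5], [4, 3, 6, 3, 4, 3],
  [5, 3, 6, 3], [4, 6, 6, 3, 4], [3, 6, 6, 5, 3], [5, 5, 3, 6, 3], [3, 6, 3], [3, 4, 5, 3, 3, 4], [6, 3, 3],
  [6, 5, 5, 3, 3], [4, 3, 4, 5, 5], [6, 5, 3, 3], [3, 6, 5, 5, 3], [6, 5, 5, 5, 3, 3], [4, 3, 4], [5, 5, 4, 3, 4],
  [4, 5, 5, 3, 4], [5, 4, 3, 4], [4, 5, 3, 4], [4, 3, 3, 4, 3], [3, 4], [3, 4, 6, 6], [5, 5, 3, 4], [3, 4, 6],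
  [5, 3, 4], [3, 3, 4, 3], [4, 6, 3, 3], [6, 4, 5, 3, 3], [3, 4, 5, 5], [6, 4, 3, 3], [3, 6, 4, 5],
  [5, 3, 4, 5, 5], [4, 5, 3, 6, 3], [6, 6, 3, 4], [5, 4, 3, 6, 3], [6, 6, 5, 3, 4], [4, 3, 6, 3], [6, 6, 3, 4, 6],
  [3, 6, 4], [6, 6, 4, 3, 3], [5, 3, 4, 5], [3, 6, 4, 6], [3, 4, 5], [3, 6, 3, 4, 3], [6, 5, 3, 4], [6, 3, 4, 6],
  [6, 3, 3, 4, 3], [6, 3, 4], [6, 5, 5, 3, 4], [3, 3, 4, 5, 3], [4, 3, 3], [4, 5, 5, 3, 3], [5, 5, 4, 3, 3],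
  [4, 5, 3, 3], [5, 4, 3, 3], [6, 6, 6, 3, 4]]

/-- For each diagonal form a real basis of equal norms, the norm, and a scalar. -/
def diagTab : List (ℕ × Mat × ℕ) :=
 [
  (1, ((0, 0, 5), (0, 5, 0), (5, 0, 0)), 5), (2, ((0, 5, 5), (0, 5, 20), (5, 0, 0)), 1),
  (2, ((0, 5, 5), (0, 5, 20), (10, 0, 0)), 1), (1, ((0, 0, 5), (0, 5, 0), (10, 0, 0)), 5),
  (2, ((0, 5, 5), (5, 0, 0), (0, 5, 20)), 1), (1, ((0, 0, 5), (10, 10, 0), (10, 15, 0)), 5),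
  (1, ((0, 0, 5), (10, 10, 0), (5, 20, 0)), 5), (2, ((0, 5, 5), (5, 0, 0), (0, 10, 15)), 1),
  (2, ((0, 5, 5), (5, 10, 15), (10, 10, 15)), 1), (1, ((0, 0, 5), (5, 5, 0), (10, 15, 0)), 5),
  (1, ((0, 0, 5), (5, 5, 0), (5, 20, 0)), 5), (2, ((0, 5, 5), (5, 10, 15), (5, 5, 20)), 1),
  (1, ((0, 0, 5), (0, 10, 0), (5, 0, 0)), 5), (2, ((0, 5, 5), (0, 10, 15), (5, 0, 0)), 1),
  (2, ((0, 5, 5), (0, 10, 15), (10, 0, 0)), 1), (1, ((0, 0, 5), (0, 10, 0), (10, 0, 0)), 5),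
  (2, ((0, 0, 5), (5, 5, 0), (5, 20, 0)), 1), (1, ((0, 10, 10), (5, 0, 0), (0, 10, 15)), 5),
  (1, ((0, 10, 10), (5, 0, 0), (0, 5, 20)), 5), (2, ((0, 0, 5), (5, 5, 0), (10, 15, 0)), 1),
  (1, ((0, 10, 10), (0, 10, 15), (5, 0, 0)), 5), (2, ((0, 0, 5), (0, 5, 0), (5, 0, 0)), 1),
  (2, ((0, 0, 5), (0, 5, 0), (10, 0, 0)), 1), (1, ((0, 10, 10), (0, 10, 15), (10, 0, 0)), 5),
  (1, ((0, 10, 10), (0, 5, 20), (5, 0, 0)), 5), (2, ((0, 0, 5), (0, 10, 0), (5, 0, 0)), 1),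
  (2, ((0, 0, 5), (0, 10, 0), (10, 0, 0)), 1), (1, ((0, 10, 10), (0, 5, 20), (10, 0, 0)), 5),
  (2, ((0, 0, 5), (10, 10, 0), (5, 20, 0)), 1), (1, ((0, 10, 10), (5, 10, 15), (5, 5, 20)), 5),
  (1, ((0, 10, 10), (5, 10, 15), (10, 10, 15)), 5), (2, ((0, 0, 5), (10, 10, 0), (10, 15, 0)), 1),
  (2, ((0, 0, 10), (5, 5, 0), (5, 20, 0)), 1), (1, ((0, 5, 5), (5, 0, 0), (0, 10, 15)), 5),
  (1, ((0, 5, 5), (5, 0, 0), (0, 5, 20)), 5), (2, ((0, 0, 10), (5, 5, 0), (10, 15, 0)), 1),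
  (1, ((0, 5, 5), (0, 10, 15), (5, 0, 0)), 5), (2, ((0, 0, 10), (0, 5, 0), (5, 0, 0)), 1),
  (2, ((0, 0, 10), (0, 5, 0), (10, 0, 0)), 1), (1, ((0, 5, 5), (0, 10, 15), (10, 0, 0)), 5),
  (1, ((0, 5, 5), (0, 5, 20), (5, 0, 0)), 5), (2, ((0, 0, 10), (0, 10, 0), (5, 0, 0)), 1),
  (2, ((0, 0, 10), (0, 10, 0), (10, 0, 0)), 1), (1, ((0, 5, 5), (0, 5, 20), (10, 0, 0)), 5),
  (2, ((0, 0, 10), (10, 10, 0), (5, 20, 0)), 1), (1, ((0, 5, 5), (5, 10, 15), (5, 5, 20)), 5),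
  (1, ((0, 5, 5), (5, 10, 15), (10, 10, 15)), 5), (2, ((0, 0, 10), (10, 10, 0), (10, 15, 0)), 1),
  (1, ((0, 0, 10), (0, 5, 0), (5, 0, 0)), 5), (2, ((0, 10, 10), (0, 5, 20), (5, 0, 0)), 1),
  (2, ((0, 10, 10), (0, 5, 20), (10, 0, 0)), 1), (1, ((0, 0, 10), (0, 5, 0), (10, 0, 0)), 5),
  (2, ((0, 10, 10), (5, 0, 0), (0, 5, 20)), 1), (1, ((0, 0, 10), (10, 10, 0), (10, 15, 0)), 5),
  (1, ((0, 0, 10), (10, 10, 0), (5, 20, 0)), 5), (2, ((0, 10, 10), (5, 0, 0), (0, 10, 15)), 1),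
  (2, ((0, 10, 10), (5, 10, 15), (10, 10, 15)), 1), (1, ((0, 0, 10), (5, 5, 0), (10, 15, 0)), 5),
  (1, ((0, 0, 10), (5, 5, 0), (5, 20, 0)), 5), (2, ((0, 10, 10), (5, 10, 15), (5, 5, 20)), 1),
  (1, ((0, 0, 10), (0, 10, 0), (5, 0, 0)), 5), (2, ((0, 10, 10), (0, 10, 15), (5, 0, 0)), 1),
  (2, ((0, 10, 10), (0, 10, 15), (10, 0, 0)), 1), (1, ((0, 0, 10), (0, 10, 0), (10, 0, 0)), 5)]

/-- Generators of 3.M10 in SU3(5). -/
def gens10 : List Mat :=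
 [
  ((5, 0, 0), (0, 13, 0), (0, 0, 12)), ((0, 0, 5), (5, 0, 0), (0, 5, 0)), ((12, 0, 0), (0, 12, 0), (0, 0, 12)),
  ((11, 3, 11), (16, 3, 3), (11, 11, 3)), ((19, 14, 2), (2, 14, 19), (14, 14, 14)),
  ((1, 22, 0), (24, 9, 8), (6, 21, 8))]

/-- An orbit of 3.M10 on points. -/
def orbit10 : List Vec :=
 [
  (5, 1, 5), (5, 1, 13), (5, 2, 14), (5, 2, 19), (5, 3, 3), (5, 3, 16), (5, 4, 12), (5, 4, 13), (5, 5, 1),
  (5, 5, 7), (5, 5, 8), (5, 5, 23), (5, 7, 5), (5, 7, 12), (5, 8, 5), (5, 8, 12), (5, 11, 11), (5, 11, 16),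
  (5, 12, 4), (5, 12, 7), (5, 12, 8), (5, 12, 22), (5, 13, 1), (5, 13, 4), (5, 13, 22), (5, 13, 23), (5, 14, 2),
  (5, 14, 14), (5, 16, 3), (5, 16, 11), (5, 19, 2), (5, 19, 19), (5, 22, 12), (5, 22, 13), (5, 23, 5), (5, 23, 13)]

/-- An element moving the orbit, and a point of the orbit. -/
def moved10 : Mat × Vec := (((11, 8, 17), (22, 10, 6), (5, 9, 17)), (5, 1, 5))

/-- The extraspecial group of order 27. -/
def extraR : List Mat :=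
 [
  ((5, 0, 0), (0, 5, 0), (0, 0, 5)), ((0, 0, 5), (5, 0, 0), (0, 5, 0)), ((0, 5, 0), (0, 0, 5), (5, 0, 0)),
  ((5, 0, 0), (0, 13, 0), (0, 0, 12)), ((0, 0, 5), (13, 0, 0), (0, 12, 0)), ((0, 5, 0), (0, 0, 13), (12, 0, 0)),
  ((5, 0, 0), (0, 12, 0), (0, 0, 13)), ((0, 0, 5), (12, 0, 0), (0, 13, 0)), ((0, 5, 0), (0, 0, 12), (13, 0, 0)),
  ((12, 0, 0), (0, 12, 0), (0, 0, 12)), ((0, 0, 12), (12, 0, 0), (0, 12, 0)), ((0, 12, 0), (0, 0, 12), (12, 0, 0)),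
  ((12, 0, 0), (0, 5, 0), (0, 0, 13)), ((0, 0, 12), (5, 0, 0), (0, 13, 0)), ((0, 12, 0), (0, 0, 5), (13, 0, 0)),
  ((12, 0, 0), (0, 13, 0), (0, 0, 5)), ((0, 0, 12), (13, 0, 0), (0, 5, 0)), ((0, 12, 0), (0, 0, 13), (5, 0, 0)),
  ((13, 0, 0), (0, 13, 0), (0, 0, 13)), ((0, 0, 13), (13, 0, 0), (0, 13, 0)), ((0, 13, 0), (0, 0, 13), (13, 0, 0)),
  ((13, 0, 0), (0, 12, 0), (0, 0, 5)), ((0, 0, 13), (12, 0, 0), (0, 5, 0)), ((0, 13, 0), (0, 0, 12), (5, 0, 0)),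
  ((13, 0, 0), (0, 5, 0), (0, 0, 12)), ((0, 0, 13), (5, 0, 0), (0, 12, 0)), ((0, 13, 0), (0, 0, 5), (12, 0, 0))]

/-- Intertwiners for the pairs with the right commutator, in order. -/
def intertwiners : List (Mat × List ℕ) :=
 [
  (((2, 2, 2), (2, 19, 14), (2, 14, 19)), [4, 2, 1, 0]), (((2, 2, 14), (2, 19, 19), (2, 14, 2)), []),
  (((2, 2, 19), (2, 19, 2), (2, 14, 14)), []), (((2, 19, 14), (2, 14, 19), (2, 2, 2)), [4, 2, 1]),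
  (((2, 19, 19), (2, 14, 2), (2, 2, 14)), []), (((2, 19, 2), (2, 14, 14), (2, 2, 19)), []),
  (((2, 14, 19), (2, 2, 2), (2, 19, 14)), [4, 0, 0, 1]), (((2, 14, 2), (2, 2, 14), (2, 19, 19)), []),
  (((2, 14, 14), (2, 2, 19), (2, 19, 2)), []), (((16, 16, 16), (16, 11, 3), (16, 3, 11)), [4, 3, 1, 3, 1]),
  (((2, 2, 19), (2, 14, 14), (2, 19, 2)), []), (((2, 2, 14), (2, 14, 2), (2, 19, 19)), []),
  (((16, 3, 11), (16, 16, 16), (16, 11, 3)), [4, 3, 3, 1, 1]), (((2, 19, 2), (2, 2, 19), (2, 14, 14)), []),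
  (((2, 19, 19), (2, 2, 14), (2, 14, 2)), []), (((16, 11, 3), (16, 3, 11), (16, 16, 16)), [0, 4, 3, 0, 3]),
  (((2, 14, 14), (2, 19, 2), (2, 2, 19)), []), (((2, 14, 2), (2, 19, 19), (2, 2, 14)), []),
  (((5, 0, 0), (0, 5, 0), (0, 0, 5)), []), (((5, 0, 0), (0, 13, 0), (0, 0, 5)), []),
  (((5, 0, 0), (0, 12, 0), (0, 0, 5)), []), (((5, 0, 0), (0, 12, 0), (0, 0, 13)), [0, 0]),
  (((5, 0, 0), (0, 5, 0), (0, 0, 13)), []), (((5, 0, 0), (0, 13, 0), (0, 0, 13)), []),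
  (((5, 0, 0), (0, 13, 0), (0, 0, 12)), [0]), (((5, 0, 0), (0, 12, 0), (0, 0, 12)), []),
  (((5, 0, 0), (0, 5, 0), (0, 0, 12)), []), (((2, 2, 14), (14, 2, 2), (2, 14, 2)), []),
  (((2, 14, 14), (14, 14, 2), (2, 19, 2)), [4, 3, 1, 1]), (((2, 2, 2), (14, 2, 19), (2, 14, 19)), []),
  (((2, 19, 19), (14, 19, 14), (2, 2, 14)), []), (((2, 2, 19), (14, 2, 14), (2, 14, 14)), [1, 4, 3, 1]),
  (((2, 19, 14), (14, 19, 2), (2, 2, 2)), []), (((2, 14, 2), (14, 14, 19), (2, 19, 19)), []),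
  (((2, 19, 2), (14, 19, 19), (2, 2, 19)), [4, 1, 3, 1]), (((2, 14, 19), (14, 14, 14), (2, 19, 14)), []),
  (((2, 19, 2), (2, 2, 19), (19, 2, 2)), []), (((2, 2, 2), (2, 14, 19), (19, 14, 2)), []),
  (((16, 16, 11), (16, 11, 16), (3, 11, 11)), [3, 0, 1]), (((2, 14, 14), (2, 19, 2), (19, 19, 14)), []),
  (((2, 19, 14), (2, 2, 2), (19, 2, 14)), []), (((16, 3, 3), (16, 16, 11), (3, 16, 3)), [0, 3, 2, 0]),
  (((2, 2, 19), (2, 14, 14), (19, 14, 19)), []), (((2, 14, 19), (2, 19, 14), (19, 19, 19)), []),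
  (((16, 11, 16), (16, 3, 3), (3, 3, 16)), [0, 3, 2]), (((17, 0, 0), (0, 0, 17), (0, 17, 0)), [0, 3, 3]),
  (((5, 0, 0), (0, 0, 5), (0, 12, 0)), []), (((5, 0, 0), (0, 0, 5), (0, 13, 0)), []),
  (((17, 0, 0), (0, 0, 18), (0, 20, 0)), [3, 3, 0]), (((5, 0, 0), (0, 0, 13), (0, 13, 0)), []),
  (((5, 0, 0), (0, 0, 13), (0, 5, 0)), []), (((17, 0, 0), (0, 0, 20), (0, 18, 0)), [3, 3]),
  (((5, 0, 0), (0, 0, 12), (0, 5, 0)), []), (((5, 0, 0), (0, 0, 12), (0, 12, 0)), []),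
  (((2, 19, 2), (19, 2, 2), (2, 2, 19)), []), (((2, 2, 14), (19, 14, 14), (2, 14, 2)), [3, 0, 3, 3]),
  (((2, 2, 2), (19, 14, 2), (2, 14, 19)), []), (((2, 14, 14), (19, 19, 14), (2, 19, 2)), []),
  (((2, 19, 19), (19, 2, 19), (2, 2, 14)), [3, 3, 3, 0]), (((2, 19, 14), (19, 2, 14), (2, 2, 2)), []),
  (((2, 2, 19), (19, 14, 19), (2, 14, 14)), []), (((2, 14, 2), (19, 19, 2), (2, 19, 19)), [3, 3, 3]),
  (((2, 14, 19), (19, 19, 19), (2, 19, 14)), []), (((2, 2, 14), (2, 14, 2), (14, 2, 2)), []),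
  (((2, 2, 2), (2, 14, 19), (14, 2, 19)), []), (((16, 11, 11), (16, 3, 16), (11, 11, 16)), [3, 4, 0]),
  (((2, 19, 19), (2, 2, 14), (14, 19, 14)), []), (((2, 19, 14), (2, 2, 2), (14, 19, 2)), []),
  (((16, 16, 3), (16, 11, 11), (11, 16, 11)), [3, 4]), (((2, 14, 2), (2, 19, 19), (14, 14, 19)), []),
  (((2, 14, 19), (2, 19, 14), (14, 14, 14)), []), (((16, 3, 16), (16, 16, 3), (11, 3, 3)), [3, 4, 0, 0]),
  (((2, 2, 2), (19, 14, 2), (14, 19, 2)), [1, 0, 4]), (((2, 14, 2), (19, 19, 2), (14, 2, 2)), []),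
  (((2, 19, 2), (19, 2, 2), (14, 14, 2)), []), (((2, 19, 14), (19, 2, 14), (14, 14, 14)), [4, 1, 1]),
  (((2, 2, 14), (19, 14, 14), (14, 19, 14)), []), (((2, 14, 14), (19, 19, 14), (14, 2, 14)), []),
  (((2, 14, 19), (19, 19, 19), (14, 2, 19)), [1, 0, 4, 0]), (((2, 19, 19), (19, 2, 19), (14, 14, 19)), []),
  (((2, 2, 19), (19, 14, 19), (14, 19, 19)), []), (((16, 16, 16), (11, 3, 16), (3, 11, 16)), [3, 3, 1, 4, 2]),
  (((2, 19, 2), (14, 14, 2), (19, 2, 2)), []), (((2, 14, 2), (14, 2, 2), (19, 19, 2)), []),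
  (((16, 3, 11), (11, 11, 11), (3, 16, 11)), [4, 1, 3, 3, 1]), (((2, 14, 14), (14, 2, 14), (19, 19, 14)), []),
  (((2, 2, 14), (14, 19, 14), (19, 14, 14)), []), (((16, 11, 3), (11, 16, 3), (3, 3, 3)), [1, 4, 3, 3, 2]),
  (((2, 2, 19), (14, 19, 19), (19, 14, 19)), []), (((2, 19, 19), (14, 14, 19), (19, 2, 19)), []),
  (((0, 0, 5), (5, 0, 0), (0, 5, 0)), [1]), (((0, 0, 12), (5, 0, 0), (0, 12, 0)), []),
  (((0, 0, 13), (5, 0, 0), (0, 13, 0)), []), (((0, 0, 13), (5, 0, 0), (0, 12, 0)), [1, 0, 0]),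
  (((0, 0, 5), (5, 0, 0), (0, 13, 0)), []), (((0, 0, 12), (5, 0, 0), (0, 5, 0)), []),
  (((0, 0, 12), (5, 0, 0), (0, 13, 0)), [1, 0]), (((0, 0, 13), (5, 0, 0), (0, 5, 0)), []),
  (((0, 0, 5), (5, 0, 0), (0, 12, 0)), []), (((2, 14, 2), (2, 2, 14), (14, 2, 2)), []),
  (((2, 2, 19), (2, 19, 2), (14, 19, 19)), [4, 3, 2]), (((2, 2, 2), (2, 19, 14), (14, 19, 2)), []),
  (((2, 2, 14), (2, 19, 19), (14, 19, 14)), []), (((2, 19, 2), (2, 14, 14), (14, 14, 2)), [4, 3, 2, 0, 0]),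
  (((2, 19, 14), (2, 14, 19), (14, 14, 14)), []), (((2, 19, 19), (2, 14, 2), (14, 14, 19)), []),
  (((2, 14, 14), (2, 2, 19), (14, 2, 14)), [4, 3, 2, 0]), (((2, 14, 19), (2, 2, 2), (14, 2, 19)), []),
  (((2, 14, 14), (14, 2, 14), (14, 14, 2)), []), (((2, 2, 2), (14, 19, 2), (14, 2, 19)), []),
  (((16, 11, 16), (11, 16, 16), (11, 11, 3)), [1, 0, 3, 0]), (((2, 2, 19), (14, 19, 19), (14, 2, 14)), []),
  (((2, 19, 14), (14, 14, 14), (14, 19, 2)), []), (((16, 16, 11), (11, 3, 11), (11, 16, 16)), [1, 0, 3]),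
  (((2, 19, 2), (14, 14, 2), (14, 19, 19)), []), (((2, 14, 19), (14, 2, 19), (14, 14, 14)), []),
  (((16, 3, 3), (11, 11, 3), (11, 3, 11)), [1, 1, 3]), (((0, 0, 17), (0, 17, 0), (17, 0, 0)), [3, 0, 3]),
  (((0, 0, 13), (0, 13, 0), (5, 0, 0)), []), (((0, 0, 12), (0, 12, 0), (5, 0, 0)), []),
  (((0, 0, 18), (0, 20, 0), (17, 0, 0)), [3, 1, 3]), (((0, 0, 12), (0, 5, 0), (5, 0, 0)), []),
  (((0, 0, 5), (0, 13, 0), (5, 0, 0)), []), (((0, 0, 20), (0, 18, 0), (17, 0, 0)), [3, 0, 3, 0]),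
  (((0, 0, 5), (0, 12, 0), (5, 0, 0)), []), (((0, 0, 13), (0, 5, 0), (5, 0, 0)), []),
  (((2, 14, 14), (14, 14, 2), (14, 2, 14)), []), (((2, 14, 2), (14, 14, 19), (14, 2, 2)), [3, 3, 0, 3]),
  (((2, 2, 2), (14, 2, 19), (14, 19, 2)), []), (((2, 2, 19), (14, 2, 14), (14, 19, 19)), []),
  (((2, 2, 14), (14, 2, 2), (14, 19, 14)), [3, 3, 1, 3]), (((2, 19, 14), (14, 19, 2), (14, 14, 14)), []),
  (((2, 19, 2), (14, 19, 19), (14, 14, 2)), []), (((2, 19, 19), (14, 19, 14), (14, 14, 19)), [3, 3, 0, 3, 0]),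
  (((2, 14, 19), (14, 14, 14), (14, 2, 19)), []), (((2, 14, 2), (14, 2, 2), (2, 2, 14)), []),
  (((2, 2, 2), (14, 19, 2), (2, 19, 14)), []), (((16, 16, 3), (11, 3, 3), (16, 3, 16)), [0, 3, 4]),
  (((2, 2, 14), (14, 19, 14), (2, 19, 19)), []), (((2, 19, 14), (14, 14, 14), (2, 14, 19)), []),
  (((16, 3, 16), (11, 11, 16), (16, 11, 11)), [3, 4, 1]), (((2, 19, 19), (14, 14, 19), (2, 14, 2)), []),
  (((2, 14, 19), (14, 2, 19), (2, 2, 2)), []), (((16, 11, 11), (11, 16, 11), (16, 16, 3)), [0, 3, 4, 0]),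
  (((2, 2, 2), (14, 2, 19), (19, 2, 14)), [1, 4, 2]), (((2, 19, 19), (14, 19, 14), (19, 19, 2)), []),
  (((2, 14, 14), (14, 14, 2), (19, 14, 19)), []), (((2, 19, 14), (14, 19, 2), (19, 19, 19)), [4, 2, 2]),
  (((2, 14, 2), (14, 14, 19), (19, 14, 14)), []), (((2, 2, 19), (14, 2, 14), (19, 2, 2)), []),
  (((2, 14, 19), (14, 14, 14), (19, 14, 2)), [1, 1, 4]), (((2, 2, 14), (14, 2, 2), (19, 2, 19)), []),
  (((2, 19, 2), (14, 19, 19), (19, 19, 14)), []), (((16, 16, 16), (3, 16, 11), (11, 16, 3)), [4, 3, 1, 3]),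
  (((2, 14, 14), (19, 14, 19), (14, 14, 2)), []), (((2, 19, 19), (19, 19, 2), (14, 19, 14)), []),
  (((16, 3, 11), (3, 3, 3), (11, 3, 16)), [4, 3, 0, 3, 0]), (((2, 2, 19), (19, 2, 2), (14, 2, 14)), []),
  (((2, 14, 2), (19, 14, 14), (14, 14, 19)), []), (((16, 11, 3), (3, 11, 16), (11, 11, 11)), [4, 3, 0, 3]),
  (((2, 19, 2), (19, 19, 14), (14, 19, 19)), []), (((2, 2, 14), (19, 2, 19), (14, 2, 2)), []),
  (((0, 5, 0), (0, 0, 5), (5, 0, 0)), [1, 1]), (((0, 5, 0), (0, 0, 13), (5, 0, 0)), []),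
  (((0, 5, 0), (0, 0, 12), (5, 0, 0)), []), (((0, 12, 0), (0, 0, 13), (5, 0, 0)), [1, 1, 0, 0]),
  (((0, 12, 0), (0, 0, 12), (5, 0, 0)), []), (((0, 12, 0), (0, 0, 5), (5, 0, 0)), []),
  (((0, 13, 0), (0, 0, 12), (5, 0, 0)), [1, 1, 0]), (((0, 13, 0), (0, 0, 5), (5, 0, 0)), []),
  (((0, 13, 0), (0, 0, 13), (5, 0, 0)), []), (((2, 19, 19), (19, 2, 19), (19, 19, 2)), []),
  (((2, 19, 2), (19, 2, 2), (19, 19, 14)), [4, 0, 3, 0]), (((2, 2, 2), (19, 14, 2), (19, 2, 14)), []),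
  (((2, 14, 2), (19, 19, 2), (19, 14, 14)), []), (((2, 14, 14), (19, 19, 14), (19, 14, 19)), [4, 0, 3]),
  (((2, 19, 14), (19, 2, 14), (19, 19, 19)), []), (((2, 2, 14), (19, 14, 14), (19, 2, 19)), []),
  (((2, 2, 19), (19, 14, 19), (19, 2, 2)), [4, 1, 3]), (((2, 14, 19), (19, 19, 19), (19, 14, 2)), []),
  (((2, 2, 19), (19, 2, 2), (2, 19, 2)), []), (((2, 2, 2), (19, 2, 14), (2, 19, 14)), []),
  (((16, 3, 3), (3, 3, 16), (16, 11, 16)), [3, 2, 0]), (((2, 19, 2), (19, 19, 14), (2, 14, 14)), []),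
  (((2, 19, 14), (19, 19, 19), (2, 14, 19)), []), (((16, 11, 16), (3, 11, 11), (16, 16, 11)), [3, 2]),
  (((2, 14, 14), (19, 14, 19), (2, 2, 19)), []), (((2, 14, 19), (19, 14, 2), (2, 2, 2)), []),
  (((16, 16, 11), (3, 16, 3), (16, 3, 3)), [3, 2, 0, 0]), (((0, 17, 0), (17, 0, 0), (0, 0, 17)), [3, 0, 3, 1]),
  (((0, 5, 0), (5, 0, 0), (0, 0, 12)), []), (((0, 5, 0), (5, 0, 0), (0, 0, 13)), []),
  (((0, 20, 0), (17, 0, 0), (0, 0, 18)), [1, 3, 3, 0]), (((0, 12, 0), (5, 0, 0), (0, 0, 5)), []),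
  (((0, 12, 0), (5, 0, 0), (0, 0, 12)), []), (((0, 18, 0), (17, 0, 0), (0, 0, 20)), [1, 3, 3]),
  (((0, 13, 0), (5, 0, 0), (0, 0, 13)), []), (((0, 13, 0), (5, 0, 0), (0, 0, 5)), []),
  (((2, 2, 19), (2, 19, 2), (19, 2, 2)), []), (((2, 19, 19), (2, 14, 2), (19, 19, 2)), [1, 3, 3, 3]),
  (((2, 2, 2), (2, 19, 14), (19, 2, 14)), []), (((2, 19, 2), (2, 14, 14), (19, 19, 14)), []),
  (((2, 14, 2), (2, 2, 14), (19, 14, 14)), [0, 3, 3, 3]), (((2, 19, 14), (2, 14, 19), (19, 19, 19)), []),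
  (((2, 14, 14), (2, 2, 19), (19, 14, 19)), []), (((2, 2, 14), (2, 19, 19), (19, 2, 19)), [1, 3, 3, 3, 0]),
  (((2, 14, 19), (2, 2, 2), (19, 14, 2)), []), (((2, 19, 19), (19, 19, 2), (19, 2, 19)), []),
  (((2, 2, 2), (19, 2, 14), (19, 14, 2)), []), (((16, 3, 16), (3, 3, 11), (3, 16, 16)), [0, 3, 4, 1]),
  (((2, 14, 2), (19, 14, 14), (19, 19, 2)), []), (((2, 19, 14), (19, 19, 19), (19, 2, 14)), []),
  (((16, 11, 11), (3, 11, 3), (3, 3, 11)), [3, 0, 4, 2]), (((2, 2, 14), (19, 2, 19), (19, 14, 14)), []),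
  (((2, 14, 19), (19, 14, 2), (19, 19, 19)), []), (((16, 16, 3), (3, 16, 16), (3, 11, 3)), [1, 3, 1, 4])]

/-- Generators of L2(7) in SU3(3). -/
def gens3 : List Mat :=
 [
  ((3, 6, 8), (4, 4, 0), (1, 2, 7)), ((0, 4, 5), (5, 6, 2), (8, 2, 3)), ((6, 7, 2), (8, 0, 7), (2, 4, 3))]

/-- An orbit of L2(7) on points. -/
def orbit3 : List Vec :=
 [
  (0, 0, 3), (0, 3, 0), (0, 3, 1), (0, 3, 2), (3, 0, 0), (3, 0, 1), (3, 0, 2), (3, 3, 0), (3, 3, 5), (3, 3, 7),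
  (3, 4, 1), (3, 4, 2), (3, 5, 4), (3, 5, 8), (3, 6, 0), (3, 6, 5), (3, 6, 7), (3, 7, 4), (3, 7, 8), (3, 8, 1),
  (3, 8, 2)]

/-- An element moving the orbit, and a point of the orbit. -/
def moved3 : Mat × Vec := (((1, 6, 4), (2, 5, 2), (5, 1, 3)), (0, 0, 3))

theorem gens5_su : ∀ A ∈ gens5, IsSU 5 A := by decide +kernel

theorem gens10_su : ∀ A ∈ gens10, IsSU 5 A := by decide +kernel

theorem gens3_su : ∀ A ∈ gens3, IsSU 3 A := by decide +kernel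

theorem moved5_su : IsSU 5 moved5.1 := by decide +kernel

theorem moved10_su : IsSU 5 moved10.1 := by decide +kernel

theorem moved3_su : IsSU 3 moved3.1 := by decide +kernel

theorem stable5 : Stable 5 gens5 orbit5 := by unfold Stable; decide +kernel

theorem stable10 : Stable 5 gens10 orbit10 := by unfold Stable; decide +kernel

theorem stable3 : Stable 3 gens3 orbit3 := by unfold Stable; decide +kernel

theorem orbit5_moved : moved5.2 ∈ orbit5 ∧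
    ∀ c < 25, c ≠ 0 → scl 5 c (mvec 5 moved5.1 moved5.2) ∉ orbit5 := by decide +kernel

theorem orbit10_moved : moved10.2 ∈ orbit10 ∧
    ∀ c < 25, c ≠ 0 → scl 5 c (mvec 5 moved10.1 moved10.2) ∉ orbit10 := by decide +kernel

theorem orbit3_moved : moved3.2 ∈ orbit3 ∧
    ∀ c < 9, c ≠ 0 → scl 3 c (mvec 3 moved3.1 moved3.2) ∉ orbit3 := by decide +kernel

theorem normOne_complete : ∀ a < 25, mul 5 a (cj 5 a) = 5 → a ∈ normOne := by decide +kernel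

theorem om_spec : mul 5 om (mul 5 om om) = 5 ∧ om ≠ 5 ∧ gens5.getD 2 (one 5) = smat 5 om (one 5) ∧
    gens10.getD 2 (one 5) = smat 5 om (one 5) ∧
    gens10.getD 0 (one 5) = ((5, 0, 0), (0, mul 5 om om, 0), (0, 0, om)) ∧
    gens10.getD 1 (one 5) = monMat (1, 2, 0) (5, 5, 5) ∧
    (∀ a < 25, mul 5 a (mul 5 a a) = 5 → a = 5 ∨ a = om ∨ a = mul 5 om om) := by decide +kernel

theorem mono_mem : ∀ k < 6, ∀ i < 6, ∀ j < 6, ∀ l < 6,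
    det 5 (monMat (perms.getD k (0, 0, 0)) (normOne.getD i 0, normOne.getD j 0, normOne.getD l 0)) = 5 →
    monMat (perms.getD k (0, 0, 0)) (normOne.getD i 0, normOne.getD j 0, normOne.getD l 0) =
      word 5 gens5 (monoWords.getD (36 * k + 6 * i + j) []) := by decide +kernel

theorem real_reps : ∀ a < 5, ∀ b < 5, ∀ c < 5, (a * a + b * b + c * c) % 5 = 1 →
    ∃ k < 5, ∃ i < 3, ∃ e < 25, mvec 5 (gens5.getD (8 + k) (one 5)) (5 * a, 5 * b, 5 * c) = unitv i e := by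
  decide +kernel

theorem reps_real : ∀ k < 5, ∀ v : Vec, v = (gens5.getD (8 + k) (one 5)).1 ∨
    v = (gens5.getD (8 + k) (one 5)).2.1 ∨ v = (gens5.getD (8 + k) (one 5)).2.2 →
    v.1 % 5 = 0 ∧ v.2.1 % 5 = 0 ∧ v.2.2 % 5 = 0 := by
  intro k hk v hv
  interval_cases k <;> rcases hv with rfl | rfl | rfl <;> decide

theorem pair_units : ∀ a < 5, ∀ b < 5, (a * a + b * b) % 5 = 1 → a = 0 ∨ b = 0 := by decide

theorem diag_forms : ∀ d₀ < 4, ∀ d₁ < 4, ∀ d₂ < 4,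
    0 < (diagTab.getD (16 * d₀ + 4 * d₁ + d₂) (0, one 5, 0)).1 ∧
    (diagTab.getD (16 * d₀ + 4 * d₁ + d₂) (0, one 5, 0)).1 < 5 ∧
    (∀ i : Vec → ℕ, i ∈ [Prod.fst, fun v => v.2.1, fun v => v.2.2] →
      i (diagTab.getD (16 * d₀ + 4 * d₁ + d₂) (0, one 5, 0)).2.1.1 % 5 = 0 ∧
      i (diagTab.getD (16 * d₀ + 4 * d₁ + d₂) (0, one 5, 0)).2.1.2.1 % 5 = 0 ∧
      i (diagTab.getD (16 * d₀ + 4 * d₁ + d₂) (0, one 5, 0)).2.1.2.2 % 5 = 0) ∧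
    mul 5 (mul 5 (diagTab.getD (16 * d₀ + 4 * d₁ + d₂) (0, one 5, 0)).2.2
        (cj 5 (diagTab.getD (16 * d₀ + 4 * d₁ + d₂) (0, one 5, 0)).2.2))
      (5 * (diagTab.getD (16 * d₀ + 4 * d₁ + d₂) (0, one 5, 0)).1) = 5 ∧
    mmul 5 (tp (diagTab.getD (16 * d₀ + 4 * d₁ + d₂) (0, one 5, 0)).2.1)
        (mmul 5 ((5 * (d₀ + 1), 0, 0), (0, 5 * (d₁ + 1), 0), (0, 0, 5 * (d₂ + 1)))
          (diagTab.getD (16 * d₀ + 4 * d₁ + d₂) (0, one 5, 0)).2.1) =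
      smat 5 (5 * (diagTab.getD (16 * d₀ + 4 * d₁ + d₂) (0, one 5, 0)).1) (one 5) := by decide +kernel

/-- The pairs of elements of the group of order 27 with the right commutator. -/
def goodPairs : List (Mat × Mat) :=
  (extraR.flatMap fun A => extraR.map fun B => (A, B)).filter fun P =>
    mmul 5 P.2 P.1 == smat 5 om (mmul 5 P.1 P.2)

theorem extraR_gen : extraR.length = 27 ∧ extraR.Nodup ∧
    (∀ k < 3, ∀ i < 3, ∀ j < 3, extraR.getD (9 * k + 3 * i + j) (one 5) =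
      word 5 gens10 (List.replicate k 2 ++ List.replicate i 0 ++ List.replicate j 1)) := by decide +kernel

theorem intertwine : ∀ P ∈ goodPairs.zip intertwiners,
    mmul 5 (adj 5 P.2.1) P.2.1 = one 5 ∧
    mmul 5 P.2.1 (gens10.getD 0 (one 5)) = mmul 5 P.1.1 P.2.1 ∧
    mmul 5 P.2.1 (gens10.getD 1 (one 5)) = mmul 5 P.1.2 P.2.1 ∧
    (P.2.1 = word 5 gens10 P.2.2 ∨ ∀ a ∈ normOne, det 5 (smat 5 a P.2.1) ≠ 5) := by decide +kernel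

theorem goodPairs_length : goodPairs.length = intertwiners.length := by decide +kernel

theorem witness10 :
    mmul 5 (gens10.getD 5 (one 5)) (mmul 5 (gens10.getD 0 (one 5)) (adj 5 (gens10.getD 5 (one 5)))) ∉ extraR := by
  decide +kernel

theorem field_gens5 : gens5.getD 0 (one 5) ≠ one 5 ∧
    word 5 gens5 (List.replicate 7 0) = one 5 ∧
    mmul 5 (gens5.getD 1 (one 5)) (gens5.getD 0 (one 5)) =
      mmul 5 (word 5 gens5 [0, 0]) (gens5.getD 1 (one 5)) ∧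
    (∀ k < 7, mmul 5 (gens5.getD 7 (one 5)) (mmul 5 (gens5.getD 0 (one 5)) (adj 5 (gens5.getD 7 (one 5)))) ≠
      word 5 gens5 (List.replicate k 0)) ∧
    (∀ k < 7, add 5 (add 5 (word 5 gens5 (List.replicate k 0)).1.1 (word 5 gens5 (List.replicate k 0)).2.1.2.1)
        (word 5 gens5 (List.replicate k 0)).2.2.2.2 =
      add 5 (add 5 (gens5.getD 0 (one 5)).1.1 (gens5.getD 0 (one 5)).2.1.2.1) (gens5.getD 0 (one 5)).2.2.2.2 →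
      k = 1 ∨ k = 2 ∨ k = 4) := by decide +kernel

theorem field_gens3 : gens3.getD 0 (one 3) ≠ one 3 ∧
    word 3 gens3 (List.replicate 7 0) = one 3 ∧
    mmul 3 (gens3.getD 1 (one 3)) (gens3.getD 0 (one 3)) =
      mmul 3 (word 3 gens3 [0, 0]) (gens3.getD 1 (one 3)) ∧
    (∀ k < 7, mmul 3 (gens3.getD 2 (one 3)) (mmul 3 (gens3.getD 0 (one 3)) (adj 3 (gens3.getD 2 (one 3)))) ≠
      word 3 gens3 (List.replicate k 0)) ∧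
    (∀ k < 7, add 3 (add 3 (word 3 gens3 (List.replicate k 0)).1.1 (word 3 gens3 (List.replicate k 0)).2.1.2.1)
        (word 3 gens3 (List.replicate k 0)).2.2.2.2 =
      add 3 (add 3 (gens3.getD 0 (one 3)).1.1 (gens3.getD 0 (one 3)).2.1.2.1) (gens3.getD 0 (one 3)).2.2.2.2 →
      k = 1 ∨ k = 2 ∨ k = 4) := by decide +kernel

theorem witness5 :
    (∀ c < 25, c ≠ 0 → ∃ i ∈ [(gens5.getD 7 (one 5)).1.1, (gens5.getD 7 (one 5)).1.2.1,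
      (gens5.getD 7 (one 5)).1.2.2, (gens5.getD 7 (one 5)).2.1.1, (gens5.getD 7 (one 5)).2.1.2.1,
      (gens5.getD 7 (one 5)).2.1.2.2, (gens5.getD 7 (one 5)).2.2.1, (gens5.getD 7 (one 5)).2.2.2.1,
      (gens5.getD 7 (one 5)).2.2.2.2], mul 5 c i % 5 ≠ 0) ∧
    (gens5.getD 7 (one 5)).1.1 * (gens5.getD 7 (one 5)).2.1.1 +
      (gens5.getD 7 (one 5)).2.1.1 * (gens5.getD 7 (one 5)).2.2.1 +
      (gens5.getD 7 (one 5)).2.2.1 * (gens5.getD 7 (one 5)).1.1 ≠ 0 := by decide +kernel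

end CfsgLib.Geo.Asch.SU3Tables
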