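import Mathlib
import Cfsg.Prelude.Def_GeometricClasses
import Cfsg.Agent.Lib.Geo.AschSU3Tables
import Cfsg.Agent.Lib.Geo.AschFormBasic
import Cfsg.Agent.Lib.GeomClasses.UnitPow
import Cfsg.Agent.Lib.GeomClasses.Unit

/-! The table model of SU3(p) for p = 3, 5 inside an arbitrary field with p² elements. -/

set_option autoImplicit false
set_option linter.unusedSectionVars false

namespace CfsgLib.Geo.Asch.SU3Small

open Cfsg Cfsg.Geo Matrix CfsgLib.GeomClasses SU3Tables
open scoped MatrixGroups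

variable {F : Type*} [Field F] [Fintype F]

/-- The data of a field with p² elements with a square root of two. -/
structure Model (p : ℕ) (s : F) : Prop where
  prime : p.Prime
  small : p = 3 ∨ p = 5
  card : Fintype.card F = p ^ 2
  zero : (p : F) = 0
  sq : s * s = 2
  conj : s ^ p = -s

theorem exists_model {p : ℕ} (hp : p = 3 ∨ p = 5) (hF : Fintype.card F = p ^ 2) : ∃ s : F, Model p s := by
  have hpp : p.Prime := by rcases hp with rfl | rfl <;> norm_num
  have h0 : (p : F) = 0 := by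
    have h := FiniteField.cast_card_eq_zero F
    rw [hF, Nat.cast_pow] at h
    exact pow_eq_zero_iff two_ne_zero |>.1 h
  obtain ⟨s, hs⟩ : IsSquare (2 : F) :=
    FiniteField.isSquare_two_iff.2 (by rcases hp with rfl | rfl <;> rw [hF] <;> norm_num)
  refine ⟨s, hpp, hp, hF, h0, hs.symm, ?_⟩
  rcases hp with rfl | rfl <;> push_cast at h0
  · linear_combination s * h0 - s * hs
  · linear_combination s * h0 - s * (s * s + 2) * hs

section Phi

variable (p : ℕ) (s : F)

/-- The interpretation of a code. -/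
def phi (a : ℕ) : F := ((a / p : ℕ) : F) + ((a % p : ℕ) : F) * s

/-- The interpretation of a coded vector. -/
def toVec (v : Vec) : Fin 3 → F := ![phi p s v.1, phi p s v.2.1, phi p s v.2.2]

/-- The interpretation of a coded matrix. -/
def toMat (A : Mat) : Matrix (Fin 3) (Fin 3) F := Matrix.of ![toVec p s A.1, toVec p s A.2.1, toVec p s A.2.2]

end Phi

variable {p : ℕ} {s : F} (hm : Model p s)
include hm

theorem Model.cast_mod (n : ℕ) : ((n % p : ℕ) : F) = n := by
  conv_rhs => rw [← Nat.mod_add_div n p, Nat.cast_add, Nat.cast_mul, hm.zero, zero_mul, add_zero]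

theorem Model.phi_code (x y : ℕ) : phi p s (x % p * p + y % p) = (x : F) + (y : F) * s := by
  have hp := hm.prime.pos
  have h1 : (x % p * p + y % p) / p = x % p := by
    rw [mul_comm, Nat.mul_add_div hp, Nat.div_eq_of_lt (Nat.mod_lt _ hp), add_zero]
  have h2 : (x % p * p + y % p) % p = y % p := by rw [mul_comm, Nat.mul_add_mod, Nat.mod_mod]
  rw [phi, h1, h2, hm.cast_mod, hm.cast_mod]

theorem Model.phi_add (a b : ℕ) : phi p s (add p a b) = phi p s a + phi p s b := by
  rw [SU3Tables.add, hm.phi_code, phi, phi]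
  push_cast
  rw [hm.cast_mod, hm.cast_mod]
  ring

theorem Model.phi_mul (a b : ℕ) : phi p s (mul p a b) = phi p s a * phi p s b := by
  rw [SU3Tables.mul, hm.phi_code, phi, phi]
  push_cast
  linear_combination -(((a % p : ℕ) : F) * ((b % p : ℕ) : F)) * hm.sq

theorem Model.phi_neg (a : ℕ) : phi p s (neg p a) = -phi p s a := by
  have hp := hm.prime.pos
  rw [SU3Tables.neg, hm.phi_code, phi, Nat.cast_sub (Nat.mod_lt _ hp).le, Nat.cast_sub (Nat.mod_lt _ hp).le,
    hm.cast_mod, hm.cast_mod, hm.zero]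
  ring

theorem Model.phi_cj (a : ℕ) : phi p s (cj p a) = phi p s a ^ p := by
  haveI : Fact p.Prime := ⟨hm.prime⟩
  haveI : CharP F p := charP_of_card_eq_prime_pow (f := 2) hm.card
  have hn : ∀ n : ℕ, (n : F) ^ p = n := fun n => by
    rw [← frobenius_def, map_natCast]
  rw [SU3Tables.cj, hm.phi_code, Nat.cast_sub (Nat.mod_lt _ hm.prime.pos).le, hm.zero, phi, add_pow_char, mul_pow, hn, hn,
    hm.conj]
  ring

theorem Model.phi_zero : phi p s 0 = 0 := by simp [phi]

theorem Model.phi_one : phi p s p = 1 := by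
  rw [phi, Nat.div_self hm.prime.pos, Nat.mod_self]
  simp

theorem Model.phi_pw (a k : ℕ) : phi p s (pw p a k) = phi p s a ^ k := by
  induction k with
  | zero => rw [SU3Tables.pw, hm.phi_one, pow_zero]
  | succ k ih => rw [SU3Tables.pw, hm.phi_mul, ih, pow_succ']

theorem Model.cast_inj {a b : ℕ} (ha : a < p) (hb : b < p) (h : (a : F) = b) : a = b := by
  haveI : Fact p.Prime := ⟨hm.prime⟩
  haveI : CharP F p := charP_of_card_eq_prime_pow (f := 2) hm.card
  have := (CharP.natCast_eq_natCast F p).1 h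
  rwa [Nat.ModEq, Nat.mod_eq_of_lt ha, Nat.mod_eq_of_lt hb] at this

theorem Model.not_prime_field (a : ℕ) : (a : F) ≠ s := by
  intro h
  haveI : Fact p.Prime := ⟨hm.prime⟩
  have h1 : ((a % p * (a % p) % p : ℕ) : F) = ((2 : ℕ) : F) := by
    rw [hm.cast_mod, Nat.cast_mul, hm.cast_mod, h, hm.sq, Nat.cast_ofNat]
  have hp2 : 2 < p := by rcases hm.small with rfl | rfl <;> norm_num
  have h2 := hm.cast_inj (Nat.mod_lt _ hm.prime.pos) hp2 h1
  have hlt := Nat.mod_lt a hm.prime.pos
  have key : ∀ b < p, b * b % p ≠ 2 := by rcases hm.small with rfl | rfl <;> decide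
  exact key _ hlt h2

theorem Model.phi_inj {a b : ℕ} (ha : a < p * p) (hb : b < p * p) (h : phi p s a = phi p s b) : a = b := by
  haveI : Fact p.Prime := ⟨hm.prime⟩
  have hp := hm.prime.pos
  have h2 : a % p = b % p := by
    by_contra hne
    rw [phi, phi] at h
    have hd : ((a % p : ℕ) : F) - ((b % p : ℕ) : F) ≠ 0 :=
      fun h0 => hne (hm.cast_inj (Nat.mod_lt _ hp) (Nat.mod_lt _ hp) (sub_eq_zero.1 h0))
    set k : ℕ := a % p + (p - b % p) with hk
    have hks : (k : F) * s = ((b / p + (p - a / p % p) : ℕ) : F) := by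
      rw [hk, Nat.cast_add, Nat.cast_add, Nat.cast_sub (Nat.mod_lt _ hp).le, Nat.cast_sub (Nat.mod_lt _ hp).le,
        hm.cast_mod (a / p), hm.zero]
      linear_combination h
    obtain ⟨l, hl⟩ : ∃ l : ℕ, (l : F) * (k : F) = 1 := by
      refine ⟨k ^ (p - 2), ?_⟩
      haveI : CharP F p := charP_of_card_eq_prime_pow (f := 2) hm.card
      have hk0 : (k : F) ≠ 0 := by
        rw [hk, Nat.cast_add, Nat.cast_sub (Nat.mod_lt _ hp).le, hm.zero, zero_sub, ← sub_eq_add_neg]
        exact hd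
      have hkp : (k : F) ^ p = k := by rw [← frobenius_def, map_natCast]
      have h2p := hm.prime.two_le
      refine mul_right_cancel₀ hk0 ?_
      rw [one_mul, Nat.cast_pow, ← pow_succ, ← pow_succ, show p - 2 + 1 + 1 = p by omega, hkp]
    exact hm.not_prime_field (l * (b / p + (p - a / p % p))) (by
      rw [Nat.cast_mul, ← hks, ← mul_assoc, hl, one_mul])
  have h3 : a / p = b / p := by
    refine hm.cast_inj (Nat.div_lt_of_lt_mul ha) (Nat.div_lt_of_lt_mul hb) ?_
    rw [phi, phi, h2] at h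
    exact add_right_cancel h
  rw [← Nat.div_add_mod a p, ← Nat.div_add_mod b p, h2, h3]

theorem Model.exists_code (x : F) : ∃ a < p * p, phi p s a = x := by
  have hinj : Function.Injective fun a : Fin (p * p) => phi p s a := fun a b h => Fin.ext (hm.phi_inj a.2 b.2 h)
  obtain ⟨a, ha⟩ := ((Fintype.bijective_iff_injective_and_card _).2
    ⟨hinj, by rw [Fintype.card_fin, hm.card, pow_two]⟩).2 x
  exact ⟨a, a.2, ha⟩

theorem Model.phi_ne_zero {a : ℕ} (ha : a < p * p) (h0 : a ≠ 0) : phi p s a ≠ 0 := fun h =>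
  h0 (hm.phi_inj ha (Nat.mul_pos hm.prime.pos hm.prime.pos) (h.trans hm.phi_zero.symm))

theorem Model.mvec (A : Mat) (v : Vec) : toVec p s (SU3Tables.mvec p A v) = toMat p s A *ᵥ toVec p s v := by
  funext i
  fin_cases i <;> simp [toVec, toMat, SU3Tables.mvec, dot, hm.phi_add, hm.phi_mul, Matrix.mulVec, dotProduct,
    Fin.sum_univ_three]

theorem Model.scl (c : ℕ) (v : Vec) : toVec p s (SU3Tables.scl p c v) = phi p s c • toVec p s v := by
  funext i
  fin_cases i <;> simp [toVec, SU3Tables.scl, hm.phi_mul]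

theorem Model.tp (A : Mat) : toMat p s (SU3Tables.tp A) = (toMat p s A)ᵀ := by
  ext i j
  fin_cases i <;> fin_cases j <;> simp [toMat, toVec, SU3Tables.tp]

theorem Model.smat (c : ℕ) (A : Mat) : toMat p s (SU3Tables.smat p c A) = phi p s c • toMat p s A := by
  ext i j
  fin_cases i <;> fin_cases j <;> simp [toMat, toVec, SU3Tables.smat, SU3Tables.scl, hm.phi_mul]

theorem Model.mmul (A B : Mat) : toMat p s (SU3Tables.mmul p A B) = toMat p s A * toMat p s B := by
  ext i j
  fin_cases i <;> fin_cases j <;> simp [toMat, toVec, SU3Tables.mmul, SU3Tables.tp, dot, hm.phi_add, hm.phi_mul,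
    Matrix.mul_apply, Fin.sum_univ_three]

theorem Model.adj (A : Mat) : toMat p s (SU3Tables.adj p A) = (toMat p s A)ᵀ.map (fun x => x ^ p) := by
  ext i j
  fin_cases i <;> fin_cases j <;> simp [toMat, toVec, SU3Tables.adj, SU3Tables.tp, cjv, hm.phi_cj]

theorem Model.mat_one : toMat p s (SU3Tables.one p) = 1 := by
  ext i j
  fin_cases i <;> fin_cases j <;> simp [toMat, toVec, SU3Tables.one, hm.phi_one, hm.phi_zero]

theorem Model.det (A : Mat) : phi p s (SU3Tables.det p A) = (toMat p s A).det := by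
  rw [Matrix.det_fin_three]
  simp [toMat, toVec, SU3Tables.det, hm.phi_add, hm.phi_mul, hm.phi_neg]
  ring

omit hm

theorem form_eq {q : ℕ} (u v : Fin 3 → F) : Cfsg.hermForm 3 F q u v = u ⬝ᵥ fun j => v j ^ q := by
  simp [Cfsg.hermForm, dotProduct]

theorem gu_iff {q : ℕ} (hF : Fintype.card F = q ^ 2) (g : GL (Fin 3) F) :
    g ∈ Cfsg.GU 3 F q ↔ (g : Matrix (Fin 3) (Fin 3) F)ᵀ.map (fun x => x ^ q) * (g : Matrix (Fin 3) (Fin 3) F) = 1 := by
  set σ := UnitPow.conj hF with hσ
  have hσa : ∀ a, σ a = a ^ q := fun a => UnitPow.conj_apply hF a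
  have hq : q ≠ 0 := by have := UnitPow.two_le hF; omega
  set A := (g : Matrix (Fin 3) (Fin 3) F) with hA
  have hinvol : ∀ a, σ (σ a) = a := fun a => by
    rw [hσa, hσa, ← pow_mul, ← sq, ← hF, FiniteField.pow_card]
  have hswap : Aᵀ.map σ * A = 1 ↔ Aᵀ * A.map σ = 1 := by
    constructor <;> intro h
    · have h1 := congrArg (fun M : Matrix (Fin 3) (Fin 3) F => M.map σ) h
      simpa [Matrix.map_mul, Matrix.map_map, Function.comp_def, hinvol] using h1
    · have h1 := congrArg (fun M : Matrix (Fin 3) (Fin 3) F => M.map σ) h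
      simpa [Matrix.map_mul, Matrix.map_map, Function.comp_def, hinvol] using h1
  rw [show (fun x : F => x ^ q) = σ from funext fun a => (hσa a).symm, hswap, UnitPow.mem_GU]
  constructor
  · intro h
    ext i j
    have h1 := h (Pi.single i 1) (Pi.single j 1)
    rw [form_eq, form_eq] at h1
    rw [Matrix.mulVec_single_one, Matrix.mulVec_single_one] at h1
    by_cases hij : i = j
    · subst hij
      simpa [Matrix.mul_apply, dotProduct, Pi.single_apply, hσa, hq] using h1
    · simpa [Matrix.mul_apply, dotProduct, Pi.single_apply, hσa, hq, hij, Ne.symm hij, Matrix.one_apply_ne hij] using h1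
  · intro h u v
    rw [form_eq, form_eq]
    have h3 : (fun j => (A *ᵥ v) j ^ q) = A.map σ *ᵥ fun j => v j ^ q := by
      funext j
      simp only [← hσa, Matrix.mulVec, dotProduct, map_sum, map_mul, Matrix.map_apply]
    rw [h3, ← Matrix.vecMul_transpose A u, ← Matrix.dotProduct_mulVec, Matrix.mulVec_mulVec, h, Matrix.one_mulVec]

/-- A coded special unitary matrix gives an element of SU3. -/
theorem Model.exists_elem (hm : Model p s) {A : Mat} (hA : IsSU p A) :
    ∃ g ∈ Cfsg.GU 3 F p ⊓ specialLinear (Fin 3) F, (g : Matrix (Fin 3) (Fin 3) F) = toMat p s A := by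
  have hd : (toMat p s A).det = 1 := by rw [← hm.det, hA.2, hm.phi_one]
  refine ⟨Matrix.GeneralLinearGroup.mkOfDetNeZero (toMat p s A) (by rw [hd]; exact one_ne_zero),
    ⟨(gu_iff hm.card _).2 ?_, ?_⟩, rfl⟩
  · show (toMat p s A)ᵀ.map (fun x => x ^ p) * toMat p s A = 1
    rw [← hm.adj, ← hm.mmul, hA.1, hm.mat_one]
  · show Matrix.GeneralLinearGroup.det _ = 1
    exact Units.ext hd

/-- The subgroup generated by coded matrices. -/
def Gen (p : ℕ) (s : F) (L : List Mat) : Subgroup (GL (Fin 3) F) :=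
  Subgroup.closure {g | ∃ A ∈ L, (g : Matrix (Fin 3) (Fin 3) F) = toMat p s A}

theorem gen_le (hm : Model p s) {L : List Mat} (hL : ∀ A ∈ L, IsSU p A) :
    Gen p s L ≤ Cfsg.GU 3 F p ⊓ specialLinear (Fin 3) F := by
  refine (Subgroup.closure_le _).2 ?_
  rintro g ⟨A, hA, hg⟩
  obtain ⟨g', hg', hv⟩ := hm.exists_elem (hL A hA)
  rwa [show g = g' from Units.ext (hg.trans hv.symm)]

theorem exists_word (hm : Model p s) {L : List Mat} (hL : ∀ A ∈ L, IsSU p A) (w : List ℕ) :
    ∃ g ∈ Gen p s L, (g : Matrix (Fin 3) (Fin 3) F) = toMat p s (word p L w) := by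
  induction w with
  | nil => exact ⟨1, one_mem _, by rw [SU3Tables.word, hm.mat_one, Units.val_one]⟩
  | cons k w ih =>
    obtain ⟨g, hg, hv⟩ := ih
    rw [SU3Tables.word]
    rcases Nat.lt_or_ge k L.length with hk | hk
    · have hA : L.getD k (SU3Tables.one p) ∈ L := by
        rw [List.getD_eq_getElem _ _ hk]; exact List.getElem_mem hk
      obtain ⟨a, -, ha⟩ := hm.exists_elem (hL _ hA)
      exact ⟨a * g, mul_mem (Subgroup.subset_closure ⟨_, hA, ha⟩) hg, by rw [Units.val_mul, ha, hv, hm.mmul]⟩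
    · exact ⟨g, hg, by rw [hm.mmul, List.getD_eq_default _ _ hk, hm.mat_one, one_mul, hv]⟩

theorem mem_of_word (hm : Model p s) {L : List Mat} (hL : ∀ A ∈ L, IsSU p A) {g : GL (Fin 3) F} (w : List ℕ)
    (h : (g : Matrix (Fin 3) (Fin 3) F) = toMat p s (word p L w)) : g ∈ Gen p s L := by
  obtain ⟨g', hg', hv⟩ := exists_word hm hL w
  rwa [show g = g' from Units.ext (h.trans hv.symm)]

/-- A generated group with an orbit that is moved by some element of SU3 is proper. -/
theorem gen_ne (hm : Model p s) {L : List Mat} {S : List Vec} (hS : Stable p L S)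
    {W : Mat × Vec} (hW : IsSU p W.1) (hmv : W.2 ∈ S ∧ ∀ c < p * p, c ≠ 0 →
      SU3Tables.scl p c (SU3Tables.mvec p W.1 W.2) ∉ S)
    (hbd : ∀ v ∈ S, v.1 < p * p ∧ v.2.1 < p * p ∧ v.2.2 < p * p) :
    Gen p s L ≠ Cfsg.GU 3 F p ⊓ specialLinear (Fin 3) F := by
  classical
  intro heq
  obtain ⟨w, hw, hwv⟩ := hm.exists_elem hW
  rw [← heq, ← Subgroup.mem_toSubmonoid, Gen, Subgroup.closure_toSubmonoid_of_finite] at hw
  have key : ∀ g ∈ Submonoid.closure {g : GL (Fin 3) F | ∃ A ∈ L, (g : Matrix (Fin 3) (Fin 3) F) = toMat p s A},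
      ∀ v ∈ S, ∃ t ∈ S, ∃ d : F, d ≠ 0 ∧ (g : Matrix (Fin 3) (Fin 3) F) *ᵥ toVec p s v = d • toVec p s t := by
    intro g hg
    induction hg using Submonoid.closure_induction with
    | mem g hg =>
      obtain ⟨A, hA, hgA⟩ := hg
      intro v hv
      obtain ⟨hc, hmem⟩ := hS A hA v hv
      set c := pw p (lead (SU3Tables.mvec p A v)) (p * p - 2) with hcdef
      have hlt : c < p * p := by
        have hp := hm.prime.pos
        obtain ⟨k, hk⟩ : ∃ k, p * p - 2 = k + 1 :=
          ⟨p * p - 3, by have := hm.prime.two_le; have : 4 ≤ p * p := by nlinarith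
                         omega⟩
        rw [hcdef, hk, pw, mul]
        refine lt_of_lt_of_le (Nat.add_lt_add_left (Nat.mod_lt _ hp) _) ?_
        refine le_of_eq_of_le (Nat.succ_mul _ p).symm ?_
        exact Nat.mul_le_mul_right p (Nat.mod_lt _ hp)
      have hc0 := hm.phi_ne_zero hlt hc
      refine ⟨_, hmem, (phi p s c)⁻¹, inv_ne_zero hc0, ?_⟩
      rw [hm.scl, hm.mvec, hgA, smul_smul, inv_mul_cancel₀ hc0, one_smul]
    | one => intro v hv; exact ⟨v, hv, 1, one_ne_zero, by simp⟩
    | mul a b _ _ ha hb =>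
      intro v hv
      obtain ⟨t, ht, d, hd, e1⟩ := hb v hv
      obtain ⟨u, hu, d', hd', e2⟩ := ha t ht
      exact ⟨u, hu, d * d', mul_ne_zero hd hd', by
        rw [Units.val_mul, ← Matrix.mulVec_mulVec, e1, Matrix.mulVec_smul, e2, smul_smul]⟩
  obtain ⟨t, ht, d, hd, e1⟩ := key w hw W.2 hmv.1
  obtain ⟨e, he, hed⟩ := hm.exists_code d⁻¹
  refine hmv.2 e he (fun h => inv_ne_zero hd (by rw [← hed, h, hm.phi_zero])) ?_
  have h2 : toVec p s (SU3Tables.scl p e (SU3Tables.mvec p W.1 W.2)) = toVec p s t := by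
    rw [hm.scl, hm.mvec, ← hwv, e1, smul_smul, hed, inv_mul_cancel₀ hd, one_smul]
  have hp := hm.prime.pos
  have hb : ∀ a b, mul p a b < p * p := fun a b => by
    rw [SU3Tables.mul]
    refine lt_of_lt_of_le (Nat.add_lt_add_left (Nat.mod_lt _ hp) _) ?_
    exact le_of_eq_of_le (Nat.succ_mul _ p).symm (Nat.mul_le_mul_right p (Nat.mod_lt _ hp))
  obtain ⟨b1, b2, b3⟩ := hbd t ht
  have e0 := hm.phi_inj (hb _ _) b1 (congrFun h2 0)
  have e1' := hm.phi_inj (hb _ _) b2 (congrFun h2 1)
  have e2 := hm.phi_inj (hb _ _) b3 (congrFun h2 2)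
  rwa [show SU3Tables.scl p e (SU3Tables.mvec p W.1 W.2) = t from Prod.ext e0 (Prod.ext e1' e2)]

end CfsgLib.Geo.Asch.SU3Small
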