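import Mathlib
import Cfsg.Agent.Lib.Geo.AschSU3Model
import Cfsg.Agent.Lib.Geo.AschUnitProper

/-! In SU3(5) monomial and orthogonal subgroups lie in 3.A7. -/

set_option autoImplicit false
set_option linter.unusedSectionVars false

namespace CfsgLib.Geo.Asch.SU3Small

open Cfsg Cfsg.Geo Matrix CfsgLib.GeomClasses SU3Tables
open scoped MatrixGroups

variable {F : Type*} [Field F] [Fintype F]

/-- The special unitary group of degree three. -/
abbrev SUg (F : Type*) [Field F] [Fintype F] (q : ℕ) : Subgroup (GL (Fin 3) F) :=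
  Cfsg.GU 3 F q ⊓ specialLinear (Fin 3) F

/-- A maximal subgroup is not conjugate into a proper subgroup with an element outside. -/
theorem not_maximal_of_overgroup {G : Type*} [Group G] {Ω H M : Subgroup G} (hH : IsMaximalIn Ω H) (c : G)
    (hc : ∀ x ∈ Ω, c * x * c⁻¹ ∈ Ω) (hM : M ≤ Ω) (hne : M ≠ Ω) (hle : ∀ h ∈ H, c⁻¹ * h * c ∈ M) {g : G} (hg : g ∈ M)
    (hgn : c * g * c⁻¹ ∉ H) : False := by
  let M' := M.map (MulAut.conj c).toMonoidHom
  have h1 : H ≤ M' := fun h hh => ⟨_, hle h hh, by simp [mul_assoc]⟩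
  have h2 : M' ≤ Ω := by
    rintro _ ⟨m, hm, rfl⟩
    exact hc m (hM hm)
  rcases hH.2 M' h1 h2 with h | h
  · exact hgn (h ▸ ⟨g, hg, by simp⟩)
  · refine hne (le_antisymm hM fun x hx => ?_)
    obtain ⟨m, hm, hmx⟩ := h.symm ▸ hc x hx
    simp only [MulEquiv.coe_toMonoidHom, MulAut.conj_apply, mul_left_inj, mul_right_inj] at hmx
    exact hmx ▸ hm

theorem sug_conj {q : ℕ} {c : GL (Fin 3) F} (hc : c ∈ Cfsg.GU 3 F q) {x : GL (Fin 3) F} (hx : x ∈ SUg F q) :
    c * x * c⁻¹ ∈ SUg F q ∧ c⁻¹ * x * c ∈ SUg F q := by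
  have hd : Matrix.GeneralLinearGroup.det x = 1 := hx.2
  set K := Cfsg.GU 3 F q
  refine ⟨⟨K.mul_mem (K.mul_mem hc hx.1) (K.inv_mem hc), ?_⟩, ⟨K.mul_mem (K.mul_mem (K.inv_mem hc) hx.1) hc, ?_⟩⟩ <;>
  · show Matrix.GeneralLinearGroup.det _ = 1
    rw [map_mul, map_mul, hd, mul_one, map_inv]
    group

/-- Columns orthonormal for the standard form give a unitary matrix. -/
theorem exists_frame {q : ℕ} (hF : Fintype.card F = q ^ 2) (v : Fin 3 → Fin 3 → F)
    (hv : ∀ i j, Cfsg.hermForm 3 F q (v i) (v j) = if i = j then 1 else 0) :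
    ∃ c ∈ Cfsg.GU 3 F q, ∀ j, (c : Matrix (Fin 3) (Fin 3) F) *ᵥ Pi.single j 1 = v j := by
  set A : Matrix (Fin 3) (Fin 3) F := Matrix.of fun i j => v j i with hA
  have h1 : Aᵀ.map (fun x => x ^ q) * A = 1 := by
    ext i j
    have h := hv j i
    rw [form_eq] at h
    rw [Matrix.one_apply, show (if i = j then (1 : F) else 0) = if j = i then 1 else 0 from by simp [eq_comm], ← h]
    simp only [Matrix.mul_apply, Matrix.map_apply, Matrix.transpose_apply, hA, Matrix.of_apply, dotProduct]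
    exact Finset.sum_congr rfl fun k _ => mul_comm _ _
  have hd : A.det ≠ 0 := fun h => by
    have := congrArg Matrix.det h1
    rw [Matrix.det_mul, h, mul_zero, Matrix.det_one] at this
    exact zero_ne_one this
  refine ⟨Matrix.GeneralLinearGroup.mkOfDetNeZero A hd, (gu_iff hF _).2 h1, fun j => ?_⟩
  show A *ᵥ _ = _
  rw [Matrix.mulVec_single_one]
  rfl

theorem Model.mul_lt {p : ℕ} {s : F} (hm : Model p s) (a b : ℕ) : SU3Tables.mul p a b < p * p := by
  have hp := hm.prime.pos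
  rw [SU3Tables.mul]
  refine lt_of_lt_of_le (Nat.add_lt_add_left (Nat.mod_lt _ hp) _) ?_
  exact le_of_eq_of_le (Nat.succ_mul _ p).symm (Nat.mul_le_mul_right p (Nat.mod_lt _ hp))

theorem Model.add_lt {p : ℕ} {s : F} (hm : Model p s) (a b : ℕ) : SU3Tables.add p a b < p * p := by
  have hp := hm.prime.pos
  rw [SU3Tables.add]
  refine lt_of_lt_of_le (Nat.add_lt_add_left (Nat.mod_lt _ hp) _) ?_
  exact le_of_eq_of_le (Nat.succ_mul _ p).symm (Nat.mul_le_mul_right p (Nat.mod_lt _ hp))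

/-- All entries of a coded matrix are in range. -/
def InRange (p : ℕ) (A : Mat) : Prop :=
  ∀ i ∈ [A.1.1, A.1.2.1, A.1.2.2, A.2.1.1, A.2.1.2.1, A.2.1.2.2, A.2.2.1, A.2.2.2.1, A.2.2.2.2], i < p * p

instance (p : ℕ) (A : Mat) : Decidable (InRange p A) := by unfold InRange; infer_instance

theorem Model.mmul_range {p : ℕ} {s : F} (hm : Model p s) (A B : Mat) : InRange p (SU3Tables.mmul p A B) := by
  intro i hi
  simp only [SU3Tables.mmul, dot, List.mem_cons, List.not_mem_nil, or_false] at hi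
  rcases hi with rfl | rfl | rfl | rfl | rfl | rfl | rfl | rfl | rfl <;> exact hm.add_lt _ _

theorem Model.mat_inj {p : ℕ} {s : F} (hm : Model p s) {A B : Mat} (hA : InRange p A) (hB : InRange p B)
    (h : toMat p s A = toMat p s B) : A = B := by
  have e : ∀ i j, toMat p s A i j = toMat p s B i j := fun i j => by rw [h]
  simp only [InRange, List.forall_mem_cons] at hA hB
  obtain ⟨a1, a2, a3, a4, a5, a6, a7, a8, a9, -⟩ := hA
  obtain ⟨b1, b2, b3, b4, b5, b6, b7, b8, b9, -⟩ := hB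
  exact Prod.ext (Prod.ext (hm.phi_inj a1 b1 (e 0 0)) (Prod.ext (hm.phi_inj a2 b2 (e 0 1)) (hm.phi_inj a3 b3 (e 0 2))))
    (Prod.ext (Prod.ext (hm.phi_inj a4 b4 (e 1 0)) (Prod.ext (hm.phi_inj a5 b5 (e 1 1)) (hm.phi_inj a6 b6 (e 1 2))))
    (Prod.ext (hm.phi_inj a7 b7 (e 2 0)) (Prod.ext (hm.phi_inj a8 b8 (e 2 1)) (hm.phi_inj a9 b9 (e 2 2)))))

section Five

variable {s : F} (hm : Model 5 s)
include hm

/-- The subgroup 3.A7. -/
local notation "M₅" => Gen 5 s gens5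

theorem m5_le : M₅ ≤ SUg F 5 := gen_le hm gens5_su

theorem m5_ne : M₅ ≠ SUg F 5 :=
  gen_ne hm stable5 moved5_su orbit5_moved (by decide +kernel)

theorem norm_code {a : F} (h : a * a ^ 5 = 1) : ∃ i < 6, phi 5 s (normOne.getD i 0) = a := by
  obtain ⟨n, hn, rfl⟩ := hm.exists_code a
  have h1 : SU3Tables.mul 5 n (cj 5 n) = 5 :=
    hm.phi_inj (hm.mul_lt _ _) (by norm_num) (by rw [hm.phi_mul, hm.phi_cj, h, hm.phi_one])
  obtain ⟨i, hi, hin⟩ := List.getElem_of_mem (normOne_complete n hn h1)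
  exact ⟨i, by simpa [normOne] using hi, by rw [List.getD_eq_getElem _ _ hi, hin]⟩

theorem mat_monMat (π a : Vec) :
    toMat 5 s (monMat π a) = Matrix.of fun i j : Fin 3 =>
      if (i : ℕ) = ![π.1, π.2.1, π.2.2] j then ![phi 5 s a.1, phi 5 s a.2.1, phi 5 s a.2.2] j else 0 := by
  ext i j
  fin_cases i <;> fin_cases j <;>
    simp [toMat, toVec, monMat, SU3Tables.tp, unitv, apply_ite (phi 5 s), hm.phi_zero, eq_comm]

theorem monomial_mem {g : GL (Fin 3) F} (hg : g ∈ SUg F 5)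
    (hmono : ∀ j, ∃ (i : Fin 3) (a : F), (g : Matrix (Fin 3) (Fin 3) F) *ᵥ Pi.single j 1 = a • Pi.single i 1) :
    g ∈ M₅ := by
  choose π a hπ using hmono
  have hF : Fintype.card F = 5 ^ 2 := hm.card
  have hiso : ∀ u v, Cfsg.hermForm 3 F 5 ((g : Matrix (Fin 3) (Fin 3) F) *ᵥ u) ((g : Matrix (Fin 3) (Fin 3) F) *ᵥ v) =
      Cfsg.hermForm 3 F 5 u v := UnitPow.mem_GU.1 hg.1
  have hs : ∀ (i k : Fin 3) (b c : F), Cfsg.hermForm 3 F 5 (b • Pi.single i 1) (c • Pi.single k 1) =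
      if i = k then b * c ^ 5 else 0 := by
    intro i k b c
    by_cases h : i = k
    · subst h; simp [Cfsg.hermForm, Pi.single_apply]
    · simp [Cfsg.hermForm, Pi.single_apply, h, Ne.symm h]
  have h1 : ∀ (j k : Fin 3), (if π j = π k then a j * a k ^ 5 else 0) = if j = k then 1 else 0 := by
    intro j k
    rw [← hs, ← hπ, ← hπ, hiso]
    have h := hs j k 1 1
    simpa using h
  have hnorm : ∀ j, a j * a j ^ 5 = 1 := fun j => by simpa using h1 j j
  have hinj : Function.Injective π := fun j k h => by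
    by_contra hne
    have h2 := h1 j k
    rw [if_pos h, if_neg hne] at h2
    have hj : a j ≠ 0 := fun h0 => by simpa [h0] using hnorm j
    have hk : a k ≠ 0 := fun h0 => by simpa [h0] using hnorm k
    exact mul_ne_zero hj (pow_ne_zero 5 hk) h2
  have hperm : ∀ ρ : Fin 3 → Fin 3, (∀ i j, ρ i = ρ j → i = j) →
      ∃ k < 6, perms.getD k (0, 0, 0) = ((ρ 0 : ℕ), (ρ 1 : ℕ), (ρ 2 : ℕ)) := by decide +kernel
  obtain ⟨k, hk, hkπ⟩ := hperm π fun i j h => hinj h
  choose n hn hna using fun j => norm_code hm (hnorm j)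
  set B := monMat (perms.getD k (0, 0, 0)) (normOne.getD (n 0) 0, normOne.getD (n 1) 0, normOne.getD (n 2) 0) with hB
  have hgB : (g : Matrix (Fin 3) (Fin 3) F) = toMat 5 s B := by
    ext i j
    rw [hB, hkπ, mat_monMat hm]
    have h2 := congrFun (hπ j) i
    rw [Matrix.mulVec_single_one] at h2
    rw [show (g : Matrix (Fin 3) (Fin 3) F) i j = _ from h2]
    fin_cases j <;> simp [← hna, Pi.single_apply, Fin.ext_iff, mul_ite] <;> split_ifs <;> simp_all
  have hdet : det 5 B = 5 := by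
    refine hm.phi_inj (hm.add_lt _ _) (by norm_num) ?_
    rw [hm.det, ← hgB, hm.phi_one]
    exact congrArg Units.val (show Matrix.GeneralLinearGroup.det g = 1 from hg.2)
  exact mem_of_word hm gens5_su (monoWords.getD (36 * k + 6 * n 0 + n 1) [])
    (by rw [hgB, hB, mono_mem k hk _ (hn 0) _ (hn 1) _ (hn 2) hdet])

/-- An element of 3.A7 that is not monomial. -/
theorem m5_witness : ∃ g ∈ M₅, (g : Matrix (Fin 3) (Fin 3) F) = toMat 5 s (gens5.getD 7 (SU3Tables.one 5)) := by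
  obtain ⟨g, hg, hv⟩ := exists_word hm gens5_su [7]
  refine ⟨g, hg, ?_⟩
  rw [hv, SU3Tables.word, SU3Tables.word, hm.mmul, hm.mat_one, mul_one]

/-- Over 25 elements a frame stabiliser is not maximal. -/
theorem lines_false {H : Subgroup (GL (Fin 3) F)} (hH : IsMaximalIn (SUg F 5) H)
    {D : Fin 3 → Submodule F (Fin 3 → F)} (hD : IsNondegenerateMDecomposition (Cfsg.hermForm 3 F 5) 1 D)
    (hle : H ≤ decompositionStabilizer D) : False := by
  classical
  set f := Cfsg.hermForm 3 F 5 with hfdef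
  have hf : IsUnitaryForm (UnitPow.conj hm.card) f := UnitPow.isUnitaryForm_hermForm hm.card 3
  have hex : ∀ i, ∃ v, v ∈ D i ∧ f v v = 1 ∧ ∀ y ∈ D i, ∃ a : F, y = a • v := by
    intro i
    obtain ⟨v, hv0, hv⟩ := finrank_eq_one_iff'.1 (hD.decomp.finrank_eq i)
    have hv0' : (v : Fin 3 → F) ≠ 0 := fun h => hv0 (Subtype.ext h)
    obtain ⟨x, hx, hxv⟩ := (hD.nondegenerate i v v.2 hv0').1
    obtain ⟨a, ha⟩ := hv ⟨x, hx⟩
    rw [← show a • (v : Fin 3 → F) = x from congrArg Subtype.val ha, hf.smul_left] at hxv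
    have hfix := Unit.self_fixed hf (v : Fin 3 → F)
    obtain ⟨l, hl⟩ := Unit.exists_norm hf.ne_refl hf.involutive
      (show UnitPow.conj hm.card (f (v : Fin 3 → F) v)⁻¹ = (f (v : Fin 3 → F) v)⁻¹ by rw [map_inv₀, hfix])
    have hl0 : l ≠ 0 := fun h => by
      rw [h, zero_mul] at hl
      exact inv_ne_zero (right_ne_zero_of_mul hxv) hl.symm
    refine ⟨l • (v : Fin 3 → F), (D i).smul_mem l v.2, ?_, fun y hy => ?_⟩
    · rw [hf.smul_left, Unit.smul_right hf, ← mul_assoc, hl, inv_mul_cancel₀ (right_ne_zero_of_mul hxv)]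
    · obtain ⟨b, hb⟩ := hv ⟨y, hy⟩
      refine ⟨b * l⁻¹, ?_⟩
      rw [smul_smul, mul_assoc, inv_mul_cancel₀ hl0, mul_one]
      exact (congrArg Subtype.val hb).symm
  choose v hvD hv1 hvy using hex
  obtain ⟨c, hc, hcol⟩ := exists_frame hm.card v fun i j => by
    by_cases h : i = j
    · subst h; rw [if_pos rfl]; exact hv1 i
    · rw [if_neg h]; exact hD.orthogonal i j h _ (hvD i) _ (hvD j)
  have hstd : ∀ h ∈ H, ∀ j, ∃ (i : Fin 3) (a : F),
      ((c⁻¹ * h * c : GL (Fin 3) F) : Matrix (Fin 3) (Fin 3) F) *ᵥ Pi.single j 1 = a • Pi.single i 1 := by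
    intro h hh j
    obtain ⟨τ, hτ⟩ := hle hh
    have hm' : (h : Matrix (Fin 3) (Fin 3) F) *ᵥ v j ∈ D (τ j) := by
      rw [← hτ j]; exact ⟨v j, hvD j, Matrix.toLin'_apply _ _⟩
    obtain ⟨a, ha⟩ := hvy _ _ hm'
    refine ⟨τ j, a, ?_⟩
    rw [Units.val_mul, Units.val_mul, ← Matrix.mulVec_mulVec, ← Matrix.mulVec_mulVec, hcol, ha, Matrix.mulVec_smul,
      ← hcol, gl_inv_mulVec_mulVec]
  obtain ⟨g, hg, hgv⟩ := m5_witness hm
  refine not_maximal_of_overgroup hH c (fun x hx => (sug_conj hc hx).1) (m5_le hm) (m5_ne hm)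
    (fun h hh => monomial_mem hm (sug_conj hc (hH.1.le hh)).2 (hstd h hh)) hg fun hmem => ?_
  obtain ⟨i, a, hia⟩ := hstd _ hmem 0
  rw [show c⁻¹ * (c * g * c⁻¹) * c = g by group, hgv] at hia
  obtain ⟨hrA, hw⟩ : InRange 5 (gens5.getD 7 (SU3Tables.one 5)) ∧
      ((gens5.getD 7 (SU3Tables.one 5)).1.1 * (gens5.getD 7 (SU3Tables.one 5)).2.1.1 +
      (gens5.getD 7 (SU3Tables.one 5)).2.1.1 * (gens5.getD 7 (SU3Tables.one 5)).2.2.1 +
      (gens5.getD 7 (SU3Tables.one 5)).2.2.1 * (gens5.getD 7 (SU3Tables.one 5)).1.1 ≠ 0) :=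
    ⟨by decide +kernel, witness5.2⟩
  generalize gens5.getD 7 (SU3Tables.one 5) = A at hia hrA hw
  have hz : ∀ k, k ≠ i → toMat 5 s A k 0 = 0 := fun k hk => by
    have h2 := congrFun hia k
    rw [Matrix.mulVec_single_one] at h2
    simpa [hk] using h2
  simp only [InRange, List.forall_mem_cons] at hrA
  obtain ⟨a1, -, -, a4, -, -, a7, -, -, -⟩ := hrA
  have hz' : ∀ {n : ℕ}, n < 5 * 5 → phi 5 s n = 0 → n = 0 := fun hn h => by
    by_contra h0
    exact hm.phi_ne_zero hn h0 h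
  apply hw
  fin_cases i
  · rw [hz' a4 (hz 1 (by decide)), hz' a7 (hz 2 (by decide))]; simp
  · rw [hz' a1 (hz 0 (by decide)), hz' a7 (hz 2 (by decide))]; simp
  · rw [hz' a1 (hz 0 (by decide)), hz' a4 (hz 1 (by decide))]; simp

end Five

end CfsgLib.Geo.Asch.SU3Small
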