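import Mathlib
import Cfsg.Prelude.Def_GeometricClasses
import Cfsg.Agent.Lib.Geo.AschUnitProper
import Cfsg.Agent.Lib.Geo.AschFormRational
import Cfsg.Agent.Lib.Geo.AschPrimeIrred
import Cfsg.Agent.Lib.Geo.AschPrime

/-! The structure theorem for maximal subgroups of SU_n, n an odd prime at least 5. -/

set_option autoImplicit false

namespace CfsgLib.Geo.Asch

open Cfsg Cfsg.Geo Matrix CfsgLib.GeomClasses
open scoped MatrixGroups commutatorElement

variable {F : Type*} [Field F] [Fintype F] {n : ℕ} {σ : F ≃+* F} {f : (Fin n → F) → (Fin n → F) → F}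

omit [Fintype F] in
theorem adjointClosed_algOf {ι : Type} [Fintype ι] [DecidableEq ι] {σ : F ≃+* F}
    {f : (ι → F) → (ι → F) → F} (hf : IsUnitaryForm σ f) {N : Subgroup (GL ι F)}
    (hN : ∀ g ∈ N, ∀ u v, f ((g : Matrix ι ι F) *ᵥ u) ((g : Matrix ι ι F) *ᵥ v) = f u v) :
    IsAdjointClosedFor f (algOf N) := by
  intro k hk
  induction hk using Algebra.adjoin_induction with
  | mem s hs =>
    obtain ⟨g, hg, rfl⟩ := hs
    refine ⟨((g⁻¹ : GL ι F) : Matrix ι ι F), mem_algOf (N.inv_mem hg), fun u v => ?_⟩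
    conv_lhs => rw [← gl_mulVec_inv_mulVec g v]
    exact hN g hg u _
  | algebraMap a =>
    refine ⟨algebraMap F _ (σ a), Subalgebra.algebraMap_mem _ _, fun u v => ?_⟩
    rw [Algebra.algebraMap_eq_smul_one, Algebra.algebraMap_eq_smul_one, Matrix.smul_mulVec, Matrix.smul_mulVec,
      Matrix.one_mulVec, Matrix.one_mulVec, Unit.smul_left hf, Unit.smul_right hf, hf.involutive]
  | add x y _ _ hx hy =>
    obtain ⟨x', hx', ex⟩ := hx
    obtain ⟨y', hy', ey⟩ := hy
    exact ⟨x' + y', add_mem hx' hy', fun u v => by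
      rw [Matrix.add_mulVec, Matrix.add_mulVec, Unit.add_left hf, Unit.add_right hf, ex, ey]⟩
  | mul x y _ _ hx hy =>
    obtain ⟨x', hx', ex⟩ := hx
    obtain ⟨y', hy', ey⟩ := hy
    exact ⟨y' * x', mul_mem hy' hx', fun u v => by
      rw [← Matrix.mulVec_mulVec, ex, ey, Matrix.mulVec_mulVec]⟩

theorem nondegenerate_eigen_lines (hf : IsUnitaryForm σ f) (hn : Odd n) {H N : Subgroup (GL (Fin n) F)}
    (hirr : ActsIrreducibly (matrixSet H))
    (hHf : ∀ g ∈ H, ∀ u v, f ((g : Matrix (Fin n) (Fin n) F) *ᵥ u) ((g : Matrix (Fin n) (Fin n) F) *ᵥ v) = f u v)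
    (hNH : N ≤ H) {t : ℕ} (ht : t = n) {D : Fin t → Submodule F (Fin n → F)} (hD : IsMDecomposition 1 D)
    {χ : Fin t → N → F} (hχ : Function.Injective χ)
    (hact : ∀ i, ∀ v ∈ D i, ∀ x : N, ((x : GL (Fin n) F) : Matrix (Fin n) (Fin n) F) *ᵥ v = χ i x • v)
    (hle : H ≤ decompositionStabilizer D) : IsNondegenerateMDecomposition f 1 D := by
  classical
  let R : Fin t → Fin t → Prop := fun i j => ∃ v ∈ D i, ∃ w ∈ D j, f v w ≠ 0
  have hmul : ∀ {i j}, R i j → ∀ x, χ i x * σ (χ j x) = 1 := by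
    rintro i j ⟨v, hv, w, hw, hne⟩ x
    have h := hHf _ (hNH x.2) v w
    rw [hact i v hv x, hact j w hw x, Unit.smul_left hf, Unit.smul_right hf, ← mul_assoc] at h
    exact mul_right_cancel₀ hne (h.trans (one_mul _).symm)
  have huniq : ∀ {i j k}, R i j → R i k → j = k := by
    intro i j k hij hik
    refine hχ (funext fun x => σ.injective ?_)
    have h1 := hmul hij x
    have h2 := hmul hik x
    exact mul_left_cancel₀ (fun h => by simp [h] at h1) (h1.trans h2.symm)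
  have hex : ∀ i, ∃ j, R i j := by
    intro i
    obtain ⟨v, hv, hv0⟩ := (Submodule.ne_bot_iff (D i)).1 (fun h => by
      have := hD.finrank_eq i
      rw [h, finrank_bot] at this
      omega)
    by_contra hall
    simp only [not_exists, R, not_and, not_not] at hall
    obtain ⟨x, hx⟩ := (hf.nondegenerate v hv0).2
    apply hx
    clear hx
    have hxt : x ∈ iSup D := hD.iSup_eq_top ▸ Submodule.mem_top
    induction hxt using Submodule.iSup_induction' with
    | mem j w hw => exact hall j v hv w hw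
    | zero => exact Unit.zero_right hf v
    | add a b _ _ ha hb => rw [Unit.add_right hf, ha, hb, add_zero]
  choose π hπ using hex
  have hsymm : ∀ {i j}, R i j → R j i := fun {i j} ⟨v, hv, w, hw, hne⟩ => ⟨w, hw, v, hv, Unit.ne_zero_comm hf hne⟩
  have hinvol : ∀ i, π (π i) = i := fun i => huniq (hπ (π i)) (hsymm (hπ i))
  obtain ⟨i₀, hi₀⟩ : ∃ i, π i = i := by
    by_contra h
    push Not at h
    have h1 : (∑ _i : Fin t, (1 : ZMod 2)) = 0 :=
      Finset.sum_involution (fun i _ => π i) (fun i _ => by decide) (fun i _ _ => h i)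
        (fun i _ => Finset.mem_univ _) (fun i _ => hinvol i)
    rw [Finset.sum_const, Finset.card_univ, Fintype.card_fin, nsmul_eq_mul, mul_one, ZMod.natCast_eq_zero_iff] at h1
    subst ht
    exact (Nat.not_even_iff_odd.2 hn) (even_iff_two_dvd.2 h1)
  let S : Submodule F (Fin n → F) := ⨆ (i : Fin t) (_ : π i = i), D i
  have hS : S = ⊤ := by
    refine (hirr S ?_).resolve_left ?_
    · rintro _ ⟨g, hg, rfl⟩
      obtain ⟨τ, hτ⟩ := hle hg
      simp only [S, Submodule.map_iSup]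
      refine iSup₂_le fun i hi => le_iSup₂_of_le (τ i) (huniq (hπ (τ i)) ?_) (le_of_eq (hτ i))
      obtain ⟨v, hv, w, hw, hne⟩ := hπ i
      rw [hi] at hw
      exact ⟨(g : Matrix (Fin n) (Fin n) F) *ᵥ v, hτ i ▸ ⟨v, hv, Matrix.toLin'_apply _ _⟩,
        (g : Matrix (Fin n) (Fin n) F) *ᵥ w, hτ i ▸ ⟨w, hw, Matrix.toLin'_apply _ _⟩, by rwa [hHf g hg]⟩
    · intro h0
      have h1 : D i₀ ≤ S := le_iSup₂_of_le i₀ hi₀ le_rfl
      rw [h0, le_bot_iff] at h1
      have := hD.finrank_eq i₀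
      rw [h1, finrank_bot] at this
      omega
  have hall : ∀ i, π i = i := by
    intro i
    by_contra hne
    have hle' : S ≤ ⨆ (j : Fin t) (_ : j ≠ i), D j :=
      iSup₂_le fun j hj => le_iSup₂_of_le j (fun h => hne (h ▸ hj)) le_rfl
    have hd := iSupIndep_def.1 hD.indep i
    rw [hS, top_le_iff] at hle'
    rw [hle', disjoint_top] at hd
    have := hD.finrank_eq i
    rw [hd, finrank_bot] at this
    omega
  have horth : ∀ i j, i ≠ j → AreOrthogonalFor f (D i) (D j) := by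
    intro i j hij u hu v hv
    by_contra hne
    exact hij ((hall i).symm.trans (huniq (hπ i) ⟨u, hu, v, hv, hne⟩))
  refine ⟨hD, fun i w hw hw0 => ?_, horth⟩
  obtain ⟨v, hv, v', hv', hne⟩ := hπ i
  rw [hall i] at hv'
  obtain ⟨z, -, hz⟩ := finrank_eq_one_iff'.1 (hD.finrank_eq i)
  obtain ⟨a, ha⟩ := hz ⟨v, hv⟩
  obtain ⟨b, hb⟩ := hz ⟨v', hv'⟩
  obtain ⟨c, hc⟩ := hz ⟨w, hw⟩
  have ha' : a • (z : Fin n → F) = v := congrArg Subtype.val ha
  have hb' : b • (z : Fin n → F) = v' := congrArg Subtype.val hb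
  have hc' : c • (z : Fin n → F) = w := congrArg Subtype.val hc
  have hc0 : c ≠ 0 := fun h => hw0 (by rw [← hc', h, zero_smul])
  have hzz : f (z : Fin n → F) z ≠ 0 := fun h => hne (by
    rw [← ha', ← hb', Unit.smul_left hf, Unit.smul_right hf, h, mul_zero, mul_zero])
  refine ⟨⟨z, z.2, ?_⟩, ⟨z, z.2, ?_⟩⟩
  · rw [← hc', Unit.smul_right hf]; exact mul_ne_zero ((map_ne_zero σ).2 hc0) hzz
  · rw [← hc', Unit.smul_left hf]; exact mul_ne_zero hc0 hzz

/-- Maximal subgroups of SU_n for an odd prime n, given that SU_n normalises no group of symplectic type. -/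
theorem unitary_prime_cases_gen {q : ℕ} (hn : n.Prime) (h3 : 3 ≤ n) (hF : Fintype.card F = q ^ 2)
    (hσq : ∀ x, σ x = x ^ q) (hf : IsUnitaryForm σ f)
    (he : ∀ i j, f (Pi.single i 1) (Pi.single j 1) = if i = j then 1 else 0) {Ω H : Subgroup (GL (Fin n) F)}
    (hΩ : ∀ g, g ∈ Ω ↔ (∀ u v, f ((g : Matrix (Fin n) (Fin n) F) *ᵥ u) ((g : Matrix (Fin n) (Fin n) F) *ᵥ v) = f u v) ∧
      g ∈ specialLinear (Fin n) F)
    (hH : IsMaximalIn Ω H)
    (hR : ∀ (N : Subgroup (GL (Fin n) F)) (p e : ℕ), p.Prime → CharP F p → q = p ^ e → 2 * e ∣ n - 1 →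
      p ^ e % n = n - 1 → PrimeType N → ¬ Ω ≤ subgroupNormalizer N)
    (hDec : ∀ D : Fin n → Submodule F (Fin n → F), IsNondegenerateMDecomposition f 1 D →
      ¬ Ω ≤ decompositionStabilizer D) :
    (∃ W : Submodule F (Fin n → F), W ≠ ⊥ ∧ IsTotallySingularFor f W ∧ H = subspaceStabilizer W ⊓ Ω) ∨
    (∃ W : Submodule F (Fin n → F), W ≠ ⊥ ∧ IsNondegenerateOn f W ∧ 2 * Module.finrank F W < n ∧
      H = subspaceStabilizer W ⊓ Ω) ∨
    (∃ D : Fin n → Submodule F (Fin n → F), IsNondegenerateMDecomposition f 1 D ∧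
      H = decompositionStabilizer D ⊓ Ω) ∨
    (∃ K : Subalgebra F (Matrix (Fin n) (Fin n) F), IsFieldSubalgebra n K ∧ IsAdjointClosedFor f K ∧
      (∃ N : Subgroup (GL (Fin n) F), N ≤ H ∧ (∀ g ∈ H, ∀ x ∈ N, g * x * g⁻¹ ∈ N) ∧ ¬ N ≤ scalars (Fin n) F ∧
        ActsIrreducibly (matrixSet N) ∧ (∀ x ∈ N, ∀ y ∈ N, x * y = y * x)) ∧
      H = subalgebraNormalizer K ⊓ Ω) ∨
    (∃ (F₀ : Subfield F) (r : ℕ) (P : GL (Fin n) F), r.Prime ∧ Odd r ∧ Fintype.card F = Nat.card F₀ ^ r ∧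
      IsFormRationalStructure f F₀ 1 P ∧ H = subfieldSubgroup F₀ P ⊓ Ω) ∨
    (Odd q ∧ ∃ (F₀ : Subfield F) (P : GL (Fin n) F), Fintype.card F = Nat.card F₀ ^ 2 ∧
      IsFormRationalStructure f F₀ 1 P ∧ H = subfieldSubgroup F₀ P ⊓ Ω) ∨
    (∃ (p e : ℕ) (R : Subgroup (GL (Fin n) F)), p.Prime ∧ CharP F p ∧ q = p ^ e ∧ 2 * e ∣ n - 1 ∧
      p ^ e % n = n - 1 ∧ (∀ d, 0 < d → d < 2 * e → p ^ d % n ≠ 1) ∧
      IsSymplecticTypeGroup n R ∧ ActsAbsolutelyIrreducibly (matrixSet R) ∧ R ≤ Ω ∧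
      Nat.card R = n ^ 3 ∧ Nat.card (Subgroup.center R) = n ∧ H = subgroupNormalizer R ⊓ Ω) ∨
    InUnitaryResidualClass H := by
  classical
  haveI : Nonempty (Fin n) := ⟨⟨0, by omega⟩⟩
  haveI := Fact.mk hn
  have hp : (Fintype.card (Fin n)).Prime := by simpa using hn
  have hn2 : 2 ≤ Fintype.card (Fin n) := hp.two_le
  have hn3 : 3 ≤ Fintype.card (Fin n) := by simp; omega
  have hodd : Odd n := hn.odd_of_ne_two (by omega)
  have hodd' : Odd (Fintype.card (Fin n)) := by simpa using hodd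
  have hU : HasUTv σ f Ω := fun v c hv hc =>
    (hΩ _).2 ⟨Unit.formTv_isometry hf hv hc, formTv_mem_specialLinear _ _ _⟩
  have hHΩ : H ≤ Ω := hH.1.le
  have hHf : ∀ g ∈ H, ∀ u v,
      f ((g : Matrix (Fin n) (Fin n) F) *ᵥ u) ((g : Matrix (Fin n) (Fin n) F) *ᵥ v) = f u v :=
    fun g hg => ((hΩ g).1 (hHΩ hg)).1
  by_cases hirr : ActsIrreducibly (matrixSet H)
  swap
  · obtain ⟨W, hW, hW1, hW2⟩ : ∃ W : Submodule F (Fin n → F),
        (∀ s ∈ matrixSet H, W.map (Matrix.toLin' s) ≤ W) ∧ W ≠ ⊥ ∧ W ≠ ⊤ := by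
      unfold ActsIrreducibly at hirr
      push Not at hirr
      exact hirr
    have hperpinv : ∀ g ∈ H, ∀ v ∈ Unit.perp hf W, (g : Matrix (Fin n) (Fin n) F) *ᵥ v ∈ Unit.perp hf W := by
      intro g hg v hv
      rw [Unit.mem_perp hf] at hv ⊢
      intro w hw
      rw [← gl_mulVec_inv_mulVec g w, hHf g hg]
      exact hv _ (invariant_map_mem hW ⟨_, H.inv_mem hg, rfl⟩ hw)
    have hWinv : ∀ g ∈ H, ∀ v ∈ W, (g : Matrix (Fin n) (Fin n) F) *ᵥ v ∈ W := fun g hg v hv =>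
      invariant_map_mem hW ⟨g, hg, rfl⟩ hv
    have hfin := Unit.finrank_perp hf W
    rw [Fintype.card_fin] at hfin
    have hWlt := Submodule.finrank_lt hW2
    rw [Module.finrank_fin_fun] at hWlt
    have hWpos : 0 < Module.finrank F W := Nat.pos_of_ne_zero fun h => hW1 (Submodule.finrank_eq_zero.1 h)
    have hmk : ∀ U : Submodule F (Fin n → F), (∀ g ∈ H, ∀ v ∈ U, (g : Matrix (Fin n) (Fin n) F) *ᵥ v ∈ U) →
        H ≤ subspaceStabilizer U := fun U hU g hg => mem_subspaceStabilizer.2 (hU g hg)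
    by_cases hR : W ⊓ Unit.perp hf W = ⊥
    · have hnd : IsNondegenerateOn f W := by
        intro w hw hw0
        have hnot : w ∉ Unit.perp hf W := fun h => hw0 ((Submodule.eq_bot_iff _).1 hR w ⟨hw, h⟩)
        rw [Unit.mem_perp hf] at hnot
        push Not at hnot
        obtain ⟨x, hx, hne⟩ := hnot
        exact ⟨⟨x, hx, Unit.ne_zero_comm hf hne⟩, ⟨x, hx, hne⟩⟩
      have hnd' : IsNondegenerateOn f (Unit.perp hf W) := by
        intro w hw hw0
        have hnot : w ∉ Unit.perp hf (Unit.perp hf W) := fun h => hw0 ((Submodule.eq_bot_iff _).1 hR w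
          ⟨by rwa [Unit.perp_perp hf] at h, hw⟩)
        rw [Unit.mem_perp hf] at hnot
        push Not at hnot
        obtain ⟨x, hx, hne⟩ := hnot
        exact ⟨⟨x, hx, Unit.ne_zero_comm hf hne⟩, ⟨x, hx, hne⟩⟩
      obtain ⟨k, hk⟩ := hodd
      by_cases hsmall : 2 * Module.finrank F W < n
      · exact Or.inr (Or.inl ⟨W, hW1, hnd, hsmall,
          eq_inf_of_le hH (hmk W hWinv) (utv_not_le_subspace hf hn2 hU hW1 hW2)⟩)
      · have h1 : Unit.perp hf W ≠ ⊥ := fun h => by rw [h, finrank_bot] at hfin; omega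
        have h2 : Unit.perp hf W ≠ ⊤ := fun h => by rw [h, finrank_top, Module.finrank_fin_fun] at hfin; omega
        exact Or.inr (Or.inl ⟨Unit.perp hf W, h1, hnd', by omega,
          eq_inf_of_le hH (hmk _ hperpinv) (utv_not_le_subspace hf hn2 hU h1 h2)⟩)
    · have h2 : W ⊓ Unit.perp hf W ≠ ⊤ := fun h => hW2 (top_le_iff.1 (h ▸ inf_le_left))
      refine Or.inl ⟨_, hR, fun u hu v hv => (Unit.mem_perp hf).1 hu.2 v hv.1,
        eq_inf_of_le hH (hmk _ fun g hg v hv => ⟨hWinv g hg v hv.1, hperpinv g hg v hv.2⟩)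
          (utv_not_le_subspace hf hn2 hU hR h2)⟩
  refine Or.inr (Or.inr ?_)
  -- a minimal non-scalar normalised subgroup
  let Pr : Subgroup (GL (Fin n) F) → Prop :=
    fun K => K ≤ H ∧ (∀ g ∈ H, ∀ x ∈ K, g * x * g⁻¹ ∈ K) ∧ ¬ K ≤ scalars (Fin n) F
  obtain ⟨N, ⟨hNH, hinv, hns⟩, hNmin⟩ := (Set.toFinite {K | Pr K}).exists_minimal
    ⟨H, le_rfl, fun g hg x hx => H.mul_mem (H.mul_mem hg hx) (H.inv_mem hg), not_le_scalars_of_irreducible hirr hn2⟩
  have hmin : ∀ K : Subgroup (GL (Fin n) F), K ≤ N → (∀ g ∈ H, ∀ x ∈ K, g * x * g⁻¹ ∈ K) →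
      ¬ K ≤ scalars (Fin n) F → K = N :=
    fun K h1 h2 h3 => le_antisymm h1 (hNmin ⟨h1.trans hNH, h2, h3⟩ h1)
  have hNf : FixesForm (matrixSet N) f := by
    rintro _ ⟨g, hg, rfl⟩ u v
    exact hHf g (hNH hg) u v
  have hNsl : N ≤ specialLinear (Fin n) F := fun g hg => ((hΩ g).1 (hHΩ (hNH hg))).2
  by_cases hab : ∀ x ∈ N, ∀ y ∈ N, x * y = y * x
  · by_cases hNirr : ActsIrreducibly (matrixSet N)
    · refine Or.inr (Or.inl ⟨algOf N, ?_, adjointClosed_algOf hf fun g hg => hHf g (hNH hg),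
        ⟨N, hNH, hinv, hns, hNirr, hab⟩,
        eq_inf_of_le hH (le_subalgebraNormalizer (normalized_algOf hinv)) ?_⟩)
      · simpa using isFieldSubalgebra_algOf hNirr hab
      · exact utv_not_le_field hf hn3 hU (r := Fintype.card (Fin n)) (by omega) (isFieldSubalgebra_algOf hNirr hab)
    · obtain ⟨t, D, χ, ht, hD, hχ, hact, hle⟩ := exists_eigen_lines hp hirr hinv hns
        ((irreducible_or_eigen hp hirr hinv).resolve_left hNirr)
      rw [Fintype.card_fin] at ht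
      have hnd := nondegenerate_eigen_lines hf hodd hirr hHf hNH ht hD hχ hact hle
      subst ht
      exact Or.inl ⟨D, hnd, eq_inf_of_le hH hle (hDec D hnd)⟩
  have hNirr : ActsIrreducibly (matrixSet N) :=
    (irreducible_or_eigen hp hirr hinv).resolve_right fun h => hab (commute_of_eigen h)
  have hspan := algOf_eq_top_of_prime hp hNirr hab
  refine Or.inr (Or.inr ?_)
  by_cases hreal : ∃ F₀ : Subfield F, F₀ ≠ ⊤ ∧ RealisableOver F₀ (matrixSet N)
  · obtain ⟨F₀, h0, hr⟩ := hreal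
    obtain ⟨F₁, r, P, hrp, hc, hle, hrat⟩ := exists_rational_subfield hspan hinv h0 hr
    obtain ⟨P', hPP, hform, hr2⟩ := exists_form_rational hspan hn2 hodd' hF hσq hf hNf hrp hc P hrat
    have hEq := eq_inf_of_le hH (M := subfieldSubgroup F₁ P') (hPP ▸ hle)
      (utv_not_le_subfield hf hn3 he hU (subfield_ne_top hrp hc) P')
    rcases hr2 with ho | ⟨rfl, hq⟩
    · exact Or.inl ⟨F₁, r, P', hrp, ho, hc, hform, hEq⟩
    · exact Or.inr (Or.inl ⟨hq, F₁, P', hc, hform, hEq⟩)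
  refine Or.inr (Or.inr ?_)
  by_cases hcl : ∀ x ∈ N, ∀ y ∈ N, x * y * x⁻¹ * y⁻¹ ∈ scalars (Fin n) F
  · have hPT : PrimeType N := ⟨hNsl, hspan, hcl⟩
    obtain ⟨z, hz, s, hs, hzs⟩ := hPT.exists_root hn
    obtain ⟨p, hchar⟩ := CharP.exists F
    haveI := hchar
    obtain ⟨⟨e2, he2⟩, hpp, hqe⟩ := FiniteField.card F p
    simp only [PNat.mk_coe] at hqe
    haveI := Fact.mk hpp
    obtain ⟨e, -, hqp⟩ := (Nat.dvd_prime_pow hpp).1 (show q ∣ p ^ e2 from hqe ▸ hF ▸ dvd_pow_self q two_ne_zero)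
    have he22 : e2 = 2 * e := Nat.pow_right_injective hpp.two_le (by
      show p ^ e2 = p ^ (2 * e)
      rw [← hqe, hF, hqp, ← pow_mul, mul_comm])
    subst he22
    have hsq : n ∣ q + 1 := by
      rw [hs.eq_orderOf]
      refine orderOf_dvd_of_pow_eq_one ?_
      obtain ⟨v, hv⟩ := exists_ne (0 : Fin n → F)
      obtain ⟨x, hx⟩ := (hf.nondegenerate v hv).1
      have := hHf z (hNH hz) x v
      rw [hzs, Matrix.smul_mulVec, Matrix.smul_mulVec, Matrix.one_mulVec, Matrix.one_mulVec, Unit.smul_left hf,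
        Unit.smul_right hf, hσq, ← mul_assoc, ← pow_succ'] at this
      exact mul_right_cancel₀ hx (this.trans (one_mul _).symm)
    have hnfix : ∀ d, 0 < d → d < 2 * e → ¬ ∀ x : F, x ^ p ^ d = x := by
      intro d hd0 hde hall
      have hlt : p ^ d < p ^ (2 * e) := Nat.pow_lt_pow_right hpp.one_lt hde
      have hXne := FiniteField.X_pow_card_pow_sub_X_ne_zero (K' := F) hd0.ne' hpp.one_lt
      have hroots : (Finset.univ : Finset F) ⊆
          (Polynomial.X ^ p ^ d - Polynomial.X : Polynomial F).roots.toFinset := by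
        intro x _
        simp [Multiset.mem_toFinset, Polynomial.mem_roots hXne, Polynomial.IsRoot, hall x]
      have := (Finset.card_le_card hroots).trans ((Multiset.toFinset_card_le _).trans (Polynomial.card_roots' _))
      rw [Finset.card_univ, hqe, FiniteField.X_pow_card_pow_sub_X_natDegree_eq F hd0.ne' hpp.one_lt] at this
      omega
    have hminf : ∀ d, 0 < d → d < 2 * e → ¬ n ∣ p ^ d - 1 := by
      rintro d hd0 hde ⟨k, hk⟩
      let φ : F →+* F := iterateFrobenius F p d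
      let F₀ : Subfield F := RingHom.eqLocusField φ (RingHom.id F)
      have hmem : ∀ x, x ∈ F₀ ↔ x ^ p ^ d = x := fun x => by
        show φ x = x ↔ _
        rw [show φ x = x ^ p ^ d from iterateFrobenius_def p d x]
      refine hreal ⟨F₀, fun htop => hnfix d hd0 hde fun x => (hmem x).1 (htop ▸ Subfield.mem_top x),
        hPT.realisable hn hodd F₀ fun c hc => (hmem c).2 ?_⟩
      have := Nat.one_le_pow d p hpp.pos
      rw [show p ^ d = n * k + 1 by omega, pow_succ, pow_mul, hc, one_pow, one_mul]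
    have hmod : ∀ d, n ∣ p ^ d - 1 ↔ p ^ d % n = 1 := by
      intro d
      have := Nat.one_le_pow d p hpp.pos
      rw [← Nat.modEq_iff_dvd' this, Nat.ModEq, Nat.mod_eq_of_lt hn.one_lt, eq_comm]
    have hord : n ∣ p ^ (2 * e) - 1 := by
      rw [← hqe, hF, ← one_pow 2, Nat.sq_sub_sq]
      exact dvd_mul_of_dvd_left hsq _
    have hhalf : p ^ e % n = n - 1 := by
      obtain ⟨k, hk⟩ := hsq
      have h1 : 1 ≤ k := by
        rcases Nat.eq_zero_or_pos k with rfl | h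
        · omega
        · exact h
      obtain ⟨k', rfl⟩ : ∃ k', k = k' + 1 := ⟨k - 1, by omega⟩
      rw [← hqp, show q = n * k' + (n - 1) by rw [mul_add, mul_one] at hk; omega, Nat.mul_add_mod,
        Nat.mod_eq_of_lt (by omega)]
    have hdvd : 2 * e ∣ n - 1 := by
      have hpn : ¬ n ∣ p := fun h => by
        have h2 : n ∣ p ^ (2 * e) := dvd_pow h (by omega)
        have h3 := Nat.dvd_sub h2 hord
        rw [show p ^ (2 * e) - (p ^ (2 * e) - 1) = 1 by have := Nat.one_le_pow (2 * e) p hpp.pos; omega] at h3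
        exact hn.not_dvd_one h3
      have hp0 : (p : ZMod n) ≠ 0 := by rwa [Ne, ZMod.natCast_eq_zero_iff]
      have hpe : ∀ d, (p : ZMod n) ^ d = 1 ↔ n ∣ p ^ d - 1 := fun d => by
        rw [← Nat.cast_pow, ← ZMod.natCast_eq_zero_iff, Nat.cast_sub (Nat.one_le_pow _ _ hpp.pos), Nat.cast_one,
          sub_eq_zero]
      have hordp : orderOf (p : ZMod n) = 2 * e := by
        rw [orderOf_eq_iff he2]
        exact ⟨(hpe _).2 hord, fun d hd hd0 h => hminf d hd0 hd ((hpe d).1 h)⟩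
      rw [← hordp]
      exact orderOf_dvd_of_pow_eq_one (ZMod.pow_card_sub_one_eq_one hp0)
    exact Or.inl ⟨p, e, N, hpp, hchar, hqp, hdvd, hhalf, fun d h1 h2 h => hminf d h1 h2 ((hmod d).2 h),
      hPT.isSymplecticTypeGroup hn hodd hinv hmin, absIrred_of_algOf_eq_top hspan, hNH.trans hHΩ,
      hPT.card_eq hn, by rw [hPT.center_eq hn, hPT.card_scalars hn],
      eq_inf_of_le hH (le_normalizer_of_normalized hinv) (hR N p e hpp hchar hqp hdvd hhalf hPT)⟩
  · have hperf : ⁅N, N⁆ = N := by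
      refine hmin _ (Subgroup.commutator_le_self N) ?_ ?_
      · intro g hg x hx
        have hmap : (⁅N, N⁆).map (MulAut.conj g).toMonoidHom ≤ ⁅N, N⁆ := by
          rw [Subgroup.map_commutator]
          apply Subgroup.commutator_mono <;>
          · rintro _ ⟨a, ha, rfl⟩; exact hinv g hg a ha
        exact hmap ⟨x, hx, rfl⟩
      · intro hle
        apply hcl
        intro x hx y hy
        exact hle (Subgroup.commutator_mem_commutator hx hy)
    rcases simple_or_power hNH hinv hspan hcl hmin with h | ⟨a, t, -, ht, hat⟩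
    swap
    · exact absurd (hat ▸ hp) (Nat.Prime.not_prime_pow ht)
    refine Or.inr ⟨N, residualCore_of_simple hNH hinv hspan hperf hns h (fun F₀ h0 hr => hreal ⟨F₀, h0, hr⟩), ?_, ?_⟩
    · rintro ⟨Q, hQ, hfix⟩
      by_cases hoq : Odd (Fintype.card F)
      · exact hreal (realisable_of_bilinear hspan hf hNf (polar_isSesq hQ) hQ.nondegenerate (fixesForm_polar hfix))
      · exact not_symplectic_of_odd hodd' (polar_symplectic hQ (two_eq_zero_of_not_odd hoq))
    · rintro ⟨g, hg, -⟩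
      exact not_symplectic_of_odd hodd' hg

/-- Maximal subgroups of SU_n for an odd prime n at least 5. -/
theorem unitary_prime_cases {q : ℕ} (hn : n.Prime) (h5 : 5 ≤ n) (hF : Fintype.card F = q ^ 2)
    (hσq : ∀ x, σ x = x ^ q) (hf : IsUnitaryForm σ f)
    (he : ∀ i j, f (Pi.single i 1) (Pi.single j 1) = if i = j then 1 else 0) {Ω H : Subgroup (GL (Fin n) F)}
    (hΩ : ∀ g, g ∈ Ω ↔ (∀ u v, f ((g : Matrix (Fin n) (Fin n) F) *ᵥ u) ((g : Matrix (Fin n) (Fin n) F) *ᵥ v) = f u v) ∧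
      g ∈ specialLinear (Fin n) F)
    (hH : IsMaximalIn Ω H) :
    (∃ W : Submodule F (Fin n → F), W ≠ ⊥ ∧ IsTotallySingularFor f W ∧ H = subspaceStabilizer W ⊓ Ω) ∨
    (∃ W : Submodule F (Fin n → F), W ≠ ⊥ ∧ IsNondegenerateOn f W ∧ 2 * Module.finrank F W < n ∧
      H = subspaceStabilizer W ⊓ Ω) ∨
    (∃ D : Fin n → Submodule F (Fin n → F), IsNondegenerateMDecomposition f 1 D ∧
      H = decompositionStabilizer D ⊓ Ω) ∨
    (∃ K : Subalgebra F (Matrix (Fin n) (Fin n) F), IsFieldSubalgebra n K ∧ IsAdjointClosedFor f K ∧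
      (∃ N : Subgroup (GL (Fin n) F), N ≤ H ∧ (∀ g ∈ H, ∀ x ∈ N, g * x * g⁻¹ ∈ N) ∧ ¬ N ≤ scalars (Fin n) F ∧
        ActsIrreducibly (matrixSet N) ∧ (∀ x ∈ N, ∀ y ∈ N, x * y = y * x)) ∧
      H = subalgebraNormalizer K ⊓ Ω) ∨
    (∃ (F₀ : Subfield F) (r : ℕ) (P : GL (Fin n) F), r.Prime ∧ Odd r ∧ Fintype.card F = Nat.card F₀ ^ r ∧
      IsFormRationalStructure f F₀ 1 P ∧ H = subfieldSubgroup F₀ P ⊓ Ω) ∨
    (Odd q ∧ ∃ (F₀ : Subfield F) (P : GL (Fin n) F), Fintype.card F = Nat.card F₀ ^ 2 ∧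
      IsFormRationalStructure f F₀ 1 P ∧ H = subfieldSubgroup F₀ P ⊓ Ω) ∨
    (∃ (p e : ℕ) (R : Subgroup (GL (Fin n) F)), p.Prime ∧ CharP F p ∧ q = p ^ e ∧ 2 * e ∣ n - 1 ∧
      p ^ e % n = n - 1 ∧ (∀ d, 0 < d → d < 2 * e → p ^ d % n ≠ 1) ∧
      IsSymplecticTypeGroup n R ∧ ActsAbsolutelyIrreducibly (matrixSet R) ∧ R ≤ Ω ∧
      Nat.card R = n ^ 3 ∧ Nat.card (Subgroup.center R) = n ∧ H = subgroupNormalizer R ⊓ Ω) ∨
    InUnitaryResidualClass H :=
  unitary_prime_cases_gen hn (by omega) hF hσq hf he hΩ hH (fun _ _ _ _ _ _ _ _ hPT =>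
    utv_not_le_normalizer hf h5 (fun v c hv hc =>
      (hΩ _).2 ⟨Unit.formTv_isometry hf hv hc, formTv_mem_specialLinear _ _ _⟩) hPT)
    fun _ hD => utv_not_le_decomposition hf (fun v c hv hc =>
      (hΩ _).2 ⟨Unit.formTv_isometry hf hv hc, formTv_mem_specialLinear _ _ _⟩) (by omega) hD

end CfsgLib.Geo.Asch
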