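import Mathlib
import Cfsg.Prelude.Def_GeometricClasses
import Cfsg.Agent.Lib.Geo.AschUnitPowerCases
import Cfsg.Agent.Lib.Geo.AschUnitSquare
import Cfsg.Agent.Lib.Geo.AschOrth
import Cfsg.Agent.Lib.Geo.AschPlusTensor

/-! In SU4 tensor squares, and pairs of totally singular planes over small fields, give subfield groups. -/

set_option autoImplicit false
set_option linter.unusedSectionVars false
set_option maxHeartbeats 1600000

namespace CfsgLib.Geo.Asch

open Cfsg Cfsg.Geo Matrix CfsgLib.GeomClasses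
open scoped MatrixGroups Kronecker

variable {ι : Type} [Fintype ι] [DecidableEq ι] {F : Type*} [Field F] [Fintype F]
  {σ : F ≃+* F} {f : (ι → F) → (ι → F) → F}

/-- The fixed field of an involution has index two. -/
theorem card_fixed_sq (hne : σ ≠ RingEquiv.refl F) (hinv : ∀ a, σ (σ a) = a) :
    Fintype.card F = Nat.card (RingHom.eqLocusField (σ : F →+* F) (RingHom.id F)) ^ 2 := by
  obtain ⟨w, hw⟩ := Unit.exists_moved hne
  let S := RingHom.eqLocusField (σ : F →+* F) (RingHom.id F)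
  have hS : ∀ {y}, y ∈ S ↔ σ y = y := Iff.rfl
  let Φ : S × S → F := fun p => (p.1 : F) + w * p.2
  have hd : w - σ w ≠ 0 := sub_ne_zero.2 (Ne.symm hw)
  have hΦ : Function.Bijective Φ := by
    constructor
    · rintro ⟨⟨x, hx⟩, ⟨y, hy⟩⟩ ⟨⟨x', hx'⟩, ⟨y', hy'⟩⟩ h
      have h1 : x + w * y = x' + w * y' := h
      have h2 := congrArg σ h1
      rw [map_add, map_add, map_mul, map_mul, hS.1 hx, hS.1 hy, hS.1 hx', hS.1 hy'] at h2
      have h3 : (w - σ w) * (y - y') = 0 := by linear_combination h1 - h2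
      have hyy := sub_eq_zero.1 ((mul_eq_zero.1 h3).resolve_left hd)
      subst hyy
      simp only [add_left_inj] at h1
      subst h1
      rfl
    · intro z
      have hy : σ ((z - σ z) / (w - σ w)) = (z - σ z) / (w - σ w) := by
        rw [map_div₀, map_sub, map_sub, hinv, hinv, ← neg_sub z, ← neg_sub w, neg_div_neg_eq]
      refine ⟨(⟨z - w * ((z - σ z) / (w - σ w)), ?_⟩, ⟨(z - σ z) / (w - σ w), hS.2 hy⟩), sub_add_cancel _ _⟩
      rw [hS, map_sub, map_mul, hy]
      field_simp
      ring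
  have := Nat.card_eq_of_bijective Φ hΦ
  rw [Nat.card_prod, Nat.card_eq_fintype_card (α := F)] at this
  rw [← this, sq]

/-- Similitudes whose conjugate is a twist by K are rational in a basis fixed by the twist. -/
theorem subfield_of_semilinear [Nonempty ι] (P : GL ι F) {K : Matrix ι ι F} (hK : K * K = 1) (Q : GL ι F)
    {e : F} (he : e * e = 1) (hQ : (Q : Matrix ι ι F).map σ = e • (K * (Q : Matrix ι ι F))) {H : Subgroup (GL ι F)}
    (hH : ∀ g ∈ H, ∃ a : F, a ≠ 0 ∧ ((P⁻¹ * g * P : GL ι F) : Matrix ι ι F).map σ =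
      a • (K * ((P⁻¹ * g * P : GL ι F) : Matrix ι ι F) * K)) :
    H ≤ subfieldSubgroup (RingHom.eqLocusField (σ : F →+* F) (RingHom.id F)) (P * Q) := by
  intro g hg
  obtain ⟨a, ha, hG⟩ := hH g hg
  set G := ((P⁻¹ * g * P : GL ι F) : Matrix ι ι F) with hGdef
  set G' := (((P * Q)⁻¹ * g * (P * Q) : GL ι F) : Matrix ι ι F) with hG'def
  have hQG : (Q : Matrix ι ι F) * G' = G * Q := by
    rw [hGdef, hG'def, ← Units.val_mul, ← Units.val_mul]
    congr 1
    group
  have hmap : ∀ A B : Matrix ι ι F, (A * B).map σ = A.map σ * B.map σ := fun A B =>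
    Matrix.map_mul (L := A) (M := B) (f := (σ : F →+* F))
  have h := congrArg (fun M : Matrix ι ι F => M.map σ) hQG
  simp only [hmap, hQ, hG, Matrix.smul_mul, Matrix.mul_smul, smul_smul] at h
  rw [Matrix.mul_assoc (K * G), ← Matrix.mul_assoc K K, hK, one_mul, Matrix.mul_assoc K G, ← hQG, Matrix.mul_assoc,
    ← Matrix.mul_smul, mul_comm e a, mul_smul a e] at h
  have hGσ : G'.map σ = a • G' := by
    have h1 : K * ((Q : Matrix ι ι F) * (e • G'.map σ)) = K * ((Q : Matrix ι ι F) * (e • (a • G'))) := by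
      simpa [Matrix.mul_smul, smul_smul, mul_comm, mul_left_comm] using h
    have h2 := congrArg (K * ·) h1
    simp only [← Matrix.mul_assoc K K, hK, one_mul] at h2
    have h3 := congrArg (e • ·) (Q.isUnit.mul_left_cancel h2)
    simpa [smul_smul, ← mul_assoc, he] using h3
  obtain ⟨i, j, hij⟩ : ∃ i j, G' i j ≠ 0 := by
    by_contra h0
    push Not at h0
    exact ((P * Q)⁻¹ * g * (P * Q)).ne_zero (Matrix.ext h0)
  set x := G' i j with hx
  let s : GL ι F := Units.map (algebraMap F (Matrix ι ι F)).toMonoidHom (Units.mk0 x hij)⁻¹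
  have hsv : (s : Matrix ι ι F) = algebraMap F _ x⁻¹ := rfl
  have hsmem : s ∈ subfieldSubgroup (RingHom.eqLocusField (σ : F →+* F) (RingHom.id F)) (P * Q) := by
    refine ⟨s, Subgroup.mem_sup_right ((mem_scalars_iff s).2 ⟨(Units.mk0 x hij)⁻¹,
      Algebra.algebraMap_eq_smul_one _⟩), Units.ext ?_⟩
    show ((P * Q * s * (P * Q)⁻¹ : GL ι F) : Matrix ι ι F) = s
    rw [Units.val_mul, Units.val_mul, hsv, ← Algebra.commutes, Matrix.mul_assoc, ← Units.val_mul, mul_inv_cancel,
      Units.val_one, mul_one]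
  have hsg : s * g ∈ subfieldSubgroup (RingHom.eqLocusField (σ : F →+* F) (RingHom.id F)) (P * Q) := by
    refine mem_subfieldSubgroup_of_entries fun k l => ?_
    have hv : (((P * Q)⁻¹ * (s * g) * (P * Q) : GL ι F) : Matrix ι ι F) = x⁻¹ • G' := by
      rw [hG'def]
      simp only [Units.val_mul, hsv, Algebra.algebraMap_eq_smul_one, Matrix.smul_mul, Matrix.mul_smul, one_mul,
        Matrix.mul_assoc]
    rw [hv, Matrix.smul_apply, smul_eq_mul]
    show σ (x⁻¹ * G' k l) = x⁻¹ * G' k l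
    have hk : σ (G' k l) = a * G' k l := congrFun (congrFun hGσ k) l
    have hi : σ x = a * x := congrFun (congrFun hGσ i) j
    rw [map_mul, map_inv₀, hk, hi, mul_inv, mul_mul_mul_comm, inv_mul_cancel₀ ha, one_mul]
  have := mul_mem (inv_mem hsmem) hsg
  rwa [← mul_assoc, inv_mul_cancel, one_mul] at this

/-- An isometry that is a similitude of a bilinear form is a twist of its conjugate. -/
theorem conj_eq_twist {G K : Matrix ι ι F} (hK : K * K = 1) {μ : F} (hμ : μ ≠ 0)
    (hsim : Gᵀ * K * G = μ • K) (hiso : Gᵀ * G.map σ = 1) : G.map σ = μ⁻¹ • (K * G * K) := by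
  have h : Gᵀ * (μ⁻¹ • (K * G * K)) = 1 := by
    rw [Matrix.mul_smul, ← Matrix.mul_assoc, ← Matrix.mul_assoc, hsim, Matrix.smul_mul, hK, smul_smul,
      inv_mul_cancel₀ hμ, one_smul]
  have h1 := mul_eq_one_comm.1 hiso
  calc G.map σ = (G.map σ * Gᵀ) * (μ⁻¹ • (K * G * K)) := by rw [Matrix.mul_assoc, h, mul_one]
    _ = _ := by rw [h1, one_mul]

/-- The anti-diagonal symmetric matrix of the plus type space of degree four. -/
def antiK : Matrix (Fin 4) (Fin 4) F := !![0, 0, 0, 1; 0, 0, -1, 0; 0, -1, 0, 0; 1, 0, 0, 0]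

theorem antiK_sq : (antiK : Matrix (Fin 4) (Fin 4) F) * antiK = 1 := by
  ext i j; fin_cases i <;> fin_cases j <;> simp [antiK, Matrix.mul_apply, Fin.sum_univ_four]

theorem antiK_eq : (antiK : Matrix (Fin 4) (Fin 4) F) = Matrix.reindexAlgEquiv F F fin22 hypFour := by
  ext i j
  fin_cases i <;> fin_cases j <;>
    simp [antiK, hypFour, planeJ, fin22, finProdFinEquiv, Fin.divNat, Fin.modNat, Matrix.kroneckerMap_apply]

/-- Vectors fixed by the twist. -/
def fixMat (σ : F ≃+* F) (e l : F) : Matrix (Fin 4) (Fin 4) F :=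
  !![1, l, 0, 0; 0, 0, 1, l; 0, 0, -e, -(e * σ l); e, e * σ l, 0, 0]

theorem fixMat_mulVec (e l : F) (u : Fin 4 → F) :
    fixMat σ e l *ᵥ u = ![u 0 + l * u 1, u 2 + l * u 3, -(e * (u 2 + σ l * u 3)), e * (u 0 + σ l * u 1)] := by
  funext i
  fin_cases i <;> simp [fixMat, Matrix.mulVec, dotProduct, Fin.sum_univ_four] <;> ring

theorem fixMat_map {e l : F} (he : e * e = 1) (hee : σ e = e) (hl : σ (σ l) = l) :
    (fixMat σ e l).map σ = e • (antiK * fixMat σ e l) := by
  ext i j
  fin_cases i <;> fin_cases j <;>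
    simp [fixMat, antiK, Matrix.mul_apply, Fin.sum_univ_four, hee, hl, ← mul_assoc, he]

theorem fixMat_det {e l : F} (he : e ≠ 0) (hl : σ l ≠ l) : (fixMat σ e l).det ≠ 0 := by
  intro h
  obtain ⟨v, hv0, hv⟩ := Matrix.exists_mulVec_eq_zero_iff.2 h
  rw [fixMat_mulVec] at hv
  have h0 : v 0 + l * v 1 = 0 := congrFun hv 0
  have h1 : v 2 + l * v 3 = 0 := congrFun hv 1
  have h2 : -(e * (v 2 + σ l * v 3)) = 0 := congrFun hv 2
  have h3 : e * (v 0 + σ l * v 1) = 0 := congrFun hv 3
  have h2' := (mul_eq_zero.1 (neg_eq_zero.1 h2)).resolve_left he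
  have h3' := (mul_eq_zero.1 h3).resolve_left he
  have hd : l - σ l ≠ 0 := sub_ne_zero.2 (Ne.symm hl)
  have hv1 : v 1 = 0 := (mul_eq_zero.1 (show (l - σ l) * v 1 = 0 by linear_combination h0 - h3')).resolve_left hd
  have hv3 : v 3 = 0 := (mul_eq_zero.1 (show (l - σ l) * v 3 = 0 by linear_combination h1 - h2')).resolve_left hd
  apply hv0
  funext i
  fin_cases i
  · simpa [hv1] using h0
  · exact hv1
  · simpa [hv3] using h1
  · exact hv3

/-- A tensor square of planes lies in a subfield group. -/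
theorem square_subfield {q : ℕ} (hF : Fintype.card F = q ^ 2) (hσq : ∀ x, σ x = x ^ q) (hf : IsUnitaryForm σ f)
    (e : ι ≃ Fin 2 × Fin 2) (P : GL ι F)
    (hT : IsTensorFormStructure (σ : F → F) f (stdHerm σ 2) (stdHerm σ 2) e P)
    {H : Subgroup (GL ι F)} (hH : IsoGrp f H) (hle : H ≤ tensorProductSubgroup 2 2 e P) : UnitSubfield q f H := by
  classical
  haveI : Nonempty ι := ⟨e.symm (0, 0)⟩
  obtain ⟨l, hl⟩ := Unit.exists_moved hf.ne_refl
  let E : ι ≃ Fin 4 := e.trans fin22
  let Re := Matrix.reindexAlgEquiv F F E.symm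
  obtain ⟨c, hc, hform⟩ := hT
  have hdot : ∀ x y : Fin 4 → F, f ((P : Matrix ι ι F) *ᵥ (x ∘ E)) ((P : Matrix ι ι F) *ᵥ (y ∘ E)) =
      c * ∑ i, x i * σ (y i) := fun x y => by
    rw [show x ∘ E = (x ∘ fin22) ∘ e from rfl, show y ∘ E = (y ∘ fin22) ∘ e from rfl, hform, gramMatrix_formOfGram,
      Matrix.one_kronecker_one, formOfGram_eq_dot, Matrix.one_mulVec]
    exact congrArg (c * ·) (Fintype.sum_equiv fin22 _ _ fun p => rfl)
  have hcfix : σ c = c := by
    have h := hdot (Pi.single 0 1) (Pi.single 0 1)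
    simp [Fin.sum_univ_four] at h
    rw [← h, Unit.self_fixed hf]
  let Q : GL ι F := glReindex E.symm (Matrix.GeneralLinearGroup.mkOfDetNeZero _ (fixMat_det one_ne_zero hl))
  have hQv : (Q : Matrix ι ι F) = Re (fixMat σ 1 l) := rfl
  have hle' : H ≤ subfieldSubgroup (RingHom.eqLocusField (σ : F →+* F) (RingHom.id F)) (P * Q) := by
    refine subfield_of_semilinear P (K := Re antiK) (by rw [← map_mul, antiK_sq, map_one]) Q (one_mul 1) ?_
      fun g hg => ?_
    · rw [one_smul, hQv, ← map_mul]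
      ext i j
      have h := congrFun (congrFun (fixMat_map (σ := σ) (one_mul 1) (map_one σ) (hf.involutive l)) (E i)) (E j)
      simpa [Re] using h
    · obtain ⟨_, ⟨y, ⟨A, B, hy⟩, rfl⟩, hgy⟩ := hle hg
      have hg' : P⁻¹ * g * P = glReindex e.symm y := by
        rw [← hgy]
        show P⁻¹ * (P * glReindex e.symm y * P⁻¹) * P = _
        group
      set G₄ := Matrix.reindexAlgEquiv F F fin22 (y : Matrix (Fin 2 × Fin 2) (Fin 2 × Fin 2) F) with hG₄
      have hG : ((P⁻¹ * g * P : GL ι F) : Matrix ι ι F) = Re G₄ := by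
        rw [hg']; ext i j; simp [Re, G₄, E, glReindex]
      have hsim : G₄ᵀ * antiK * G₄ =
          ((A : Matrix (Fin 2) (Fin 2) F).det * (B : Matrix (Fin 2) (Fin 2) F).det) • antiK := by
        have h : (y : Matrix (Fin 2 × Fin 2) (Fin 2 × Fin 2) F)ᵀ * hypFour * (y : Matrix (Fin 2 × Fin 2) (Fin 2 × Fin 2) F) =
            ((A : Matrix (Fin 2) (Fin 2) F).det * (B : Matrix (Fin 2) (Fin 2) F).det) • hypFour := by
          rw [hy, hypFour, ← Matrix.kroneckerMap_transpose, ← Matrix.mul_kronecker_mul, ← Matrix.mul_kronecker_mul,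
            planeJ_similar, planeJ_similar, Matrix.smul_kronecker, Matrix.kronecker_smul, smul_smul]
        have h' := congrArg (Matrix.reindexAlgEquiv F F fin22) h
        rw [map_mul, map_mul, map_smul, ← antiK_eq] at h'
        rw [show G₄ᵀ = Matrix.reindexAlgEquiv F F fin22 (y : Matrix (Fin 2 × Fin 2) (Fin 2 × Fin 2) F)ᵀ by
          ext i j; simp [G₄]]
        exact h'
      have hiso : G₄ᵀ * G₄.map σ = 1 := by
        ext i j
        have h := hH g hg ((P : Matrix ι ι F) *ᵥ ((Pi.single i 1 : Fin 4 → F) ∘ E))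
          ((P : Matrix ι ι F) *ᵥ ((Pi.single j 1 : Fin 4 → F) ∘ E))
        have hcol : ∀ k : Fin 4, (g : Matrix ι ι F) *ᵥ ((P : Matrix ι ι F) *ᵥ ((Pi.single k 1 : Fin 4 → F) ∘ E)) =
            (P : Matrix ι ι F) *ᵥ ((fun r => G₄ r k) ∘ E) := fun k => by
          have hgP : (g : Matrix ι ι F) * (P : Matrix ι ι F) = (P : Matrix ι ι F) * Re G₄ := by
            rw [← hG, ← Units.val_mul, ← Units.val_mul]; congr 1; group
          rw [Matrix.mulVec_mulVec, hgP, ← Matrix.mulVec_mulVec, reindex_mulVec_comp E G₄, Matrix.mulVec_single_one]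
          rfl
        rw [hcol, hcol, hdot, hdot] at h
        have h' := mul_left_cancel₀ hc h
        rw [Matrix.mul_apply]
        simp only [Matrix.transpose_apply, Matrix.map_apply]
        rw [h']
        by_cases hij : i = j
        · subst hij; simp [Pi.single_apply]
        · simp [Pi.single_apply, hij, Ne.symm hij, Matrix.one_apply_ne hij]
      have hμ : (A : Matrix (Fin 2) (Fin 2) F).det * (B : Matrix (Fin 2) (Fin 2) F).det ≠ 0 :=
        mul_ne_zero (Matrix.GeneralLinearGroup.det A).ne_zero (Matrix.GeneralLinearGroup.det B).ne_zero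
      refine ⟨_, inv_ne_zero hμ, ?_⟩
      rw [hG, ← map_mul, ← map_mul, ← map_smul]
      ext i j
      simpa [Re] using congrFun (congrFun (conj_eq_twist antiK_sq hμ hsim hiso) (E i)) (E j)
  have hcard := card_fixed_sq hf.ne_refl hf.involutive
  have hval : ∀ u : ι → F, ((P * Q : GL ι F) : Matrix ι ι F) *ᵥ u =
      (P : Matrix ι ι F) *ᵥ ((fixMat σ 1 l *ᵥ (u ∘ E.symm)) ∘ E) := fun u => by
    rw [Units.val_mul, ← Matrix.mulVec_mulVec, hQv]
    congr 1
    conv_lhs => rw [show u = (u ∘ E.symm) ∘ E by funext i; simp]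
    exact reindex_mulVec_comp E _ _
  have hrat : IsFormRationalStructure f (RingHom.eqLocusField (σ : F →+* F) (RingHom.id F)) 1 (P * Q) := by
    intro u v hu hv
    have hu' : ∀ k, σ (u (E.symm k)) = u (E.symm k) := fun k => hu _
    have hv' : ∀ k, σ (v (E.symm k)) = v (E.symm k) := fun k => hv _
    show σ _ = _
    rw [one_mul, hval, hval, hdot, fixMat_mulVec, fixMat_mulVec, map_mul, hcfix]
    simp [Fin.sum_univ_four, hf.involutive, hu', hv']
    left
    ring
  rcases Nat.even_or_odd q with hev | hodd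
  · refine Or.inr (Or.inl ⟨_, P * Q, 1, hcard, one_ne_zero, ?_, hrat, fun u hu => ?_, hle'⟩)
    · rw [one_pow, one_add_one_eq_two]
      exact two_eq_zero_of_not_odd (by rw [hF, Nat.not_odd_iff_even]; exact hev.pow_of_ne_zero two_ne_zero)
    · have h2 : (2 : F) = 0 :=
        two_eq_zero_of_not_odd (by rw [hF, Nat.not_odd_iff_even]; exact hev.pow_of_ne_zero two_ne_zero)
      have hu' : ∀ k, σ (u (E.symm k)) = u (E.symm k) := fun k => hu _
      rw [hval, hdot, fixMat_mulVec]
      simp [Fin.sum_univ_four, hf.involutive, hu']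
      right
      linear_combination ((u (E.symm 0) + l * u (E.symm 1)) * (u (E.symm 0) + σ l * u (E.symm 1)) +
        (u (E.symm 2) + l * u (E.symm 3)) * (u (E.symm 2) + σ l * u (E.symm 3))) * h2
  · exact Or.inr (Or.inr ⟨hodd, _, P * Q, hcard, hrat, hle'⟩)

/-- Over at most three elements a pair of totally singular planes lies in a symplectic subfield group. -/
theorem ts_pair_subfield {f : (Fin 4 → F) → (Fin 4 → F) → F} {q : ℕ} (hF : Fintype.card F = q ^ 2) (hq : q ≤ 3)
    (hσq : ∀ x, σ x = x ^ q) (hf : IsUnitaryForm σ f) {D : Fin 2 → Submodule F (Fin 4 → F)}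
    (hD : IsMDecomposition 2 D) (hTS : ∀ i, IsTotallySingularFor f (D i)) {H : Subgroup (GL (Fin 4) F)}
    (hH : IsoGrp f H) (hHd : H ≤ specialLinear (Fin 4) F) (hle : H ≤ decompositionStabilizer D) :
    UnitSubfield q f H := by
  classical
  have hh := herm_unitary hf
  have hts : ∀ i, ∀ x ∈ D i, ∀ y ∈ D i, f x y = 0 := fun i x hx y hy => hTS i x hx y hy
  let B0 := Module.finBasisOfFinrankEq F (D 0) (hD.finrank_eq 0)
  set a₁ : Fin 4 → F := (B0 0 : Fin 4 → F) with ha₁
  set a₂ : Fin 4 → F := (B0 1 : Fin 4 → F) with ha₂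
  have hspan : ∀ x ∈ D 0, ∃ r s : F, x = r • a₁ + s • a₂ := fun x hx => by
    refine ⟨B0.repr ⟨x, hx⟩ 0, B0.repr ⟨x, hx⟩ 1, ?_⟩
    have := congrArg Subtype.val (B0.sum_repr ⟨x, hx⟩)
    rw [Fin.sum_univ_two] at this
    exact this.symm
  have hall : ∀ z, (∀ x ∈ D 0, f z x = 0) → (∀ x ∈ D 1, f z x = 0) → z = 0 := by
    intro z h0 h1
    by_contra hz
    obtain ⟨y, hy⟩ := (hf.nondegenerate z hz).2
    apply hy
    have hyD : y ∈ iSup D := by rw [hD.iSup_eq_top]; trivial
    refine Submodule.iSup_induction D (motive := fun y => f z y = 0) hyD ?_ (Unit.zero_right hf z) ?_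
    · intro i x hx
      fin_cases i
      · exact h0 x hx
      · exact h1 x hx
    · intro x x' hx hx'
      rw [Unit.add_right hf, hx, hx', add_zero]
  let T : D 1 → F × F := fun z => (f (z : Fin 4 → F) a₁, f (z : Fin 4 → F) a₂)
  have hTb : Function.Bijective T := by
    have hinj : Function.Injective T := by
      intro z z' h
      refine Subtype.ext (sub_eq_zero.1 (hall _ (fun x hx => ?_) fun x hx => ?_))
      · obtain ⟨r, s, rfl⟩ := hspan x hx
        obtain ⟨h1, h2⟩ := Prod.ext_iff.1 h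
        simp only [Unit.sub_left hf, Unit.add_right hf, Unit.smul_right hf, T] at *
        rw [h1, h2]; ring
      · exact hts 1 _ ((D 1).sub_mem z.2 z'.2) x hx
    refine hinj.bijective_of_nat_card_le ?_
    rw [Nat.card_prod, Module.natCard_eq_pow_finrank (K := F) (V := D 1), hD.finrank_eq 1, sq]
  obtain ⟨⟨b₁, hb₁⟩, hb₁'⟩ := hTb.2 (1, 0)
  obtain ⟨⟨b₂, hb₂⟩, hb₂'⟩ := hTb.2 (0, 1)
  obtain ⟨h11, h12⟩ := Prod.ext_iff.1 hb₁'
  obtain ⟨h21, h22⟩ := Prod.ext_iff.1 hb₂'
  simp only [T] at h11 h12 h21 h22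
  have hc11 : f a₁ b₁ = 1 := by rw [hf.herm, h11, map_one]
  have hc21 : f a₂ b₁ = 0 := by rw [hf.herm, h12, map_zero]
  have hc12 : f a₁ b₂ = 0 := by rw [hf.herm, h21, map_zero]
  have hc22 : f a₂ b₂ = 1 := by rw [hf.herm, h22, map_one]
  let c : Fin 4 → (Fin 4 → F) := ![a₁, a₂, b₁, b₂]
  let ν : Fin 4 → Fin 4 := ![2, 3, 0, 1]
  let blk : Fin 4 → Fin 2 := ![0, 0, 1, 1]
  have hcm : ∀ i, c i ∈ D (blk i) := fun i => by fin_cases i <;> simp [c, blk, ha₁, ha₂, hb₁, hb₂]
  have hgram : ∀ i j, f (c i) (c j) = if j = ν i then 1 else 0 := by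
    have z0 := hts 0
    have m1 : a₁ ∈ D 0 := (B0 0).2
    have m2 : a₂ ∈ D 0 := (B0 1).2
    intro i j
    fin_cases i <;> fin_cases j <;>
      simp [c, ν, h11, h12, h21, h22, hc11, hc12, hc21, hc22, z0 _ m1 _ m1, z0 _ m1 _ m2, z0 _ m2 _ m1,
        z0 _ m2 _ m2, hts 1 _ hb₁ _ hb₁, hts 1 _ hb₁ _ hb₂, hts 1 _ hb₂ _ hb₁, hts 1 _ hb₂ _ hb₂]
  let P₀ : Matrix (Fin 4) (Fin 4) F := (Matrix.of c)ᵀ
  have hPv : ∀ x : Fin 4 → F, P₀ *ᵥ x = ∑ i, x i • c i := fun x => by
    rw [Matrix.mulVec_eq_sum]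
    simp [P₀]
    rfl
  have hcoord : ∀ (x : Fin 4 → F) k, f (P₀ *ᵥ x) (c k) = x (ν k) := fun x k => by
    rw [hPv, Fin.sum_univ_four]
    simp only [Unit.add_left hf, Unit.smul_left hf, hgram]
    fin_cases k <;> simp [ν]
  have hP₀ : P₀.det ≠ 0 := by
    intro h
    obtain ⟨v, hv0, hv⟩ := Matrix.exists_mulVec_eq_zero_iff.2 h
    apply hv0
    funext i
    have := hcoord v (ν i)
    rw [hv, Unit.zero_left hf] at this
    rw [show ν (ν i) = i by fin_cases i <;> rfl] at this
    exact this.symm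
  let P : GL (Fin 4) F := Matrix.GeneralLinearGroup.mkOfDetNeZero P₀ hP₀
  have hform : ∀ x y, f (P₀ *ᵥ x) (P₀ *ᵥ y) = ∑ k, x (ν k) * σ (y k) := fun x y => by
    conv_lhs => arg 2; rw [hPv]
    simp only [Fin.sum_univ_four, Unit.add_right hf, Unit.smul_right hf, hcoord]
    ring
  obtain ⟨l, hl⟩ := Unit.exists_moved hf.ne_refl
  let Q : GL (Fin 4) F := Matrix.GeneralLinearGroup.mkOfDetNeZero _ (fixMat_det (neg_ne_zero.2 one_ne_zero) hl)
  have hle' : H ≤ subfieldSubgroup (RingHom.eqLocusField (σ : F →+* F) (RingHom.id F)) (P * Q) := by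
    refine subfield_of_semilinear P antiK_sq Q (by ring : (-1 : F) * -1 = 1)
      (fixMat_map (by ring) (by rw [map_neg, map_one]) (hf.involutive l)) fun g hg => ?_
    set G := ((P⁻¹ * g * P : GL (Fin 4) F) : Matrix (Fin 4) (Fin 4) F) with hGdef
    have hgP' : (g : Matrix (Fin 4) (Fin 4) F) * P₀ = P₀ * G := by
      show (g : Matrix (Fin 4) (Fin 4) F) * (P : Matrix (Fin 4) (Fin 4) F) = (P : Matrix (Fin 4) (Fin 4) F) * G
      rw [hGdef, ← Units.val_mul, ← Units.val_mul]
      congr 1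
      group
    have hgP : ∀ j, (g : Matrix (Fin 4) (Fin 4) F) *ᵥ c j = P₀ *ᵥ fun i => G i j := fun j => by
      rw [show c j = P₀ *ᵥ Pi.single j 1 by rw [Matrix.mulVec_single_one]; rfl, Matrix.mulVec_mulVec,
        hgP',
        ← Matrix.mulVec_mulVec, Matrix.mulVec_single_one]
      rfl
    obtain ⟨τ, hτ⟩ := hle hg
    have hmem : ∀ j, (g : Matrix (Fin 4) (Fin 4) F) *ᵥ c j ∈ D (τ (blk j)) := fun j => by
      rw [← hτ]; exact ⟨_, hcm j, Matrix.toLin'_apply _ _⟩
    have hzero : ∀ i j, blk (ν i) = τ (blk j) → G i j = 0 := fun i j h => by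
      have h1 := hcoord (fun i => G i j) (ν i)
      rw [← hgP, show ν (ν i) = i by fin_cases i <;> rfl] at h1
      rw [← h1]
      exact hts _ _ (h ▸ hmem j) _ (h ▸ hcm (ν i) : c (ν i) ∈ D (τ (blk j)))
    have hiso : ∀ i j, (∑ k, G (ν k) i * σ (G k j)) = if j = ν i then 1 else 0 := fun i j => by
      rw [← hgram i j, ← hH g hg (c i) (c j), hgP, hgP, hform]
    have hGdet : G.det = 1 := by
      have h1 : Matrix.GeneralLinearGroup.det (P⁻¹ * g * P) = 1 := by
        rw [map_mul, map_mul, show Matrix.GeneralLinearGroup.det g = 1 from hHd hg, mul_one, ← map_mul,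
          inv_mul_cancel, map_one]
      have h2 := congrArg Units.val h1
      rwa [Matrix.GeneralLinearGroup.val_det_apply, Units.val_one] at h2
    have hsq : ∀ d : F, d ≠ 0 → σ d = d → d * d = 1 := by
      intro d hd0 hd
      rw [hσq] at hd
      have h2 := UnitPow.two_le hF
      interval_cases q
      · have : d = 1 := by
          have h' : d * (d - 1) = 0 := by linear_combination hd
          exact sub_eq_zero.1 ((mul_eq_zero.1 h').resolve_left hd0)
        rw [this, one_mul]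
      · have h' : d * (d * d - 1) = 0 := by linear_combination hd
        exact sub_eq_zero.1 ((mul_eq_zero.1 h').resolve_left hd0)
    obtain ⟨μ, hμ, hsim⟩ : ∃ μ : F, μ ≠ 0 ∧ G.map σ = μ • (antiK * G * antiK) := by
      let Γ : Matrix (Fin 4) (Fin 4) F := !![0, 0, 1, 0; 0, 0, 0, 1; 1, 0, 0, 0; 0, 1, 0, 0]
      let S : Matrix (Fin 4) (Fin 4) F := !![0, 1, 0, 0; -1, 0, 0, 0; 0, 0, 0, -1; 0, 0, 1, 0]
      have hGΓ : Gᵀ * (Γ * G.map σ) = Γ := by
        have hΓ : ∀ (M : Matrix (Fin 4) (Fin 4) F) k j, (Γ * M) k j = M (ν k) j := fun M k j => by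
          fin_cases k <;> simp [Γ, ν, Matrix.mul_apply, Fin.sum_univ_four]
        ext i j
        rw [Matrix.mul_apply, show Γ i j = if j = ν i then 1 else 0 by
          fin_cases i <;> fin_cases j <;> simp [Γ, ν], ← hiso i j]
        simp only [hΓ, Matrix.transpose_apply, Matrix.map_apply, Fin.sum_univ_four, ν, Matrix.cons_val_zero,
          Matrix.cons_val_one, Matrix.cons_val]
        ring
      suffices hS : ∃ μ : F, μ ≠ 0 ∧ Gᵀ * (S * G) = μ • S by
        obtain ⟨μ, hμ, hS⟩ := hS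
        refine ⟨μ⁻¹, inv_ne_zero hμ, ?_⟩
        have hΓΓ : Γ * Γ = 1 := by
          ext i j; fin_cases i <;> fin_cases j <;> simp [Γ, Matrix.mul_apply, Fin.sum_univ_four]
        have hSK : S * antiK = -Γ := by
          ext i j; fin_cases i <;> fin_cases j <;> simp [Γ, S, antiK, Matrix.mul_apply, Fin.sum_univ_four]
        have hΓS : Γ * S = -antiK := by
          ext i j; fin_cases i <;> fin_cases j <;> simp [Γ, S, antiK, Matrix.mul_apply, Fin.sum_univ_four]
        have h1 : Gᵀ * ((-μ⁻¹) • (S * G * antiK)) = Γ := by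
          rw [Matrix.mul_smul, ← Matrix.mul_assoc, hS, Matrix.smul_mul, hSK, smul_smul, neg_mul, inv_mul_cancel₀ hμ,
            smul_neg, neg_smul, one_smul, neg_neg]
        have hGT : IsUnit Gᵀ := (Matrix.isUnit_iff_isUnit_det _).2 (by rw [Matrix.det_transpose, hGdet]; exact isUnit_one)
        have h2 := congrArg (Γ * ·) (hGT.mul_left_cancel (hGΓ.trans h1.symm))
        simp only [← Matrix.mul_assoc Γ Γ, hΓΓ, one_mul, Matrix.mul_smul] at h2
        rw [h2, ← Matrix.mul_assoc, ← Matrix.mul_assoc, hΓS]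
        simp [Matrix.neg_mul]
      have h0 := hGdet
      rw [Matrix.det_succ_row_zero] at h0
      rcases (by decide : ∀ a : Fin 2, a = 0 ∨ a = 1) (τ 0) with ht | ht
      · have ht1 : τ 1 = 1 := by
          rcases (by decide : ∀ a : Fin 2, a = 0 ∨ a = 1) (τ 1) with h | h
          · exact absurd (τ.injective (ht.trans h.symm)) (by decide)
          · exact h
        have z02 := hzero 0 2 (by simp [blk, ν, ht1])
        have z03 := hzero 0 3 (by simp [blk, ν, ht1])
        have z12 := hzero 1 2 (by simp [blk, ν, ht1])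
        have z13 := hzero 1 3 (by simp [blk, ν, ht1])
        have z20 := hzero 2 0 (by simp [blk, ν, ht])
        have z21 := hzero 2 1 (by simp [blk, ν, ht])
        have z30 := hzero 3 0 (by simp [blk, ν, ht])
        have z31 := hzero 3 1 (by simp [blk, ν, ht])
        simp [Matrix.det_fin_three, Fin.sum_univ_succ, Fin.succAbove, z02, z03, z12, z13, z20, z21, z30, z31] at h0
        have e00 := hiso 0 2
        have e01 := hiso 0 3
        have e10 := hiso 1 2
        have e11 := hiso 1 3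
        simp [ν, Fin.sum_univ_four, z02, z03, z12, z13, z20, z21, z30, z31] at e00 e01 e10 e11
        set d := G 0 0 * G 1 1 - G 0 1 * G 1 0 with hd
        set d' := G 2 2 * G 3 3 - G 2 3 * G 3 2 with hd'
        have hdd : d * d' = 1 := by rw [hd, hd']; linear_combination h0
        have hdσ : d * σ d' = 1 := by
          rw [hd, hd', map_sub, map_mul, map_mul]
          linear_combination (G 1 1 * σ (G 3 3) + G 0 1 * σ (G 2 3)) * e00 + e11 -
            (G 1 1 * σ (G 3 2) + G 0 1 * σ (G 2 2)) * e01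
        have hd0 : d' ≠ 0 := right_ne_zero_of_mul_eq_one hdd
        have hd1 := hsq d' hd0 (mul_left_cancel₀ (left_ne_zero_of_mul_eq_one hdd) (hdσ.trans hdd.symm))
        have hde : d = d' := by linear_combination d' * hdd - d * hd1
        refine ⟨d, left_ne_zero_of_mul_eq_one hdd, ?_⟩
        ext i j
        fin_cases i <;> fin_cases j <;>
          simp [S, Matrix.mul_apply, Matrix.vecMul, dotProduct, Fin.sum_univ_four, z02, z03, z12, z13, z20, z21, z30, z31] <;>
          first
            | ring1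
            | (rw [hd]; ring1)
            | linear_combination hd' - hd + hde
            | linear_combination hd - hd' - hde
      · have ht1 : τ 1 = 0 := by
          rcases (by decide : ∀ a : Fin 2, a = 0 ∨ a = 1) (τ 1) with h | h
          · exact h
          · exact absurd (τ.injective (ht.trans h.symm)) (by decide)
        have z00 := hzero 0 0 (by simp [blk, ν, ht])
        have z01 := hzero 0 1 (by simp [blk, ν, ht])
        have z10 := hzero 1 0 (by simp [blk, ν, ht])
        have z11 := hzero 1 1 (by simp [blk, ν, ht])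
        have z22 := hzero 2 2 (by simp [blk, ν, ht1])
        have z23 := hzero 2 3 (by simp [blk, ν, ht1])
        have z32 := hzero 3 2 (by simp [blk, ν, ht1])
        have z33 := hzero 3 3 (by simp [blk, ν, ht1])
        simp [Matrix.det_fin_three, Fin.sum_univ_succ, Fin.succAbove, z00, z01, z10, z11, z22, z23, z32, z33] at h0
        have e00 := hiso 0 2
        have e01 := hiso 0 3
        have e10 := hiso 1 2
        have e11 := hiso 1 3
        simp [ν, Fin.sum_univ_four, z00, z01, z10, z11, z22, z23, z32, z33] at e00 e01 e10 e11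
        set d := G 2 0 * G 3 1 - G 2 1 * G 3 0 with hd
        set d' := G 0 2 * G 1 3 - G 0 3 * G 1 2 with hd'
        have hdd : d * d' = 1 := by rw [hd, hd']; linear_combination h0
        have hdσ : d * σ d' = 1 := by
          rw [hd, hd', map_sub, map_mul, map_mul]
          linear_combination (G 3 1 * σ (G 1 3) + G 2 1 * σ (G 0 3)) * e00 + e11 -
            (G 3 1 * σ (G 1 2) + G 2 1 * σ (G 0 2)) * e01
        have hd0 : d' ≠ 0 := right_ne_zero_of_mul_eq_one hdd
        have hd1 := hsq d' hd0 (mul_left_cancel₀ (left_ne_zero_of_mul_eq_one hdd) (hdσ.trans hdd.symm))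
        have hde : d = d' := by linear_combination d' * hdd - d * hd1
        refine ⟨-d, neg_ne_zero.2 (left_ne_zero_of_mul_eq_one hdd), ?_⟩
        ext i j
        fin_cases i <;> fin_cases j <;>
          simp [S, Matrix.mul_apply, Matrix.vecMul, dotProduct, Fin.sum_univ_four, z00, z01, z10, z11, z22, z23, z32, z33] <;>
          first
            | ring1
            | (rw [hd]; ring1)
            | linear_combination hd' - hd + hde
            | linear_combination hd - hd' - hde
    exact ⟨μ, hμ, hsim⟩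
  obtain ⟨ζ, hζ0, hζ⟩ := Unit.exists_skew hf.ne_refl hf.involutive
  refine Or.inr (Or.inl ⟨_, P * Q, ζ, card_fixed_sq hf.ne_refl hf.involutive, hζ0, by rw [← hσq]; exact hζ, ?_, ?_,
    hle'⟩)
  · intro u v hu hv
    have hu' : ∀ k, σ (u k) = u k := fun k => hu _
    have hv' : ∀ k, σ (v k) = v k := fun k => hv _
    show σ _ = _
    rw [Units.val_mul, ← Matrix.mulVec_mulVec, ← Matrix.mulVec_mulVec]
    show σ (ζ * f (P₀ *ᵥ (fixMat σ (-1) l *ᵥ u)) (P₀ *ᵥ (fixMat σ (-1) l *ᵥ v))) = _
    rw [hform, fixMat_mulVec, fixMat_mulVec]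
    show _ = ζ * f (P₀ *ᵥ (fixMat σ (-1) l *ᵥ u)) (P₀ *ᵥ (fixMat σ (-1) l *ᵥ v))
    rw [hform, fixMat_mulVec, fixMat_mulVec, map_mul, eq_neg_of_add_eq_zero_right hζ]
    simp [ν, Fin.sum_univ_four, hf.involutive, hu', hv']
    ring
  · intro u hu
    have hu' : ∀ k, σ (u k) = u k := fun k => hu _
    rw [Units.val_mul, ← Matrix.mulVec_mulVec]
    show f (P₀ *ᵥ (fixMat σ (-1) l *ᵥ u)) (P₀ *ᵥ (fixMat σ (-1) l *ᵥ u)) = 0
    rw [hform, fixMat_mulVec]
    simp [ν, Fin.sum_univ_four, hf.involutive, hu']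
    ring

end CfsgLib.Geo.Asch
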