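import Mathlib
import Cfsg.Agent.Lib.Geo.AschUnit
import Cfsg.Agent.Lib.Geo.AschUnitFour
import Cfsg.Agent.Lib.Geo.AschSU3Mono

/-! Degree three unitary groups: properness lemmas, and the real subgroups for nine elements. -/

set_option autoImplicit false
set_option linter.unusedSectionVars false
set_option maxHeartbeats 1000000

namespace CfsgLib.Geo.Asch.SU3Small

open Cfsg Cfsg.Geo Matrix CfsgLib.GeomClasses
open scoped MatrixGroups

variable {F : Type*} [Field F] [Fintype F] {σ : F ≃+* F} {f : (Fin 3 → F) → (Fin 3 → F) → F}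

theorem exists_fixed_ne (hf : IsUnitaryForm σ f) {q : ℕ} (hF : Fintype.card F = q ^ 2) (hq : 3 ≤ q) :
    ∃ x : F, σ x = x ∧ x ≠ 0 ∧ x ≠ -1 := by
  classical
  have h := card_fixed_sq hf.ne_refl hf.involutive
  rw [hF] at h
  set S := RingHom.eqLocusField (σ : F →+* F) (RingHom.id F) with hS
  have hc : Nat.card S = q := (Nat.pow_left_injective two_ne_zero h).symm
  haveI : Fintype S := Fintype.ofFinite S
  obtain ⟨x, -, hx⟩ := Finset.exists_mem_notMem_of_card_lt_card (s := ({0, -1} : Finset S)) (t := Finset.univ)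
    (lt_of_le_of_lt Finset.card_le_two (by rw [Finset.card_univ, ← Nat.card_eq_fintype_card, hc]; omega))
  simp only [Finset.mem_insert, Finset.mem_singleton, not_or] at hx
  exact ⟨x, x.2, fun h => hx.1 (Subtype.ext h), fun h => hx.2 (Subtype.ext h)⟩

theorem utv_not_le_frame_three (hf : IsUnitaryForm σ f) {q : ℕ} (hF : Fintype.card F = q ^ 2) (hq : 3 ≤ q)
    {Ω : Subgroup (GL (Fin 3) F)} (hΩ : HasUTv σ f Ω) {D : Fin 3 → Submodule F (Fin 3 → F)}
    (hD : IsNondegenerateMDecomposition f 1 D) : ¬ Ω ≤ decompositionStabilizer D := by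
  intro hle
  have hex : ∀ i, ∃ v, v ∈ D i ∧ f v v = 1 := by
    intro i
    obtain ⟨w, hw0, hw⟩ := finrank_eq_one_iff'.1 (hD.decomp.finrank_eq i)
    have hw0' : (w : Fin 3 → F) ≠ 0 := fun h => hw0 (Subtype.ext h)
    obtain ⟨x, hx, hxw⟩ := (hD.nondegenerate i w w.2 hw0').1
    obtain ⟨a, ha⟩ := hw ⟨x, hx⟩
    rw [← show a • (w : Fin 3 → F) = x from congrArg Subtype.val ha, Unit.smul_left hf] at hxw
    obtain ⟨l, hl⟩ := Unit.exists_norm hf.ne_refl hf.involutive
      (show σ (f (w : Fin 3 → F) w)⁻¹ = (f (w : Fin 3 → F) w)⁻¹ by rw [map_inv₀, Unit.self_fixed hf])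
    refine ⟨l • (w : Fin 3 → F), (D i).smul_mem l w.2, ?_⟩
    rw [Unit.smul_left hf, Unit.smul_right hf, ← mul_assoc, hl, inv_mul_cancel₀ (right_ne_zero_of_mul hxw)]
  choose v hv hv1 using hex
  have ho : ∀ i j, i ≠ j → f (v i) (v j) = 0 := fun i j h => hD.orthogonal i j h _ (hv i) _ (hv j)
  obtain ⟨x, hx, hx0, hx1⟩ := exists_fixed_ne hf hF hq
  obtain ⟨a, ha⟩ := Unit.exists_norm hf.ne_refl hf.involutive hx
  obtain ⟨b, hb⟩ := Unit.exists_norm hf.ne_refl hf.involutive
    (show σ (-1 - x) = -1 - x by rw [map_sub, map_neg, map_one, hx])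
  obtain ⟨c, hc0, hc⟩ := Unit.exists_skew hf.ne_refl hf.involutive
  set u := v 0 + a • v 1 + b • v 2 with hu
  have hpair : ∀ j, f u (v j) = f (v 0) (v j) + a * f (v 1) (v j) + b * f (v 2) (v j) := fun j => by
    simp only [hu, Unit.add_left hf, Unit.smul_left hf]
  have h0 : f u (v 0) = 1 := by rw [hpair, hv1, ho 1 0 (by decide), ho 2 0 (by decide)]; ring
  have h1 : f u (v 1) = a := by rw [hpair, hv1, ho 0 1 (by decide), ho 2 1 (by decide)]; ring
  have h2 : f u (v 2) = b := by rw [hpair, hv1, ho 0 2 (by decide), ho 1 2 (by decide)]; ring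
  have huu : f u u = 0 := by
    conv_lhs => arg 2; rw [hu]
    rw [Unit.add_right hf, Unit.add_right hf, Unit.smul_right hf, Unit.smul_right hf, h0, h1, h2]
    linear_combination ha + hb
  obtain ⟨τ, hτ⟩ := hle (hΩ u c huu hc)
  have hmem : (formTv f u c : Matrix (Fin 3) (Fin 3) F) *ᵥ v 0 ∈ D (τ 0) := by
    rw [← hτ 0]; exact ⟨v 0, hv 0, Matrix.toLin'_apply _ _⟩
  have h0' : f (v 0) u = 1 := by rw [hf.herm, h0, map_one]
  rw [Unit.formTv_mulVec hf huu, h0', mul_one] at hmem
  have hk : ∀ j, j ≠ 0 → c * f u (v j) ≠ 0 → τ 0 = j := by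
    intro j hj hne
    by_contra hne'
    have := hD.orthogonal _ _ hne' _ hmem _ (hv j)
    rw [Unit.add_left hf, Unit.smul_left hf, ho _ _ (Ne.symm hj), zero_add] at this
    exact hne this
  have ha0 : a ≠ 0 := fun h => hx0 (by rw [← ha, h, zero_mul])
  have hb0 : b ≠ 0 := fun h => hx1 (by
    rw [h, zero_mul] at hb
    linear_combination hb)
  exact absurd ((hk 1 (by decide) (by rw [h1]; exact mul_ne_zero hc0 ha0)).symm.trans
    (hk 2 (by decide) (by rw [h2]; exact mul_ne_zero hc0 hb0))) (by decide)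

theorem utv_not_le_normalizer_three (hf : IsUnitaryForm σ f) (h20 : (2 : F) ≠ 0) (h30 : (3 : F) ≠ 0)
    {Ω : Subgroup (GL (Fin 3) F)} (hΩ : HasUTv σ f Ω) {N : Subgroup (GL (Fin 3) F)} (hN : PrimeType N) :
    ¬ Ω ≤ subgroupNormalizer N := by
  intro hle
  have hsesq : IsSesq ((σ : F ≃+* F) : F →+* F) f := unitary_isSesq hf
  obtain ⟨u, hu0, hu⟩ := Unit.exists_isotropic hf (by simp)
  obtain ⟨c, hc0, hc⟩ := Unit.exists_skew hf.ne_refl hf.involutive
  obtain ⟨x, hx, hxu⟩ : ∃ x ∈ N, (x : Matrix (Fin 3) (Fin 3) F) *ᵥ u ∉ Submodule.span F {u} := by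
    by_contra h
    push Not at h
    rcases irreducible_of_algOf_eq_top hN.span (Submodule.span F {u}) (by
      rintro _ ⟨g, hg, rfl⟩ _ ⟨v, hv, rfl⟩
      obtain ⟨a, rfl⟩ := Submodule.mem_span_singleton.1 hv
      rw [map_smul, Matrix.toLin'_apply]
      exact Submodule.smul_mem _ _ (h g hg)) with h' | h'
    · exact hu0 (by simpa using h')
    · have := finrank_span_singleton (K := F) hu0
      rw [h', finrank_top, Module.finrank_fin_fun] at this
      omega
  set φ : Fin 3 → F := fVec f u with hφ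
  have hφu : φ ⬝ᵥ u = 0 := by rw [hφ, hsesq.fVec_dot, hu]
  set xm := (x : Matrix (Fin 3) (Fin 3) F) with hxm
  set xi := ((x⁻¹ : GL (Fin 3) F) : Matrix (Fin 3) (Fin 3) F) with hxi
  set E := Matrix.vecMulVec u φ with hE
  set a := (φ ⬝ᵥ (xm *ᵥ u)) * (φ ⬝ᵥ (xi *ᵥ u)) with ha
  have hxx : xm * xi = 1 := by rw [hxm, hxi, ← Units.val_mul, mul_inv_cancel, Units.val_one]
  have hxx' : xi * xm = 1 := by rw [hxm, hxi, ← Units.val_mul, inv_mul_cancel, Units.val_one]
  have key : ∀ d : F, d ≠ 0 → d + σ d = 0 → (3 : F) = d * d * a := by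
    intro d hd0 hd
    set t := formTv f u d with ht
    have htv : (t : Matrix (Fin 3) (Fin 3) F) = 1 + d • E := by
      refine Matrix.ext_of_mulVec_single fun j => ?_
      rw [ht, Unit.formTv_mulVec hf hu, Matrix.add_mulVec, Matrix.one_mulVec, Matrix.smul_mulVec, hE,
        Matrix.vecMulVec_mulVec, ← hsesq.fVec_dot, ← hφ]
      ext i
      simp
      ring
    have htinv : ((t⁻¹ : GL (Fin 3) F) : Matrix (Fin 3) (Fin 3) F) = 1 - d • E := by
      have hEE : E * E = 0 := by
        rw [hE, Matrix.vecMulVec_mul_vecMulVec, hφu]; simp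
      have h1 : (t : Matrix (Fin 3) (Fin 3) F) * (1 - d • E) = 1 := by
        rw [htv, Matrix.add_mul, one_mul, Matrix.mul_sub, mul_one, Matrix.smul_mul, Matrix.mul_smul, hEE, smul_zero,
          smul_zero, sub_zero, sub_add_cancel]
      exact left_inv_eq_right_inv (by rw [← Units.val_mul, inv_mul_cancel, Units.val_one]) h1
    set D := t * x * t⁻¹ * x⁻¹ with hD
    have hDN : D ∈ N := N.mul_mem ((Subgroup.mem_normalizer_iff.1 (hle (hΩ u d hu hd)) x).1 hx) (N.inv_mem hx)
    by_cases hDs : D ∈ scalars (Fin 3) F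
    · exfalso
      obtain ⟨b, hb⟩ := (mem_scalars_iff D).1 hDs
      let L : (Fin 3 → F) →ₗ[F] F × F :=
        { toFun := fun z => (f z u, f (xi *ᵥ z) u)
          map_add' := fun a b => by simp [Matrix.mulVec_add, Unit.add_left hf]
          map_smul' := fun a b => by simp [Matrix.mulVec_smul, Unit.smul_left hf] }
      have h6 := L.finrank_range_add_finrank_ker
      have h7 : Module.finrank F (LinearMap.range L) ≤ 2 :=
        (Submodule.finrank_le _).trans (by rw [Module.finrank_prod, Module.finrank_self])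
      rw [Module.finrank_fin_fun] at h6
      have hker : LinearMap.ker L ≠ ⊥ := fun h => by rw [h, finrank_bot] at h6; omega
      obtain ⟨z, hz, hz0⟩ := (Submodule.ne_bot_iff _).1 hker
      have hz1 : f z u = 0 := congrArg Prod.fst hz
      have hz2 : f (xi *ᵥ z) u = 0 := congrArg Prod.snd hz
      have hfix : (D : Matrix (Fin 3) (Fin 3) F) *ᵥ z = z := by
        rw [hD, Units.val_mul, Units.val_mul, Units.val_mul, ← Matrix.mulVec_mulVec, ← Matrix.mulVec_mulVec,
          ← Matrix.mulVec_mulVec, ht, ← hxi, (formTv_fix hf hu d hz2).2, hxi, gl_mulVec_inv_mulVec,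
          (formTv_fix hf hu d hz1).1]
      rw [hb, Matrix.smul_mulVec, Matrix.one_mulVec] at hfix
      have hb1 : (b : F) = 1 := smul_left_injective F hz0 (hfix.trans (one_smul F z).symm)
      have hD1 : D = 1 := Units.ext (by rw [hb, hb1, one_smul, Units.val_one])
      have hcomm : t * x = x * t := by
        rw [hD, mul_inv_eq_one, mul_inv_eq_iff_eq_mul] at hD1
        exact hD1
      apply hxu
      obtain ⟨y, hy⟩ := (hf.nondegenerate u hu0).1
      have h10 := congrArg (fun g : GL (Fin 3) F => (g : Matrix (Fin 3) (Fin 3) F) *ᵥ y) hcomm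
      simp only [Units.val_mul, ← Matrix.mulVec_mulVec, ht, Unit.formTv_mulVec hf hu, Matrix.mulVec_add,
        Matrix.mulVec_smul, add_right_inj] at h10
      refine Submodule.mem_span_singleton.2 ⟨(d * f y u)⁻¹ * (d * f ((x : Matrix (Fin 3) (Fin 3) F) *ᵥ y) u), ?_⟩
      rw [mul_smul, h10, smul_smul, inv_mul_cancel₀ (mul_ne_zero hd0 hy), one_smul]
    · have hcp := hN.charpoly_eq (by norm_num) (by decide) hDN hDs
      have htr : Matrix.trace (D : Matrix (Fin 3) (Fin 3) F) = 0 := by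
        rw [Matrix.trace_eq_neg_charpoly_coeff, hcp]
        simp [Fintype.card_fin, Polynomial.coeff_one]
      rw [hD, Units.val_mul, Units.val_mul, Units.val_mul, htv, htinv, ← hxm, ← hxi] at htr
      have hexp : (1 + d • E) * xm * (1 - d • E) * xi =
          1 + d • E - d • (xm * E * xi) - (d * d) • (E * xm * E * xi) := by
        simp only [Matrix.mul_sub, Matrix.sub_mul, Matrix.add_mul, Matrix.mul_add, one_mul, mul_one, Matrix.smul_mul,
          Matrix.mul_smul, smul_smul, smul_add, smul_sub, Matrix.mul_assoc, hxx]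
        abel
      rw [hexp, Matrix.trace_sub, Matrix.trace_sub, Matrix.trace_add, Matrix.trace_one, Fintype.card_fin,
        Matrix.trace_smul, Matrix.trace_smul, Matrix.trace_smul] at htr
      have e1 : E.trace = 0 := by rw [hE, Matrix.trace_vecMulVec, dotProduct_comm, hφu]
      have e2 : (xm * E * xi).trace = 0 := by rw [Matrix.trace_mul_cycle, hxx', one_mul, e1]
      have e3 : (E * xm * E * xi).trace = a := by
        rw [ha, hE, Matrix.mul_assoc (Matrix.vecMulVec u φ), Matrix.mul_assoc (Matrix.vecMulVec u φ),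
          Matrix.trace_mul_comm, Matrix.mul_assoc, Matrix.mul_assoc, Matrix.mul_vecMulVec,
          Matrix.vecMulVec_mul_vecMulVec, Matrix.mul_vecMulVec, Matrix.trace_vecMulVec]
        simp [dotProduct_comm, Matrix.mulVec_smul, dotProduct_smul, mul_comm]
      rw [e1, e2, e3] at htr
      simp only [smul_eq_mul, mul_zero, add_zero, sub_zero, Nat.cast_ofNat] at htr
      linear_combination htr
  have k1 := key c hc0 hc
  have k2 := key (2 * c) (mul_ne_zero h20 hc0) (by rw [map_mul, map_ofNat]; linear_combination 2 * hc)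
  have h9 : (3 : F) * 3 = 0 := by linear_combination 4 * k1 - k2
  exact h30 (mul_self_eq_zero.1 h9)

/-- A frame for a rational structure over three elements. -/
theorem real_three_le_frame (hF : Fintype.card F = 3 ^ 2) {H : Subgroup (GL (Fin 3) F)}
    (hHΩ : H ≤ SUg F 3) {F₀ : Subfield F} {P : GL (Fin 3) F} (hc : Nat.card F₀ = 3)
    (hform : IsFormRationalStructure (Cfsg.hermForm 3 F 3) F₀ 1 P) (hle : H ≤ subfieldSubgroup F₀ P) :
    ∃ D : Fin 3 → Submodule F (Fin 3 → F), IsNondegenerateMDecomposition (Cfsg.hermForm 3 F 3) 1 D ∧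
      H ≤ decompositionStabilizer D := by
  classical
  haveI : Fact (Nat.Prime 3) := ⟨by norm_num⟩
  haveI : CharP F 3 := charP_of_card_eq_prime_pow (f := 2) hF
  set g₃ := Cfsg.hermForm 3 F 3 with hg₃
  have hf : IsUnitaryForm (UnitPow.conj hF) g₃ := UnitPow.isUnitaryForm_hermForm hF 3
  have h3 : (3 : F) = 0 := by simpa using CharP.cast_eq_zero F 3
  have h2 : (2 : F) = -1 := by linear_combination h3
  have hmem : ∀ x : F, x ∈ F₀ ↔ x = 0 ∨ x = 1 ∨ x = -1 := by
    let φ : Fin 3 → F₀ := ![0, 1, -1]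
    have hval : ∀ k, (φ k : F) = ![0, 1, -1] k := fun k => by fin_cases k <;> simp [φ]
    have hinj : Function.Injective φ := fun k l h => by
      have h' := congrArg Subtype.val h
      rw [hval, hval] at h'
      have hne : (1 : F) ≠ -1 := fun e => one_ne_zero (α := F) (by linear_combination h3 - e)
      fin_cases k <;> fin_cases l <;> simp [hne, Ne.symm hne] at h' ⊢
    intro x
    constructor
    · intro hx
      obtain ⟨k, hk⟩ := (hinj.bijective_of_nat_card_le (by rw [hc, Nat.card_eq_fintype_card, Fintype.card_fin])).2 ⟨x, hx⟩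
      have hk' := congrArg Subtype.val hk
      rw [hval] at hk'
      fin_cases k <;> simp at hk' <;> simp [← hk']
    · rintro (rfl | rfl | rfl)
      · exact zero_mem _
      · exact one_mem _
      · exact neg_mem (one_mem _)
  have hfix : ∀ x ∈ F₀, UnitPow.conj hF x = x := fun x hx => by
    rcases (hmem x).1 hx with rfl | rfl | rfl <;> simp [map_neg]
  let S0 : Matrix (Fin 3) (Fin 3) F₀ := Matrix.of fun i j =>
    ⟨g₃ ((P : Matrix (Fin 3) (Fin 3) F) *ᵥ Pi.single i 1) ((P : Matrix (Fin 3) (Fin 3) F) *ᵥ Pi.single j 1), by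
      simpa using hform (Pi.single i 1) (Pi.single j 1) (fun k => by by_cases h : k = i <;> simp [h])
        (fun k => by by_cases h : k = j <;> simp [h])⟩
  have hsub : ∀ x y : Fin 3 → F₀, g₃ ((P : Matrix (Fin 3) (Fin 3) F) *ᵥ fun i => (x i : F))
      ((P : Matrix (Fin 3) (Fin 3) F) *ᵥ fun i => (y i : F)) = ((Matrix.toBilin' S0 x y : F₀) : F) := by
    intro x y
    have hv : ∀ z : Fin 3 → F₀, (fun i => (z i : F)) = ∑ i, (z i : F) • Pi.single i (1 : F) := fun z => by
      funext k; simp [Finset.sum_apply, Pi.single_apply]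
    rw [Matrix.toBilin'_apply, hv x, hv y, Matrix.mulVec_sum, Matrix.mulVec_sum]
    simp only [Fin.sum_univ_three, Matrix.mulVec_smul, Unit.add_left hf, Unit.add_right hf, Unit.smul_left hf,
      Unit.smul_right hf, S0, Matrix.of_apply, Subfield.coe_add, Subfield.coe_mul]
    simp only [hfix _ (y _).2]
    ring
  have h20 : (2 : F₀) ≠ 0 := fun h => by
    have h' : (2 : F) = 0 := congrArg Subtype.val h
    exact one_ne_zero (α := F) (by linear_combination h3 - h')
  haveI : Invertible (2 : F₀) := invertibleOfNonzero h20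
  have hsymm : (Matrix.toBilin' S0).IsSymm := ⟨fun x y => Subtype.ext (by
    rw [← hsub, ← hsub, ← Unit.conj_form hf, hsub]
    exact hfix _ (Matrix.toBilin' S0 y x).2)⟩
  obtain ⟨v, hv⟩ := LinearMap.BilinForm.exists_orthogonal_basis (LinearMap.BilinForm.isSymm_iff.1 hsymm)
  let b := v.reindex (finCongr (Module.finrank_fin_fun (R := F₀) (n := 3)))
  have hborth : ∀ i j, i ≠ j → Matrix.toBilin' S0 (b i) (b j) = 0 := fun i j hij => by
    simp only [b, Module.Basis.reindex_apply]
    exact hv fun h => hij ((finCongr _).symm.injective h)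
  let w : Fin 3 → Fin 3 → F := fun i => (P : Matrix (Fin 3) (Fin 3) F) *ᵥ fun k => ((b i) k : F)
  have hworth : ∀ i j, i ≠ j → g₃ (w i) (w j) = 0 := fun i j hij => by
    rw [hsub, hborth i j hij]; rfl
  have hspan : ∀ x : Fin 3 → F₀, ∃ α : Fin 3 → F₀,
      (P : Matrix (Fin 3) (Fin 3) F) *ᵥ (fun k => (x k : F)) = ∑ i, (α i : F) • w i := by
    intro x
    refine ⟨fun i => b.repr x i, ?_⟩
    simp only [w, ← Matrix.mulVec_smul, ← Matrix.mulVec_sum]
    congr 1
    funext k
    conv_lhs => rw [← b.sum_repr x]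
    simp [Finset.sum_apply]
  have hw0 : ∀ i, g₃ (w i) (w i) ≠ 0 := by
    intro i h0
    have hb0 : b i ≠ 0 := b.ne_zero i
    have hwi : w i ≠ 0 := gl_mulVec_ne_zero P fun h => hb0 (funext fun k => Subtype.ext (congrFun h k))
    obtain ⟨y, hy⟩ := (hf.nondegenerate _ hwi).2
    apply hy
    obtain ⟨z, rfl⟩ : ∃ z, (P : Matrix (Fin 3) (Fin 3) F) *ᵥ z = y := ⟨_, gl_mulVec_inv_mulVec P y⟩
    rw [show z = ∑ k, z k • Pi.single k (1 : F) by funext l; simp [Finset.sum_apply, Pi.single_apply],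
      Matrix.mulVec_sum]
    simp only [Fin.sum_univ_three, Matrix.mulVec_smul, Unit.add_right hf, Unit.smul_right hf]
    have hzero : ∀ k, g₃ (w i) ((P : Matrix (Fin 3) (Fin 3) F) *ᵥ Pi.single k 1) = 0 := fun k => by
      obtain ⟨α, hα⟩ := hspan (Pi.single k 1)
      rw [show (fun l => ((Pi.single k (1 : F₀) : Fin 3 → F₀) l : F)) = Pi.single k (1 : F) by
        funext l; by_cases h : l = k <;> simp [h]] at hα
      rw [hα, Fin.sum_univ_three, Unit.add_right hf, Unit.add_right hf, Unit.smul_right hf, Unit.smul_right hf,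
        Unit.smul_right hf]
      fin_cases i
      · have e0 : g₃ (w 0) (w 0) = 0 := h0
        simp [e0, hworth 0 1 (by decide), hworth 0 2 (by decide)]
      · have e0 : g₃ (w 1) (w 1) = 0 := h0
        simp [e0, hworth 1 0 (by decide), hworth 1 2 (by decide)]
      · have e0 : g₃ (w 2) (w 2) = 0 := h0
        simp [e0, hworth 2 0 (by decide), hworth 2 1 (by decide)]
    rw [hzero, hzero, hzero]; ring
  have hpm : ∀ i, g₃ (w i) (w i) = 1 ∨ g₃ (w i) (w i) = -1 := fun i => by
    have hm : g₃ (w i) (w i) ∈ F₀ := by rw [hsub]; exact (Matrix.toBilin' S0 (b i) (b i)).2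
    exact ((hmem _).1 hm).resolve_left (hw0 i)
  -- equalise the norms
  obtain ⟨r, μ, hμ, hr, horth⟩ : ∃ (r : Fin 3 → Fin 3 → F₀) (μ : F), μ ≠ 0 ∧
      (∀ j, g₃ (∑ i, (r j i : F) • w i) (∑ i, (r j i : F) • w i) = μ) ∧
      ∀ j l, j ≠ l → g₃ (∑ i, (r j i : F) • w i) (∑ i, (r l i : F) • w i) = 0 := by
    have hexp : ∀ α β : Fin 3 → F₀, g₃ (∑ i, (α i : F) • w i) (∑ i, (β i : F) • w i) =
        (α 0 : F) * β 0 * g₃ (w 0) (w 0) + (α 1 : F) * β 1 * g₃ (w 1) (w 1) + (α 2 : F) * β 2 * g₃ (w 2) (w 2) := by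
      intro α β
      simp only [Fin.sum_univ_three, Unit.add_left hf, Unit.add_right hf, Unit.smul_left hf, Unit.smul_right hf,
        hfix _ (β _).2, hworth 0 1 (by decide), hworth 0 2 (by decide), hworth 1 0 (by decide),
        hworth 1 2 (by decide), hworth 2 0 (by decide), hworth 2 1 (by decide)]
      ring
    have hd : ∀ (R : Fin 3 → Fin 3 → F₀) (e₀ e₁ e₂ μ : F), g₃ (w 0) (w 0) = e₀ → g₃ (w 1) (w 1) = e₁ →
        g₃ (w 2) (w 2) = e₂ → (∀ j l, (R j 0 : F) * R l 0 * e₀ + (R j 1 : F) * R l 1 * e₁ + (R j 2 : F) * R l 2 * e₂ =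
          if j = l then μ else 0) → μ ≠ 0 → ∃ (r : Fin 3 → Fin 3 → F₀) (μ : F), μ ≠ 0 ∧
            (∀ j, g₃ (∑ i, (r j i : F) • w i) (∑ i, (r j i : F) • w i) = μ) ∧
            ∀ j l, j ≠ l → g₃ (∑ i, (r j i : F) • w i) (∑ i, (r l i : F) • w i) = 0 :=
      fun R e₀ e₁ e₂ μ a0 a1 a2 h hμ => ⟨R, μ, hμ, fun j => by rw [hexp, a0, a1, a2, h, if_pos rfl],
        fun j l hjl => by rw [hexp, a0, a1, a2, h, if_neg hjl]⟩
    have n1 : (-1 : F) ≠ 0 := neg_ne_zero.2 one_ne_zero
    rcases hpm 0 with a0 | a0 <;> rcases hpm 1 with a1 | a1 <;> rcases hpm 2 with a2 | a2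
    · exact hd ![![1, 0, 0], ![0, 1, 0], ![0, 0, 1]] _ _ _ 1 a0 a1 a2 (fun j l => by fin_cases j <;> fin_cases l <;> simp) one_ne_zero
    · exact hd ![![1, 1, 0], ![1, -1, 0], ![0, 0, 1]] _ _ _ (-1) a0 a1 a2
        (fun j l => by fin_cases j <;> fin_cases l <;> simp <;> linear_combination h3) n1
    · exact hd ![![1, 0, 1], ![1, 0, -1], ![0, 1, 0]] _ _ _ (-1) a0 a1 a2
        (fun j l => by fin_cases j <;> fin_cases l <;> simp <;> linear_combination h3) n1
    · exact hd ![![0, 1, 1], ![0, 1, -1], ![1, 0, 0]] _ _ _ 1 a0 a1 a2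
        (fun j l => by fin_cases j <;> fin_cases l <;> simp <;> linear_combination -h3) one_ne_zero
    · exact hd ![![0, 1, 1], ![0, 1, -1], ![1, 0, 0]] _ _ _ (-1) a0 a1 a2
        (fun j l => by fin_cases j <;> fin_cases l <;> simp <;> linear_combination h3) n1
    · exact hd ![![1, 0, 1], ![1, 0, -1], ![0, 1, 0]] _ _ _ 1 a0 a1 a2
        (fun j l => by fin_cases j <;> fin_cases l <;> simp <;> linear_combination -h3) one_ne_zero
    · exact hd ![![1, 1, 0], ![1, -1, 0], ![0, 0, 1]] _ _ _ 1 a0 a1 a2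
        (fun j l => by fin_cases j <;> fin_cases l <;> simp <;> linear_combination -h3) one_ne_zero
    · exact hd ![![1, 0, 0], ![0, 1, 0], ![0, 0, 1]] _ _ _ (-1) a0 a1 a2 (fun j l => by fin_cases j <;> fin_cases l <;> simp) n1
  let u : Fin 3 → Fin 3 → F₀ := fun j => ∑ i, r j i • b i
  let U : Fin 3 → Fin 3 → F := fun j => (P : Matrix (Fin 3) (Fin 3) F) *ᵥ fun k => (u j k : F)
  have hU : ∀ j, U j = ∑ i, (r j i : F) • w i := fun j => by
    simp only [U, w, ← Matrix.mulVec_smul, ← Matrix.mulVec_sum]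
    congr 1


  have hUU : ∀ j, g₃ (U j) (U j) = μ := fun j => by rw [hU]; exact hr j
  have hUo : ∀ j l, j ≠ l → g₃ (U j) (U l) = 0 := fun j l h => by rw [hU, hU]; exact horth j l h
  have hU0 : ∀ j, U j ≠ 0 := fun j h => hμ (by
    rw [← hUU j, h, show (0 : Fin 3 → F) = (0 : F) • (0 : Fin 3 → F) by simp, Unit.smul_left hf, zero_mul])
  have hli : LinearIndependent F U := Fintype.linearIndependent_iff.2 fun α hα i => by
    have h := congrArg (fun z => g₃ z (U i)) hα
    simp only [Fin.sum_univ_three, Unit.add_left hf, Unit.smul_left hf] at h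
    have hz : g₃ (0 : Fin 3 → F) (U i) = 0 := by
      rw [show (0 : Fin 3 → F) = (0 : F) • (0 : Fin 3 → F) by simp, Unit.smul_left hf, zero_mul]
    rw [hz] at h
    fin_cases i <;> simp only [Fin.zero_eta, Fin.mk_one, Fin.reduceFinMk] at h ⊢
    · rw [show g₃ (U 0) (U 0) = μ from hUU 0, hUo 1 0 (by decide), hUo 2 0 (by decide)] at h
      simpa [hμ] using h
    · rw [show g₃ (U 1) (U 1) = μ from hUU 1, hUo 0 1 (by decide), hUo 2 1 (by decide)] at h
      simpa [hμ] using h
    · rw [show g₃ (U 2) (U 2) = μ from hUU 2, hUo 0 2 (by decide), hUo 1 2 (by decide)] at h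
      simpa [hμ] using h
  let bU := basisOfLinearIndependentOfCardEqFinrank hli (by simp)
  let Dl : Fin 3 → Submodule F (Fin 3 → F) := fun j => Submodule.span F {U j}
  have hDD : IsMDecomposition 1 Dl := by
    refine ⟨by norm_num, one_pos, fun j => finrank_span_singleton (hU0 j), hli.iSupIndep_span_singleton, ?_⟩
    rw [eq_top_iff]
    intro x _
    rw [← bU.sum_repr x]
    refine Submodule.sum_mem _ fun i _ => Submodule.mem_iSup_of_mem i (Submodule.smul_mem _ _ ?_)
    simp [bU, Dl, Submodule.mem_span_singleton_self]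
  refine ⟨Dl, ⟨hDD, ?_, ?_⟩, fun h hh => Decomp.mem_stabilizer_of_image hDD fun j => ?_⟩
  · intro j z hz hz0
    obtain ⟨α, rfl⟩ := Submodule.mem_span_singleton.1 hz
    have hα : α ≠ 0 := fun h0 => hz0 (by simp [h0])
    refine ⟨⟨U j, Submodule.mem_span_singleton_self _, ?_⟩, ⟨U j, Submodule.mem_span_singleton_self _, ?_⟩⟩
    · rw [Unit.smul_right hf, hUU]; exact mul_ne_zero ((map_ne_zero _).2 hα) hμ
    · rw [Unit.smul_left hf, hUU]; exact mul_ne_zero hα hμ
  · intro i j hij x hx y hy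
    obtain ⟨α, rfl⟩ := Submodule.mem_span_singleton.1 hx
    obtain ⟨β, rfl⟩ := Submodule.mem_span_singleton.1 hy
    rw [Unit.smul_left hf, Unit.smul_right hf, hUo i j hij, mul_zero, mul_zero]
  -- images of frame vectors are scaled rational vectors of the same norm
  obtain ⟨y, hy, rfl⟩ := hle hh
  haveI : (scalars (Fin 3) F).Normal := scalars_normal
  obtain ⟨γ, hγ, z, hz, rfl⟩ := Subgroup.mem_sup_of_normal_right.1 hy
  obtain ⟨γ₀, rfl⟩ := hγ
  obtain ⟨a, ha⟩ := (mem_scalars_iff z).1 hz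
  have himg : ∀ j, ∃ β : Fin 3 → F₀, ((MulAut.conj P).toMonoidHom (Matrix.GeneralLinearGroup.map F₀.subtype γ₀ * z) :
      Matrix (Fin 3) (Fin 3) F) *ᵥ U j = (a : F) • ∑ i, (β i : F) • U i := by
    intro j
    have h1 : ((MulAut.conj P).toMonoidHom (Matrix.GeneralLinearGroup.map F₀.subtype γ₀ * z) :
      Matrix (Fin 3) (Fin 3) F) *ᵥ U j = (a : F) • ((P : Matrix (Fin 3) (Fin 3) F) *ᵥ
        fun k => (((γ₀ : Matrix (Fin 3) (Fin 3) F₀) *ᵥ u j) k : F)) := by
      simp only [MulEquiv.coe_toMonoidHom, MulAut.conj_apply, Units.val_mul, ha, ← Matrix.mulVec_mulVec, U,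
        gl_inv_mulVec_mulVec, Matrix.smul_mulVec, Matrix.one_mulVec, Matrix.mulVec_smul]
      congr 2


    have hri : ∀ x : Fin 3 → F₀, ∃ β : Fin 3 → F₀,
        (P : Matrix (Fin 3) (Fin 3) F) *ᵥ (fun k => (x k : F)) = ∑ i, (β i : F) • U i := by
      intro x
      have hli0 : LinearIndependent F₀ u := Fintype.linearIndependent_iff.2 fun α hα i => Subtype.ext (by
        refine Fintype.linearIndependent_iff.1 hli (fun i => (α i : F)) ?_ i
        simp only [U, ← Matrix.mulVec_smul, ← Matrix.mulVec_sum]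
        rw [show (∑ i, (α i : F) • fun k => (u i k : F)) = fun k => ((∑ i, α i • u i) k : F) by
          funext k; simp [Finset.sum_apply], hα]
        exact Matrix.mulVec_zero _)
      let bu := basisOfLinearIndependentOfCardEqFinrank hli0 (by simp)
      refine ⟨fun i => bu.repr x i, ?_⟩
      simp only [U, ← Matrix.mulVec_smul, ← Matrix.mulVec_sum]
      congr 1
      funext k
      conv_lhs => rw [← bu.sum_repr x]
      simp [bu, Finset.sum_apply]
    obtain ⟨β, hβ⟩ := hri ((γ₀ : Matrix (Fin 3) (Fin 3) F₀) *ᵥ u j)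
    exact ⟨β, by rw [h1, hβ]⟩
  choose β hβ using himg
  have hiso : ∀ x y, g₃ (((MulAut.conj P).toMonoidHom (Matrix.GeneralLinearGroup.map F₀.subtype γ₀ * z) :
      Matrix (Fin 3) (Fin 3) F) *ᵥ x) (((MulAut.conj P).toMonoidHom (Matrix.GeneralLinearGroup.map F₀.subtype γ₀ * z) :
      Matrix (Fin 3) (Fin 3) F) *ᵥ y) = g₃ x y := UnitPow.mem_GU.1 (hHΩ hh).1
  set ν := (a : F) * UnitPow.conj hF a with hν
  have hgram : ∀ i j, ν * ((β i 0 : F) * β j 0 + (β i 1 : F) * β j 1 + (β i 2 : F) * β j 2) = if i = j then 1 else 0 := by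
    intro i j
    have h1 := hiso (U i) (U j)
    rw [hβ, hβ] at h1
    simp only [Fin.sum_univ_three, Unit.add_left hf, Unit.add_right hf, Unit.smul_left hf, Unit.smul_right hf,
      hfix _ (β _ _).2, hUo 0 1 (by decide), hUo 0 2 (by decide), hUo 1 0 (by decide), hUo 1 2 (by decide),
      hUo 2 0 (by decide), hUo 2 1 (by decide), hUU] at h1
    refine mul_right_cancel₀ hμ ?_
    by_cases hij : i = j
    · subst hij; rw [hUU] at h1; rw [if_pos rfl]; linear_combination h1
    · rw [hUo i j hij] at h1; rw [if_neg hij]; linear_combination h1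
  -- the multiplier is one
  have hν1 : ν = 1 := by
    have hν0 : ν ≠ 0 := fun h => by simpa [h] using hgram 0 0
    let B : Matrix (Fin 3) (Fin 3) F := Matrix.of fun i k => (β i k : F)
    have hB : ν • (B * Bᵀ) = 1 := by
      ext i j
      rw [Matrix.smul_apply, Matrix.mul_apply, Fin.sum_univ_three, Matrix.one_apply, ← hgram i j]
      rfl
    have h1 := congrArg Matrix.det hB
    rw [Matrix.det_smul, Fintype.card_fin, Matrix.det_mul, Matrix.det_transpose, Matrix.det_one] at h1
    have hνm : ν ∈ F₀ := by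
      have h00 := hgram 0 0
      rw [if_pos rfl] at h00
      rw [eq_inv_of_mul_eq_one_left h00]
      exact F₀.inv_mem (add_mem (add_mem (mul_mem (β 0 0).2 (β 0 0).2) (mul_mem (β 0 1).2 (β 0 1).2))
        (mul_mem (β 0 2).2 (β 0 2).2))
    have hBd : B.det ∈ F₀ := by
      rw [show B.det = ((Matrix.of fun i k => β i k).det : F₀) by
        rw [← Subfield.subtype_apply, RingHom.map_det]; rfl]
      exact SetLike.coe_mem _
    rcases (hmem ν).1 hνm with h | h | h
    · exact absurd h hν0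
    · exact h
    · exfalso
      rw [h] at h1
      rcases (hmem B.det).1 hBd with e | e | e <;> rw [e] at h1
      · exact one_ne_zero (α := F) (by linear_combination -h1)
      · exact one_ne_zero (α := F) (by linear_combination h1 + h3)
      · exact one_ne_zero (α := F) (by linear_combination h1 + h3)
  have hrow : ∀ j, (β j 0 : F) * β j 0 + (β j 1 : F) * β j 1 + (β j 2 : F) * β j 2 = 1 := fun j => by
    simpa [hν1] using hgram j j
  have hsing : ∀ j, ∃ i, ∀ k, k ≠ i → (β j k : F) = 0 := by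
    intro j
    have h := hrow j
    have hsq : ∀ k, (β j k : F) * β j k = if (β j k : F) = 0 then 0 else 1 := fun k => by
      rcases (hmem _).1 (β j k).2 with e | e | e <;> simp [e]
    rw [hsq, hsq, hsq] at h
    by_cases e0 : (β j 0 : F) = 0 <;> by_cases e1 : (β j 1 : F) = 0 <;> by_cases e2 : (β j 2 : F) = 0 <;>
      simp only [e0, e1, e2, if_true, if_false, add_zero, zero_add] at h
    all_goals first
      | exact absurd h zero_ne_one
      | (refine ⟨0, fun k hk => ?_⟩; fin_cases k <;> first | exact absurd rfl hk | assumption)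
      | (refine ⟨1, fun k hk => ?_⟩; fin_cases k <;> first | exact absurd rfl hk | assumption)
      | (refine ⟨2, fun k hk => ?_⟩; fin_cases k <;> first | exact absurd rfl hk | assumption)
      | exact absurd (show (1 : F) = 0 by linear_combination h) one_ne_zero
      | exact absurd (show (1 : F) = 0 by linear_combination -h + h3) one_ne_zero
  obtain ⟨i, hi⟩ := hsing j
  refine ⟨i, fun x hx => ?_⟩
  obtain ⟨α, rfl⟩ := Submodule.mem_span_singleton.1 hx
  rw [Matrix.mulVec_smul, hβ, Finset.sum_eq_single i (fun k _ hk => by rw [hi k hk, zero_smul])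
    (fun h => absurd (Finset.mem_univ i) h)]
  exact Submodule.mem_span_singleton.2 ⟨α * ((a : F) * (β j i : F)), by rw [smul_smul, smul_smul, mul_assoc]⟩

end CfsgLib.Geo.Asch.SU3Small
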