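import Mathlib
import Cfsg.Agent.Lib.Geo.AschSU3Mono

/-! In SU3(5) the subgroups realised over five elements lie in 3.A7. -/

set_option autoImplicit false
set_option linter.unusedSectionVars false
set_option maxHeartbeats 1000000

namespace CfsgLib.Geo.Asch.SU3Small

open Cfsg Cfsg.Geo Matrix CfsgLib.GeomClasses SU3Tables
open scoped MatrixGroups

variable {F : Type*} [Field F] [Fintype F] {s : F} (hm : Model 5 s)
include hm

theorem phi_real (k : ℕ) : phi 5 s (5 * k) = (k : F) := by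
  simp [phi]

theorem nat_of_real {n : ℕ} (h : n % 5 = 0) : phi 5 s n = ((n / 5 : ℕ) : F) := by
  simp [phi, h]

theorem conj_nat (k : ℕ) : (k : F) ^ 5 = k := by
  haveI : Fact (Nat.Prime 5) := ⟨by norm_num⟩
  haveI : CharP F 5 := charP_of_card_eq_prime_pow (f := 2) hm.card
  rw [← frobenius_def, map_natCast]

theorem nat_reduce (k : ℕ) : ∃ i : ℕ, i < 5 ∧ (i : F) = k := ⟨k % 5, Nat.mod_lt _ (by norm_num), hm.cast_mod k⟩

/-- An orthogonal transformation over five elements lies in 3.A7. -/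
theorem real_mem {g : GL (Fin 3) F} (hg : g ∈ SUg F 5)
    (hreal : ∀ i j, ∃ k : ℕ, (g : Matrix (Fin 3) (Fin 3) F) i j = k) : g ∈ Gen 5 s gens5 := by
  classical
  choose K hK using hreal
  have horth : ∀ {h : GL (Fin 3) F}, h ∈ SUg F 5 → (∀ i j, ((h : Matrix (Fin 3) (Fin 3) F) i j) ^ 5 = h i j) →
      ∀ i j, h 0 i * h 0 j + h 1 i * h 1 j + h 2 i * h 2 j = if i = j then 1 else 0 := by
    intro h hh hfix i j
    have h1 := congrFun (congrFun ((gu_iff hm.card h).1 hh.1) i) j
    simpa [Matrix.mul_apply, Matrix.one_apply, Fin.sum_univ_three, hfix] using h1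
  have hgfix : ∀ i j, ((g : Matrix (Fin 3) (Fin 3) F) i j) ^ 5 = g i j := fun i j => by rw [hK, conj_nat hm]
  obtain ⟨a, ha, ha'⟩ := nat_reduce hm (K 0 0)
  obtain ⟨b, hb, hb'⟩ := nat_reduce hm (K 1 0)
  obtain ⟨c, hc, hc'⟩ := nat_reduce hm (K 2 0)
  rw [← hK] at ha' hb' hc'
  have hsum : (a * a + b * b + c * c) % 5 = 1 := by
    refine hm.cast_inj (Nat.mod_lt _ (by norm_num)) (by norm_num) ?_
    rw [hm.cast_mod]
    push_cast
    rw [ha', hb', hc']
    have := horth hg hgfix 0 0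
    simpa using this
  obtain ⟨k, hk, i, hi, e, -, he⟩ := real_reps a ha b hb c hc hsum
  have hlen : 8 + k < gens5.length := by simp only [gens5, List.length_cons, List.length_nil]; omega
  set A := gens5.getD (8 + k) (SU3Tables.one 5) with hAdef
  have hA : A ∈ gens5 := by rw [hAdef, List.getD_eq_getElem _ _ hlen]; exact List.getElem_mem hlen
  obtain ⟨r, hr, hrv⟩ := hm.exists_elem (gens5_su A hA)
  have hrM : r ∈ Gen 5 s gens5 := Subgroup.subset_closure ⟨A, hA, hrv⟩
  have hAr : ∀ x y, ∃ n : ℕ, toMat 5 s A x y = n := by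
    obtain ⟨x1, x2, x3⟩ := reps_real k hk A.1 (Or.inl rfl)
    obtain ⟨y1, y2, y3⟩ := reps_real k hk A.2.1 (Or.inr (Or.inl rfl))
    obtain ⟨z1, z2, z3⟩ := reps_real k hk A.2.2 (Or.inr (Or.inr rfl))
    intro x y
    fin_cases x <;> fin_cases y
    · exact ⟨_, nat_of_real hm x1⟩
    · exact ⟨_, nat_of_real hm x2⟩
    · exact ⟨_, nat_of_real hm x3⟩
    · exact ⟨_, nat_of_real hm y1⟩
    · exact ⟨_, nat_of_real hm y2⟩
    · exact ⟨_, nat_of_real hm y3⟩
    · exact ⟨_, nat_of_real hm z1⟩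
    · exact ⟨_, nat_of_real hm z2⟩
    · exact ⟨_, nat_of_real hm z3⟩
  choose R hR using hAr
  set t := r * g with ht
  have htΩ : t ∈ SUg F 5 := mul_mem hr hg
  have htnat : ∀ x y, ((t : Matrix (Fin 3) (Fin 3) F)) x y =
      ((R x 0 * K 0 y + R x 1 * K 1 y + R x 2 * K 2 y : ℕ) : F) := by
    intro x y
    rw [ht, Units.val_mul, hrv, Matrix.mul_apply, Fin.sum_univ_three, hR, hR, hR, hK, hK, hK]
    push_cast
    ring
  have htfix : ∀ x y, ((t : Matrix (Fin 3) (Fin 3) F) x y) ^ 5 = t x y := fun x y => by rw [htnat, conj_nat hm]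
  -- the first column is monomial
  have hcol0 : (t : Matrix (Fin 3) (Fin 3) F) *ᵥ Pi.single 0 1 = phi 5 s e • Pi.single (⟨i, hi⟩ : Fin 3) 1 := by
    have h1 : (g : Matrix (Fin 3) (Fin 3) F) *ᵥ Pi.single 0 1 = toVec 5 s (5 * a, 5 * b, 5 * c) := by
      funext x
      rw [Matrix.mulVec_single_one]
      fin_cases x <;> simp [toVec, phi_real hm, ha', hb', hc']
    rw [ht, Units.val_mul, ← Matrix.mulVec_mulVec, h1, hrv, ← hm.mvec, he]
    funext x
    interval_cases i <;> fin_cases x <;> simp [toVec, unitv, hm.phi_zero]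
  have he0 : phi 5 s e ≠ 0 := fun h0 => by
    rw [h0, zero_smul] at hcol0
    exact gl_mulVec_ne_zero t (by simp : (Pi.single 0 1 : Fin 3 → F) ≠ 0) hcol0
  have hent : ∀ x, (t : Matrix (Fin 3) (Fin 3) F) x 0 = if x = ⟨i, hi⟩ then phi 5 s e else 0 := fun x => by
    have h := congrFun hcol0 x
    rw [Matrix.mulVec_single_one] at h
    simpa [Pi.single_apply] using h
  have hmono : ∀ y, ∃ (x : Fin 3) (v : F), (t : Matrix (Fin 3) (Fin 3) F) *ᵥ Pi.single y 1 = v • Pi.single x 1 := by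
    intro y
    by_cases hy : y = 0
    · subst hy; exact ⟨_, _, hcol0⟩
    have hzero : (t : Matrix (Fin 3) (Fin 3) F) ⟨i, hi⟩ y = 0 := by
      have h := horth htΩ htfix 0 y
      simp only [hent, ite_mul, zero_mul, if_neg (Ne.symm hy)] at h
      interval_cases i <;> simp at h <;> exact h.resolve_left he0
    have hu : t 0 y * t 0 y + t 1 y * t 1 y + t 2 y * t 2 y = (1 : F) := by
      simpa using horth htΩ htfix y y
    have key : ∀ p q : Fin 3, (∀ x, x ≠ p → x ≠ q → (t : Matrix (Fin 3) (Fin 3) F) x y = 0) →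
        t p y * t p y + t q y * t q y = (1 : F) → t p y = (0 : F) ∨ t q y = (0 : F) := by
      intro p q _ hpq
      obtain ⟨u, hu, hu'⟩ := nat_reduce hm (R p 0 * K 0 y + R p 1 * K 1 y + R p 2 * K 2 y)
      obtain ⟨w, hw, hw'⟩ := nat_reduce hm (R q 0 * K 0 y + R q 1 * K 1 y + R q 2 * K 2 y)
      rw [← htnat] at hu' hw'
      rcases pair_units u hu w hw (hm.cast_inj (Nat.mod_lt _ (by norm_num)) (by norm_num) (by
        rw [hm.cast_mod]
        push_cast
        rw [hu', hw']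
        exact hpq)) with h | h
      · exact Or.inl (by rw [← hu', h, Nat.cast_zero])
      · exact Or.inr (by rw [← hw', h, Nat.cast_zero])
    have fin : ∀ x, (∀ z, z ≠ x → (t : Matrix (Fin 3) (Fin 3) F) z y = 0) →
        ∃ (x : Fin 3) (v : F), (t : Matrix (Fin 3) (Fin 3) F) *ᵥ Pi.single y 1 = v • Pi.single x 1 := by
      intro x hx
      refine ⟨x, t x y, funext fun z => ?_⟩
      rw [Matrix.mulVec_single_one]
      by_cases hz : z = x
      · subst hz; simp
      · simp [hx z hz, hz]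
    interval_cases i
    · have z0 : (t : Matrix (Fin 3) (Fin 3) F) 0 y = 0 := hzero
      rcases key 1 2 (fun x h1 h2 => by fin_cases x <;> first | exact absurd rfl h1 | exact absurd rfl h2 | assumption) (by simpa [z0] using hu) with h | h
      · exact fin 2 fun z hz => by fin_cases z <;> first | exact absurd rfl hz | assumption
      · exact fin 1 fun z hz => by fin_cases z <;> first | exact absurd rfl hz | assumption
    · have z1 : (t : Matrix (Fin 3) (Fin 3) F) 1 y = 0 := hzero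
      rcases key 0 2 (fun x h1 h2 => by fin_cases x <;> first | exact absurd rfl h1 | exact absurd rfl h2 | assumption) (by simpa [z1] using hu) with h | h
      · exact fin 2 fun z hz => by fin_cases z <;> first | exact absurd rfl hz | assumption
      · exact fin 0 fun z hz => by fin_cases z <;> first | exact absurd rfl hz | assumption
    · have z2 : (t : Matrix (Fin 3) (Fin 3) F) 2 y = 0 := hzero
      rcases key 0 1 (fun x h1 h2 => by fin_cases x <;> first | exact absurd rfl h1 | exact absurd rfl h2 | assumption) (by simpa [z2] using hu) with h | h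
      · exact fin 1 fun z hz => by fin_cases z <;> first | exact absurd rfl hz | assumption
      · exact fin 0 fun z hz => by fin_cases z <;> first | exact absurd rfl hz | assumption
  have := mul_mem (inv_mem hrM) (monomial_mem hm htΩ hmono)
  rwa [ht, inv_mul_cancel_left] at this

theorem cube_roots {a : F} (h : a ^ 3 = 1) : a = 1 ∨ a = phi 5 s om ∨ a = phi 5 s om * phi 5 s om := by
  obtain ⟨n, hn, rfl⟩ := hm.exists_code a
  rcases om_spec.2.2.2.2.2.2 n hn (hm.phi_inj (hm.mul_lt _ _) (by norm_num)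
    (by rw [hm.phi_mul, hm.phi_mul, hm.phi_one]; linear_combination h)) with h | h | h
  · exact Or.inl (by rw [h, hm.phi_one])
  · exact Or.inr (Or.inl (by rw [h]))
  · exact Or.inr (Or.inr (by rw [h, hm.phi_mul]))

theorem scalar_mem {L : List Mat} (hL : ∀ A ∈ L, IsSU 5 A)
    (h2 : L.getD 2 (SU3Tables.one 5) = SU3Tables.smat 5 om (SU3Tables.one 5)) {g : GL (Fin 3) F} {a : F}
    (ha : a ^ 3 = 1) (hg : (g : Matrix (Fin 3) (Fin 3) F) = a • 1) : g ∈ Gen 5 s L := by
  have hw : toMat 5 s (word 5 L [2]) = phi 5 s om • 1 := by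
    rw [SU3Tables.word, SU3Tables.word, hm.mmul, hm.mat_one, mul_one, h2, hm.smat, hm.mat_one]
  rcases cube_roots hm ha with rfl | rfl | rfl
  · exact mem_of_word hm hL [] (by rw [hg, one_smul, SU3Tables.word, hm.mat_one])
  · exact mem_of_word hm hL [2] (by rw [hg, hw])
  · exact mem_of_word hm hL [2, 2] (by
      rw [hg, show word 5 L [2, 2] = SU3Tables.mmul 5 (L.getD 2 (SU3Tables.one 5)) (word 5 L [2]) from rfl, hm.mmul,
        hw, h2, hm.smat, hm.mat_one, Matrix.smul_mul, one_mul, smul_smul])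

/-- Over 25 elements a subfield group over five elements is not maximal. -/
theorem real_false {H : Subgroup (GL (Fin 3) F)} (hH : IsMaximalIn (SUg F 5) H) {F₀ : Subfield F} {P : GL (Fin 3) F}
    (hc : Nat.card F₀ = 5) (hform : IsFormRationalStructure (Cfsg.hermForm 3 F 5) F₀ 1 P)
    (hle : H ≤ subfieldSubgroup F₀ P) : False := by
  classical
  haveI : Fact (Nat.Prime 5) := ⟨by norm_num⟩
  have hnat : ∀ x : F, x ∈ F₀ → ∃ k : ℕ, k < 5 ∧ (k : F) = x := by
    intro x hx
    let φ : Fin 5 → F₀ := fun k => (k : ℕ)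
    have hinj : Function.Injective φ := fun k l h => Fin.ext (hm.cast_inj k.2 l.2 (by
      simpa [φ] using congrArg Subtype.val h))
    obtain ⟨k, hk⟩ := (hinj.bijective_of_nat_card_le (by rw [hc, Nat.card_eq_fintype_card, Fintype.card_fin])).2 ⟨x, hx⟩
    exact ⟨k, k.2, by simpa [φ] using congrArg Subtype.val hk⟩
  have hfix : ∀ x : F₀, (x : F) ^ 5 = x := fun x => by
    obtain ⟨k, -, hk⟩ := hnat x x.2
    rw [← hk, conj_nat hm]
  -- the Gram matrix
  set P₁ := (P : Matrix (Fin 3) (Fin 3) F) with hP₁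
  set G := P₁ᵀ.map (fun x => x ^ 5) * P₁ with hG
  have hGm : ∀ i j, G i j ∈ F₀ := by
    intro i j
    have h := hform (Pi.single j 1) (Pi.single i 1) (fun k => by by_cases h : k = j <;> simp [h])
      (fun k => by by_cases h : k = i <;> simp [h])
    rw [one_mul, form_eq, Matrix.mulVec_single_one, Matrix.mulVec_single_one] at h
    convert h using 1
    simp [hG, hP₁, Matrix.mul_apply, dotProduct, mul_comm]
  have hGsymm : ∀ i j, G i j = G j i := by
    intro i j
    have h := hfix ⟨G j i, hGm j i⟩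
    simp only [hG, Matrix.mul_apply, Matrix.map_apply, Matrix.transpose_apply] at h ⊢
    rw [← h]
    haveI : CharP F 5 := charP_of_card_eq_prime_pow (f := 2) hm.card
    have h25 : ∀ x : F, (x ^ 5) ^ 5 = x := fun x => by
      rw [← pow_mul, show 5 * 5 = Fintype.card F by rw [hm.card]; norm_num, FiniteField.pow_card]
    rw [Fin.sum_univ_three, Fin.sum_univ_three, add_pow_char, add_pow_char, mul_pow, mul_pow, mul_pow, h25, h25, h25]
    ring
  let S0 : Matrix (Fin 3) (Fin 3) F₀ := Matrix.of fun i j => ⟨G i j, hGm i j⟩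
  have h20 : (2 : F₀) ≠ 0 := fun h => by
    have h' : ((2 : F₀) : F) = 0 := by rw [h]; rfl
    have h2 : ((2 : ℕ) : F) = ((0 : ℕ) : F) := by
      rw [Nat.cast_zero, Nat.cast_ofNat]; exact h'
    exact absurd (hm.cast_inj (by norm_num) (by norm_num) h2) (by norm_num)
  haveI : Invertible (2 : F₀) := invertibleOfNonzero h20
  have hsymm : (Matrix.toBilin' S0).IsSymm := ⟨fun x y => by
    rw [Matrix.toBilin'_apply, Matrix.toBilin'_apply, Finset.sum_comm]
    refine Finset.sum_congr rfl fun i _ => Finset.sum_congr rfl fun j _ => ?_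
    rw [show S0 j i = S0 i j from Subtype.ext (hGsymm j i)]
    ring⟩
  obtain ⟨v, hv⟩ := LinearMap.BilinForm.exists_orthogonal_basis (LinearMap.BilinForm.isSymm_iff.1 hsymm)
  have hn : Module.finrank F₀ (Fin 3 → F₀) = 3 := Module.finrank_fin_fun _
  let b := v.reindex (finCongr hn)
  let Q0 : Matrix (Fin 3) (Fin 3) F₀ := (Pi.basisFun F₀ (Fin 3)).toMatrix b
  have hQ0 : IsUnit Q0.det := by
    rw [← Matrix.isUnit_iff_isUnit_det]
    exact ⟨⟨Q0, b.toMatrix (Pi.basisFun F₀ (Fin 3)), Module.Basis.toMatrix_mul_toMatrix_flip _ _,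
      Module.Basis.toMatrix_mul_toMatrix_flip _ _⟩, rfl⟩
  let D0 : Matrix (Fin 3) (Fin 3) F₀ := Q0ᵀ * S0 * Q0
  have hD0 : ∀ i j, i ≠ j → D0 i j = 0 := by
    intro i j hij
    have h0 : Matrix.toBilin' S0 (b i) (b j) = 0 := by
      simp only [b, Module.Basis.reindex_apply]
      exact hv fun h => hij ((finCongr hn).symm.injective h)
    rw [Matrix.toBilin'_apply, Finset.sum_comm] at h0
    simp only [D0, Q0, Matrix.mul_apply, Matrix.transpose_apply, Module.Basis.toMatrix_apply, Pi.basisFun_repr,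
      Finset.sum_mul]
    exact h0
  set ι₀ : F₀ →+* F := F₀.subtype with hι
  set Q := Q0.map ι₀ with hQ
  have hQfix : Qᵀ.map (fun x => x ^ 5) = Qᵀ := by
    ext i j
    simp only [hQ, Matrix.map_apply, Matrix.transpose_apply]
    exact hfix _
  have hGS : S0.map ι₀ = G := by ext i j; rfl
  have hQG : Qᵀ * G * Q = D0.map ι₀ := by
    rw [← hGS, hQ, ← Matrix.transpose_map, ← Matrix.map_mul, ← Matrix.map_mul]
  have hdiag : ∀ i, ∃ d : ℕ, d < 4 ∧ ((d + 1 : ℕ) : F) = (D0 i i : F) := by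
    intro i
    obtain ⟨k, hk, hk'⟩ := hnat _ (D0 i i).2
    have hk0 : k ≠ 0 := fun h0 => by
      subst h0
      have h1 : (D0.map ι₀).det = 0 := Matrix.det_eq_zero_of_row_eq_zero i fun j => by
        by_cases h : i = j
        · subst h; exact hk'.symm.trans Nat.cast_zero
        · simp [hD0 i j h]
      rw [← hQG, Matrix.det_mul, Matrix.det_mul, hG, Matrix.det_mul] at h1
      have hP0 : P₁.det ≠ 0 := Matrix.det_ne_zero_of_right_inverse (B := ((P⁻¹ : GL (Fin 3) F) : Matrix (Fin 3) (Fin 3) F))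
        (by rw [hP₁, ← Units.val_mul, mul_inv_cancel, Units.val_one])
      have hP1 : (P₁ᵀ.map (fun x => x ^ 5)).det ≠ 0 := by
        haveI : CharP F 5 := charP_of_card_eq_prime_pow (f := 2) hm.card
        rw [show (fun x : F => x ^ 5) = frobenius F 5 from rfl, ← RingHom.mapMatrix_apply, ← RingHom.map_det,
          Matrix.det_transpose]
        exact fun h => hP0 (pow_eq_zero_iff (by norm_num) |>.1 h)
      have hQd : Q.det ≠ 0 := by
        rw [hQ, ← RingHom.mapMatrix_apply, ← RingHom.map_det]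
        exact fun h => hQ0.ne_zero (ι₀.injective (h.trans (map_zero _).symm))
      rw [Matrix.det_transpose] at h1
      simp [hP0, hP1, hQd] at h1
    exact ⟨k - 1, by omega, by rw [show k - 1 + 1 = k by omega]; exact hk'⟩
  choose d hd hd' using hdiag
  have hD : Qᵀ * G * Q = toMat 5 s ((5 * (d 0 + 1), 0, 0), (0, 5 * (d 1 + 1), 0), (0, 0, 5 * (d 2 + 1))) := by
    rw [hQG]
    ext i j
    fin_cases i <;> fin_cases j <;> simp [toMat, toVec, phi_real hm, hm.phi_zero, hι, hd', hD0, -Nat.cast_add]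
  obtain ⟨hμ0, hμ5, hBreal, hlam, hBD⟩ := diag_forms (d 0) (hd 0) (d 1) (hd 1) (d 2) (hd 2)
  generalize diagTab.getD (16 * d 0 + 4 * d 1 + d 2) (0, SU3Tables.one 5, 0) = T at hμ0 hμ5 hBreal hlam hBD
  set B := toMat 5 s T.2.1 with hB
  have hBnat : ∀ i j, ∃ k : ℕ, B i j = k := by
    obtain ⟨x1, y1, z1⟩ := hBreal Prod.fst (by simp)
    obtain ⟨x2, y2, z2⟩ := hBreal (fun v => v.2.1) (by simp)
    obtain ⟨x3, y3, z3⟩ := hBreal (fun v => v.2.2) (by simp)
    intro i j
    fin_cases i <;> fin_cases j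
    · exact ⟨_, nat_of_real hm x1⟩
    · exact ⟨_, nat_of_real hm x2⟩
    · exact ⟨_, nat_of_real hm x3⟩
    · exact ⟨_, nat_of_real hm y1⟩
    · exact ⟨_, nat_of_real hm y2⟩
    · exact ⟨_, nat_of_real hm y3⟩
    · exact ⟨_, nat_of_real hm z1⟩
    · exact ⟨_, nat_of_real hm z2⟩
    · exact ⟨_, nat_of_real hm z3⟩
  have hBfix : Bᵀ.map (fun x => x ^ 5) = Bᵀ := by
    ext i j
    obtain ⟨k, hk⟩ := hBnat j i
    simp only [Matrix.map_apply, Matrix.transpose_apply, hk, conj_nat hm]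
  have hBD' : Bᵀ * (toMat 5 s ((5 * (d 0 + 1), 0, 0), (0, 5 * (d 1 + 1), 0), (0, 0, 5 * (d 2 + 1))) * B) =
      ((T.1 : ℕ) : F) • 1 := by
    rw [hB, ← hm.tp, ← hm.mmul, ← hm.mmul, hBD, hm.smat, hm.mat_one, phi_real hm]
  set lam := phi 5 s T.2.2 with hlamdef
  have hlam' : lam * lam ^ 5 * ((T.1 : ℕ) : F) = 1 := by
    have := congrArg (phi 5 s) hlam
    rwa [hm.phi_mul, hm.phi_mul, hm.phi_cj, phi_real hm, hm.phi_one] at this
  -- the new frame
  set R := Q * B with hR
  have hC1 : (lam • (P₁ * R))ᵀ.map (fun x => x ^ 5) * (lam • (P₁ * R)) = 1 := by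
    haveI : CharP F 5 := charP_of_card_eq_prime_pow (f := 2) hm.card
    have hmap : (lam • (P₁ * R))ᵀ.map (fun x => x ^ 5) = lam ^ 5 • (Bᵀ * (Qᵀ * P₁ᵀ.map (fun x => x ^ 5))) := by
      rw [show (fun x : F => x ^ 5) = frobenius F 5 from rfl, Matrix.transpose_smul, hR, Matrix.transpose_mul,
        Matrix.transpose_mul, Matrix.map_smul' _ _ _ (fun a b => map_mul _ a b), Matrix.map_mul, Matrix.map_mul]
      rw [show (fun x : F => x ^ 5) = frobenius F 5 from rfl] at hBfix hQfix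
      rw [hBfix, hQfix]
      simp only [Matrix.mul_assoc]
      rfl
    rw [hmap, Matrix.smul_mul, Matrix.mul_smul, smul_smul,
      show Bᵀ * (Qᵀ * P₁ᵀ.map (fun x => x ^ 5)) * (P₁ * R) = Bᵀ * ((Qᵀ * G * Q) * B) by
        rw [hG, hR]; simp only [Matrix.mul_assoc],
      hD, hBD', smul_smul, show lam ^ 5 * lam * ((T.1 : ℕ) : F) = 1 by linear_combination hlam', one_smul]
  have hCd : (lam • (P₁ * R)).det ≠ 0 := fun h => by
    have := congrArg Matrix.det hC1
    rw [Matrix.det_mul, h, mul_zero, Matrix.det_one] at this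
    exact zero_ne_one this
  set C := Matrix.GeneralLinearGroup.mkOfDetNeZero (lam • (P₁ * R)) hCd with hC
  have hCv : (C : Matrix (Fin 3) (Fin 3) F) = lam • (P₁ * R) := rfl
  have hCgu : C ∈ Cfsg.GU 3 F 5 := (gu_iff hm.card C).2 hC1
  have hlam0 : lam ≠ 0 := fun h => by simp [h] at hlam'
  have hRmem : ∀ i j, R i j ∈ F₀ := fun i j => by
    rw [hR, Matrix.mul_apply]
    refine sum_mem fun k _ => mul_mem (by exact (Q0 i k).2) ?_
    obtain ⟨n, hn⟩ := hBnat k j
    rw [hn]
    exact natCast_mem F₀ n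
  obtain ⟨R0, hR0⟩ : ∃ R0 : Matrix (Fin 3) (Fin 3) F₀, R0.map ι₀ = R :=
    ⟨Matrix.of fun i j => ⟨R i j, hRmem i j⟩, by ext i j; rfl⟩
  have hR0d : IsUnit R0.det := by
    rw [isUnit_iff_ne_zero]
    intro h
    have : R.det = 0 := by rw [← hR0, ← RingHom.mapMatrix_apply, ← RingHom.map_det, h, map_zero]
    exact hCd (by rw [Matrix.det_smul, Matrix.det_mul, this, mul_zero, mul_zero])
  have hstd : ∀ h ∈ subfieldSubgroup F₀ P, ∃ (a : F) (Γ : Matrix (Fin 3) (Fin 3) F₀),
      ((C⁻¹ * h * C : GL (Fin 3) F) : Matrix (Fin 3) (Fin 3) F) = a • Γ.map ι₀ := by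
    rintro h ⟨y, hy, rfl⟩
    haveI : (scalars (Fin 3) F).Normal := scalars_normal
    obtain ⟨γ, hγ, z, hz, rfl⟩ := Subgroup.mem_sup_of_normal_right.1 hy
    obtain ⟨γ₀, rfl⟩ := hγ
    obtain ⟨a, ha⟩ := (mem_scalars_iff z).1 hz
    refine ⟨a, R0⁻¹ * (γ₀ : Matrix (Fin 3) (Fin 3) F₀) * R0, ?_⟩
    have key : ((MulAut.conj P) (Matrix.GeneralLinearGroup.map F₀.subtype γ₀ * z) * C : GL (Fin 3) F).val =
        (C : Matrix (Fin 3) (Fin 3) F) * ((a : F) • (R0⁻¹ * (γ₀ : Matrix (Fin 3) (Fin 3) F₀) * R0).map ι₀) := by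
      have hg : ((Matrix.GeneralLinearGroup.map F₀.subtype γ₀ : GL (Fin 3) F) : Matrix (Fin 3) (Fin 3) F) =
          (γ₀ : Matrix (Fin 3) (Fin 3) F₀).map ι₀ := rfl
      rw [MulAut.conj_apply]
      simp only [Units.val_mul, hg, ha, hCv, Matrix.map_mul, hR0, Matrix.smul_mul, Matrix.mul_smul, mul_one, one_mul,
        smul_smul, Matrix.mul_assoc]
      rw [← Matrix.mul_assoc ((P⁻¹ : GL (Fin 3) F) : Matrix (Fin 3) (Fin 3) F), ← Units.val_mul, inv_mul_cancel, Units.val_one, one_mul, ← Matrix.mul_assoc R, show R * R0⁻¹.map ι₀ = 1 by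
        rw [← hR0, ← Matrix.map_mul, Matrix.mul_nonsing_inv _ hR0d, Matrix.map_one _ (map_zero _) (map_one _)],
        one_mul, mul_comm lam]
    rw [show C⁻¹ * (MulAut.conj P).toMonoidHom (Matrix.GeneralLinearGroup.map F₀.subtype γ₀ * z) * C =
      C⁻¹ * ((MulAut.conj P) (Matrix.GeneralLinearGroup.map F₀.subtype γ₀ * z) * C) from mul_assoc _ _ _,
      Units.val_mul, key, ← Matrix.mul_assoc, ← Units.val_mul, inv_mul_cancel, Units.val_one, one_mul]
  -- membership in 3.A7
  have hmem : ∀ h ∈ H, C⁻¹ * h * C ∈ Gen 5 s gens5 := by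
    intro h hh
    obtain ⟨a, Γ, hv⟩ := hstd h (hle hh)
    have hΩ := (sug_conj hCgu (hH.1.le hh)).2
    set g := C⁻¹ * h * C with hg
    have hdet : a ^ 3 * (Γ.det : F) = 1 := by
      have h1 := congrArg Units.val (show Matrix.GeneralLinearGroup.det g = 1 from hΩ.2)
      rw [Matrix.GeneralLinearGroup.val_det_apply, hv, Matrix.det_smul, Fintype.card_fin,
        ← RingHom.mapMatrix_apply, ← RingHom.map_det] at h1
      exact h1
    have ha0 : a ≠ 0 := fun h => by simp [h] at hdet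
    set ν := a ^ 5 * a with hν
    have hΓ : ν • ((Γ.map ι₀)ᵀ * Γ.map ι₀) = 1 := by
      have h1 := (gu_iff hm.card g).1 hΩ.1
      rw [hv] at h1
      haveI : CharP F 5 := charP_of_card_eq_prime_pow (f := 2) hm.card
      rw [show (fun x : F => x ^ 5) = frobenius F 5 from rfl, Matrix.transpose_smul,
        Matrix.map_smul' _ _ _ (fun a b => map_mul _ a b), Matrix.smul_mul, Matrix.mul_smul, smul_smul] at h1
      rw [show ((Γ.map ι₀)ᵀ).map (frobenius F 5) = (Γ.map ι₀)ᵀ by
        ext i j; exact hfix _] at h1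
      exact h1
    have hν2 : ν ^ 3 * (Γ.det : F) ^ 2 = 1 := by
      have h1 := congrArg Matrix.det hΓ
      rw [Matrix.det_smul, Fintype.card_fin, Matrix.det_mul, Matrix.det_transpose, Matrix.det_one,
        ← RingHom.mapMatrix_apply, ← RingHom.map_det, show ι₀ Γ.det = (Γ.det : F) from rfl] at h1
      linear_combination h1
    have hδ : (Γ.det : F) ≠ 0 := fun h => by simp [h] at hdet
    set δ : F := (Γ.det : F) with hδdef
    set t : F := δ⁻¹ / ν with htdef
    have hν0 : ν ≠ 0 := mul_ne_zero (pow_ne_zero _ ha0) ha0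
    have ht0 : t ≠ 0 := div_ne_zero (inv_ne_zero hδ) hν0
    have ht2 : t * t = ν := by
      rw [htdef]; field_simp; linear_combination -hν2
    have htmem : t ∈ F₀ := by
      have hνm : ν ∈ F₀ := by
        have h1 := congrFun (congrFun hΓ 0) 0
        rw [Matrix.smul_apply, Matrix.one_apply_eq, smul_eq_mul] at h1
        rw [eq_inv_of_mul_eq_one_left h1]
        refine F₀.inv_mem ?_
        rw [Matrix.mul_apply]
        exact sum_mem fun k _ => mul_mem (Γ k 0).2 (Γ k 0).2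
      exact F₀.div_mem (F₀.inv_mem Γ.det.2) hνm
    set ε := a / t * (t ^ 3 * δ) with hεdef
    set u := t ^ 3 * δ with hu
    have hu2 : u * u = 1 := by
      rw [hu]; linear_combination hν2 + δ ^ 2 * (t ^ 4 + t ^ 2 * ν + ν ^ 2) * ht2
    have hu0 : u ≠ 0 := fun h => by simp [h] at hu2
    have hε : ε ^ 3 = 1 := by
      rw [hεdef, mul_pow, div_pow, show u ^ 3 = u by linear_combination u * hu2, hu]
      field_simp
      linear_combination hdet
    have hε0 : ε ≠ 0 := fun h => by simp [h] at hε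
    obtain ⟨z, hz⟩ : ∃ z : GL (Fin 3) F, (z : Matrix (Fin 3) (Fin 3) F) = ε • 1 :=
      ⟨Matrix.GeneralLinearGroup.mkOfDetNeZero (ε • 1) (by simp [Matrix.det_smul, hε]), rfl⟩
    have hzM : z ∈ Gen 5 s gens5 := scalar_mem hm gens5_su om_spec.2.2.1 hε hz
    set g' := z⁻¹ * g with hg'
    have hg'v : (g' : Matrix (Fin 3) (Fin 3) F) = (a / ε) • Γ.map ι₀ := by
      have hzg : (z : Matrix (Fin 3) (Fin 3) F) * ((a / ε) • Γ.map ι₀) = a • Γ.map ι₀ := by
        rw [hz, Matrix.smul_mul, one_mul, smul_smul, mul_div_cancel₀ _ hε0]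
      rw [hg', Units.val_mul, hv, ← hzg, ← Matrix.mul_assoc, ← Units.val_mul, inv_mul_cancel, Units.val_one, one_mul]
    have hae : a / ε ∈ F₀ := by
      have : a / ε = t * u := by
        rw [hεdef]; field_simp; linear_combination -hu2
      rw [this]
      exact mul_mem htmem (mul_mem (pow_mem htmem 3) Γ.det.2)
    have hg'M : g' ∈ Gen 5 s gens5 := real_mem hm (mul_mem (inv_mem ((m5_le hm) hzM)) hΩ) fun i j => by
      obtain ⟨k, -, hk⟩ := hnat ((g' : Matrix (Fin 3) (Fin 3) F) i j) (by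
        rw [hg'v, Matrix.smul_apply, smul_eq_mul]
        exact mul_mem hae (Γ i j).2)
      exact ⟨k, hk.symm⟩
    have := mul_mem hzM hg'M
    rwa [hg', mul_inv_cancel_left] at this
  obtain ⟨g, hgM, hgv⟩ := m5_witness hm
  refine not_maximal_of_overgroup hH C (fun x hx => (sug_conj hCgu hx).1) (m5_le hm) (m5_ne hm) hmem hgM fun hbad => ?_
  obtain ⟨a, Γ, hv⟩ := hstd _ (hle hbad)
  rw [show C⁻¹ * (C * g * C⁻¹) * C = g by group, hgv] at hv
  have ha0 : a ≠ 0 := fun h => by
    rw [h, zero_smul, ← hgv] at hv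
    exact g.ne_zero hv
  obtain ⟨c, hc, hca⟩ := hm.exists_code a⁻¹
  obtain ⟨n, hn, hne⟩ := witness5.1 c hc fun h => inv_ne_zero ha0 (by rw [← hca, h, hm.phi_zero])
  have hreal : ∀ i j, ∃ k : ℕ, k < 5 ∧ phi 5 s c * toMat 5 s (gens5.getD 7 (SU3Tables.one 5)) i j = ((k : ℕ) : F) := by
    intro i j
    obtain ⟨k, hk, hk'⟩ := hnat _ (Γ i j).2
    refine ⟨k, hk, ?_⟩
    rw [hv, Matrix.smul_apply, smul_eq_mul, hca, ← mul_assoc, inv_mul_cancel₀ ha0, one_mul, hk']
    rfl
  generalize gens5.getD 7 (SU3Tables.one 5) = A at hv hn hreal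
  have fin : ∀ (m : ℕ), (∃ k : ℕ, k < 5 ∧ phi 5 s c * phi 5 s m = ((k : ℕ) : F)) → SU3Tables.mul 5 c m % 5 = 0 := by
    rintro m ⟨k, hk, h⟩
    rw [hm.phi_inj (hm.mul_lt c m) (show 5 * k < 5 * 5 by omega) (by rw [hm.phi_mul, h, phi_real hm]),
      Nat.mul_mod_right]
  simp only [List.mem_cons, List.not_mem_nil, or_false] at hn
  rcases hn with rfl | rfl | rfl | rfl | rfl | rfl | rfl | rfl | rfl
  · exact hne (fin _ (hreal 0 0))
  · exact hne (fin _ (hreal 0 1))
  · exact hne (fin _ (hreal 0 2))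
  · exact hne (fin _ (hreal 1 0))
  · exact hne (fin _ (hreal 1 1))
  · exact hne (fin _ (hreal 1 2))
  · exact hne (fin _ (hreal 2 0))
  · exact hne (fin _ (hreal 2 1))
  · exact hne (fin _ (hreal 2 2))

end CfsgLib.Geo.Asch.SU3Small
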