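import Mathlib
import Cfsg.Agent.Lib.Geo.AschSU3Real
import Cfsg.Agent.Lib.Geo.AschPrime

/-! In SU3(5) the normaliser of an extraspecial group of order 27 lies in 3.M10. -/

set_option autoImplicit false
set_option linter.unusedSectionVars false
set_option maxHeartbeats 1000000

namespace CfsgLib.Geo.Asch.SU3Small

open Cfsg Cfsg.Geo Matrix CfsgLib.GeomClasses SU3Tables
open scoped MatrixGroups

variable {F : Type*} [Field F] [Fintype F] {s : F} (hm : Model 5 s)
include hm

/-- Over 25 elements the normaliser of a group of symplectic type is not maximal. -/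
theorem extra_false {H N : Subgroup (GL (Fin 3) F)} (hH : IsMaximalIn (SUg F 5) H) (hN : PrimeType N)
    (hNΩ : N ≤ SUg F 5) (hle : H ≤ subgroupNormalizer N) : False := by
  classical
  have h3 : Nat.Prime 3 := by norm_num
  have hodd : Odd 3 := by decide
  set f := Cfsg.hermForm 3 F 5 with hfdef
  have hf : IsUnitaryForm (UnitPow.conj hm.card) f := UnitPow.isUnitaryForm_hermForm hm.card 3
  set w := phi 5 s om with hw
  have hw3 : w * (w * w) = 1 := by
    rw [hw, ← hm.phi_mul, ← hm.phi_mul, om_spec.1, hm.phi_one]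
  have hw1 : w ≠ 1 := fun h => om_spec.2.1 (hm.phi_inj (by decide) (by norm_num) (h.trans hm.phi_one.symm))
  have hw0 : w ≠ 0 := fun h => by simp [h] at hw3
  -- a pair of generators
  obtain ⟨x, hx, hxs, y, hy, hyx⟩ : ∃ x ∈ N, x ∉ scalars (Fin 3) F ∧ ∃ y ∈ N,
      ((y * x * y⁻¹ : GL (Fin 3) F) : Matrix (Fin 3) (Fin 3) F) = w • (x : Matrix (Fin 3) (Fin 3) F) := by
    obtain ⟨x, hx, hxs⟩ := hN.exists_nonscalar h3
    obtain ⟨y, hy, t, ht1, -, ht3, he⟩ := hN.exists_comm hx hxs
    rcases cube_roots hm ht3 with rfl | rfl | rfl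
    · exact absurd rfl ht1
    · exact ⟨x, hx, hxs, y, hy, he⟩
    · refine ⟨x * x, mul_mem hx hx, fun h => hxs ?_, y, hy, ?_⟩
      · rw [show x = x ^ 3 * (x * x)⁻¹ by rw [pow_succ, pow_two]; group, hN.pow_eq_one h3 hodd hx]
        exact mul_mem (one_mem _) (inv_mem h)
      · rw [show y * (x * x) * y⁻¹ = y * x * y⁻¹ * (y * x * y⁻¹) by group, Units.val_mul (y * x * y⁻¹), he,
          Matrix.smul_mul, Matrix.mul_smul, smul_smul, Units.val_mul x x, ← hw]
        congr 1
        linear_combination w * hw3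
  obtain ⟨v, hv0, hxv⟩ : ∃ v : Fin 3 → F, v ≠ 0 ∧ (x : Matrix (Fin 3) (Fin 3) F) *ᵥ v = v := by
    have h : (Matrix.scalar (Fin 3) (1 : F) - (x : Matrix (Fin 3) (Fin 3) F)).det = 0 := by
      rw [← Matrix.eval_charpoly, hN.charpoly_eq h3 hodd hx hxs]; simp
    obtain ⟨v, hv0, hv⟩ := Matrix.exists_mulVec_eq_zero_iff.2 h
    rw [Matrix.sub_mulVec, map_one, Matrix.one_mulVec, sub_eq_zero] at hv
    exact ⟨v, hv0, hv.symm⟩
  have hxy : ∀ u, (x : Matrix (Fin 3) (Fin 3) F) *ᵥ ((y : Matrix (Fin 3) (Fin 3) F) *ᵥ u) =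
      (w * w) • ((y : Matrix (Fin 3) (Fin 3) F) *ᵥ ((x : Matrix (Fin 3) (Fin 3) F) *ᵥ u)) := by
    intro u
    have h1 : (y : Matrix (Fin 3) (Fin 3) F) *ᵥ ((x : Matrix (Fin 3) (Fin 3) F) *ᵥ u) =
        w • ((x : Matrix (Fin 3) (Fin 3) F) *ᵥ ((y : Matrix (Fin 3) (Fin 3) F) *ᵥ u)) := by
      rw [← Matrix.smul_mulVec, ← hyx, Matrix.mulVec_mulVec, Matrix.mulVec_mulVec, ← Units.val_mul, ← Units.val_mul,
        inv_mul_cancel_right]
    rw [h1, smul_smul, mul_assoc, mul_comm, mul_assoc, hw3, one_smul]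
  let V : Fin 3 → Fin 3 → F := ![v, (y : Matrix (Fin 3) (Fin 3) F) *ᵥ v,
    (y : Matrix (Fin 3) (Fin 3) F) *ᵥ ((y : Matrix (Fin 3) (Fin 3) F) *ᵥ v)]
  let χ : Fin 3 → F := ![1, w * w, w]
  have hVx : ∀ i, (x : Matrix (Fin 3) (Fin 3) F) *ᵥ V i = χ i • V i := by
    intro i
    fin_cases i
    · simp [V, χ, hxv]
    · simp only [V, χ, Fin.mk_one, Matrix.cons_val_one, Matrix.cons_val_zero]
      rw [hxy, hxv]
    · simp only [V, χ, Fin.reduceFinMk, Matrix.cons_val]
      rw [hxy, hxy, hxv, Matrix.mulVec_smul, smul_smul, show w * w * (w * w) = w by linear_combination w * hw3]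
  have hy3 : ∀ u, (y : Matrix (Fin 3) (Fin 3) F) *ᵥ ((y : Matrix (Fin 3) (Fin 3) F) *ᵥ
      ((y : Matrix (Fin 3) (Fin 3) F) *ᵥ u)) = u := by
    intro u
    rw [Matrix.mulVec_mulVec, Matrix.mulVec_mulVec, ← Units.val_mul, ← Units.val_mul,
      show y * y * y = y ^ 3 by simp only [pow_succ, pow_zero, one_mul], hN.pow_eq_one h3 hodd hy, Units.val_one,
      Matrix.one_mulVec]
  have hiso : ∀ g ∈ N, ∀ a b, f ((g : Matrix (Fin 3) (Fin 3) F) *ᵥ a) ((g : Matrix (Fin 3) (Fin 3) F) *ᵥ b) = f a b :=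
    fun g hg => UnitPow.mem_GU.1 (hNΩ hg).1
  have hσw : UnitPow.conj hm.card w = w * w := by
    rw [UnitPow.conj_apply]
    linear_combination (w * w) * hw3
  have hσ : ∀ j, UnitPow.conj hm.card (χ j) = ![1, w, w * w] j := by
    intro j
    fin_cases j <;>
      simp only [χ, Fin.zero_eta, Fin.mk_one, Fin.reduceFinMk, Matrix.cons_val_zero, Matrix.cons_val_one,
        Matrix.cons_val, map_one, map_mul, hσw]
    linear_combination w * hw3
  have hσχ : ∀ i j, i ≠ j → χ i * UnitPow.conj hm.card (χ j) ≠ 1 := by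
    intro i j hij h
    have hww : w * w ≠ 1 := fun h2 => hw1 (by linear_combination hw3 - w * h2)
    rw [hσ] at h
    fin_cases i <;> fin_cases j <;>
      simp only [χ, Fin.zero_eta, Fin.mk_one, Fin.reduceFinMk, Matrix.cons_val_zero, Matrix.cons_val_one,
        Matrix.cons_val] at hij h
    all_goals first
      | exact hij rfl
      | exact hw1 (by linear_combination h)
      | exact hww (by linear_combination h)
      | exact hw1 (by linear_combination h - w * hw3)
  have horth : ∀ i j, i ≠ j → f (V i) (V j) = 0 := by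
    intro i j hij
    have h := hiso x hx (V i) (V j)
    rw [hVx, hVx, Unit.smul_left hf, Unit.smul_right hf, ← mul_assoc] at h
    by_contra hne
    exact hσχ i j hij (mul_right_cancel₀ hne (h.trans (one_mul _).symm))
  have hVV : ∀ i, f (V i) (V i) = f v v := by
    intro i
    fin_cases i
    · rfl
    · exact hiso y hy v v
    · exact (hiso y hy _ _).trans (hiso y hy v v)
  have hfv : f v v ≠ 0 := by
    intro h0
    obtain ⟨u, hu⟩ := (hf.nondegenerate v hv0).2
    apply hu
    have hli : LinearIndependent F V := Module.End.eigenvectors_linearIndependent'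
      (Matrix.toLin' (x : Matrix (Fin 3) (Fin 3) F)) χ (fun i j hij => by
        by_contra hne
        have hww : w * w ≠ 1 := fun h2 => hw1 (by linear_combination hw3 - w * h2)
        have hw2 : w * w ≠ w := fun h2 => hw1 (mul_right_cancel₀ hw0 (by rw [h2, one_mul]))
        fin_cases i <;> fin_cases j <;> simp [χ] at hne hij
        all_goals first
          | exact hw1 hij.symm
          | exact hw1 hij
          | exact hww hij.symm
          | exact hww hij
          | exact hw2 hij.symm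
          | exact hw2 hij) V (fun i => ⟨Module.End.mem_eigenspace_iff.2 (by rw [Matrix.toLin'_apply, hVx]), by
            fin_cases i <;> simp only [V, Fin.zero_eta, Fin.mk_one, Fin.reduceFinMk, Matrix.cons_val_zero,
              Matrix.cons_val_one, Matrix.cons_val] <;>
              first
              | exact hv0
              | exact gl_mulVec_ne_zero y hv0
              | exact gl_mulVec_ne_zero y (gl_mulVec_ne_zero y hv0)⟩)
    let bb := basisOfLinearIndependentOfCardEqFinrank hli (by simp)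
    have hbb : ∀ i, bb i = V i := fun i => by simp [bb]
    rw [← bb.sum_repr u, Fin.sum_univ_three, Unit.add_right hf, Unit.add_right hf, Unit.smul_right hf,
      Unit.smul_right hf, Unit.smul_right hf, hbb, hbb, hbb]
    have e1 : f v (V 1) = 0 := horth 0 1 (by decide)
    have e2 : f v (V 2) = 0 := horth 0 2 (by decide)
    have e0 : f v (V 0) = 0 := h0
    rw [e0, e1, e2]
    ring
  obtain ⟨l, hl⟩ := Unit.exists_norm hf.ne_refl hf.involutive
    (show UnitPow.conj hm.card (f v v)⁻¹ = (f v v)⁻¹ by rw [map_inv₀, Unit.self_fixed hf])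
  obtain ⟨c, hc, hcol⟩ := exists_frame hm.card (fun i => l • V i) fun i j => by
    rw [← hfdef, Unit.smul_left hf, Unit.smul_right hf, ← mul_assoc, hl]
    by_cases h : i = j
    · subst h; rw [if_pos rfl, hVV, inv_mul_cancel₀ hfv]
    · rw [if_neg h, horth i j h, mul_zero]
  -- standard generators
  obtain ⟨hX0, hY0⟩ : (toMat 5 s (gens10.getD 0 (SU3Tables.one 5)) = Matrix.diagonal χ) ∧
      (toMat 5 s (gens10.getD 1 (SU3Tables.one 5)) = !![0, 0, 1; 1, 0, 0; 0, 1, 0]) := by
    rw [om_spec.2.2.2.2.1, om_spec.2.2.2.2.2.1]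
    constructor
    · ext i j
      fin_cases i <;> fin_cases j <;> simp [toMat, toVec, χ, hm.phi_mul, hm.phi_one, hm.phi_zero, ← hw]
    · rw [mat_monMat hm]
      ext i j
      fin_cases i <;> fin_cases j <;> simp [hm.phi_one]
  have hcx : ((c⁻¹ * x * c : GL (Fin 3) F) : Matrix (Fin 3) (Fin 3) F) = toMat 5 s (gens10.getD 0 (SU3Tables.one 5)) := by
    refine Matrix.ext_of_mulVec_single fun j => ?_
    rw [Units.val_mul, Units.val_mul, ← Matrix.mulVec_mulVec, ← Matrix.mulVec_mulVec, hcol, Matrix.mulVec_smul, hVx,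
      smul_comm, ← hcol, Matrix.mulVec_smul, gl_inv_mulVec_mulVec, hX0, Matrix.diagonal_mulVec_single, mul_one]
    funext i
    by_cases h : i = j <;> simp [h]
  have hcy : ((c⁻¹ * y * c : GL (Fin 3) F) : Matrix (Fin 3) (Fin 3) F) = toMat 5 s (gens10.getD 1 (SU3Tables.one 5)) := by
    refine Matrix.ext_of_mulVec_single fun j => ?_
    have hnext : (y : Matrix (Fin 3) (Fin 3) F) *ᵥ V j = V (j + 1) := by
      fin_cases j
      · rfl
      · rfl
      · exact hy3 v
    rw [Units.val_mul, Units.val_mul, ← Matrix.mulVec_mulVec, ← Matrix.mulVec_mulVec, hcol, Matrix.mulVec_smul, hnext,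
      ← hcol, gl_inv_mulVec_mulVec, hY0, Matrix.mulVec_single_one]
    funext i
    fin_cases i <;> fin_cases j <;> simp
  obtain ⟨z, hz⟩ : ∃ z : GL (Fin 3) F, z = c⁻¹ * (y * x * y⁻¹ * x⁻¹) * c := ⟨_, rfl⟩
  have hzv : (z : Matrix (Fin 3) (Fin 3) F) = toMat 5 s (gens10.getD 2 (SU3Tables.one 5)) := by
    rw [om_spec.2.2.2.1, hm.smat, hm.mat_one, hz, Units.val_mul, Units.val_mul, Units.val_mul, hyx, Matrix.smul_mul,
      ← Units.val_mul x, mul_inv_cancel, Units.val_one, Matrix.mul_smul, mul_one, Matrix.smul_mul, ← Units.val_mul,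
      inv_mul_cancel, Units.val_one]
  set N' := N.map (MulAut.conj c⁻¹).toMonoidHom with hN'
  have hin : ∀ g, g ∈ N' ↔ c * g * c⁻¹ ∈ N := by
    intro g
    rw [hN', Subgroup.mem_map]
    constructor
    · rintro ⟨n, hn, rfl⟩
      simpa [mul_assoc] using hn
    · intro h
      exact ⟨_, h, by simp [mul_assoc]⟩
  have hgen : ∀ k, ∃ g ∈ N', k < 3 → (g : Matrix (Fin 3) (Fin 3) F) = toMat 5 s (gens10.getD k (SU3Tables.one 5)) := by
    intro k
    by_cases hk : k < 3
    · interval_cases k
      · exact ⟨_, (hin _).2 (by simpa [mul_assoc] using hx), fun _ => hcx⟩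
      · exact ⟨_, (hin _).2 (by simpa [mul_assoc] using hy), fun _ => hcy⟩
      · refine ⟨z, (hin _).2 ?_, fun _ => hzv⟩
        rw [hz, show c * (c⁻¹ * (y * x * y⁻¹ * x⁻¹) * c) * c⁻¹ = y * x * y⁻¹ * x⁻¹ by group]
        exact mul_mem (mul_mem (mul_mem hy hx) (inv_mem hy)) (inv_mem hx)
    · exact ⟨1, one_mem _, fun h => absurd h hk⟩
  have hwordN : ∀ l : List ℕ, (∀ k ∈ l, k < 3) → ∃ g ∈ N', (g : Matrix (Fin 3) (Fin 3) F) = toMat 5 s (word 5 gens10 l) := by
    intro l hl
    induction l with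
    | nil => exact ⟨1, one_mem _, by rw [SU3Tables.word, hm.mat_one, Units.val_one]⟩
    | cons k l ih =>
      obtain ⟨g, hg, hgv⟩ := ih fun i hi => hl i (List.mem_cons_of_mem _ hi)
      obtain ⟨a, ha, hav⟩ := hgen k
      exact ⟨a * g, mul_mem ha hg, by rw [Units.val_mul, hav (hl k (by simp)), hgv, SU3Tables.word, hm.mmul]⟩
  have hmemR : ∀ g ∈ N', ∃ A ∈ extraR, (g : Matrix (Fin 3) (Fin 3) F) = toMat 5 s A := by
    have hall : ∀ i : Fin 27, ∃ g ∈ N', (g : Matrix (Fin 3) (Fin 3) F) = toMat 5 s (extraR.getD i (SU3Tables.one 5)) := by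
      intro i
      obtain ⟨g, hg, hgv⟩ := hwordN (List.replicate (i / 9) 2 ++ List.replicate (i / 3 % 3) 0 ++ List.replicate (i % 3) 1)
        (fun k hk => by
          simp only [List.mem_append, List.mem_replicate] at hk
          omega)
      refine ⟨g, hg, ?_⟩
      have h := extraR_gen.2.2 ((i : ℕ) / 9) (by omega) ((i : ℕ) / 3 % 3) (by omega) ((i : ℕ) % 3) (by omega)
      rw [show 9 * ((i : ℕ) / 9) + 3 * ((i : ℕ) / 3 % 3) + (i : ℕ) % 3 = i by omega] at h
      rw [hgv, h]
    choose φ hφN hφv using hall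
    have hrange : ∀ A ∈ extraR, InRange 5 A := by decide +kernel
    have hlen := extraR_gen.1
    have hinj : Function.Injective (fun i => (⟨φ i, hφN i⟩ : N')) := by
      intro i j hij
      have h1 : toMat 5 s (extraR.getD i (SU3Tables.one 5)) = toMat 5 s (extraR.getD j (SU3Tables.one 5)) := by
        rw [← hφv, ← hφv, show φ i = φ j from congrArg Subtype.val hij]
      have hi : (i : ℕ) < extraR.length := by rw [hlen]; exact i.2
      have hj : (j : ℕ) < extraR.length := by rw [hlen]; exact j.2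
      rw [List.getD_eq_getElem _ _ hi, List.getD_eq_getElem _ _ hj] at h1
      exact Fin.ext ((extraR_gen.2.1.getElem_inj_iff).1
        (hm.mat_inj (hrange _ (List.getElem_mem hi)) (hrange _ (List.getElem_mem hj)) h1))
    have hcard : Nat.card N' = 27 := by
      rw [hN', Subgroup.card_map_of_injective (MulEquiv.injective _), hN.card_eq h3]
      norm_num
    have hsurj := (hinj.bijective_of_nat_card_le (by rw [hcard, Nat.card_eq_fintype_card, Fintype.card_fin])).2
    intro g hg
    obtain ⟨i, hi⟩ := hsurj ⟨g, hg⟩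
    have hi' : (i : ℕ) < extraR.length := by rw [hlen]; exact i.2
    refine ⟨_, List.getElem_mem hi', ?_⟩
    rw [← List.getD_eq_getElem _ (SU3Tables.one 5) hi', ← hφv, show φ i = g from congrArg Subtype.val hi]
  have hrange : ∀ A ∈ extraR, InRange 5 A := by decide +kernel
  have hM := gen_le hm gens10_su
  -- normalising elements lie in 3.M10
  have hnorm : ∀ h ∈ H, c⁻¹ * h * c ∈ Gen 5 s gens10 := by
    intro h hh
    set g := c⁻¹ * h * c with hg
    have hgΩ := (sug_conj hc (hH.1.le hh)).2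
    have hconj : ∀ n ∈ N', g * n * g⁻¹ ∈ N' := by
      intro n hn
      rw [hin] at hn ⊢
      have := (Subgroup.mem_normalizer_iff.1 (hle hh) _).1 hn
      convert this using 1
      rw [hg]; group
    obtain ⟨X, hX, hXv⟩ := hgen 0
    obtain ⟨Y, hY, hYv⟩ := hgen 1
    replace hXv := hXv (by norm_num)
    replace hYv := hYv (by norm_num)
    obtain ⟨A, hA, hAv⟩ := hmemR _ (hconj X hX)
    obtain ⟨B, hB, hBv⟩ := hmemR _ (hconj Y hY)
    have hXYrel : (Y : Matrix (Fin 3) (Fin 3) F) * (X : Matrix (Fin 3) (Fin 3) F) =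
        w • ((X : Matrix (Fin 3) (Fin 3) F) * (Y : Matrix (Fin 3) (Fin 3) F)) := by
      rw [hXv, hYv, hX0, hY0]
      ext i j
      fin_cases i <;> fin_cases j <;> simp [χ, Matrix.mul_apply, Fin.sum_univ_three, hw3, mul_assoc]
    have hgood : (A, B) ∈ goodPairs := by
      simp only [goodPairs, List.mem_filter, List.mem_flatMap, List.mem_map, beq_iff_eq]
      refine ⟨⟨A, hA, B, hB, rfl⟩, hm.mat_inj (hm.mmul_range _ _) ?_ ?_⟩
      · intro i hi
        simp only [SU3Tables.smat, SU3Tables.scl, List.mem_cons, List.not_mem_nil, or_false] at hi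
        rcases hi with rfl | rfl | rfl | rfl | rfl | rfl | rfl | rfl | rfl <;> exact hm.mul_lt _ _
      · rw [hm.mmul, hm.smat, hm.mmul, ← hAv, ← hBv, ← Units.val_mul, ← Units.val_mul,
          show g * Y * g⁻¹ * (g * X * g⁻¹) = g * (Y * X) * g⁻¹ by group,
          show g * X * g⁻¹ * (g * Y * g⁻¹) = g * (X * Y) * g⁻¹ by group]
        simp only [Units.val_mul]
        rw [hXYrel, Matrix.mul_smul, Matrix.smul_mul, ← hw]
    obtain ⟨n, hn, hnP⟩ := List.getElem_of_mem hgood
    have hn2 : n < intertwiners.length := goodPairs_length ▸ hn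
    have hnz : n < (goodPairs.zip intertwiners).length := by simp [List.length_zip, hn, hn2]
    have hT := intertwine _ (List.getElem_mem hnz)
    rw [List.getElem_zip, hnP] at hT
    obtain ⟨hT1, hT2, hT3, hT4⟩ := hT
    revert hT1 hT2 hT3 hT4
    generalize (intertwiners[n]'hn2) = P
    intro hT1 hT2 hT3 hT4
    set T := toMat 5 s P.1 with hTdef
    replace hT1 : toMat 5 s (SU3Tables.adj 5 P.1) * T = 1 := by rw [hTdef, ← hm.mmul, hT1, hm.mat_one]
    have hgX : (g : Matrix (Fin 3) (Fin 3) F) * X = toMat 5 s A * g := by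
      rw [← hAv, ← Units.val_mul, ← Units.val_mul]; congr 1; group
    have hgY : (g : Matrix (Fin 3) (Fin 3) F) * Y = toMat 5 s B * g := by
      rw [← hBv, ← Units.val_mul, ← Units.val_mul]; congr 1; group
    have hTX : T * (X : Matrix (Fin 3) (Fin 3) F) = toMat 5 s A * T := by
      rw [hXv, hTdef, ← hm.mmul, ← hm.mmul, hT2]
    have hTY : T * (Y : Matrix (Fin 3) (Fin 3) F) = toMat 5 s B * T := by
      rw [hYv, hTdef, ← hm.mmul, ← hm.mmul, hT3]
    set U := toMat 5 s (SU3Tables.adj 5 P.1) with hUdef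
    have hT1' : T * U = 1 := mul_eq_one_comm.1 hT1
    set K := U * (g : Matrix (Fin 3) (Fin 3) F) with hK
    have hKc : ∀ (Z Z' : Matrix (Fin 3) (Fin 3) F), (g : Matrix (Fin 3) (Fin 3) F) * Z = Z' * g → T * Z = Z' * T →
        K * Z = Z * K := by
      intro Z Z' h1 h2
      calc K * Z = U * ((g : Matrix (Fin 3) (Fin 3) F) * Z) := Matrix.mul_assoc _ _ _
        _ = U * (Z' * g) := by rw [h1]
        _ = U * (Z' * (T * U) * g) := by rw [hT1', mul_one]
        _ = U * ((Z' * T) * U * g) := by simp only [Matrix.mul_assoc]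
        _ = (U * T) * Z * K := by rw [← h2, hK]; simp only [Matrix.mul_assoc]
        _ = Z * K := by rw [hT1, one_mul]
    have hKX := hKc _ _ hgX hTX
    have hKY := hKc _ _ hgY hTY
    rw [hXv, hX0] at hKX
    rw [hYv, hY0] at hKY
    have hoff : ∀ i j, i ≠ j → K i j = 0 := by
      intro i j hij
      have h1 := congrFun (congrFun hKX i) j
      rw [Matrix.mul_diagonal, Matrix.diagonal_mul] at h1
      by_contra hne
      have h2 : χ j = χ i := mul_left_cancel₀ hne (by rw [h1, mul_comm])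
      have hc2 : ∀ i, χ i * UnitPow.conj hm.card (χ i) = 1 := fun i => by
        rw [hσ]; fin_cases i <;> simp [χ] <;> linear_combination hw3
      exact hσχ j i (Ne.symm hij) (by rw [h2]; exact hc2 i)
    have hK0 : K = K 0 0 • 1 := by
      have e1 := congrFun (congrFun hKY 1) 0
      have e2 := congrFun (congrFun hKY 2) 1
      simp [Matrix.mul_apply, Fin.sum_univ_three, hoff 1 0 (by decide), hoff 1 2 (by decide), hoff 2 0 (by decide),
        hoff 2 1 (by decide), hoff 0 1 (by decide), hoff 0 2 (by decide)] at e1 e2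
      ext i j
      fin_cases i <;> fin_cases j <;> simp [hoff, e1, e2]
    set a := K 0 0 with hadef
    have hga : (g : Matrix (Fin 3) (Fin 3) F) = a • T := by
      calc (g : Matrix (Fin 3) (Fin 3) F) = T * U * (g : Matrix (Fin 3) (Fin 3) F) := by rw [hT1', one_mul]
        _ = T * K := by rw [hK, Matrix.mul_assoc]
        _ = a • T := by rw [hK0, Matrix.mul_smul, mul_one]
    have ha5 : a * a ^ 5 = 1 := by
      have h1 := (gu_iff hm.card g).1 hgΩ.1
      rw [hga, Matrix.transpose_smul, show (a • Tᵀ).map (fun x => x ^ 5) = a ^ 5 • Tᵀ.map (fun x => x ^ 5) by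
          ext i j; simp [mul_pow], Matrix.smul_mul, Matrix.mul_smul, smul_smul, ← hm.adj, hT1] at h1
      have h2 := congrFun (congrFun h1 0) 0
      simp at h2
      linear_combination h2
    have hdet : a ^ 3 * T.det = 1 := by
      have h1 := congrArg Units.val (show Matrix.GeneralLinearGroup.det g = 1 from hgΩ.2)
      rw [Matrix.GeneralLinearGroup.val_det_apply, hga, Matrix.det_smul, Fintype.card_fin] at h1
      exact h1
    rcases hT4 with hword | hbad
    · obtain ⟨t, ht, htv⟩ := exists_word hm gens10_su P.2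
      rw [← hword, ← hTdef] at htv
      have hdt : T.det = 1 := by
        rw [← htv]
        exact congrArg Units.val (show Matrix.GeneralLinearGroup.det t = 1 from (hM ht).2)
      rw [hdt, mul_one] at hdet
      have : g * t⁻¹ ∈ Gen 5 s gens10 := scalar_mem hm gens10_su om_spec.2.2.2.1 hdet (by
        rw [Units.val_mul, hga, ← htv, Matrix.smul_mul, ← Units.val_mul, mul_inv_cancel, Units.val_one])
      simpa using mul_mem this ht
    · exfalso
      obtain ⟨i, hi, hia⟩ := norm_code hm ha5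
      refine hbad (normOne.getD i 0) ?_ (hm.phi_inj (hm.add_lt _ _) (by norm_num) ?_)
      · rw [List.getD_eq_getElem _ _ (show i < normOne.length from hi)]; exact List.getElem_mem _
      · rw [hm.det, hm.smat, Matrix.det_smul, Fintype.card_fin, hia, ← hTdef, hdet, hm.phi_one]
  obtain ⟨g, hgM, hgv⟩ := exists_word hm gens10_su [5]
  refine not_maximal_of_overgroup hH c (fun a ha => (sug_conj hc ha).1) hM
    (gen_ne hm stable10 moved10_su orbit10_moved (by decide +kernel)) hnorm hgM fun hbad => ?_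
  obtain ⟨X, hX, hXv⟩ := hgen 0
  have hmem : g * X * g⁻¹ ∈ N' := by
    rw [hin] at hX ⊢
    have := (Subgroup.mem_normalizer_iff.1 (hle hbad) _).1 hX
    convert this using 1
    group
  obtain ⟨A, hA, hAv⟩ := hmemR _ hmem
  rw [SU3Tables.word, SU3Tables.word, hm.mmul, hm.mat_one, mul_one] at hgv
  have hginv : ((g⁻¹ : GL (Fin 3) F) : Matrix (Fin 3) (Fin 3) F) = toMat 5 s (SU3Tables.adj 5 (gens10.getD 5 (SU3Tables.one 5))) := by
    have h1 : toMat 5 s (SU3Tables.adj 5 (gens10.getD 5 (SU3Tables.one 5))) * (g : Matrix (Fin 3) (Fin 3) F) = 1 := by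
      rw [hgv, hm.adj]
      have h := (gu_iff hm.card g).1 (hM hgM).1
      rw [hgv] at h
      exact h
    exact (left_inv_eq_right_inv h1 (by rw [← Units.val_mul, mul_inv_cancel, Units.val_one])).symm
  refine witness10 ?_
  convert hA using 1
  refine hm.mat_inj (hm.mmul_range _ _) (hrange A hA) ?_
  rw [hm.mmul, hm.mmul, ← hgv, ← hginv, ← hXv (by norm_num), ← hAv, ← Units.val_mul, ← Units.val_mul, mul_assoc]

end CfsgLib.Geo.Asch.SU3Small
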