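import Mathlib
import Cfsg.Agent.Lib.Geo.AschSU3Real
import Cfsg.Agent.Lib.Geo.AschPrimeIrred
import Cfsg.Agent.Lib.Geo.AschForms
import Cfsg.Agent.Lib.ClassicalGroups.HermGroup

/-! In SU3(3) and SU3(5) the normaliser of an irreducible cyclic group lies in L2(7) or 3.A7. -/

set_option autoImplicit false
set_option linter.unusedSectionVars false
set_option maxHeartbeats 1000000

namespace CfsgLib.Geo.Asch.SU3Small

open Cfsg Cfsg.Geo Matrix CfsgLib.GeomClasses SU3Tables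
open scoped MatrixGroups

variable {F : Type*} [Field F] [Fintype F] {p : ℕ} {s : F} (hm : Model p s)
include hm

theorem field_false_gen {L : List Mat} {k : ℕ} (hL : ∀ A ∈ L, IsSU p A) (hne : Gen p s L ≠ SUg F p)
    (hx1 : L.getD 0 (SU3Tables.one p) ≠ SU3Tables.one p ∧ InRange p (L.getD 0 (SU3Tables.one p)))
    (hx7 : word p L (List.replicate 7 0) = SU3Tables.one p)
    (hyx : SU3Tables.mmul p (L.getD 1 (SU3Tables.one p)) (L.getD 0 (SU3Tables.one p)) =
      SU3Tables.mmul p (word p L [0, 0]) (L.getD 1 (SU3Tables.one p)))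
    (hz : ∀ i < 7, SU3Tables.mmul p (L.getD k (SU3Tables.one p))
      (SU3Tables.mmul p (L.getD 0 (SU3Tables.one p)) (SU3Tables.adj p (L.getD k (SU3Tables.one p)))) ≠
        word p L (List.replicate i 0))
    (htr : ∀ i < 7, add p (add p (word p L (List.replicate i 0)).1.1 (word p L (List.replicate i 0)).2.1.2.1)
        (word p L (List.replicate i 0)).2.2.2.2 =
      add p (add p (L.getD 0 (SU3Tables.one p)).1.1 (L.getD 0 (SU3Tables.one p)).2.1.2.1)
        (L.getD 0 (SU3Tables.one p)).2.2.2.2 → i = 1 ∨ i = 2 ∨ i = 4)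
    (hscal : ∀ (g : GL (Fin 3) F) (a : F), a ^ 3 = 1 → (g : Matrix (Fin 3) (Fin 3) F) = a • 1 → g ∈ Gen p s L)
    {H N : Subgroup (GL (Fin 3) F)} (hH : IsMaximalIn (SUg F p) H) (hNH : N ≤ H)
    (hinv : ∀ g ∈ H, ∀ x ∈ N, g * x * g⁻¹ ∈ N) (hns : ¬ N ≤ scalars (Fin 3) F)
    (hirr : ActsIrreducibly (matrixSet N)) (hab : ∀ x ∈ N, ∀ y ∈ N, x * y = y * x) : False := by
  classical
  set Ω := SUg F p with hΩ
  set M := Gen p s L with hM
  have hMΩ : M ≤ Ω := gen_le hm hL
  obtain ⟨x₀, hxM, hxv⟩ := exists_word hm hL [0]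
  obtain ⟨y₀, hyM, hyv⟩ := exists_word hm hL [1]
  obtain ⟨z₀, hzM, hzv⟩ := exists_word hm hL [k]
  simp only [SU3Tables.word, hm.mmul, hm.mat_one, mul_one] at hxv hyv hzv
  have hxΩ := hMΩ hxM
  have hyΩ := hMΩ hyM
  have hx0pow : ∀ i : ℕ, ((x₀ ^ i : GL (Fin 3) F) : Matrix (Fin 3) (Fin 3) F) = toMat p s (word p L (List.replicate i 0)) := by
    intro i
    induction i with
    | zero => rw [pow_zero, Units.val_one, List.replicate_zero, SU3Tables.word, hm.mat_one]
    | succ i ih => rw [pow_succ', Units.val_mul, ih, List.replicate_succ, SU3Tables.word, hm.mmul, hxv]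
  have hp2 := hm.prime.two_le
  have hrange1 : InRange p (SU3Tables.one p) := by
    intro i hi
    simp only [SU3Tables.one, List.mem_cons, List.not_mem_nil, or_false] at hi
    rcases hi with rfl | rfl | rfl | rfl | rfl | rfl | rfl | rfl | rfl <;> nlinarith
  have hx7' : x₀ ^ 7 = 1 := Units.ext (by rw [hx0pow, hx7, hm.mat_one, Units.val_one])
  have hx01 : x₀ ≠ 1 := fun h => by
    refine hx1.1 (hm.mat_inj hx1.2 hrange1 ?_)
    rw [← hxv, h, Units.val_one, hm.mat_one]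
  haveI : Fact (Nat.Prime 7) := ⟨by norm_num⟩
  -- orders
  have hF : Fintype.card F = p ^ 2 := hm.card
  have hcardΩ : Nat.card Ω ∣ p ^ 3 * ((p + 1) * ((p ^ 2 - 1) * (p ^ 3 + 1))) := by
    have h := CfsgLib.ClassicalGroups.card_GU hF 3
    simp [Finset.prod_range_succ, Nat.even_iff, -Nat.card_eq_fintype_card] at h
    have hd : Nat.card Ω ∣ Nat.card (Cfsg.GU 3 F p) := Subgroup.card_dvd_of_le inf_le_left
    rw [h] at hd
    refine hd.trans (dvd_of_eq ?_)
    ring
  have hK : IsFieldSubalgebra 3 (algOf N) := by simpa using isFieldSubalgebra_algOf hirr hab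
  set K := algOf N with hKdef
  letI : Field K := FieldTransvection.fieldOf hK
  haveI : Finite K := Finite.of_injective Subtype.val Subtype.val_injective
  haveI : FiniteDimensional F K := Module.finite_of_finrank_pos (by rw [hK.finrank_eq]; norm_num)
  have hKcard : Nat.card K = (p ^ 2) ^ 3 := by
    rw [Module.natCard_eq_pow_finrank (K := F) (V := K), hK.finrank_eq, Nat.card_eq_fintype_card, hF]
  -- evaluation at a vector
  obtain ⟨v, hv⟩ := exists_ne (0 : Fin 3 → F)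
  let E : K →ₗ[F] (Fin 3 → F) :=
    { toFun := fun l => (l : Matrix (Fin 3) (Fin 3) F) *ᵥ v
      map_add' := fun a b => by simp [Matrix.add_mulVec]
      map_smul' := fun e a => by simp [Matrix.smul_mulVec] }
  have hE : Function.Injective E := by
    rw [injective_iff_map_eq_zero]
    intro l hl
    by_contra hl0
    obtain ⟨y, hy, hly⟩ := hK.inv _ l.2 fun h => hl0 (Subtype.ext h)
    rw [hK.comm _ l.2 _ hy] at hly
    apply hv
    rw [← Matrix.one_mulVec v, ← hly, ← Matrix.mulVec_mulVec, show (l : Matrix (Fin 3) (Fin 3) F) *ᵥ v = 0 from hl,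
      Matrix.mulVec_zero]
  let Ee : K ≃ₗ[F] (Fin 3 → F) :=
    LinearEquiv.ofBijective E ⟨hE, (LinearMap.injective_iff_surjective_of_finrank_eq_finrank
      (by rw [hK.finrank_eq, Module.finrank_fin_fun])).1 hE⟩
  have hKpow : ∀ g ∈ Ω, (g : Matrix (Fin 3) (Fin 3) F) ∈ K → g ^ 21 = 1 := by
    intro g hg hgK
    let kg : K := ⟨_, hgK⟩
    have hdet : Algebra.norm F kg = 1 := by
      rw [Algebra.norm_apply, ← LinearMap.det_conj (Algebra.lmul F K kg) Ee,
        show (Ee : K →ₗ[F] (Fin 3 → F)) ∘ₗ Algebra.lmul F K kg ∘ₗ (Ee.symm : (Fin 3 → F) →ₗ[F] K) =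
          Matrix.toLin' (g : Matrix (Fin 3) (Fin 3) F) from LinearMap.ext fun u => by
            obtain ⟨l, rfl⟩ := Ee.surjective u
            simp only [LinearMap.comp_apply, LinearEquiv.coe_coe, LinearEquiv.symm_apply_apply, Matrix.toLin'_apply]
            show ((g : Matrix (Fin 3) (Fin 3) F) * (l : Matrix (Fin 3) (Fin 3) F)) *ᵥ v = _
            exact (Matrix.mulVec_mulVec _ _ _).symm,
        LinearMap.det_toLin']
      exact congrArg Units.val (show Matrix.GeneralLinearGroup.det g = 1 from hg.2)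
    have hpow := FiniteField.algebraMap_norm_eq_pow (K := F) (x := kg)
    rw [hdet, map_one, hKcard, Nat.card_eq_fintype_card, hF] at hpow
    have hg' : g ^ (((p ^ 2) ^ 3 - 1) / (p ^ 2 - 1)) = 1 := Units.ext (by
      have h := congrArg Subtype.val hpow
      rw [SubmonoidClass.coe_pow] at h
      rw [Units.val_pow_eq_pow_val, Units.val_one]
      exact h.symm)
    have h21 := Nat.dvd_gcd (orderOf_dvd_of_pow_eq_one hg') ((Subgroup.orderOf_dvd_natCard Ω hg).trans hcardΩ)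
    refine orderOf_dvd_iff_pow_eq_one.1 (h21.trans ?_)
    rcases hm.small with rfl | rfl <;> norm_num
  -- cube roots of unity in K are scalar
  have hK3 : ∀ w : GL (Fin 3) F, (w : Matrix (Fin 3) (Fin 3) F) ∈ K → w ^ 3 = 1 →
      ∃ a : F, a ^ 3 = 1 ∧ (w : Matrix (Fin 3) (Fin 3) F) = a • 1 := by
    intro w hwK hw3
    let kw : K := ⟨_, hwK⟩
    have hkw : kw ^ 3 = 1 := Subtype.ext (by rw [SubmonoidClass.coe_pow, ← Units.val_pow_eq_pow_val, hw3]; rfl)
    obtain ⟨b, hb⟩ : ∃ b : F, kw = algebraMap F K b := by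
      rcases hm.small with rfl | rfl
      · have h3 : (3 : K) = 0 := by
          have h := congrArg (algebraMap F K) hm.zero
          rwa [map_natCast, map_zero] at h
        have h1 : (kw - 1) ^ 3 = 0 := by linear_combination hkw + (-kw ^ 2 + kw) * h3
        exact ⟨1, by rw [sub_eq_zero.1 (pow_eq_zero_iff (by norm_num) |>.1 h1), map_one]⟩
      · set w0 := phi 5 s om with hw0def
        have hw03 : w0 * (w0 * w0) = 1 := by
          rw [hw0def, ← hm.phi_mul, ← hm.phi_mul, om_spec.1, hm.phi_one]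
        have hw01 : w0 ≠ 1 := fun h => om_spec.2.1 (hm.phi_inj (by decide) (by norm_num) (h.trans hm.phi_one.symm))
        have hsum : w0 * w0 + w0 + 1 = 0 :=
          (mul_eq_zero.1 (show (w0 - 1) * (w0 * w0 + w0 + 1) = 0 by linear_combination hw03)).resolve_left
            (sub_ne_zero.2 hw01)
        have hA : algebraMap F K w0 * algebraMap F K w0 + algebraMap F K w0 + 1 = 0 := by
          rw [← map_mul, ← map_add, ← map_one (algebraMap F K), ← map_add, hsum, map_zero]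
        set A := algebraMap F K w0 with hAdef
        have hprod : (kw - 1) * ((kw - A) * (kw - A * A)) = 0 := by
          linear_combination hkw + (-kw ^ 2 + kw * A - A + 1) * hA
        rcases mul_eq_zero.1 hprod with h | h
        · exact ⟨1, by rw [sub_eq_zero.1 h, map_one]⟩
        rcases mul_eq_zero.1 h with h | h
        · exact ⟨w0, sub_eq_zero.1 h⟩
        · exact ⟨w0 * w0, by rw [sub_eq_zero.1 h, map_mul]⟩
    have hwb : (w : Matrix (Fin 3) (Fin 3) F) = b • 1 :=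
      (congrArg Subtype.val hb).trans (Algebra.algebraMap_eq_smul_one b)
    refine ⟨b, ?_, hwb⟩
    have h5 := congrArg (fun u : GL (Fin 3) F => (u : Matrix (Fin 3) (Fin 3) F) 0 0) hw3
    simpa [Units.val_pow_eq_pow_val, hwb, smul_pow] using h5
  -- an element of order seven in N
  obtain ⟨g, hgN, hg7, hg1⟩ : ∃ g ∈ N, g ^ 7 = 1 ∧ g ≠ 1 := by
    by_contra hno
    push Not at hno
    refine hns fun g hg => ?_
    have h21 := hKpow g (hH.1.le (hNH hg)) (mem_algOf hg)
    have h3 : g ^ 3 = 1 := hno _ (N.pow_mem hg 3) (by rw [← pow_mul]; exact h21)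
    obtain ⟨a, ha, hga⟩ := hK3 g (mem_algOf hg) h3
    exact (mem_scalars_iff g).2 ⟨Units.mk0 a (fun h => by simp [h] at ha), hga⟩
  -- the conjugating element
  obtain ⟨c, hcΩ, hcg⟩ : ∃ c ∈ Ω, c⁻¹ * x₀ * c ∈ Subgroup.zpowers g := by
    let gx : Ω := ⟨g, hH.1.le (hNH hgN)⟩
    let gx₀ : Ω := ⟨x₀, hxΩ⟩
    have ho : ∀ u : Ω, u ^ 7 = 1 → u ≠ 1 → ∃ S : Sylow 7 Ω, (S : Subgroup Ω) = Subgroup.zpowers u := by
      intro u hu hu1
      have hcu : Nat.card (Subgroup.zpowers u) = 7 := by rw [Nat.card_zpowers, orderOf_eq_prime hu hu1]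
      obtain ⟨S, hS⟩ := (IsPGroup.of_card (show Nat.card (Subgroup.zpowers u) = 7 ^ 1 by rw [hcu, pow_one])).exists_le_sylow
      refine ⟨S, (Subgroup.eq_of_le_of_card_ge hS ?_).symm⟩
      obtain ⟨j, hj⟩ := IsPGroup.iff_card.1 S.isPGroup'
      rw [hcu, hj]
      have hd : 7 ^ j ∣ p ^ 3 * ((p + 1) * ((p ^ 2 - 1) * (p ^ 3 + 1))) :=
        hj ▸ (Subgroup.card_subgroup_dvd_card _).trans hcardΩ
      rcases Nat.lt_or_ge j 2 with h | h
      · interval_cases j <;> norm_num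
      · exact absurd ((pow_dvd_pow 7 h).trans hd) (by rcases hm.small with rfl | rfl <;> norm_num)
    obtain ⟨S, hS⟩ := ho gx (Subtype.ext hg7) (fun h => hg1 (congrArg Subtype.val h))
    obtain ⟨S₀, hS₀⟩ := ho gx₀ (Subtype.ext hx7') (fun h => hx01 (congrArg Subtype.val h))
    obtain ⟨c, hc⟩ := MulAction.exists_smul_eq Ω S S₀
    have hmem : gx₀ ∈ ((c • S : Sylow 7 Ω) : Subgroup Ω) := by rw [hc, hS₀]; exact Subgroup.mem_zpowers _
    rw [Sylow.coe_subgroup_smul, Subgroup.mem_pointwise_smul_iff_inv_smul_mem, hS] at hmem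
    refine ⟨c, c.2, ?_⟩
    obtain ⟨i, hi⟩ := Subgroup.mem_zpowers_iff.1 hmem
    refine Subgroup.mem_zpowers_iff.2 ⟨i, ?_⟩
    have h1 := congrArg Subtype.val hi
    simpa [gx, gx₀, MulAut.conj_apply, mul_assoc] using h1
  set x' := c⁻¹ * x₀ * c with hx'
  have hx'N : x' ∈ N := (Subgroup.zpowers_le.2 hgN) hcg
  have hconj : ∀ i : ℕ, x₀ ^ i = c * x' ^ i * c⁻¹ := fun i => by
    rw [← conj_pow, show c * x' * c⁻¹ = x₀ by rw [hx']; group]
  have hx'7 : x' ^ 7 = 1 := by
    rw [hx', show c⁻¹ * x₀ * c = c⁻¹ * x₀ * (c⁻¹)⁻¹ by rw [inv_inv], conj_pow, hx7']; group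
  have hx'1 : x' ≠ 1 := fun h => hx01 (by rw [← pow_one x₀, hconj, pow_one, h]; group)
  let kx : K := ⟨_, mem_algOf hx'N⟩
  have hprim : IsPrimitiveRoot kx 7 := by
    have h7 : kx ^ 7 = 1 := Subtype.ext (by
      rw [SubmonoidClass.coe_pow, ← Units.val_pow_eq_pow_val, hx'7]; rfl)
    rw [← orderOf_eq_prime h7 fun h => hx'1 (Units.ext (congrArg Subtype.val h))]
    exact IsPrimitiveRoot.orderOf _
  have hroots : ∀ u : GL (Fin 3) F, (u : Matrix (Fin 3) (Fin 3) F) ∈ K → u ^ 7 = 1 → ∃ i, i < 7 ∧ u = x' ^ i := by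
    intro u huK hu7
    obtain ⟨i, hi, hiu⟩ := hprim.eq_pow_of_pow_eq_one (ξ := ⟨_, huK⟩) (Subtype.ext (by
      rw [SubmonoidClass.coe_pow, ← Units.val_pow_eq_pow_val, hu7]; rfl))
    refine ⟨i, hi, Units.ext ?_⟩
    have h := congrArg Subtype.val hiu
    rw [Units.val_pow_eq_pow_val]
    simpa [kx] using h.symm
  have hstep : ∀ j : ℕ, y₀ ^ j * x₀ * (y₀ ^ j)⁻¹ = x₀ ^ (2 ^ j) := by
    have h1 : y₀ * x₀ * y₀⁻¹ = x₀ ^ 2 := by
      rw [mul_inv_eq_iff_eq_mul]
      refine Units.ext ?_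
      rw [Units.val_mul, Units.val_mul, hyv, hxv, hx0pow 2, ← hm.mmul, hyx, hm.mmul]
      rfl
    intro j
    induction j with
    | zero => simp
    | succ j ih =>
      rw [pow_succ' (2 : ℕ) j, pow_mul, ← h1, conj_pow, ← ih]
      group
  -- conjugates of x₀ by the normaliser
  have himage : ∀ h ∈ H, ∃ i, i < 7 ∧ (c * h * c⁻¹) * x₀ * (c * h * c⁻¹)⁻¹ = x₀ ^ i := by
    intro h hh
    have h7 : (h * x' * h⁻¹) ^ 7 = 1 := by rw [conj_pow, hx'7]; group
    obtain ⟨i, hi, hix⟩ := hroots _ (mem_algOf (hinv h hh x' hx'N)) h7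
    exact ⟨i, hi, by rw [hconj, ← hix, hx']; group⟩
  have hnorm : ∀ h ∈ H, c * h * c⁻¹ ∈ M := by
    intro h hh
    set k' := c * h * c⁻¹ with hk
    obtain ⟨i, hi, hki⟩ := himage h hh
    have hi3 : i = 1 ∨ i = 2 ∨ i = 4 := by
      refine htr i hi (hm.phi_inj (hm.add_lt _ _) (hm.add_lt _ _) ?_)
      have h1 : Matrix.trace ((x₀ ^ i : GL (Fin 3) F) : Matrix (Fin 3) (Fin 3) F) =
          Matrix.trace (x₀ : Matrix (Fin 3) (Fin 3) F) := by
        rw [← hki, Units.val_mul, Units.val_mul, Matrix.trace_units_conj]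
      rw [hx0pow, hxv, Matrix.trace_fin_three, Matrix.trace_fin_three] at h1
      rw [hm.phi_add, hm.phi_add, hm.phi_add, hm.phi_add]
      simpa [toMat, toVec] using h1
    obtain ⟨j, hj⟩ : ∃ j : ℕ, x₀ ^ (2 ^ j) = x₀ ^ i := by
      rcases hi3 with rfl | rfl | rfl
      · exact ⟨0, by norm_num⟩
      · exact ⟨1, by norm_num⟩
      · exact ⟨2, by norm_num⟩
    set u := (y₀ ^ j)⁻¹ * k' with hu
    have hux : u * x₀ = x₀ * u := by
      rw [← hj, ← hstep] at hki
      rw [hu, show (y₀ ^ j)⁻¹ * k' * x₀ = (y₀ ^ j)⁻¹ * (k' * x₀ * k'⁻¹) * k' by group, hki]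
      group
    have huΩ : u ∈ Ω := mul_mem (inv_mem (pow_mem hyΩ j)) (mul_mem (mul_mem hcΩ (hH.1.le hh)) (inv_mem hcΩ))
    set u' := c⁻¹ * u * c with hu'
    have hu'Ω : u' ∈ Ω := mul_mem (mul_mem (inv_mem hcΩ) huΩ) hcΩ
    have hu'x : u' * x' = x' * u' := by
      rw [hu', hx', show c⁻¹ * u * c * (c⁻¹ * x₀ * c) = c⁻¹ * (u * x₀) * c by group, hux]; group
    have hu'N : ∀ y ∈ N, u' * y = y * u' := by
      intro y hy
      have h21 := hKpow y (hH.1.le (hNH hy)) (mem_algOf hy)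
      obtain ⟨a, -, ha⟩ := hroots (y ^ 15) (by rw [Units.val_pow_eq_pow_val]; exact pow_mem (mem_algOf hy) 15)
        (by rw [← pow_mul, show 15 * 7 = 21 * 5 from rfl, pow_mul, h21, one_pow])
      obtain ⟨b, -, hb⟩ := hK3 (y ^ 7) (by rw [Units.val_pow_eq_pow_val]; exact pow_mem (mem_algOf hy) 7)
        (by rw [← pow_mul]; exact h21)
      have hy' : y = y ^ 15 * y ^ 7 := by
        rw [← pow_add, show 15 + 7 = 21 + 1 from rfl, pow_succ, h21, one_mul]
      have h1 : Commute u' (y ^ 15) := ha ▸ Commute.pow_right hu'x a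
      have h2 : Commute u' (y ^ 7) := Units.ext (by
        rw [Units.val_mul u', Units.val_mul (y ^ 7), hb, Matrix.mul_smul, Matrix.smul_mul, mul_one, one_mul])
      rw [hy']
      exact (h1.mul_right h2).eq
    have hu'K : (u' : Matrix (Fin 3) (Fin 3) F) ∈ K := by
      have hc' : ∀ l ∈ K, (u' : Matrix (Fin 3) (Fin 3) F) * l = l * u' := fun l hl =>
        (commute_algOf (by
          rintro _ ⟨y, hy, rfl⟩
          show (u' : Matrix (Fin 3) (Fin 3) F) * y = y * u'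
          rw [← Units.val_mul, hu'N y hy, Units.val_mul]) hl)
      obtain ⟨l, hl⟩ := Ee.surjective ((u' : Matrix (Fin 3) (Fin 3) F) *ᵥ v)
      suffices h : (u' : Matrix (Fin 3) (Fin 3) F) = l by rw [h]; exact l.2
      refine Matrix.ext_of_mulVec_single fun a => ?_
      obtain ⟨w, hw⟩ := Ee.surjective (Pi.single a 1)
      rw [← hw]
      show _ *ᵥ ((w : Matrix (Fin 3) (Fin 3) F) *ᵥ v) = _ *ᵥ ((w : Matrix (Fin 3) (Fin 3) F) *ᵥ v)
      rw [Matrix.mulVec_mulVec, hc' _ w.2, ← Matrix.mulVec_mulVec,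
        ← show (l : Matrix (Fin 3) (Fin 3) F) *ᵥ v = _ from hl, Matrix.mulVec_mulVec, Matrix.mulVec_mulVec,
        hK.comm _ w.2 _ l.2]
    have h21 := hKpow u' hu'Ω hu'K
    obtain ⟨a, -, ha⟩ := hroots (u' ^ 15) (by rw [Units.val_pow_eq_pow_val]; exact pow_mem hu'K 15)
      (by rw [← pow_mul, show 15 * 7 = 21 * 5 from rfl, pow_mul, h21, one_pow])
    obtain ⟨b, hb3, hb⟩ := hK3 (u' ^ 7) (by rw [Units.val_pow_eq_pow_val]; exact pow_mem hu'K 7)
      (by rw [← pow_mul]; exact h21)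
    have hu'eq : u' = u' ^ 15 * u' ^ 7 := by
      rw [← pow_add, show 15 + 7 = 21 + 1 from rfl, pow_succ, h21, one_mul]
    have hzsc : c * u' ^ 7 * c⁻¹ ∈ M := hscal _ b hb3 (by
      rw [Units.val_mul, Units.val_mul, hb, Matrix.mul_smul, mul_one, Matrix.smul_mul, ← Units.val_mul, mul_inv_cancel,
        Units.val_one])
    have hk' : k' = y₀ ^ j * (x₀ ^ a * (c * u' ^ 7 * c⁻¹)) := by
      rw [hconj, ← ha, show c * u' ^ 15 * c⁻¹ * (c * u' ^ 7 * c⁻¹) = c * (u' ^ 15 * u' ^ 7) * c⁻¹ by group, ← hu'eq,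
        hu', hu]
      group
    rw [hk']
    exact mul_mem (pow_mem hyM j) (mul_mem (pow_mem hxM a) hzsc)
  -- conclusion
  refine not_maximal_of_overgroup hH c⁻¹
    (fun x hx => mul_mem (mul_mem (inv_mem hcΩ) hx) (by rw [inv_inv]; exact hcΩ)) hMΩ hne
    (fun h hh => by rw [inv_inv]; exact hnorm h hh) hzM fun hbad => ?_
  obtain ⟨i, hi, hki⟩ := himage _ hbad
  rw [show c * (c⁻¹ * z₀ * c⁻¹⁻¹) * c⁻¹ = z₀ by group] at hki
  refine hz i hi (hm.mat_inj (hm.mmul_range _ _) ?_ ?_)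
  · cases i with
    | zero => exact hrange1
    | succ i => rw [List.replicate_succ]; exact hm.mmul_range _ _
  · have hzinv : ((z₀⁻¹ : GL (Fin 3) F) : Matrix (Fin 3) (Fin 3) F) = toMat p s (SU3Tables.adj p (L.getD k (SU3Tables.one p))) := by
      have h1 : toMat p s (SU3Tables.adj p (L.getD k (SU3Tables.one p))) * (z₀ : Matrix (Fin 3) (Fin 3) F) = 1 := by
        rw [hzv, hm.adj]
        have h := (gu_iff hm.card z₀).1 (hMΩ hzM).1
        rw [hzv] at h
        exact h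
      exact (left_inv_eq_right_inv h1 (by rw [← Units.val_mul, mul_inv_cancel, Units.val_one])).symm
    rw [hm.mmul, hm.mmul, ← hx0pow, ← hki, Units.val_mul, Units.val_mul, hzv, hxv, hzinv, Matrix.mul_assoc]

omit hm

theorem field_false {q : ℕ} (hq : q = 3 ∨ q = 5) (hF : Fintype.card F = q ^ 2) {H N : Subgroup (GL (Fin 3) F)}
    (hH : IsMaximalIn (SUg F q) H) (hNH : N ≤ H) (hinv : ∀ g ∈ H, ∀ x ∈ N, g * x * g⁻¹ ∈ N)
    (hns : ¬ N ≤ scalars (Fin 3) F) (hirr : ActsIrreducibly (matrixSet N))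
    (hab : ∀ x ∈ N, ∀ y ∈ N, x * y = y * x) : False := by
  obtain ⟨s, hm⟩ := exists_model hq hF
  rcases hq with rfl | rfl
  · refine field_false_gen hm (k := 2) gens3_su (gen_ne hm stable3 moved3_su orbit3_moved (by decide +kernel))
      ⟨field_gens3.1, by decide +kernel⟩ field_gens3.2.1 field_gens3.2.2.1 field_gens3.2.2.2.1 field_gens3.2.2.2.2
      (fun g a ha hg => ?_) hH hNH hinv hns hirr hab
    have h0 : ((3 : ℕ) : F) = 0 := hm.zero
    push_cast at h0
    have h1 : (a - 1) ^ 3 = 0 := by linear_combination ha + (-a ^ 2 + a) * h0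
    have ha1 : a = 1 := sub_eq_zero.1 (pow_eq_zero_iff (by norm_num) |>.1 h1)
    rw [show g = 1 from Units.ext (by rw [hg, ha1, one_smul, Units.val_one])]
    exact one_mem _
  · exact field_false_gen hm (k := 7) gens5_su (gen_ne hm stable5 moved5_su orbit5_moved (by decide +kernel))
      ⟨field_gens5.1, by decide +kernel⟩ field_gens5.2.1 field_gens5.2.2.1 field_gens5.2.2.2.1 field_gens5.2.2.2.2
      (fun g a ha hg => scalar_mem hm gens5_su om_spec.2.2.1 ha hg) hH hNH hinv hns hirr hab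

end CfsgLib.Geo.Asch.SU3Small
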