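import Mathlib
import Cfsg.Prelude.Def_GeometricClasses
import Cfsg.Agent.Lib.Geo.AschSmall
import Cfsg.Agent.Lib.Geo.AschTypeRData
import Cfsg.Agent.Lib.Geo.AschLinearFull

/-! Small exceptions in degree four: plane decompositions over three elements, frames over five elements. -/

set_option autoImplicit false
set_option linter.unusedSectionVars false

namespace CfsgLib.Geo.Asch

open Cfsg Cfsg.Geo Matrix
open scoped MatrixGroups

variable {F : Type*} [Field F] [Fintype F]

theorem fin_two_prod_sign (σ : Equiv.Perm (Fin 2)) :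
    Equiv.Perm.sign ((Equiv.refl (Fin 2)).prodCongr σ : Equiv.Perm (Fin 2 × Fin 2)) = 1 := by
  revert σ; decide

/-- The determinant-one stabiliser of two planes over three elements preserves a symplectic form up to scalars. -/
theorem decomposition_le_symplectic_three (h3 : Fintype.card F = 3) {D : Fin 2 → Submodule F (Fin 4 → F)}
    (hD : IsMDecomposition 2 D) :
    ∃ f : (Fin 4 → F) → (Fin 4 → F) → F, IsSymplecticForm f ∧
      decompositionStabilizer D ⊓ specialLinear (Fin 4) F ≤ similarityGroup f := by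
  classical
  have hint : DirectSum.IsInternal D :=
    (DirectSum.isInternal_submodule_iff_iSupIndep_and_iSup_eq_top _).2 ⟨hD.indep, hD.iSup_eq_top⟩
  let b' : ∀ i, Module.Basis (Fin 2) F (D i) := fun i => Module.finBasisOfFinrankEq F (D i) (hD.finrank_eq i)
  let b : Module.Basis (Fin 2 × Fin 2) F (Fin 4 → F) :=
    (hint.collectedBasis b').reindex ((Equiv.sigmaEquivProd (Fin 2) (Fin 2)).trans (Equiv.prodComm _ _))
  have hb : ∀ j i, b (j, i) ∈ D i := fun j i => by
    rw [Module.Basis.reindex_apply]; exact hint.collectedBasis_mem b' ⟨i, j⟩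
  let co : (Fin 4 → F) → Fin 2 → Fin 2 → F := fun x i j => b.repr x (j, i)
  let f : (Fin 4 → F) → (Fin 4 → F) → F :=
    fun x y => ∑ i, (co x i 0 * co y i 1 - co x i 1 * co y i 0)
  refine ⟨f, ⟨⟨?_, ?_, ?_, ?_⟩, ?_, ?_, ?_⟩, ?_⟩
  · intro x y v
    simp only [f, co, map_add, Finsupp.add_apply, ← Finset.sum_add_distrib]
    exact Finset.sum_congr rfl fun i _ => by ring
  · intro c x v
    simp only [f, co, map_smul, Finsupp.smul_apply, smul_eq_mul, Finset.mul_sum]
    exact Finset.sum_congr rfl fun i _ => by ring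
  · intro v x y
    simp only [f, co, map_add, Finsupp.add_apply, ← Finset.sum_add_distrib]
    exact Finset.sum_congr rfl fun i _ => by ring
  · intro c v x
    simp only [f, co, map_smul, Finsupp.smul_apply, smul_eq_mul, Finset.mul_sum]
    exact Finset.sum_congr rfl fun i _ => by ring
  · intro v w
    simp only [f, ← Finset.sum_neg_distrib]
    exact Finset.sum_congr rfl fun i _ => by ring
  · intro v
    exact Finset.sum_eq_zero fun i _ => by ring
  · intro v hv
    obtain ⟨⟨j, i⟩, hij⟩ : ∃ p, b.repr v p ≠ 0 := by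
      by_contra hall
      push Not at hall
      exact hv (b.repr.map_eq_zero_iff.1 (Finsupp.ext hall))
    have hco : ∀ (k l m : Fin 2), co (b (k, i)) l m = if l = i ∧ m = k then 1 else 0 := by
      intro k l m
      simp [co, Finsupp.single_apply, eq_comm, and_comm]
    have hij' : co v i j ≠ 0 := hij
    constructor
    · refine ⟨b (1 - j, i), ?_⟩
      simp only [f]
      rw [Finset.sum_eq_single i (fun l _ hl => by simp [hco, hl]) (fun h => absurd (Finset.mem_univ i) h)]
      fin_cases j <;> simpa [hco] using hij'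
    · refine ⟨b (1 - j, i), ?_⟩
      simp only [f]
      rw [Finset.sum_eq_single i (fun l _ hl => by simp [hco, hl]) (fun h => absurd (Finset.mem_univ i) h)]
      fin_cases j <;> simpa [hco] using hij'
  rintro g ⟨⟨σ, hσ⟩, hdet⟩
  let M : Matrix (Fin 2 × Fin 2) (Fin 2 × Fin 2) F := LinearMap.toMatrix b b (Matrix.toLin' (g : Matrix (Fin 4) (Fin 4) F))
  have hM0 : ∀ j k l i, k ≠ σ i → M (j, k) (l, i) = 0 := by
    intro j k l i hk
    rw [show M (j, k) (l, i) = b.repr ((g : Matrix (Fin 4) (Fin 4) F) *ᵥ b (l, i)) (j, k) by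
      simp [M, LinearMap.toMatrix_apply]]
    have hmem : (g : Matrix (Fin 4) (Fin 4) F) *ᵥ b (l, i) ∈ D (σ i) := hσ i ▸ ⟨_, hb l i, Matrix.toLin'_apply _ _⟩
    have hsub : ∀ w ∈ D (σ i), ∀ j k, k ≠ σ i → b.repr w (j, k) = 0 := by
      intro w hw j k hk
      have hle : D (σ i) ≤ Submodule.span F (Set.range fun j => b (j, σ i)) := by
        refine (Submodule.eq_of_le_of_finrank_le ?_ ?_).ge
        · rw [Submodule.span_le]; rintro _ ⟨j, rfl⟩; exact hb j _
        · rw [hD.finrank_eq, show (fun j => b (j, σ i)) = ⇑b ∘ (fun j : Fin 2 => (j, σ i)) from rfl, finrank_span_eq_card (b.linearIndependent.comp (fun j : Fin 2 => (j, σ i))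
            (fun a c h => (Prod.mk.injEq _ _ _ _ ▸ h).1)), Fintype.card_fin]
      have hsub' : Submodule.span F (Set.range fun j => b (j, σ i)) ≤
          LinearMap.ker ((Finsupp.lapply (j, k)).comp b.repr.toLinearMap) := by
        rw [Submodule.span_le]
        rintro _ ⟨j', rfl⟩
        simp [Finsupp.single_apply, Ne.symm hk]
      exact hsub' (hle hw)
    exact hsub _ hmem j k hk
  let A : Fin 2 → Matrix (Fin 2) (Fin 2) F := fun i => Matrix.of fun j l => M (j, σ i) (l, i)
  have hsubm : M.submatrix ((Equiv.refl (Fin 2)).prodCongr σ) id = Matrix.blockDiagonal A := by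
    ext ⟨j, k⟩ ⟨l, i⟩
    rw [Matrix.blockDiagonal_apply]
    by_cases h : k = i
    · subst h; simp [A]
    · simp [h, hM0 j (σ k) l i (fun e => h (σ.injective e))]
  have hdetA : (A 0).det * (A 1).det = 1 := by
    have h1 := congrArg Matrix.det hsubm
    rw [Matrix.det_blockDiagonal, Matrix.det_permute, fin_two_prod_sign, Fin.prod_univ_two] at h1
    simp only [Units.val_one, Int.cast_one, one_mul, M, LinearMap.det_toMatrix] at h1
    rw [← h1, LinearMap.det_toLin']
    exact congrArg Units.val (show Matrix.GeneralLinearGroup.det g = 1 from hdet)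
  have heq : (A 1).det = (A 0).det := by
    have hne : (A 0).det ≠ 0 := left_ne_zero_of_mul_eq_one hdetA
    have h2 := FiniteField.pow_card_sub_one_eq_one _ hne
    rw [h3] at h2
    apply mul_left_cancel₀ hne
    rw [hdetA]
    linear_combination -h2
  have hco : ∀ x i, co ((g : Matrix (Fin 4) (Fin 4) F) *ᵥ x) (σ i) = A i *ᵥ co x i := by
    intro x i
    funext j
    have h1 := congrFun (LinearMap.toMatrix_mulVec_repr b b (Matrix.toLin' (g : Matrix (Fin 4) (Fin 4) F)) x) (j, σ i)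
    rw [Matrix.toLin'_apply] at h1
    show b.repr _ _ = _
    rw [← h1]
    simp only [Matrix.mulVec, dotProduct, Fintype.sum_prod_type, A, co, Matrix.of_apply]
    refine Finset.sum_congr rfl fun l _ => ?_
    rw [Finset.sum_eq_single i]
    · intro k _ hk
      rw [show LinearMap.toMatrix b b (Matrix.toLin' (g : Matrix (Fin 4) (Fin 4) F)) (j, σ i) (l, k) = 0 from
        hM0 j (σ i) l k (fun e => hk (σ.injective e).symm), zero_mul]
    · exact fun h => absurd (Finset.mem_univ _) h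
  refine ⟨Units.mk0 (A 0).det (left_ne_zero_of_mul_eq_one hdetA), fun u v => ?_⟩
  simp only [f, Units.val_mk0, Finset.mul_sum]
  rw [← Equiv.sum_comp σ]
  refine Finset.sum_congr rfl fun i _ => ?_
  rw [hco, hco]
  have hd : (A i).det = (A 0).det := by fin_cases i <;> simp [heq]
  rw [← hd, Matrix.det_fin_two]
  simp only [Matrix.mulVec, dotProduct, Fin.sum_univ_two]
  ring

/-! ### Frames over five elements -/

/-- The sign table of the four characters. -/
def sgnTable : Matrix (Fin 4) (Fin 4) ℤ := !![1, 1, 1, 1; 1, -1, 1, -1; 1, 1, -1, -1; 1, -1, -1, 1]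

/-- Exclusive or on four points. -/
def vx (i k : Fin 4) : Fin 4 := ![![0, 1, 2, 3], ![1, 0, 3, 2], ![2, 3, 0, 1], ![3, 2, 1, 0]] i k

/-- A translation times a character. -/
def zp (s k : Fin 4) : Matrix (Fin 4) (Fin 4) ℤ := Matrix.of fun i j => if j = vx i k then sgnTable s i else 0

theorem zp_mul : ∀ s k s' k' : Fin 4, ∃ u : Fin 2,
    zp s k * zp s' k' = (![1, -1] u : ℤ) • zp (vx s s') (vx k k') := by decide +kernel

theorem zp_table : ∀ s k : Fin 4, ∃ u : Fin 2, sgnTable * zp s k = ((![1, -1] u : ℤ) • zp k s) * sgnTable := by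
  decide +kernel

theorem vx_perm' : ∀ (π : Fin 4 → Fin 4) (k : Fin 4), (∀ i j, π i = π j → i = j) →
    ∃ k', ∀ i, π (vx i k) = vx (π i) k' := by decide +kernel

theorem vx_perm (π : Equiv.Perm (Fin 4)) (k : Fin 4) : ∃ k', ∀ i, π (vx i k) = vx (π i) k' :=
  vx_perm' π k fun _ _ h => π.injective h

theorem sgn_pm (s i : Fin 4) : sgnTable s i = 1 ∨ sgnTable s i = -1 := by
  fin_cases s <;> fin_cases i <;> simp [sgnTable]

theorem sgn_char : ∀ ε : Fin 4 → Fin 2, (∏ i, (![1, -1] (ε i) : ℤ)) = 1 →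
    ∃ (s : Fin 4) (u : Fin 2), ∀ i, (![1, -1] (ε i) : ℤ) = ![1, -1] u * sgnTable s i := by decide +kernel

variable (F) in
/-- Integer matrices over the field. -/
abbrev imat (M : Matrix (Fin 4) (Fin 4) ℤ) : Matrix (Fin 4) (Fin 4) F := M.map (Int.castRingHom F)

theorem imat_mul (M M' : Matrix (Fin 4) (Fin 4) ℤ) : imat F (M * M') = imat F M * imat F M' := Matrix.map_mul

theorem imat_smul (c : ℤ) (M : Matrix (Fin 4) (Fin 4) ℤ) : imat F (c • M) = (c : F) • imat F M := by
  ext i j
  show (Int.castRingHom F) (c * M i j) = (c : F) * (Int.castRingHom F) (M i j)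
  rw [map_mul]
  rfl

theorem imat_zp (s k i j : Fin 4) : imat F (zp s k) i j = if j = vx i k then (sgnTable s i : F) else 0 := by
  simp [zp, apply_ite (Int.cast : ℤ → F)]

theorem imat_zp_zero : imat F (zp 0 0) = 1 := by
  rw [show zp 0 0 = 1 by decide +kernel]
  simp

theorem four_sgn : ∀ i : Fin 2, ((![1, -1] i : ℤ) : F) ^ 4 = 1 := by intro i; fin_cases i <;> norm_num

theorem pow_four (h5 : Fintype.card F = 5) {a : F} (ha : a ≠ 0) : a ^ 4 = 1 := by
  have := FiniteField.pow_card_sub_one_eq_one a ha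
  rwa [h5] at this

variable (F) in
/-- The group of symplectic type in coordinates. -/
def frameR : Subgroup (GL (Fin 4) F) where
  carrier := {g | ∃ (a : F) (s k : Fin 4), a ≠ 0 ∧ (g : Matrix (Fin 4) (Fin 4) F) = a • imat F (zp s k)}
  one_mem' := ⟨1, 0, 0, one_ne_zero, by rw [imat_zp_zero, one_smul, Units.val_one]⟩
  mul_mem' := by
    rintro g h ⟨a, s, k, ha, hg⟩ ⟨b, s', k', hb, hh⟩
    obtain ⟨u, hu⟩ := zp_mul s k s' k'
    refine ⟨a * b * (![1, -1] u : ℤ), vx s s', vx k k', mul_ne_zero (mul_ne_zero ha hb) ?_, ?_⟩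
    · fin_cases u <;> simp
    · rw [Units.val_mul, hg, hh, Matrix.smul_mul, Matrix.mul_smul, ← imat_mul, hu, imat_smul, smul_smul, smul_smul]
  inv_mem' := by
    rintro g ⟨a, s, k, ha, hg⟩
    obtain ⟨u, hu⟩ := zp_mul s k s k
    have hss : ∀ s, vx s s = 0 := by decide +kernel
    rw [hss, hss] at hu
    have hc : ((![1, -1] u : ℤ) : F) ≠ 0 := by fin_cases u <;> simp
    refine ⟨a / (a * a * (![1, -1] u : ℤ)), s, k, div_ne_zero ha (mul_ne_zero (mul_ne_zero ha ha) hc), ?_⟩
    symm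
    refine Units.eq_inv_of_mul_eq_one_left ?_
    rw [hg, Matrix.smul_mul, Matrix.mul_smul, ← imat_mul, hu, imat_smul, imat_zp_zero, smul_smul, smul_smul]
    convert one_smul F (1 : Matrix (Fin 4) (Fin 4) F)
    field_simp

theorem mem_frameR {g : GL (Fin 4) F} :
    g ∈ frameR F ↔ ∃ (a : F) (s k : Fin 4), a ≠ 0 ∧ (g : Matrix (Fin 4) (Fin 4) F) = a • imat F (zp s k) := Iff.rfl

theorem pair_sq {a : Fin 4 → F} (h : ∀ i, a i * a i = 1) (hp : a 0 * a 1 * a 2 * a 3 = 1) (i k : Fin 4) :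
    a i * a (vx i k) = a 0 * a (vx 0 k) := by
  have h0 := h 0
  have h1 := h 1
  have h2 := h 2
  have h3 := h 3
  fin_cases i <;> fin_cases k <;>
    simp only [vx, Fin.zero_eta, Fin.mk_one, Fin.reduceFinMk, Matrix.cons_val_zero, Matrix.cons_val_one, Matrix.cons_val] <;>
    first
    | ring1
    | linear_combination h1 - h0
    | linear_combination h2 - h0
    | linear_combination h3 - h0
    | linear_combination (a 0 * a 1) * hp - (a 2 * a 3) * (a 1 * a 1) * h0 - (a 2 * a 3) * h1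
    | linear_combination (a 0 * a 2) * hp - (a 1 * a 3) * (a 2 * a 2) * h0 - (a 1 * a 3) * h2
    | linear_combination (a 0 * a 3) * hp - (a 1 * a 2) * (a 3 * a 3) * h0 - (a 1 * a 2) * h3

variable (h5 : Fintype.card F = 5)
include h5

theorem typeR_frameR : TypeR 2 2 (frameR F) := by
  have h4 := fun a => pow_four (F := F) h5 (a := a)
  have hsq : ∀ x ∈ frameR F, x ^ 2 ∈ scalars (Fin 4) F ∧ x ^ 4 = 1 := by
    rintro x ⟨a, s, k, ha, hx⟩
    obtain ⟨u, hu⟩ := zp_mul s k s k
    have hss : ∀ s, vx s s = 0 := by decide +kernel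
    rw [hss, hss] at hu
    have hx2 : ((x ^ 2 : GL (Fin 4) F) : Matrix (Fin 4) (Fin 4) F) = (a * a * (![1, -1] u : ℤ)) • 1 := by
      rw [sq, Units.val_mul, hx, Matrix.smul_mul, Matrix.mul_smul, ← imat_mul, hu, imat_smul, imat_zp_zero, smul_smul,
        smul_smul]
    have hc : ((![1, -1] u : ℤ) : F) ≠ 0 := by fin_cases u <;> simp
    refine ⟨(mem_scalars_iff _).2 ⟨Units.mk0 _ (mul_ne_zero (mul_ne_zero ha ha) hc), hx2⟩, Units.ext ?_⟩
    rw [show x ^ 4 = (x ^ 2) ^ 2 from pow_mul x 2 2, Units.val_pow_eq_pow_val, hx2, smul_pow, one_pow, Units.val_one]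
    convert one_smul F (1 : Matrix (Fin 4) (Fin 4) F)
    have h2 : ((![1, -1] u : ℤ) : F) ^ 2 = 1 := by fin_cases u <;> norm_num
    rw [mul_pow, mul_pow, h2, mul_one, ← pow_add]
    exact h4 a ha
  refine ⟨Nat.prime_two, by simp, by simp, ?_, fun x hx y hy => ?_, fun x hx => (hsq x hx).1,
    fun x hx => (hsq x hx).2⟩
  · refine eq_top_iff.2 fun M _ => ?_
    rw [Matrix.matrix_eq_sum_single M]
    refine Subalgebra.sum_mem _ fun i _ => Subalgebra.sum_mem _ fun j _ => ?_
    rw [show Matrix.single i j (M i j) = M i j • Matrix.single i j 1 by simp]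
    refine Subalgebra.smul_mem _ ?_ _
    have h40 : (4 : F) ≠ 0 := by
      intro h
      have h5' := FiniteField.cast_card_eq_zero F
      rw [h5] at h5'
      exact one_ne_zero (α := F) (by push_cast at h5'; linear_combination h5' - h)
    have hk : ∀ i j, ∃ k, j = vx i k := by decide +kernel
    obtain ⟨k, rfl⟩ := hk i j
    have h1 : Matrix.single i (vx i k) (1 : F) = (4 : F)⁻¹ • ∑ s, (sgnTable s i : F) • imat F (zp s k) := by
      have hd : ∀ i k l m : Fin 4, ∑ s, sgnTable s i * zp s k l m = if l = i ∧ m = vx i k then 4 else 0 := by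
        decide +kernel
      ext l m
      rw [Matrix.smul_apply, Matrix.sum_apply, smul_eq_mul]
      rw [show (∑ s, ((sgnTable s i : F) • imat F (zp s k)) l m) = ((∑ s, sgnTable s i * zp s k l m : ℤ) : F) by
        push_cast; rfl, hd, Matrix.single_apply]
      by_cases h : l = i ∧ m = vx i k
      · rw [if_pos h, if_pos ⟨h.1.symm, h.2.symm⟩]; simp [h40]
      · rw [if_neg h, if_neg (fun h' => h ⟨h'.1.symm, h'.2.symm⟩)]; simp
    rw [h1]
    refine Subalgebra.smul_mem _ (Subalgebra.sum_mem _ fun s _ => Subalgebra.smul_mem _ ?_ _) _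
    obtain ⟨u, hu⟩ := zp_mul s k s k
    have hss : ∀ s, vx s s = 0 := by decide +kernel
    rw [hss, hss] at hu
    refine mem_algOf (g := ⟨imat F (zp s k), ((![1, -1] u : ℤ) : F) • imat F (zp s k), ?_, ?_⟩) ⟨1, s, k, one_ne_zero,
      (one_smul F _).symm⟩ <;>
    · simp only [Matrix.smul_mul, Matrix.mul_smul, ← imat_mul, hu, imat_smul, imat_zp_zero, smul_smul]
      fin_cases u <;> simp
  · have e : x * y * x⁻¹ * y⁻¹ = (x * y) ^ 2 * (x ^ 2)⁻¹ * (y ^ 2)⁻¹ := by
      have hc := scalars_comm ((scalars (Fin 4) F).inv_mem (hsq x hx).1) y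
      calc x * y * x⁻¹ * y⁻¹ = x * y * x * ((x ^ 2)⁻¹ * y) * (y⁻¹ * y⁻¹) := by rw [sq]; group
        _ = (x * y) ^ 2 * (x ^ 2)⁻¹ * (y ^ 2)⁻¹ := by rw [hc]; rw [sq, sq]; group
    rw [e]
    exact mul_mem (mul_mem (hsq _ ((frameR F).mul_mem hx hy)).1 (inv_mem (hsq x hx).1)) (inv_mem (hsq y hy).1)

omit h5 in
theorem mem_normalizer_of_conj {ι : Type} [Fintype ι] [DecidableEq ι] {R : Subgroup (GL ι F)} {g : GL ι F}
    (h : ∀ x ∈ R, g * x * g⁻¹ ∈ R) : g ∈ subgroupNormalizer R := by
  classical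
  have hle : R.map (MulAut.conj g).toMonoidHom ≤ R := by
    rintro _ ⟨x, hx, rfl⟩; exact h x hx
  have heq : R.map (MulAut.conj g).toMonoidHom = R := Subgroup.eq_of_le_of_card_ge hle
    (by rw [Subgroup.card_map_of_injective (MulAut.conj g).injective])
  refine Subgroup.mem_normalizer_iff.2 fun x => ⟨h x, fun hx => ?_⟩
  rw [← heq] at hx
  obtain ⟨y, hy, hyx⟩ := hx
  rw [← (MulAut.conj g).injective hyx]
  exact hy

/-- A monomial matrix with unit squared product normalises the group. -/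
theorem monomial_mem_normalizer {g : GL (Fin 4) F} {π : Equiv.Perm (Fin 4)} {c : Fin 4 → F}
    (hc : ∀ i, c i ≠ 0) (hg : ∀ i j, (g : Matrix (Fin 4) (Fin 4) F) i j = if i = π j then c j else 0)
    (hprod : (∏ i, c i) ^ 2 = 1) : g ∈ subgroupNormalizer (frameR F) := by
  classical
  refine mem_normalizer_of_conj fun x ⟨a, s, k, ha, hx⟩ => ?_
  obtain ⟨k', hk'⟩ := vx_perm π k
  let c₂ : Fin 4 → F := fun i => c i ^ 2
  have hpair : ∀ i, c i ^ 2 * c (vx i k) ^ 2 = c 0 ^ 2 * c (vx 0 k) ^ 2 := fun i =>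
    pair_sq (a := fun i => c i ^ 2) (fun i => by rw [← pow_add]; exact pow_four h5 (hc i))
      (by simpa [Fin.prod_univ_four, mul_pow] using hprod) i k
  set S := c 0 ^ 2 * c (vx 0 k) ^ 2 with hS
  -- the new coefficients are a sign times a constant
  let d : Fin 4 → F := fun i => (sgnTable s (π.symm i) : F) * (c (π.symm i) / c (vx (π.symm i) k))
  have hd0 : ∀ i, d i ≠ 0 := fun i => mul_ne_zero (by
    have := sgn_pm
    rcases this s (π.symm i) with h | h <;> rw [h] <;> simp) (div_ne_zero (hc _) (hc _))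
  have hdsq : ∀ i, d i ^ 2 = S := fun i => by
    have := sgn_pm
    have hsg : ((sgnTable s (π.symm i) : ℤ) : F) ^ 2 = 1 := by
      rcases this s (π.symm i) with h | h <;> rw [h] <;> simp
    show ((sgnTable s (π.symm i) : F) * (c (π.symm i) / c (vx (π.symm i) k))) ^ 2 = S
    rw [mul_pow, hsg, one_mul, div_pow, div_eq_iff (pow_ne_zero _ (hc _)), ← hpair (π.symm i), mul_assoc, ← pow_add,
      pow_four h5 (hc _), mul_one]
  have hsign : ∀ i, ∃ u : Fin 2, d i = ((![1, -1] u : ℤ) : F) * d 0 := fun i => by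
    rcases sq_eq_sq_iff_eq_or_eq_neg.1 ((hdsq i).trans (hdsq 0).symm) with h | h
    · exact ⟨0, by simp [h]⟩
    · exact ⟨1, by simp [h]⟩
  choose u hu using hsign
  have hprod1 : ∏ i, d i = 1 := by
    have hs : ∀ s, ∏ i, sgnTable s i = 1 := by decide +kernel
    have hperm : ∏ i, c (vx i k) = ∏ i, c i := by
      fin_cases k <;> simp [vx, Fin.prod_univ_four] <;> ring
    simp only [d]
    rw [Equiv.prod_comp π.symm (fun i => (sgnTable s i : F) * (c i / c (vx i k))), Finset.prod_mul_distrib,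
      Finset.prod_div_distrib, hperm, div_self (Finset.prod_ne_zero_iff.2 fun i _ => hc i), mul_one, ← Int.cast_prod,
      hs, Int.cast_one]
  have hu1 : (∏ i, (![1, -1] (u i) : ℤ)) = 1 := by
    have h1 : ((∏ i, (![1, -1] (u i) : ℤ) : ℤ) : F) = 1 := by
      rw [Finset.prod_congr rfl fun i _ => hu i, Finset.prod_mul_distrib, Finset.prod_const, Finset.card_univ,
        Fintype.card_fin, pow_four h5 (hd0 0), mul_one] at hprod1
      exact_mod_cast hprod1
    have hpm : ∀ u : Fin 4 → Fin 2, (∏ i, (![1, -1] (u i) : ℤ)) = 1 ∨ (∏ i, (![1, -1] (u i) : ℤ)) = -1 := by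
      decide +kernel
    refine (hpm u).resolve_right fun h => ?_
    rw [h] at h1
    push_cast at h1
    have h2 : (2 : F) = 0 := by linear_combination -h1
    have h5' := FiniteField.cast_card_eq_zero F
    rw [h5] at h5'
    exact one_ne_zero (α := F) (by push_cast at h5'; linear_combination h5' - 2 * h2)
  obtain ⟨s', v, hv⟩ := sgn_char u hu1
  refine ⟨a * d 0 * ((![1, -1] v : ℤ) : F), s', k', mul_ne_zero (mul_ne_zero ha (hd0 0))
    (by fin_cases v <;> simp), ?_⟩
  rw [Units.val_mul, Units.val_mul, hx]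
  have hswap : (g : Matrix (Fin 4) (Fin 4) F) * (a • imat F (zp s k)) =
      ((a * d 0 * ((![1, -1] v : ℤ) : F)) • imat F (zp s' k')) * g := by
    ext i j
    obtain ⟨l, rfl⟩ := π.surjective i
    rw [Matrix.mul_apply, Matrix.mul_apply, Finset.sum_eq_single l, Finset.sum_eq_single (vx (π l) k')]
    · simp only [Matrix.smul_apply, smul_eq_mul, imat_zp, hg, if_true, ← hk', EmbeddingLike.apply_eq_iff_eq]
      by_cases hj : j = vx l k
      · subst hj
        rw [if_pos rfl, if_pos rfl]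
        have hd := hu (π l)
        rw [show d (π l) = (sgnTable s l : F) * (c l / c (vx l k)) by simp [d], ← mul_div_assoc,
          div_eq_iff (hc _)] at hd
        have hvl := congrArg (fun z : ℤ => (z : F)) (hv (π l))
        simp only [Int.cast_mul] at hvl
        rw [hvl] at hd
        linear_combination a * hd
      · rw [if_neg hj, if_neg (fun e => hj e.symm)]
        ring
    · intro m _ hm
      rw [Matrix.smul_apply, imat_zp, if_neg hm, smul_zero, zero_mul]
    · exact fun h => absurd (Finset.mem_univ _) h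
    · intro m _ hm
      rw [hg, if_neg (fun e => hm (π.injective e).symm), zero_mul]
    · exact fun h => absurd (Finset.mem_univ _) h
  rw [hswap, Matrix.mul_assoc, Units.mul_inv, Matrix.mul_one]

/-- Every subgroup invariant under the normaliser is scalar or everything. -/
theorem frameR_minimal {K : Subgroup (GL (Fin 4) F)} (hK : K ≤ frameR F)
    (hinv : ∀ g ∈ subgroupNormalizer (frameR F), ∀ x ∈ K, g * x * g⁻¹ ∈ K) (hns : ¬ K ≤ scalars (Fin 4) F) :
    K = frameR F := by
  classical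
  have h50 : (5 : F) = 0 := by
    have h5' := FiniteField.cast_card_eq_zero F
    rw [h5] at h5'
    exact_mod_cast h5'
  have h20 : (2 : F) ≠ 0 := fun h => one_ne_zero (α := F) (by linear_combination h50 - 2 * h)
  -- a membership predicate on matrices
  let M : Matrix (Fin 4) (Fin 4) F → Prop := fun X => ∃ x ∈ K, (x : Matrix (Fin 4) (Fin 4) F) = X
  have hmul : ∀ X Y, M X → M Y → M (X * Y) := by
    rintro X Y ⟨x, hx, rfl⟩ ⟨y, hy, rfl⟩; exact ⟨x * y, K.mul_mem hx hy, Units.val_mul _ _⟩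
  have hconj : ∀ (g : GL (Fin 4) F) X Y, g ∈ subgroupNormalizer (frameR F) → M X →
      (g : Matrix (Fin 4) (Fin 4) F) * X = Y * g → M Y := by
    rintro g X Y hg ⟨x, hx, rfl⟩ h
    exact ⟨g * x * g⁻¹, hinv g hg x hx, by rw [Units.val_mul, Units.val_mul, h, Matrix.mul_assoc, Units.mul_inv, mul_one]⟩
  have hmon : ∀ (π : Equiv.Perm (Fin 4)) (c : Fin 4 → F), (∀ i, c i ≠ 0) → (∏ i, c i) ^ 2 = 1 →
      ∃ g ∈ subgroupNormalizer (frameR F), ∀ i j, (g : Matrix (Fin 4) (Fin 4) F) i j = if i = π j then c j else 0 := by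
    intro π c hc hp
    have hu : IsUnit (Matrix.of fun i j : Fin 4 => if i = π j then c j else 0) := by
      refine ⟨⟨_, Matrix.of fun i j : Fin 4 => if π i = j then (c i)⁻¹ else 0, ?_, ?_⟩, rfl⟩
      · ext i j
        obtain ⟨l, rfl⟩ := π.surjective i
        obtain ⟨m, rfl⟩ := π.surjective j
        rw [Matrix.mul_apply, Finset.sum_eq_single l]
        · by_cases h : l = m
          · subst h; simp [hc]
          · simp [h, Matrix.one_apply]
        · intro n _ hn; simp [Ne.symm hn]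
        · simp
      · ext i j
        rw [Matrix.mul_apply, Finset.sum_eq_single (π i)]
        · by_cases h : i = j
          · subst h; simp [hc]
          · simp [h, Matrix.one_apply]
        · intro n _ hn; simp [Ne.symm hn]
        · simp
    exact ⟨hu.unit, monomial_mem_normalizer h5 hc (fun i j => rfl) hp, fun i j => rfl⟩
  have hW : ∃ g ∈ subgroupNormalizer (frameR F), (g : Matrix (Fin 4) (Fin 4) F) = imat F sgnTable := by
    have hww : sgnTable * sgnTable = (4 : ℤ) • 1 := by decide +kernel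
    have h40 : (4 : F) ≠ 0 := fun h => one_ne_zero (α := F) (by linear_combination h50 - h)
    have h1 : imat F sgnTable * ((4 : F)⁻¹ • imat F sgnTable) = 1 := by
      rw [Matrix.mul_smul, ← imat_mul, hww, imat_smul, smul_smul]
      simp [h40]
    let g : GL (Fin 4) F := ⟨imat F sgnTable, (4 : F)⁻¹ • imat F sgnTable, h1, mul_eq_one_comm.1 h1⟩
    refine ⟨g, mem_normalizer_of_conj fun x ⟨a, s, k, ha, hx⟩ => ?_, rfl⟩
    obtain ⟨u, hu⟩ := zp_table s k
    refine ⟨a * ((![1, -1] u : ℤ) : F), k, s, mul_ne_zero ha (by fin_cases u <;> simp), ?_⟩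
    have h : (g : Matrix (Fin 4) (Fin 4) F) * x = ((a * ((![1, -1] u : ℤ) : F)) • imat F (zp k s)) * g := by
      show imat F sgnTable * (x : Matrix (Fin 4) (Fin 4) F) = _ * imat F sgnTable
      rw [hx, Matrix.mul_smul, ← imat_mul, hu, imat_mul, imat_smul, Matrix.smul_mul, Matrix.smul_mul, smul_smul]
    rw [Units.val_mul, Units.val_mul, h, Matrix.mul_assoc, Units.mul_inv, mul_one]
  obtain ⟨W, hWn, hWv⟩ := hW
  -- sign vectors
  obtain ⟨h, hhn, hh⟩ := hmon 1 ![-1, 1, 1, 1] (by intro i; fin_cases i <;> simp) (by simp [Fin.prod_univ_four])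
  let hZ : Matrix (Fin 4) (Fin 4) ℤ := !![-1, 0, 0, 0; 0, 1, 0, 0; 0, 0, 1, 0; 0, 0, 0, 1]
  have hhv : (h : Matrix (Fin 4) (Fin 4) F) = imat F hZ := by
    ext i j; rw [hh]; fin_cases i <;> fin_cases j <;> simp [hZ]
  -- commutator with the sign change
  have hstep : ∀ (a : F) (s k : Fin 4), k ≠ 0 → M (a • imat F (zp s k)) →
      ∃ (t : Fin 4) (u : Fin 2), t ≠ 0 ∧ M (((![1, -1] u : ℤ) : F) • imat F (zp t 0)) := by
    intro a s k hk hx
    have key : ∀ s k : Fin 4, k ≠ 0 → ∃ (t : Fin 4) (u : Fin 2), t ≠ 0 ∧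
        hZ * zp s k = ((![1, -1] u : ℤ) • zp t 0) * zp s k * hZ := by decide +kernel
    obtain ⟨t, u, ht, hts⟩ := key s k hk
    obtain ⟨x, hxK, hxv⟩ := id hx
    have hy := hconj h _ ((((![1, -1] u : ℤ) : F) • imat F (zp t 0)) * (a • imat F (zp s k))) hhn hx (by
      rw [hhv, Matrix.mul_smul, ← imat_mul, hts, imat_mul, imat_mul, imat_smul, Matrix.mul_smul, Matrix.smul_mul]
      simp only [Matrix.smul_mul])
    obtain ⟨y, hyK, hyv⟩ := hy
    refine ⟨t, u, ht, y * x⁻¹, K.mul_mem hyK (K.inv_mem hxK), ?_⟩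
    rw [Units.val_mul, hyv, ← hxv, Matrix.mul_assoc, Units.mul_inv, mul_one]
  obtain ⟨t, u, ht, htM⟩ : ∃ (t : Fin 4) (u : Fin 2), t ≠ 0 ∧ M (((![1, -1] u : ℤ) : F) • imat F (zp t 0)) := by
    obtain ⟨x, hxK, hxs⟩ := Set.not_subset.1 hns
    obtain ⟨a, s, k, ha, hx⟩ := hK hxK
    by_cases hk : k = 0
    · subst hk
      have hs : s ≠ 0 := by
        rintro rfl
        rw [imat_zp_zero] at hx
        exact hxs ((mem_scalars_iff x).2 ⟨Units.mk0 a ha, hx⟩)
      obtain ⟨u, hu⟩ := zp_table s 0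
      exact hstep (a * ((![1, -1] u : ℤ) : F)) 0 s hs (hconj W _ _ hWn ⟨x, hxK, hx⟩ (by
        rw [hWv, Matrix.mul_smul, ← imat_mul, hu, imat_mul, imat_smul, Matrix.smul_mul, Matrix.smul_mul, smul_smul]))
    · exact hstep a s k hk ⟨x, hxK, hx⟩
  -- all signed characters
  have hZall : ∀ t' : Fin 4, t' ≠ 0 → ∃ u' : Fin 2, M (((![1, -1] u' : ℤ) : F) • imat F (zp t' 0)) := by
    intro t' ht'
    let P : Equiv.Perm (Fin 4) → Matrix (Fin 4) (Fin 4) ℤ := fun π => Matrix.of fun i j => if i = π j then 1 else 0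
    have key : ∀ t t' : Fin 4, t ≠ 0 → t' ≠ 0 → ∃ (a b : Fin 4) (u : Fin 2),
        P (Equiv.swap a b) * zp t 0 = ((![1, -1] u : ℤ) • zp t' 0) * P (Equiv.swap a b) := by decide +kernel
    obtain ⟨a', b', v, hπ⟩ := key t t' ht ht'
    set π := Equiv.swap a' b'
    obtain ⟨g, hgn, hg⟩ := hmon π 1 (by simp) (by simp)
    have hgv : (g : Matrix (Fin 4) (Fin 4) F) = imat F (P π) := by
      ext i j; rw [hg]; simp [P, apply_ite (Int.cast : ℤ → F)]
    obtain ⟨w, hw⟩ : ∃ w : Fin 2, (![1, -1] u : ℤ) * ![1, -1] v = ![1, -1] w := by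
      have : ∀ u v : Fin 2, ∃ w : Fin 2, (![1, -1] u : ℤ) * ![1, -1] v = ![1, -1] w := by decide +kernel
      exact this u v
    refine ⟨w, hconj g _ _ hgn htM ?_⟩
    rw [hgv, Matrix.mul_smul, ← imat_mul, hπ, imat_mul, imat_smul, Matrix.smul_mul, Matrix.smul_mul, smul_smul,
      ← Int.cast_mul, hw]
  have hPall : ∀ t' : Fin 4, t' ≠ 0 → ∃ u' : Fin 2, M (((![1, -1] u' : ℤ) : F) • imat F (zp 0 t')) := by
    intro t' ht'
    obtain ⟨v, hv⟩ := hZall t' ht'
    obtain ⟨u', hu'⟩ := zp_table t' 0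
    obtain ⟨w, hw⟩ : ∃ w : Fin 2, (![1, -1] v : ℤ) * ![1, -1] u' = ![1, -1] w := by
      have : ∀ u v : Fin 2, ∃ w : Fin 2, (![1, -1] u : ℤ) * ![1, -1] v = ![1, -1] w := by decide +kernel
      exact this v u'
    refine ⟨w, hconj W _ _ hWn hv ?_⟩
    rw [hWv, Matrix.mul_smul, ← imat_mul, hu', imat_mul, imat_smul, Matrix.smul_mul, Matrix.smul_mul, smul_smul,
      ← Int.cast_mul, hw]
  -- minus one
  have hneg : M ((-1 : F) • 1) := by
    obtain ⟨v, x, hx, hxv⟩ := hZall 1 (by decide)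
    obtain ⟨w, y, hy, hyv⟩ := hPall 1 (by decide)
    refine ⟨x * y * x⁻¹ * y⁻¹, mul_mem (mul_mem (mul_mem hx hy) (inv_mem hx)) (inv_mem hy), ?_⟩
    have h1 : ((x * y : GL (Fin 4) F) : Matrix (Fin 4) (Fin 4) F) = (-1 : F) • ((y * x : GL (Fin 4) F) : Matrix (Fin 4) (Fin 4) F) := by
      have hz : zp 1 0 * zp 0 1 = (-1 : ℤ) • (zp 0 1 * zp 1 0) := by decide +kernel
      simp only [Units.val_mul, hxv, hyv, Matrix.smul_mul, Matrix.mul_smul, smul_smul, ← imat_mul, hz, imat_smul]
      congr 1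
      push_cast
      ring
    rw [show x * y * x⁻¹ * y⁻¹ = x * y * (y * x)⁻¹ by group, Units.val_mul, h1, Matrix.smul_mul, Units.mul_inv]
  have hexact : ∀ (X : Matrix (Fin 4) (Fin 4) F) (v : Fin 2), M (((![1, -1] v : ℤ) : F) • X) → M X := by
    intro X v hv
    fin_cases v
    · simpa using hv
    · simpa using hmul _ _ hneg hv
  have hZ1 : ∀ t, M (imat F (zp t 0)) := fun t => by
    by_cases ht : t = 0
    · subst ht; exact ⟨1, K.one_mem, by rw [imat_zp_zero, Units.val_one]⟩
    · obtain ⟨v, hv⟩ := hZall t ht; exact hexact _ v hv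
  have hP1 : ∀ t, M (imat F (zp 0 t)) := fun t => by
    by_cases ht : t = 0
    · subst ht; exact ⟨1, K.one_mem, by rw [imat_zp_zero, Units.val_one]⟩
    · obtain ⟨v, hv⟩ := hPall t ht; exact hexact _ v hv
  -- the scalar two
  have h2M : M ((2 : F) • 1) := by
    obtain ⟨g, hgn, hg⟩ := hmon 1 ![2, 2, 1, 1] (by intro i; fin_cases i <;> simp [h20]) (by
      simp only [Fin.prod_univ_four, Matrix.cons_val_zero, Matrix.cons_val_one, Matrix.cons_val]; linear_combination 3 * h50)
    have h1 := hconj g _ (((2 : F) • imat F (zp 2 0)) * imat F (zp 0 2)) hgn (hP1 2) (by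
      ext i j
      simp only [Matrix.mul_apply, Fin.sum_univ_four, hg, Matrix.smul_apply, smul_eq_mul, imat_zp]
      fin_cases i <;> fin_cases j <;> simp [vx, sgnTable] <;>
        first
        | linear_combination h50
        | linear_combination -h50)
    obtain ⟨y, hyK, hyv⟩ := h1
    obtain ⟨z, hzK, hzv⟩ := hZ1 2
    obtain ⟨p, hpK, hpv⟩ := hP1 2
    refine ⟨y * p⁻¹ * z⁻¹, mul_mem (mul_mem hyK (inv_mem hpK)) (inv_mem hzK), ?_⟩
    rw [Units.val_mul, Units.val_mul, hyv, ← hzv, ← hpv]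
    simp only [Matrix.smul_mul, Matrix.mul_assoc]
    rw [← Matrix.mul_assoc (p : Matrix (Fin 4) (Fin 4) F), Units.mul_inv, one_mul, Units.mul_inv]
  refine le_antisymm hK fun x ⟨a, s, k, ha, hx⟩ => ?_
  have hscal : M (a • 1) := by
    have h8 : ∀ n : ℕ, M ((2 : F) ^ n • 1) := by
      intro n
      induction n with
      | zero => exact ⟨1, K.one_mem, by rw [pow_zero, one_smul, Units.val_one]⟩
      | succ n ih =>
        have := hmul _ _ ih h2M
        rwa [Matrix.smul_mul, Matrix.mul_smul, one_mul, smul_smul, ← pow_succ] at this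
    have h4 := pow_four h5 ha
    have hroots : a = 2 ^ 0 ∨ a = 2 ^ 1 ∨ a = 2 ^ 2 ∨ a = 2 ^ 3 := by
      have : (a - 1) * (a - 2) * (a - 4) * (a - 8) = 0 := by
        linear_combination h4 + (-3 * a ^ 3 + 14 * a ^ 2 - 24 * a + 13) * h50
      simp only [mul_eq_zero, sub_eq_zero] at this
      norm_num
      tauto
    rcases hroots with h | h | h | h <;> exact h ▸ h8 _
  have hzp : zp s 0 * zp 0 k = zp s k := by
    have : ∀ s k, zp s 0 * zp 0 k = zp s k := by decide +kernel
    exact this s k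
  obtain ⟨y, hy, hyv⟩ := hmul _ _ hscal (hmul _ _ (hZ1 s) (hP1 k))
  rw [← imat_mul, hzp, Matrix.smul_mul, one_mul, ← hx] at hyv
  rwa [← Units.ext hyv]

/-- A determinant-one frame stabiliser over five elements normalises a group of symplectic type. -/
theorem decomposition_le_normalizer_five {D : Fin 4 → Submodule F (Fin 4 → F)} (hD : IsMDecomposition 1 D) :
    ∃ R : Subgroup (GL (Fin 4) F), TypeR 2 2 R ∧ IsLinearSymplecticTypeData 2 R ∧
      decompositionStabilizer D ⊓ specialLinear (Fin 4) F ≤ subgroupNormalizer R := by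
  classical
  obtain ⟨b, hb⟩ := monomial_basis hD
  let std := Pi.basisFun F (Fin 4)
  let P : GL (Fin 4) F :=
    ⟨std.toMatrix b, b.toMatrix std, std.toMatrix_mul_toMatrix_flip b, b.toMatrix_mul_toMatrix_flip std⟩
  let c := (MulAut.conj P).toMonoidHom
  let R := (frameR F).map c
  have hR₀ := typeR_frameR h5
  have hinj : Function.Injective c := (MulAut.conj P).injective
  have hsc : ∀ z ∈ scalars (Fin 4) F, c z ∈ scalars (Fin 4) F := fun z hz =>
    (scalars_normal (ι := Fin 4) (F := F)).conj_mem z hz P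
  have hR : TypeR 2 2 R := by
    refine ⟨Nat.prime_two, by simp, by simp, ?_, ?_, ?_, ?_⟩
    · refine eq_top_iff.2 fun X _ => ?_
      have h1 : ((P⁻¹ : GL (Fin 4) F) : Matrix (Fin 4) (Fin 4) F) * X * P ∈ algOf (frameR F) := hR₀.span ▸ trivial
      have h2 := conj_mem_algOf_map P h1
      rw [conjHom_apply, ← Matrix.mul_assoc, ← Matrix.mul_assoc, Units.mul_inv, Matrix.one_mul, Matrix.mul_assoc,
        Units.mul_inv, Matrix.mul_one] at h2
      exact h2
    · rintro _ ⟨x, hx, rfl⟩ _ ⟨y, hy, rfl⟩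
      simpa only [map_mul, map_inv] using hsc _ (hR₀.cls x hx y hy)
    · rintro _ ⟨x, hx, rfl⟩
      rw [← map_pow]; exact hsc _ (hR₀.pow_mem x hx)
    · rintro _ ⟨x, hx, rfl⟩
      rw [← map_pow, hR₀.exp x hx, map_one]
  have hinv : ∀ g ∈ subgroupNormalizer R, ∀ x ∈ R, g * x * g⁻¹ ∈ R := fun g hg x hx =>
    (Subgroup.mem_normalizer_iff.1 hg x).1 hx
  have hnorm : ∀ g ∈ subgroupNormalizer (frameR F), c g ∈ subgroupNormalizer R := fun g hg =>
    mem_normalizer_of_conj fun x ⟨y, hy, hyx⟩ =>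
      ⟨g * y * g⁻¹, (Subgroup.mem_normalizer_iff.1 hg y).1 hy, by rw [← hyx, map_mul, map_mul, map_inv]⟩
  have hsym : IsSymplecticTypeGroup 2 R := by
    refine hR.isSymplecticTypeGroup hinv fun K hK hKinv hKns => ?_
    have h1 : K.comap c = frameR F := by
      refine frameR_minimal h5 (fun x hx => ?_) (fun g hg x hx => ?_) ?_
      · obtain ⟨y, hy, hyx⟩ := hK hx
        rwa [← hinj hyx]
      · show c _ ∈ K
        rw [map_mul, map_mul, map_inv]
        exact hKinv _ (hnorm g hg) _ hx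
      · intro hle
        refine hKns fun x hx => ?_
        obtain ⟨y, -, rfl⟩ := hK hx
        exact hsc y (hle hx)
    refine le_antisymm hK ?_
    show (frameR F).map c ≤ K
    rw [← h1]
    exact Subgroup.map_comap_le _ _
  have h50 : (5 : F) = 0 := by
    have h5' := FiniteField.cast_card_eq_zero F
    rw [h5] at h5'
    exact_mod_cast h5'
  have h20 : (2 : F) ≠ 0 := fun h => one_ne_zero (α := F) (by linear_combination h50 - 2 * h)
  let two : GL (Fin 4) F := Units.map (Matrix.scalar (Fin 4) : F →+* Matrix (Fin 4) (Fin 4) F).toMonoidHom (Units.mk0 2 h20)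
  have htwo : (two : Matrix (Fin 4) (Fin 4) F) = (2 : F) • 1 := by
    show Matrix.scalar (Fin 4) (2 : F) = _
    rw [Matrix.scalar_apply, Matrix.smul_one_eq_diagonal]
  have htwoR : two ∈ R := ⟨two, ⟨2, 0, 0, h20, by rw [htwo, imat_zp_zero]⟩, by
    show P * two * P⁻¹ = two
    rw [← scalars_comm (show two ∈ scalars (Fin 4) F from ⟨_, rfl⟩) P, mul_inv_cancel_right]⟩
  have hcen : Nat.card (Subgroup.center R) = 4 := by
    rcases hR.card_center with h | ⟨-, h⟩
    · exfalso
      have := hR.scalar_pow_card_center htwoR htwo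
      rw [h] at this
      exact one_ne_zero (α := F) (by linear_combination 2 * h50 - 3 * this)
    · exact h
  have hp5 : CharP F 5 := by
    obtain ⟨p, hp⟩ := CharP.exists F
    obtain ⟨n, hpp, hn⟩ := FiniteField.card F p
    have : p ∣ 5 := by rw [← h5, hn]; exact dvd_pow_self p n.ne_zero
    rwa [(Nat.prime_dvd_prime_iff_eq hpp (by norm_num)).1 this] at hp
  refine ⟨R, hR, ⟨hsym, absIrred_of_algOf_eq_top hR.span, 5, 1, by norm_num,
    ⟨by norm_num, hp5, by simpa using h5, by rw [hcen]; norm_num, fun d hd hd' => by omega⟩,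
    Or.inr (Or.inl ⟨rfl, rfl, hcen, by simp, 2, by rw [hR.card_eq, hcen]; norm_num⟩)⟩, ?_⟩
  rintro g ⟨hgD, hdet⟩
  obtain ⟨π, cf, hcf, hgb⟩ := hb g hgD
  have hgP : (g : Matrix (Fin 4) (Fin 4) F) * (P : Matrix (Fin 4) (Fin 4) F) =
      (P : Matrix (Fin 4) (Fin 4) F) * Matrix.of (fun i j => if i = π j then cf j else 0) := by
    ext a k
    rw [show ((g : Matrix (Fin 4) (Fin 4) F) * (P : Matrix (Fin 4) (Fin 4) F)) a k =
        ((g : Matrix (Fin 4) (Fin 4) F) *ᵥ b k) a from rfl, hgb, Pi.smul_apply, smul_eq_mul]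
    simp [Matrix.mul_apply, P, Module.Basis.toMatrix_apply, std, mul_comm]
  have hval : ((P⁻¹ * g * P : GL (Fin 4) F) : Matrix (Fin 4) (Fin 4) F) =
      Matrix.of (fun i j => if i = π j then cf j else 0) := by
    rw [Units.val_mul, Units.val_mul, Matrix.mul_assoc, hgP, ← Matrix.mul_assoc, ← Units.val_mul, inv_mul_cancel,
      Units.val_one, one_mul]
  have hprod : (∏ i, cf i) ^ 2 = 1 := by
    have h1 : ((P⁻¹ * g * P : GL (Fin 4) F) : Matrix (Fin 4) (Fin 4) F).det = 1 := by
      rw [show ((P⁻¹ * g * P : GL (Fin 4) F) : Matrix (Fin 4) (Fin 4) F).det =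
        ((Matrix.GeneralLinearGroup.det (P⁻¹ * g * P) : Fˣ) : F) from rfl, map_mul, map_mul,
        show Matrix.GeneralLinearGroup.det g = 1 from hdet, mul_one, ← map_mul, inv_mul_cancel, map_one, Units.val_one]
    rw [hval] at h1
    have h2 : Matrix.of (fun i j => if i = π j then cf j else 0) =
        (Matrix.diagonal cf).submatrix π.symm id := by
      ext i j
      simp [Matrix.diagonal_apply, Equiv.symm_apply_eq]
      split_ifs with h h' <;> simp_all
    rw [h2, Matrix.det_permute, Matrix.det_diagonal] at h1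
    rcases Int.units_eq_one_or (Equiv.Perm.sign π.symm) with h | h <;> rw [h] at h1 <;> simp at h1
    · rw [h1, one_pow]
    · linear_combination (-(1 : F) + ∏ i, cf i) * (0 : F) + (1 - ∏ i, cf i) * h1
  have := hnorm _ (monomial_mem_normalizer h5 hcf (g := P⁻¹ * g * P) (fun i j => by rw [hval]; rfl) hprod)
  rwa [show c (P⁻¹ * g * P) = g by show P * (P⁻¹ * g * P) * P⁻¹ = g; group] at this

end CfsgLib.Geo.Asch
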