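import Mathlib
import Cfsg.Prelude.Def_GeometricClasses
import Cfsg.Agent.Lib.Geo.AschFormProper
import Cfsg.Agent.Lib.Geo.AschFormField
import Cfsg.Agent.Lib.Geo.FieldTransvection

/-! In Sp4 over three elements the normaliser of a unitary field is not maximal: it permutes five lines of
self-adjoint involutions, and so does a bigger group. -/

set_option autoImplicit false
set_option linter.unusedSectionVars false
set_option maxRecDepth 4000

namespace CfsgLib.Geo.Asch.Sp4Three

open Cfsg Cfsg.Geo Matrix CfsgLib.GeomClasses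
open scoped MatrixGroups

/-- Four by four matrices over three elements. -/
abbrev M3 := Matrix (Fin 4) (Fin 4) (ZMod 3)

/-- The form, which is also the complex structure. -/
def gam : M3 := !![0, -1, 0, 0; 1, 0, 0, 0; 0, 0, 0, -1; 0, 0, 1, 0]

/-- Five anticommuting self-adjoint involutions. -/
def tz : Fin 5 → M3 :=
  ![!![1, 0, 0, 0; 0, 1, 0, 0; 0, 0, -1, 0; 0, 0, 0, -1],
    !![0, 0, 1, 0; 0, 0, 0, 1; 1, 0, 0, 0; 0, 1, 0, 0],
    !![0, 0, 0, -1; 0, 0, 1, 0; 0, 1, 0, 0; -1, 0, 0, 0],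
    !![0, 0, 1, 1; 0, 0, 1, -1; -1, -1, 0, 0; -1, 1, 0, 0],
    !![0, 0, 1, -1; 0, 0, -1, -1; -1, 1, 0, 0; 1, 1, 0, 0]]

/-- The ten signed involutions. -/
def InT (X : M3) : Prop := ∃ j, X = tz j ∨ X = -tz j

instance (X : M3) : Decidable (InT X) := inferInstanceAs (Decidable (∃ _, _))

theorem tz_props : ∀ j, tz j * tz j = 1 ∧ (tz j)ᵀ * gam = gam * tz j ∧
    (tz j * gam = gam * tz j ∨ tz j * gam = -(gam * tz j)) ∧ tz j ≠ 1 ∧ tz j ≠ -1 := by decide +kernel

theorem class_comm : ∀ a d p q : ZMod 3,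
    (!![a, 0, p, -q; 0, a, q, p; p, q, d, 0; -q, p, 0, d] : M3) * !![a, 0, p, -q; 0, a, q, p; p, q, d, 0; -q, p, 0, d] = 1 →
    (!![a, 0, p, -q; 0, a, q, p; p, q, d, 0; -q, p, 0, d] : M3) = 1 ∨
    (!![a, 0, p, -q; 0, a, q, p; p, q, d, 0; -q, p, 0, d] : M3) = -1 ∨
    InT !![a, 0, p, -q; 0, a, q, p; p, q, d, 0; -q, p, 0, d] := by decide +kernel

theorem class_anti : ∀ p q : ZMod 3,
    (!![0, 0, p, q; 0, 0, q, -p; -p, -q, 0, 0; -q, p, 0, 0] : M3) * !![0, 0, p, q; 0, 0, q, -p; -p, -q, 0, 0; -q, p, 0, 0] = 1 →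
    InT !![0, 0, p, q; 0, 0, q, -p; -p, -q, 0, 0; -q, p, 0, 0] := by decide +kernel

theorem inT_of (Y : M3) (h1 : Y * Y = 1) (h2 : Yᵀ * gam = gam * Y)
    (h3 : Y * gam = gam * Y ∨ Y * gam = -(gam * Y)) (hne : Y ≠ 1) (hne' : Y ≠ -1) : InT Y := by
  have hgam : gam * gam = -1 := by decide +kernel
  have hz : ∀ x : ZMod 3, x = -x → x = 0 := by decide +kernel
  rcases h3 with h | h
  · have hs : Yᵀ = Y := by
      have e : Yᵀ * gam * gam = Y * gam * gam := by rw [h2, h]
      simpa [Matrix.mul_assoc, hgam] using e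
    have es := fun i j => congrFun (congrFun hs i) j
    have ec := fun i j => congrFun (congrFun h i) j
    simp only [Matrix.transpose_apply] at es
    have c00 := ec 0 0
    have c01 := ec 0 1
    have c02 := ec 0 2
    have c03 := ec 0 3
    have c23 := ec 2 3
    have c22 := ec 2 2
    simp [gam, Matrix.mul_apply, Matrix.vecMul, dotProduct, Fin.sum_univ_four] at c00 c01 c02 c03 c22 c23
    have z01 : Y 0 1 = 0 := hz _ (by first
      | linear_combination c00 + es 0 1
      | linear_combination c00 - es 0 1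
      | linear_combination -c00 + es 0 1
      | linear_combination -c00 - es 0 1)
    have z23 : Y 2 3 = 0 := hz _ (by first
      | linear_combination c22 + es 2 3
      | linear_combination c22 - es 2 3
      | linear_combination -c22 + es 2 3
      | linear_combination -c22 - es 2 3)
    have hY : Y = !![Y 0 0, 0, Y 0 2, -Y 1 2; 0, Y 0 0, Y 1 2, Y 0 2; Y 0 2, Y 1 2, Y 2 2, 0;
        -Y 1 2, Y 0 2, 0, Y 2 2] := by
      ext i j
      fin_cases i <;> fin_cases j <;> simp <;>
        first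
          | rfl
          | exact z01
          | exact z23
          | (linear_combination z01)
          | (linear_combination z23)
          | (linear_combination z01 + es 0 1)
          | (linear_combination z23 + es 2 3)
          | (linear_combination es 0 2)
          | (linear_combination es 1 2)
          | (linear_combination c01)
          | (linear_combination -c01)
          | (linear_combination c23)
          | (linear_combination -c23)
          | (linear_combination c02)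
          | (linear_combination -c02)
          | (linear_combination c03)
          | (linear_combination -c03)
          | (linear_combination es 0 3 + c02)
          | (linear_combination es 0 3 - c02)
          | (linear_combination es 1 3 + c03)
          | (linear_combination es 1 3 - c03)
    have hc := class_comm (Y 0 0) (Y 2 2) (Y 0 2) (Y 1 2) (by rw [← hY]; exact h1)
    rw [← hY] at hc
    exact (hc.resolve_left hne).resolve_left hne'
  · have hs : Yᵀ = -Y := by
      have e : Yᵀ * gam * gam = (-Y) * gam * gam := by rw [h2, Matrix.neg_mul, h, neg_neg]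
      simp [Matrix.mul_assoc, hgam] at e
      exact neg_eq_iff_eq_neg.1 e
    have es := fun i j => congrFun (congrFun hs i) j
    have ec := fun i j => congrFun (congrFun h i) j
    simp only [Matrix.transpose_apply, Matrix.neg_apply] at es
    have c00 := ec 0 0
    have c01 := ec 0 1
    have c02 := ec 0 2
    have c03 := ec 0 3
    have c22 := ec 2 2
    have c23 := ec 2 3
    simp [gam, Matrix.mul_apply, Matrix.vecMul, dotProduct, Fin.sum_univ_four] at c00 c01 c02 c03 c22 c23
    have d0 : Y 0 0 = 0 := hz _ (es 0 0)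
    have d1 : Y 1 1 = 0 := hz _ (es 1 1)
    have d2 : Y 2 2 = 0 := hz _ (es 2 2)
    have d3 : Y 3 3 = 0 := hz _ (es 3 3)
    have z01 : Y 0 1 = 0 := hz _ (by first
      | linear_combination c00 + es 0 1
      | linear_combination c00 - es 0 1
      | linear_combination -c00 + es 0 1
      | linear_combination -c00 - es 0 1)
    have z23 : Y 2 3 = 0 := hz _ (by first
      | linear_combination c22 + es 2 3
      | linear_combination c22 - es 2 3
      | linear_combination -c22 + es 2 3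
      | linear_combination -c22 - es 2 3)
    have hY : Y = !![0, 0, Y 0 2, Y 0 3; 0, 0, Y 0 3, -Y 0 2; -Y 0 2, -Y 0 3, 0, 0; -Y 0 3, Y 0 2, 0, 0] := by
      ext i j
      fin_cases i <;> fin_cases j <;> simp [d0, d1, d2, d3, z01, z23] <;>
        first
          | rfl
          | (linear_combination z01 + es 0 1)
          | (linear_combination z23 + es 2 3)
          | (linear_combination es 1 0 - z01)
          | (linear_combination es 2 3 - z23)
          | (linear_combination es 0 2)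
          | (linear_combination es 0 3)
          | (linear_combination c02)
          | (linear_combination -c02)
          | (linear_combination c03)
          | (linear_combination -c03)
          | (linear_combination es 1 2 + c02)
          | (linear_combination es 1 2 - c02)
          | (linear_combination es 1 3 + c03)
          | (linear_combination es 1 3 - c03)
    have hc := class_anti (Y 0 2) (Y 0 3) (by rw [← hY]; exact h1)
    rwa [← hY] at hc

theorem conj_inT {G Gi : M3} (hi : G * Gi = 1) (hG : Gᵀ * gam * G = gam)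
    (hJ : G * gam = gam * G ∨ G * gam = -(gam * G)) {X : M3} (hX : InT X) : InT (G * X * Gi) := by
  have hi' : Gi * G = 1 := mul_eq_one_comm.1 hi
  obtain ⟨hX1, hX2, hX3, hX4, hX5⟩ : X * X = 1 ∧ Xᵀ * gam = gam * X ∧
      (X * gam = gam * X ∨ X * gam = -(gam * X)) ∧ X ≠ 1 ∧ X ≠ -1 := by
    obtain ⟨j, rfl | rfl⟩ := hX
    · exact tz_props j
    · obtain ⟨a, b, c, d, e⟩ := tz_props j
      refine ⟨by rw [neg_mul_neg, a], by rw [Matrix.transpose_neg, Matrix.neg_mul, b, Matrix.mul_neg],
        c.imp (fun h => by rw [Matrix.neg_mul, h, Matrix.mul_neg]) (fun h => by rw [Matrix.neg_mul, h, Matrix.mul_neg]),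
        fun h => e ?_, fun h => d (neg_injective h)⟩
      rw [← h, neg_neg]
  have hGt : Gᵀ * gam = gam * Gi := by
    calc Gᵀ * gam = Gᵀ * gam * G * Gi := by rw [Matrix.mul_assoc _ G, hi, mul_one]
      _ = gam * Gi := by rw [hG]
  have hGit : Giᵀ * gam = gam * G := by
    calc Giᵀ * gam = Giᵀ * (Gᵀ * gam * G) := by rw [hG]
      _ = (G * Gi)ᵀ * gam * G := by rw [Matrix.transpose_mul]; simp only [Matrix.mul_assoc]
      _ = gam * G := by rw [hi, Matrix.transpose_one, one_mul]
  have hJi : (∀ u : M3, G * gam * u = gam * G * u ∧ Gi * gam * u = gam * Gi * u) ∨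
      (∀ u : M3, G * gam * u = -(gam * G * u) ∧ Gi * gam * u = -(gam * Gi * u)) := by
    rcases hJ with h | h
    · refine Or.inl fun u => ⟨by rw [h], ?_⟩
      have e : Gi * gam = gam * Gi := by
        calc Gi * gam = Gi * (gam * G) * Gi := by rw [Matrix.mul_assoc, Matrix.mul_assoc, hi, mul_one]
          _ = Gi * (G * gam) * Gi := by rw [h]
          _ = gam * Gi := by rw [← Matrix.mul_assoc Gi, hi', one_mul]
      rw [e]
    · refine Or.inr fun u => ⟨by rw [h, Matrix.neg_mul], ?_⟩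
      have e : Gi * gam = -(gam * Gi) := by
        calc Gi * gam = Gi * (gam * G) * Gi := by rw [Matrix.mul_assoc, Matrix.mul_assoc, hi, mul_one]
          _ = Gi * (-(G * gam)) * Gi := by rw [h, neg_neg]
          _ = -(gam * Gi) := by rw [Matrix.mul_neg, Matrix.neg_mul, ← Matrix.mul_assoc Gi, hi', one_mul]
      rw [e, Matrix.neg_mul]
  have hback : Gi * (G * X * Gi) * G = X := by
    rw [← Matrix.mul_assoc, ← Matrix.mul_assoc, hi', one_mul, Matrix.mul_assoc, hi', mul_one]
  refine inT_of _ ?_ ?_ ?_ (fun h => hX4 ?_) (fun h => hX5 ?_)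
  · calc G * X * Gi * (G * X * Gi) = G * X * (Gi * G) * X * Gi := by simp only [Matrix.mul_assoc]
      _ = G * (X * X) * Gi := by rw [hi', mul_one]; simp only [Matrix.mul_assoc]
      _ = 1 := by rw [hX1, mul_one, hi]
  · calc (G * X * Gi)ᵀ * gam = Giᵀ * (Xᵀ * (Gᵀ * gam)) := by
          simp only [Matrix.transpose_mul, Matrix.mul_assoc]
      _ = Giᵀ * (Xᵀ * gam) * Gi := by rw [hGt]; simp only [Matrix.mul_assoc]
      _ = Giᵀ * gam * X * Gi := by rw [hX2]; simp only [Matrix.mul_assoc]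
      _ = gam * (G * X * Gi) := by rw [hGit]; simp only [Matrix.mul_assoc]
  · rcases hJi with h | h <;> rcases hX3 with h' | h'
    · left
      rw [Matrix.mul_assoc (G * X), ← mul_one (Gi * gam), (h 1).2, mul_one, ← Matrix.mul_assoc, Matrix.mul_assoc G,
        h', ← Matrix.mul_assoc G, Matrix.mul_assoc (G * gam), (h (X * Gi)).1]
      simp only [Matrix.mul_assoc]
    · right
      rw [Matrix.mul_assoc (G * X), ← mul_one (Gi * gam), (h 1).2, mul_one, ← Matrix.mul_assoc, Matrix.mul_assoc G,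
        h', Matrix.mul_neg, ← Matrix.mul_assoc G, Matrix.neg_mul, Matrix.mul_assoc (G * gam), (h (X * Gi)).1]
      simp only [Matrix.mul_assoc]
    · left
      rw [Matrix.mul_assoc (G * X), ← mul_one (Gi * gam), (h 1).2, mul_one, Matrix.mul_neg, ← Matrix.mul_assoc,
        Matrix.mul_assoc G, h', ← Matrix.mul_assoc G, Matrix.mul_assoc (G * gam), (h (X * Gi)).1, neg_neg]
      simp only [Matrix.mul_assoc]
    · right
      rw [Matrix.mul_assoc (G * X), ← mul_one (Gi * gam), (h 1).2, mul_one, Matrix.mul_neg, ← Matrix.mul_assoc,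
        Matrix.mul_assoc G, h', Matrix.mul_neg, ← Matrix.mul_assoc G, Matrix.neg_mul, Matrix.mul_assoc (G * gam),
        (h (X * Gi)).1, neg_neg]
      simp only [Matrix.mul_assoc]
  · rw [h, mul_one, hi'] at hback; exact hback.symm
  · rw [h, Matrix.mul_neg, mul_one, Matrix.neg_mul, hi'] at hback; exact hback.symm

/-- An element outside the normaliser permuting the involutions. -/
def sElt : M3 := (1 + tz 3 * tz 1) * (1 + gam)

/-- Its inverse. -/
def sInv : M3 := -(gam * sEltᵀ * gam)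

theorem sElt_props : sElt * sInv = 1 ∧ sEltᵀ * gam * sElt = gam ∧ sElt * gam * sInv ≠ gam ∧
    sElt * gam * sInv ≠ -gam ∧ ∀ j, InT (sElt * tz j * sInv) := by decide +kernel

/-- A transvection. -/
def tElt : M3 := !![1, 1, 0, 0; 0, 1, 0, 0; 0, 0, 1, 0; 0, 0, 0, 1]

/-- Its inverse. -/
def tInv : M3 := !![1, -1, 0, 0; 0, 1, 0, 0; 0, 0, 1, 0; 0, 0, 0, 1]

theorem tElt_props : tElt * tInv = 1 ∧ tEltᵀ * gam * tElt = gam ∧ ∃ j, ¬ InT (tElt * tz j * tInv) := by
  decide +kernel

variable {ι : Type} [Fintype ι] [DecidableEq ι] {F : Type*} [Field F] [Fintype F]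
  {f : (ι → F) → (ι → F) → F}

theorem field_three_false (h3 : Fintype.card F = 3) (e : Fin 4 ≃ ι) (hf : IsSymplecticForm f)
    {Ω H : Subgroup (GL ι F)} (hΩf : IsoGrp f Ω)
    (hΩall : ∀ g : GL ι F, (∀ u v, f ((g : Matrix ι ι F) *ᵥ u) ((g : Matrix ι ι F) *ᵥ v) = f u v) → g ∈ Ω)
    (hH : IsMaximalIn Ω H) {K : Subalgebra F (Matrix ι ι F)} (hK : IsFieldSubalgebra 2 K)
    (hKa : IsAdjointClosedFor f K) (hns : ¬ IsSelfAdjointFor f K) (hle : H ≤ subalgebraNormalizer K) : False := by
  classical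
  haveI : Nonempty ι := ⟨e 0⟩
  have hh := herm_symplectic hf
  have hc : Nat.card F = 3 := by rw [Nat.card_eq_fintype_card, h3]
  obtain ⟨p, hchar⟩ := CharP.exists F
  obtain ⟨n, hp, hpn⟩ := FiniteField.card F p
  obtain rfl : p = 3 := by
    have : p ∣ 3 := by rw [← h3, hpn]; exact dvd_pow_self p n.ne_zero
    exact (Nat.prime_dvd_prime_iff_eq hp Nat.prime_three).1 this
  let φ : ZMod 3 →+* F := ZMod.castHom (dvd_refl 3) F
  have hφb : Function.Bijective φ :=
    (Fintype.bijective_iff_injective_and_card φ).2 ⟨φ.injective, by rw [ZMod.card, h3]⟩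
  have h30 : (3 : F) = 0 := by simpa using CharP.cast_eq_zero F 3
  have h20 : (2 : F) ≠ 0 := fun h => one_ne_zero (α := F) (by linear_combination h30 - h)
  -- a square root of minus one in K
  letI : Field K := FieldTransvection.fieldOf hK
  haveI : Finite K := Finite.of_injective Subtype.val Subtype.val_injective
  letI : Fintype K := Fintype.ofFinite _
  have hKc : Fintype.card K = 9 := by
    rw [← Nat.card_eq_fintype_card, Module.natCard_eq_pow_finrank (K := F) (V := K), hK.finrank_eq, hc]; norm_num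
  obtain ⟨i, hi⟩ := FiniteField.isSquare_neg_one_iff.2 (show Fintype.card K % 4 ≠ 3 by rw [hKc]; norm_num)
  set I : Matrix ι ι F := (i : Matrix ι ι F) with hI
  have hII : I * I = -1 := (congrArg Subtype.val hi.symm).trans rfl
  have hroots : ∀ y : K, y * y = -1 → y = i ∨ y = -i := fun y hy => mul_self_eq_mul_self_iff.1 (hy.trans hi)
  have hspanK : ∀ y : K, ∃ a b : F, (y : Matrix ι ι F) = a • 1 + b • I := by
    have hindep : ∀ a b : F, a • (1 : Matrix ι ι F) + b • I = 0 → a = 0 ∧ b = 0 := by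
      intro a b h
      by_cases hb : b = 0
      · refine ⟨?_, hb⟩
        rw [hb, zero_smul, add_zero] at h
        exact (smul_eq_zero.1 h).resolve_right one_ne_zero
      exfalso
      have hIs : I = (-a / b) • (1 : Matrix ι ι F) := by
        rw [div_eq_inv_mul, ← smul_smul, neg_smul, ← eq_neg_of_add_eq_zero_right h, smul_smul, inv_mul_cancel₀ hb,
          one_smul]
      have h1 := congrFun (congrFun hII (e 0)) (e 0)
      rw [hIs] at h1
      simp at h1
      obtain ⟨x, hx⟩ := hφb.2 (-a / b)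
      rw [← hx, ← map_mul, ← map_one φ, ← map_neg] at h1
      exact (by decide +kernel : ∀ x : ZMod 3, x * x ≠ -1) x (φ.injective h1)
    let L : F × F →ₗ[F] K :=
      { toFun := fun p => p.1 • (1 : K) + p.2 • i
        map_add' := fun p r => by simp only [Prod.fst_add, Prod.snd_add, add_smul]; abel
        map_smul' := fun c p => by simp only [Prod.smul_fst, Prod.smul_snd, RingHom.id_apply, smul_add, smul_smul]; rfl }
    have hL : Function.Injective L := (injective_iff_map_eq_zero L).2 fun p hp => by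
      obtain ⟨a, b⟩ := hindep p.1 p.2 (congrArg Subtype.val hp)
      exact Prod.ext a b
    have hLs := (LinearMap.injective_iff_surjective_of_finrank_eq_finrank (by
      rw [hK.finrank_eq, Module.finrank_prod, Module.finrank_self])).1 hL
    intro y
    obtain ⟨p, rfl⟩ := hLs y
    exact ⟨p.1, p.2, rfl⟩
  have hskew : ∀ u v, f (I *ᵥ u) v = - f u (I *ᵥ v) := by
    obtain ⟨k', hk', hadj⟩ := hKa I i.2
    have hsq : (⟨k', hk'⟩ : K) * ⟨k', hk'⟩ = -1 := by
      refine Subtype.ext (Matrix.ext_of_mulVec_single fun r => ?_)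
      show (k' * k') *ᵥ _ = (-1 : Matrix ι ι F) *ᵥ _
      generalize (Pi.single r 1 : ι → F) = v
      by_contra hne
      obtain ⟨u, hu⟩ := (hf.nondegenerate _ (sub_ne_zero.2 hne)).1
      apply hu
      rw [hh.sub_right, ← Matrix.mulVec_mulVec, ← hadj, ← hadj, Matrix.mulVec_mulVec, hII, Matrix.neg_mulVec,
        Matrix.neg_mulVec, Matrix.one_mulVec, Matrix.one_mulVec, Symp.neg_left hf, Symp.neg_right hf, sub_self]
    rcases hroots _ hsq with h | h
    · exfalso
      refine hns fun k hk u v => ?_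
      obtain ⟨a, b, hab⟩ := hspanK ⟨k, hk⟩
      have hk'I : k' = I := congrArg Subtype.val h
      rw [show k = a • 1 + b • I from hab]
      simp only [Matrix.add_mulVec, Matrix.smul_mulVec, Matrix.one_mulVec, Symp.add_left hf, Symp.add_right hf,
        Symp.smul_left hf, Symp.smul_right hf]
      rw [hadj, hk'I]
    · intro u v
      rw [hadj, show k' = -I from congrArg Subtype.val h, Matrix.neg_mulVec, Symp.neg_right hf]
  have hIv : ∀ v, I *ᵥ (I *ᵥ v) = -v := fun v => by
    rw [Matrix.mulVec_mulVec, hII, Matrix.neg_mulVec, Matrix.one_mulVec]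
  have hIiso : ∀ u v, f (I *ᵥ u) (I *ᵥ v) = f u v := fun u v => by
    rw [hskew, hIv, Symp.neg_right hf, neg_neg]
  have hpol : ∀ u w, f w (I *ᵥ u) = f u (I *ᵥ w) := fun u w => by
    rw [hf.skew, hskew, neg_neg]
  -- a vector of value minus one in a nondegenerate stable subspace
  have hval : ∀ v, f v (I *ᵥ v) ≠ 0 → ∃ a b : F, f (a • v + b • (I *ᵥ v)) (I *ᵥ (a • v + b • (I *ᵥ v))) = -1 := by
    intro v hv
    obtain ⟨x, hx⟩ := hφb.2 (f v (I *ᵥ v))
    obtain ⟨a, b, hab⟩ := (by decide +kernel : ∀ x : ZMod 3, x ≠ 0 → ∃ a b : ZMod 3, (a * a + b * b) * x = -1) x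
      fun h => hv (by rw [← hx, h, map_zero])
    refine ⟨φ a, φ b, ?_⟩
    have hswap : f (I *ᵥ v) v = - f v (I *ᵥ v) := hf.skew _ _
    simp only [Matrix.mulVec_add, Matrix.mulVec_smul, hIv, Symp.add_left hf, Symp.add_right hf, Symp.smul_left hf,
      Symp.smul_right hf, Symp.neg_right hf, hf.alternating, hIiso, hswap]
    have h' := congrArg φ hab
    rw [map_mul, map_add, map_mul, map_mul, map_neg, map_one, hx] at h'
    linear_combination h'
  obtain ⟨v₀, hv₀⟩ : ∃ v, f v (I *ᵥ v) ≠ 0 := by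
    by_contra h
    push Not at h
    obtain ⟨u, hu0⟩ := exists_ne (0 : ι → F)
    obtain ⟨w, hw⟩ := (hf.nondegenerate u hu0).2
    apply hw
    have h1 := h (u + I *ᵥ w)
    have h4 : f (I *ᵥ w) w = 0 := by rw [hf.skew, h w, neg_zero]
    rw [Matrix.mulVec_add, hIv, Symp.add_left hf, Symp.add_right hf, Symp.add_right hf, Symp.neg_right hf,
      Symp.neg_right hf, h u, hIiso, h4, hf.skew w u] at h1
    have h5 : (2 : F) * f u w = 0 := by linear_combination -h1
    exact (mul_eq_zero.1 h5).resolve_left h20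
  obtain ⟨a₁, b₁, hab₁⟩ := hval v₀ hv₀
  set e₁ := a₁ • v₀ + b₁ • (I *ᵥ v₀) with he₁
  let L : (ι → F) →ₗ[F] F × F :=
    { toFun := fun z => (f z e₁, f z (I *ᵥ e₁))
      map_add' := fun a b => by simp [Symp.add_left hf]
      map_smul' := fun a b => by simp [Symp.smul_left hf] }
  have hker : ∀ z, z ∈ LinearMap.ker L ↔ f z e₁ = 0 ∧ f z (I *ᵥ e₁) = 0 := fun z => Prod.ext_iff
  have hstab : ∀ z ∈ LinearMap.ker L, I *ᵥ z ∈ LinearMap.ker L := fun z hz => by
    obtain ⟨h1, h2⟩ := (hker z).1 hz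
    exact (hker _).2 ⟨by rw [hskew, h2, neg_zero], by rw [hIiso, h1]⟩
  obtain ⟨v₂, hv₂, hv₂0⟩ : ∃ v ∈ LinearMap.ker L, f v (I *ᵥ v) ≠ 0 := by
    by_contra h
    push Not at h
    obtain ⟨u, hu, hu0⟩ := (Submodule.ne_bot_iff _).1 (LinearMap.ker_ne_bot_of_finrank_lt (f := L) (by
      rw [Module.finrank_prod, Module.finrank_self, Module.finrank_fintype_fun_eq_card,
        ← Fintype.card_congr e, Fintype.card_fin]; norm_num))
    obtain ⟨y, hy⟩ := (hf.nondegenerate u hu0).2
    apply hy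
    obtain ⟨hu1, hu2⟩ := (hker u).1 hu
    set y' := y + f y (I *ᵥ e₁) • e₁ + (-f y e₁) • (I *ᵥ e₁) with hy'
    have hy'K : y' ∈ LinearMap.ker L := (hker _).2 ⟨by
      simp only [hy', Symp.add_left hf, Symp.smul_left hf, hf.alternating, hf.skew (I *ᵥ e₁) e₁, hab₁]; ring, by
      simp only [hy', Symp.add_left hf, Symp.smul_left hf, hab₁, hIiso, hf.alternating]; ring⟩
    have h1 := h _ (add_mem hu (neg_mem (hstab _ hy'K)))
    have h2 := h u hu
    have h3 : f (I *ᵥ y') y' = 0 := by rw [hf.skew, h y' hy'K, neg_zero]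
    simp only [Matrix.mulVec_add, Matrix.mulVec_neg, hIv, neg_neg, Symp.add_left hf, Symp.add_right hf,
      Symp.neg_left hf, h2, h3, hIiso] at h1
    rw [hf.skew y' u] at h1
    have h4 : (2 : F) * f u y' = 0 := by linear_combination h1
    have h5 := (mul_eq_zero.1 h4).resolve_left h20
    simp only [hy', Symp.add_right hf, Symp.smul_right hf, hu1, hu2, mul_zero, add_zero] at h5
    exact h5
  obtain ⟨a₂, b₂, hab₂⟩ := hval v₂ hv₂0
  set e₂ := a₂ • v₂ + b₂ • (I *ᵥ v₂) with he₂
  obtain ⟨h21, h21'⟩ := (hker e₂).1 (add_mem (Submodule.smul_mem _ a₂ hv₂) (Submodule.smul_mem _ b₂ (hstab _ hv₂)))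
  -- coordinates
  let c : Fin 4 → (ι → F) := ![e₁, I *ᵥ e₁, e₂, I *ᵥ e₂]
  have hgram : ∀ r s, f (c r) (c s) = φ (gam r s) := by
    intro r s
    fin_cases r <;> fin_cases s <;>
      simp [c, gam, hf.alternating, hIiso, hab₁, hab₂, hf.skew (I *ᵥ e₁) e₁, hf.skew (I *ᵥ e₂) e₂,
        hf.skew (I *ᵥ e₁) e₂, hf.skew e₁ e₂, hf.skew (I *ᵥ e₂) e₁, hf.skew (I *ᵥ e₁) (I *ᵥ e₂), h21, h21',
        hskew e₂ e₁, hpol e₂ e₁]
  let P₀ : Matrix ι ι F := Matrix.of fun r s => c (e.symm s) r
  have hPv : ∀ x : ι → F, P₀ *ᵥ x = ∑ s, x (e s) • c s := fun x => by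
    funext r
    simp only [Finset.sum_apply, Pi.smul_apply, smul_eq_mul, P₀, Matrix.mulVec, dotProduct, Matrix.of_apply]
    exact (Fintype.sum_equiv e _ _ fun s => by simp [mul_comm]).symm
  let Γ : Matrix ι ι F := Matrix.reindexAlgEquiv F F e (φ.mapMatrix gam)
  have hform : ∀ x y, f (P₀ *ᵥ x) (P₀ *ᵥ y) = x ⬝ᵥ Γ *ᵥ y := fun x y => by
    rw [hPv, hPv]
    simp only [Fin.sum_univ_four, Symp.add_left hf, Symp.add_right hf, Symp.smul_left hf, Symp.smul_right hf, hgram]
    simp only [dotProduct, Matrix.mulVec, ← Equiv.sum_comp e, Fin.sum_univ_four, Γ, Matrix.reindexAlgEquiv_apply,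
      Matrix.reindex_apply, Matrix.submatrix_apply, Equiv.symm_apply_apply, RingHom.mapMatrix_apply, Matrix.map_apply]
    ring
  have hP₀ : P₀.det ≠ 0 := by
    intro h
    obtain ⟨v, hv0, hv⟩ := Matrix.exists_mulVec_eq_zero_iff.2 h
    apply hv0
    have hΓ : Γ * Γ = -1 := by
      rw [← map_mul, ← map_mul, show gam * gam = -1 by decide +kernel, map_neg, map_neg, map_one, map_one]
    have h1 : ∀ x : ι → F, x ⬝ᵥ Γ *ᵥ v = 0 := fun x => by rw [← hform, hv, (symplectic_isSesq hf).zero_right]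
    have h2 : Γ *ᵥ v = 0 := funext fun r => by simpa using h1 (Pi.single r 1)
    have h4 := congrArg (Γ *ᵥ ·) h2
    simpa [Matrix.mulVec_mulVec, hΓ, Matrix.neg_mulVec] using h4
  let P : GL ι F := Matrix.GeneralLinearGroup.mkOfDetNeZero P₀ hP₀
  have hIP : I * P₀ = P₀ * Γ := by
    refine Matrix.ext_of_mulVec_single fun r => ?_
    obtain ⟨r, rfl⟩ := e.surjective r
    have hP1 : ∀ s, P₀ *ᵥ Pi.single (e s) 1 = c s := fun s => by
      rw [hPv]; simp [Pi.single_apply, ite_smul]
    rw [← Matrix.mulVec_mulVec, ← Matrix.mulVec_mulVec, hP1, hPv]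
    simp only [Matrix.mulVec_single_one, Matrix.col_apply, Γ, Matrix.reindexAlgEquiv_apply, Matrix.reindex_apply,
      Matrix.submatrix_apply, Equiv.symm_apply_apply, RingHom.mapMatrix_apply, Matrix.map_apply, Fin.sum_univ_four]
    fin_cases r <;> simp [c, gam, hIv]
  let Φ : M3 →+* Matrix ι ι F :=
    { toFun := fun X => (P : Matrix ι ι F) * Matrix.reindexAlgEquiv F F e (φ.mapMatrix X) *
        ((P⁻¹ : GL ι F) : Matrix ι ι F)
      map_one' := by rw [map_one, map_one, mul_one, ← Units.val_mul, mul_inv_cancel, Units.val_one]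
      map_zero' := by simp
      map_mul' := fun X Y => by
        rw [map_mul, map_mul]
        simp only [Matrix.mul_assoc]
        rw [← Matrix.mul_assoc ((P⁻¹ : GL ι F) : Matrix ι ι F) (P : Matrix ι ι F), ← Units.val_mul, inv_mul_cancel,
          Units.val_one, one_mul]
      map_add' := fun X Y => by simp only [map_add, Matrix.mul_add, Matrix.add_mul] }
  have hΦb : Function.Bijective Φ := by
    constructor
    · intro X Y h
      have h' : Matrix.reindexAlgEquiv F F e (φ.mapMatrix X) = Matrix.reindexAlgEquiv F F e (φ.mapMatrix Y) :=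
        P.isUnit.mul_left_cancel ((P⁻¹).isUnit.mul_right_cancel h)
      exact Matrix.map_injective φ.injective ((Matrix.reindexAlgEquiv F F e).injective h')
    · intro Y
      let Z := (Matrix.reindexAlgEquiv F F e).symm (((P⁻¹ : GL ι F) : Matrix ι ι F) * Y * (P : Matrix ι ι F))
      refine ⟨Z.map (Function.surjInv hφb.2), ?_⟩
      show (P : Matrix ι ι F) * Matrix.reindexAlgEquiv F F e (φ.mapMatrix (Z.map (Function.surjInv hφb.2))) * _ = Y
      rw [show φ.mapMatrix (Z.map (Function.surjInv hφb.2)) = Z from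
        Matrix.ext fun r s => Function.surjInv_eq hφb.2 _, AlgEquiv.apply_symm_apply]
      simp [Matrix.mul_assoc]
  have hΦgam : Φ gam = I := by
    show (P : Matrix ι ι F) * Γ * _ = I
    rw [show (P : Matrix ι ι F) = P₀ from rfl, ← hIP, Matrix.mul_assoc, show P₀ = (P : Matrix ι ι F) from rfl,
      ← Units.val_mul, mul_inv_cancel, Units.val_one, mul_one]
  have hΦP : ∀ X (x : ι → F), Φ X *ᵥ (P₀ *ᵥ x) = P₀ *ᵥ (Matrix.reindexAlgEquiv F F e (φ.mapMatrix X) *ᵥ x) :=
    fun X x => by
    show ((P : Matrix ι ι F) * _ * ((P⁻¹ : GL ι F) : Matrix ι ι F)) *ᵥ ((P : Matrix ι ι F) *ᵥ x) = _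
    rw [← Matrix.mulVec_mulVec, ← Matrix.mulVec_mulVec, gl_inv_mulVec_mulVec]
    rfl
  have hΦiso : ∀ X : M3, (∀ u v, f (Φ X *ᵥ u) (Φ X *ᵥ v) = f u v) ↔ Xᵀ * gam * X = gam := by
    intro X
    have key : ∀ x y, f (Φ X *ᵥ (P₀ *ᵥ x)) (Φ X *ᵥ (P₀ *ᵥ y)) =
        x ⬝ᵥ Matrix.reindexAlgEquiv F F e (φ.mapMatrix (Xᵀ * gam * X)) *ᵥ y := fun x y => by
      rw [hΦP, hΦP, hform, map_mul, map_mul, map_mul, map_mul, ← Matrix.mulVec_mulVec, ← Matrix.mulVec_mulVec,
        show Matrix.reindexAlgEquiv F F e (φ.mapMatrix Xᵀ) = (Matrix.reindexAlgEquiv F F e (φ.mapMatrix X))ᵀ by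
          ext r s; simp, Matrix.dotProduct_mulVec x, Matrix.vecMul_transpose]
    constructor
    · intro h
      have h' : Matrix.reindexAlgEquiv F F e (φ.mapMatrix (Xᵀ * gam * X)) = Γ := by
        ext r s
        have := (key (Pi.single r 1) (Pi.single s 1)).symm.trans (h _ _) |>.trans (hform _ _)
        simpa using this
      exact Matrix.map_injective φ.injective ((Matrix.reindexAlgEquiv F F e).injective h')
    · intro h u v
      obtain ⟨x, rfl⟩ : ∃ x, P₀ *ᵥ x = u := ⟨_, gl_mulVec_inv_mulVec P u⟩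
      obtain ⟨y, rfl⟩ : ∃ y, P₀ *ᵥ y = v := ⟨_, gl_mulVec_inv_mulVec P v⟩
      rw [key, h, hform]
  -- the stabiliser of the ten involutions
  let S : Subgroup (GL ι F) :=
    { carrier := {g | ∀ X, (∃ T, InT T ∧ Φ T = (g : Matrix ι ι F) * X * ((g⁻¹ : GL ι F) : Matrix ι ι F)) ↔
        ∃ T, InT T ∧ Φ T = X}
      one_mem' := fun X => by simp
      mul_mem' := fun {a b} ha hb X => by
        rw [← hb X, ← ha ((b : Matrix ι ι F) * X * ((b⁻¹ : GL ι F) : Matrix ι ι F))]
        simp [Units.val_mul, Matrix.mul_assoc]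
      inv_mem' := fun {a} ha X => by
        rw [← ha (((a⁻¹ : GL ι F) : Matrix ι ι F) * X * (((a⁻¹)⁻¹ : GL ι F) : Matrix ι ι F))]
        simp [Matrix.mul_assoc] }
  have hmemS : ∀ (g : GL ι F) (G Gi : M3), G * Gi = 1 → Φ G = (g : Matrix ι ι F) →
      (∀ T, InT T → InT (G * T * Gi)) → g ∈ S := by
    intro g G Gi hi hg hperm X
    have hgi : Φ Gi = ((g⁻¹ : GL ι F) : Matrix ι ι F) :=
      g.isUnit.mul_left_cancel (by rw [← hg, ← map_mul, hi, map_one, hg, ← Units.val_mul, mul_inv_cancel, Units.val_one])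
    have hi' : Gi * G = 1 := mul_eq_one_comm.1 hi
    constructor
    · rintro ⟨T, hT, hTX⟩
      have hsurj : ∀ T, InT T → ∃ T', InT T' ∧ G * T' * Gi = T := by
        let Ψ : {T : M3 // InT T} → {T : M3 // InT T} := fun T => ⟨_, hperm T.1 T.2⟩
        have hΨ : Function.Injective Ψ := fun T T' h => Subtype.ext (by
          have h' : G * T.1 * Gi = G * T'.1 * Gi := congrArg Subtype.val h
          calc T.1 = Gi * (G * T.1 * Gi) * G := by
                rw [← Matrix.mul_assoc, ← Matrix.mul_assoc, hi', one_mul, Matrix.mul_assoc, hi', mul_one]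
            _ = Gi * (G * T'.1 * Gi) * G := by rw [h']
            _ = T'.1 := by rw [← Matrix.mul_assoc, ← Matrix.mul_assoc, hi', one_mul, Matrix.mul_assoc, hi', mul_one])
        intro T hT
        obtain ⟨⟨T', hT'⟩, h⟩ := Finite.surjective_of_injective hΨ ⟨T, hT⟩
        exact ⟨T', hT', congrArg Subtype.val h⟩
      obtain ⟨T', hT', rfl⟩ := hsurj T hT
      refine ⟨T', hT', ?_⟩
      rw [map_mul, map_mul, hg, hgi] at hTX
      exact g.isUnit.mul_left_cancel ((g⁻¹).isUnit.mul_right_cancel hTX)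
    · rintro ⟨T, hT, rfl⟩
      exact ⟨_, hperm T hT, by rw [map_mul, map_mul, hg, hgi]⟩
  have hHS : H ≤ S := by
    intro g hg
    obtain ⟨G, hG⟩ := hΦb.2 (g : Matrix ι ι F)
    obtain ⟨Gi, hGi⟩ := hΦb.2 ((g⁻¹ : GL ι F) : Matrix ι ι F)
    have hi' : G * Gi = 1 := hΦb.1 (by rw [map_mul, hG, hGi, ← Units.val_mul, mul_inv_cancel, Units.val_one, map_one])
    refine hmemS g G Gi hi' hG fun T hT => conj_inT hi' ((hΦiso G).1 fun u v => ?_) ?_ hT
    · rw [hG]; exact hΩf g (hH.1.le hg) u v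
    have hmem := (hle hg I).1 i.2
    have hsq : (⟨_, hmem⟩ : K) * ⟨_, hmem⟩ = -1 := Subtype.ext (by
      show (g : Matrix ι ι F) * I * _ * ((g : Matrix ι ι F) * I * _) = -1
      simp only [Matrix.mul_assoc]
      rw [← Matrix.mul_assoc ((g⁻¹ : GL ι F) : Matrix ι ι F), ← Units.val_mul, inv_mul_cancel, Units.val_one, one_mul,
        ← Matrix.mul_assoc I, hII, Matrix.neg_mul, one_mul, Matrix.mul_neg, ← Units.val_mul, mul_inv_cancel,
        Units.val_one])
    rcases hroots _ hsq with h | h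
    · left
      refine hΦb.1 ?_
      have h' : (g : Matrix ι ι F) * I * ((g⁻¹ : GL ι F) : Matrix ι ι F) = I := congrArg Subtype.val h
      rw [map_mul, map_mul, hG, hΦgam]
      conv_rhs => rw [← h', Matrix.mul_assoc, ← Units.val_mul, inv_mul_cancel, Units.val_one, mul_one]
    · right
      refine hΦb.1 ?_
      have h' : (g : Matrix ι ι F) * I * ((g⁻¹ : GL ι F) : Matrix ι ι F) = -I := congrArg Subtype.val h
      rw [map_neg, map_mul, map_mul, hG, hΦgam, ← Matrix.neg_mul, ← h', Matrix.mul_assoc ((g : Matrix ι ι F) * I),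
        ← Units.val_mul, inv_mul_cancel, Units.val_one, mul_one]
  let mk : ∀ G Gi : M3, G * Gi = 1 → GL ι F := fun G Gi h =>
    ⟨Φ G, Φ Gi, by rw [← map_mul, h, map_one], by rw [← map_mul, mul_eq_one_comm.1 h, map_one]⟩
  obtain ⟨hs1, hs2, hs3, hs4, hs5⟩ := sElt_props
  let s := mk sElt sInv hs1
  have hsS : s ∈ S := hmemS s sElt sInv hs1 rfl fun T hT => by
    obtain ⟨j, rfl | rfl⟩ := hT
    · exact hs5 j
    · obtain ⟨k, hk | hk⟩ := hs5 j
      · exact ⟨k, Or.inr (by rw [Matrix.mul_neg, Matrix.neg_mul, hk])⟩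
      · exact ⟨k, Or.inl (by rw [Matrix.mul_neg, Matrix.neg_mul, hk, neg_neg])⟩
  have hsΩ : s ∈ Ω := hΩall s ((hΦiso sElt).2 hs2)
  have hsH : s ∉ H := by
    intro h
    have hmem := (hle h I).1 i.2
    have hI' : (s : Matrix ι ι F) * I * ((s⁻¹ : GL ι F) : Matrix ι ι F) = Φ (sElt * gam * sInv) := by
      rw [map_mul, map_mul, hΦgam]; rfl
    have hsq : (⟨_, hmem⟩ : K) * ⟨_, hmem⟩ = -1 := Subtype.ext (by
      show (s : Matrix ι ι F) * I * _ * ((s : Matrix ι ι F) * I * _) = -1
      rw [hI', ← map_mul, show sElt * gam * sInv * (sElt * gam * sInv) = -1 by decide +kernel, map_neg, map_one])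
    rcases hroots _ hsq with h' | h'
    · exact hs3 (hΦb.1 (by rw [← hI', hΦgam]; exact congrArg Subtype.val h'))
    · exact hs4 (hΦb.1 (by rw [← hI', map_neg, hΦgam]; exact congrArg Subtype.val h'))
  obtain ⟨ht1, ht2, j, hj⟩ := tElt_props
  let t := mk tElt tInv ht1
  have htΩ : t ∈ Ω := hΩall t ((hΦiso tElt).2 ht2)
  rcases hH.2 (S ⊓ Ω) (le_inf hHS hH.1.le) inf_le_right with h | h
  · exact hsH (h ▸ ⟨hsS, hsΩ⟩)
  · have htS : t ∈ S := (h.symm ▸ htΩ : t ∈ S ⊓ Ω).1
    obtain ⟨T, hT, hTe⟩ := (htS (Φ (tz j))).2 ⟨_, ⟨j, Or.inl rfl⟩, rfl⟩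
    exact hj (hΦb.1 (show Φ T = Φ (tElt * tz j * tInv) by rw [hTe, map_mul, map_mul]; rfl) ▸ hT)

end CfsgLib.Geo.Asch.Sp4Three
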