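import Mathlib
import Cfsg.Prelude.Def_GeometricClasses
import Cfsg.Agent.Lib.Geo.AschUnitPowerProper
import Cfsg.Agent.Lib.GeomClasses.UnitPow

/-! Form transvections do not normalise a group of symplectic type of degree four. -/

set_option autoImplicit false
set_option linter.unusedSectionVars false

namespace CfsgLib.Geo.Asch

open Cfsg Cfsg.Geo Matrix CfsgLib.GeomClasses
open scoped MatrixGroups

variable {ι : Type} [Fintype ι] [DecidableEq ι] {F : Type*} [Field F] [Fintype F]
  {σ : F ≃+* F} {ε : F} {f : (ι → F) → (ι → F) → F}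

/-- A transvection at a point moved to an orthogonal one does not normalise a group of symplectic type. -/
theorem TypeR.formTv_not_normalizes_orth {r m : ℕ} {N : Subgroup (GL ι F)} (hN : TypeR r m N) (hf : Herm σ ε f)
    {u : ι → F} (hu : f u u = 0) {c : F} (hc : c ≠ 0) {x : GL ι F} (hx : x ∈ N)
    (hxiso : ∀ a b, f ((x : Matrix ι ι F) *ᵥ a) ((x : Matrix ι ι F) *ᵥ b) = f a b)
    (hxu : (x : Matrix ι ι F) *ᵥ u ∉ Submodule.span F {u}) (horth : f ((x : Matrix ι ι F) *ᵥ u) u = 0) :
    formTv f u c ∉ subgroupNormalizer N := by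
  intro ht
  have hu0 : u ≠ 0 := by rintro rfl; exact hxu (by simp)
  set w := (x : Matrix ι ι F) *ᵥ u with hw
  have huw : f u w = 0 := by rw [hf.symm w u, horth, map_zero, mul_zero]
  set t := formTv f u c with htdef
  set s := x * t * x⁻¹ with hs
  have htz : ∀ z, (t : Matrix ι ι F) *ᵥ z = z + (c * f z u) • u := fun z => hf.sesq.formTv_mulVec hu c z
  have hsz : ∀ z, (s : Matrix ι ι F) *ᵥ z = z + (c * f z w) • w := by
    intro z
    rw [hs, Units.val_mul, Units.val_mul, ← Matrix.mulVec_mulVec, ← Matrix.mulVec_mulVec, htz, Matrix.mulVec_add,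
      Matrix.mulVec_smul, gl_mulVec_inv_mulVec, ← hxiso _ u, gl_mulVec_inv_mulVec]
  have hcomm : Commute t s := Units.ext (Matrix.ext_of_mulVec_single fun i => by
    generalize (Pi.single i 1 : ι → F) = z
    simp only [Units.val_mul, ← Matrix.mulVec_mulVec, htz, hsz, hf.sesq.add_left, hf.sesq.smul_left, horth, huw,
      mul_zero, add_zero]
    abel)
  set E := r * Nat.gcd 2 r with hE
  have hD : t * s⁻¹ ∈ N := by
    rw [show t * s⁻¹ = t * x * t⁻¹ * x⁻¹ by rw [hs]; group]
    exact N.mul_mem ((Subgroup.mem_normalizer_iff.1 ht x).1 hx) (N.inv_mem hx)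
  have hts : t ^ E = s ^ E := by
    have h := hN.exp _ hD
    rw [← hE, hcomm.inv_right.mul_pow, inv_pow, mul_inv_eq_one] at h
    exact h
  have hpow : ∀ (g : GL ι F) (v : ι → F), (∀ z, (g : Matrix ι ι F) *ᵥ z = z + (c * f z v) • v) → f v v = 0 →
      ∀ (k : ℕ) z, ((g ^ k : GL ι F) : Matrix ι ι F) *ᵥ z = z + ((k : F) * (c * f z v)) • v := by
    intro g v hg hv k
    induction k with
    | zero => intro z; simp
    | succ k ih =>
      intro z
      rw [pow_succ, Units.val_mul, ← Matrix.mulVec_mulVec, hg, ih, hf.sesq.add_left, hf.sesq.smul_left, hv, mul_zero,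
        add_zero, add_assoc, ← add_smul]
      congr 2
      push_cast
      ring
  obtain ⟨y, hy⟩ := (hf.nondeg u hu0).1
  have h1 := congrArg (fun g : GL ι F => (g : Matrix ι ι F) *ᵥ y) hts
  simp only [hpow t u htz hu, hpow s w hsz (by rw [hw, hxiso, hu]), add_right_inj] at h1
  have hE0 : (E : F) ≠ 0 := by
    rw [hE, Nat.cast_mul]
    refine mul_ne_zero hN.prime_ne_zero ?_
    rcases hN.prime.eq_two_or_odd' with h | h
    · rw [h, Nat.gcd_self, ← h]; exact hN.prime_ne_zero
    · rw [Nat.coprime_two_left.2 h, Nat.cast_one]; exact one_ne_zero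
  by_cases hyw : f y w = 0
  · rw [hyw, mul_zero, mul_zero, zero_smul] at h1
    exact hu0 ((smul_eq_zero.1 h1).resolve_left (mul_ne_zero hE0 (mul_ne_zero hc hy)))
  · apply hxu
    have h0 := mul_ne_zero hE0 (mul_ne_zero hc hyw)
    refine Submodule.mem_span_singleton.2 ⟨((E : F) * (c * f y w))⁻¹ * ((E : F) * (c * f y u)), ?_⟩
    rw [mul_smul, h1, smul_smul, inv_mul_cancel₀ h0, one_smul]

/-- A subspace of dimension at least two in a unitary space has a non-zero isotropic vector. -/
theorem exists_isotropic_in (hf : IsUnitaryForm σ f) {W : Submodule F (ι → F)} (hW : 2 ≤ Module.finrank F W) :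
    ∃ a ∈ W, a ≠ 0 ∧ f a a = 0 := by
  obtain ⟨a, ha, ha0⟩ := (Submodule.ne_bot_iff W).1 fun h => by rw [h, finrank_bot] at hW; omega
  by_cases hα : f a a = 0
  · exact ⟨a, ha, ha0, hα⟩
  let L : W →ₗ[F] F :=
    { toFun := fun z => f z a
      map_add' := fun p q => Unit.add_left hf p q a
      map_smul' := fun k p => Unit.smul_left hf k p a }
  obtain ⟨b, hb, hb0⟩ := (Submodule.ne_bot_iff _).1 (LinearMap.ker_ne_bot_of_finrank_lt (f := L) (by
    rw [Module.finrank_self]; omega))
  have hba : f b a = 0 := hb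
  by_cases hβ : f (b : ι → F) b = 0
  · exact ⟨b, b.2, fun h => hb0 (Subtype.ext h), hβ⟩
  obtain ⟨l, hl⟩ := Unit.exists_norm hf.ne_refl hf.involutive
    (show σ (-(f a a) / f (b : ι → F) b) = -(f a a) / f (b : ι → F) b by
      rw [map_div₀, map_neg, Unit.self_fixed hf, Unit.self_fixed hf])
  refine ⟨a + l • (b : ι → F), W.add_mem ha (W.smul_mem l b.2), fun h => ?_, ?_⟩
  · apply hα
    have h' := congrArg (fun z => f z a) h
    simpa [Unit.add_left hf, Unit.smul_left hf, hba, Unit.zero_left hf] using h'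
  · simp only [Unit.add_left hf, Unit.add_right hf, Unit.smul_left hf, Unit.smul_right hf, hba,
      Unit.eq_zero_comm hf hba]
    rw [← mul_assoc, hl, div_mul_cancel₀ _ hβ]
    ring

theorem utv_not_le_typeR_normalizer_four {m : ℕ} {N : Subgroup (GL ι F)} (hN : TypeR 2 m N)
    (hcen : Nat.card (Subgroup.center N) = 4) (hf : IsUnitaryForm σ f) (h4 : Fintype.card ι = 4)
    (hNf : ∀ g ∈ N, ∀ a b, f ((g : Matrix ι ι F) *ᵥ a) ((g : Matrix ι ι F) *ᵥ b) = f a b)
    {Ω : Subgroup (GL ι F)} (hΩ : HasUTv σ f Ω) :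
    ¬ Ω ≤ subgroupNormalizer N := by
  classical
  intro hle
  haveI := hN.nonempty
  have h2 : (2 : F) ≠ 0 := by simpa using hN.prime_ne_zero
  -- minus one
  obtain ⟨z, hz, s, hs, hzv⟩ := hN.exists_root
  have hs1 : s = -1 := hs.eq_neg_one_of_two_right
  -- a square root of minus one
  obtain ⟨w, hw, c, hwv, hc2⟩ : ∃ w ∈ N, ∃ c : F, (w : Matrix ι ι F) = c • 1 ∧ c ^ 2 = -1 := by
    by_contra hno
    push Not at hno
    obtain ⟨i₀⟩ := (inferInstance : Nonempty ι)
    have hmem : ∀ y : Subgroup.center N, ∃ c : F, (((y : N) : GL ι F) : Matrix ι ι F) = c • 1 ∧ (c = 1 ∨ c = -1) := by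
      intro y
      have hy : ((y : N) : GL ι F) ∈ scalars ι F := by
        exact (SetLike.ext_iff.1 hN.center_eq (y : N)).1 y.2
      obtain ⟨a, ha⟩ := (mem_scalars_iff _).1 hy
      refine ⟨a, ha, ?_⟩
      have h4' : (a : F) ^ 4 = 1 := scalar_val ha (hN.exp _ (y : N).2)
      have hne := hno _ (y : N).2 a ha
      have h : ((a : F) ^ 2 - 1) * ((a : F) ^ 2 + 1) = 0 := by linear_combination h4'
      rcases mul_eq_zero.1 h with h | h
      · exact sq_eq_one_iff.1 (by linear_combination h)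
      · exact absurd (by linear_combination h) hne
    choose c hc hc' using hmem
    have hinj : Function.Injective fun y : Subgroup.center N => (⟨c y, hc' y⟩ : {c : F // c = 1 ∨ c = -1}) := by
      intro y y' h
      have h' : c y = c y' := congrArg Subtype.val h
      exact Subtype.ext (Subtype.ext (Units.ext (by rw [hc, hc, h'])))
    have := Nat.card_le_card_of_injective _ hinj
    rw [hcen] at this
    have hle2 : Nat.card {c : F // c = 1 ∨ c = -1} ≤ 2 := by
      rw [show {c : F // c = 1 ∨ c = -1} = ({1, -1} : Set F) from rfl, Nat.card_coe_set_eq]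
      exact (Set.ncard_insert_le _ _).trans (by simp)
    omega
  -- a non-central involution
  obtain ⟨x, hx, hxs, hx2⟩ : ∃ x ∈ N, x ∉ scalars ι F ∧ ∀ v, (x : Matrix ι ι F) *ᵥ ((x : Matrix ι ι F) *ᵥ v) = v := by
    obtain ⟨x, hx, hxs⟩ := hN.exists_nonscalar
    obtain ⟨a, ha⟩ := (mem_scalars_iff _).1 (hN.pow_mem x hx)
    have h4' : ((a : F) ^ 2) = 1 := by
      refine scalar_val (z := x ^ 2) ha ?_
      rw [← pow_mul]; exact hN.exp x hx
    rw [Units.val_pow_eq_pow_val, sq] at ha
    rcases sq_eq_one_iff.1 h4' with h | h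
    · exact ⟨x, hx, hxs, fun v => by rw [Matrix.mulVec_mulVec, ha, h, one_smul, Matrix.one_mulVec]⟩
    · refine ⟨x * w, N.mul_mem hx hw, fun hmem => hxs ?_, fun v => ?_⟩
      · obtain ⟨b, hb⟩ := (mem_scalars_iff _).1 hmem
        have hc0 : c ≠ 0 := fun h0 => by simp [h0] at hc2
        refine (mem_scalars_iff _).2 ⟨b * (Units.mk0 c hc0)⁻¹, ?_⟩
        rw [Units.val_mul, hwv, Matrix.mul_smul, mul_one] at hb
        rw [Units.val_mul, mul_comm (b : F), mul_smul, ← hb, smul_smul, Units.val_inv_eq_inv_val, Units.val_mk0,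
          inv_mul_cancel₀ hc0, one_smul]
      · simp only [Units.val_mul, hwv, Matrix.mul_smul, mul_one, Matrix.mulVec_mulVec, Matrix.smul_mul,
          smul_smul, ha, h]
        rw [Matrix.smul_mulVec, Matrix.one_mulVec, show c * (c * -1) = 1 by linear_combination (-1 : F) * hc2,
          one_smul]
  have hzx : z * x ∉ scalars ι F := fun h => hxs (by
    have := (scalars ι F).mul_mem ((scalars ι F).inv_mem ((mem_scalars_iff z).2
      ⟨Units.mk0 s (by rw [hs1]; exact neg_ne_zero.2 one_ne_zero), hzv⟩)) h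
    rwa [← mul_assoc, inv_mul_cancel, one_mul] at this)
  set Ep := LinearMap.ker (Matrix.toLin' (x : Matrix ι ι F) - LinearMap.id) with hEp
  set Em := LinearMap.ker (Matrix.toLin' ((z * x : GL ι F) : Matrix ι ι F) - LinearMap.id) with hEm
  have hp : ∀ v, v ∈ Ep ↔ (x : Matrix ι ι F) *ᵥ v = v := fun v => by simp [hEp, sub_eq_zero]
  have hm : ∀ v, v ∈ Em ↔ (x : Matrix ι ι F) *ᵥ v = -v := fun v => by
    simp [hEm, hzv, hs1, Matrix.neg_mulVec, ← Matrix.mulVec_mulVec, sub_eq_zero, neg_eq_iff_eq_neg]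
  have h1 := hN.two_fix hx hxs
  have h1' := hN.two_fix (N.mul_mem hz hx) hzx
  rw [h4] at h1 h1'
  change 2 * Module.finrank F Ep ≤ 4 at h1
  change 2 * Module.finrank F Em ≤ 4 at h1'
  have hsup : Ep ⊔ Em = ⊤ := eq_top_iff.2 fun v _ => by
    refine Submodule.mem_sup.2 ⟨(2 : F)⁻¹ • (v + (x : Matrix ι ι F) *ᵥ v), (hp _).2 ?_,
      (2 : F)⁻¹ • (v - (x : Matrix ι ι F) *ᵥ v), (hm _).2 ?_, ?_⟩
    · rw [Matrix.mulVec_smul, Matrix.mulVec_add, hx2, add_comm]
    · rw [Matrix.mulVec_smul, Matrix.mulVec_sub, hx2, ← smul_neg, neg_sub]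
    · rw [← smul_add, add_add_sub_cancel, ← two_smul F v, smul_smul, inv_mul_cancel₀ h2, one_smul]
  have hdim := Submodule.finrank_sup_add_finrank_inf_eq Ep Em
  rw [hsup, finrank_top, Module.finrank_fintype_fun_eq_card, h4] at hdim
  have hinf : Ep ⊓ Em = ⊥ := by
    rw [Submodule.eq_bot_iff]
    rintro v ⟨hv, hv'⟩
    have hvv := ((hp v).1 hv).symm.trans ((hm v).1 hv')
    have h2v : (2 : F) • v = 0 := by rw [two_smul]; exact eq_neg_iff_add_eq_zero.1 hvv
    exact (smul_eq_zero.1 h2v).resolve_left h2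
  rw [hinf, finrank_bot] at hdim
  obtain ⟨a, ha, ha0, haa⟩ := exists_isotropic_in hf (W := Ep) (by omega)
  obtain ⟨b, hb, hb0, hbb⟩ := exists_isotropic_in hf (W := Em) (by omega)
  have hab : f a b = 0 := by
    have h := hNf x hx a b
    rw [(hp a).1 ha, (hm b).1 hb, ← neg_one_smul F b, Unit.smul_right hf, map_neg, map_one] at h
    have h' : (2 : F) * f a b = 0 := by linear_combination -h
    exact (mul_eq_zero.1 h').resolve_left h2
  have hxab : (x : Matrix ι ι F) *ᵥ (a + b) = a - b := by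
    rw [Matrix.mulVec_add, (hp a).1 ha, (hm b).1 hb, sub_eq_add_neg]
  obtain ⟨k, hk0, hk⟩ := Unit.exists_skew hf.ne_refl hf.involutive
  have huu : f (a + b) (a + b) = 0 := by
    simp [Unit.add_left hf, Unit.add_right hf, haa, hbb, hab, Unit.eq_zero_comm hf hab]
  refine hN.formTv_not_normalizes_orth (herm_unitary hf) huu hk0 hx (hNf x hx) (fun h => ?_) ?_
    (hle (hΩ (a + b) k huu hk))
  · rw [hxab] at h
    obtain ⟨l, hl⟩ := Submodule.mem_span_singleton.1 h
    have hla : (l - 1) • a ∈ Ep ⊓ Em := by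
      refine ⟨Ep.smul_mem _ ha, ?_⟩
      rw [show (l - 1) • a = -((l + 1) • b) by
        rw [sub_smul, add_smul, one_smul, one_smul]
        rw [smul_add] at hl
        linear_combination (norm := module) hl]
      exact Em.neg_mem (Em.smul_mem _ hb)
    rw [hinf, Submodule.mem_bot] at hla
    have hl1 : l = 1 := sub_eq_zero.1 ((smul_eq_zero.1 hla).resolve_right ha0)
    rw [hl1, one_smul] at hl
    have : (2 : F) • b = 0 := by linear_combination (norm := module) hl
    exact hb0 ((smul_eq_zero.1 this).resolve_left h2)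
  · rw [hxab]
    simp [Unit.add_right hf, Unit.sub_left hf, haa, hbb, hab, Unit.eq_zero_comm hf hab]

end CfsgLib.Geo.Asch
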