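import Mathlib
import Cfsg.Prelude.Def_GeometricClasses
import Cfsg.Agent.Lib.Geo.AschTypeRFour
import Cfsg.Agent.Lib.Geo.AschFormProper
import Cfsg.Agent.Lib.Geo.AschFormField
import Cfsg.Agent.Lib.Geo.AschUnitFour

/-! Degree four symplectic: groups of symplectic type, and pairs of totally singular planes over three elements. -/

set_option autoImplicit false
set_option linter.unusedSectionVars false
set_option maxHeartbeats 1600000

namespace CfsgLib.Geo.Asch

open Cfsg Cfsg.Geo Matrix CfsgLib.GeomClasses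
open scoped MatrixGroups

variable {ι : Type} [Fintype ι] [DecidableEq ι] {F : Type*} [Field F] [Fintype F]
  {f : (ι → F) → (ι → F) → F}

theorem stv_not_le_typeR_normalizer_four {N : Subgroup (GL ι F)} (hN : TypeR 2 2 N)
    (hcen : Nat.card (Subgroup.center N) = 2) (hf : IsSymplecticForm f) (hfN : FixesForm (matrixSet N) f)
    {Ω : Subgroup (GL ι F)} (hΩ : HasSTv f Ω) : ¬ Ω ≤ subgroupNormalizer N := by
  classical
  intro hle
  have := hN.nonempty
  have h2 : (2 : F) ≠ 0 := by simpa using hN.prime_ne_zero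
  have hscal : ∀ g ∈ N, g ∈ scalars ι F →
      (g : Matrix ι ι F) = 1 ∨ (g : Matrix ι ι F) = -1 := by
    intro g hg hs
    obtain ⟨c, hc⟩ := (mem_scalars_iff g).1 hs
    obtain ⟨v, hv⟩ := exists_ne (0 : ι → F)
    obtain ⟨u, hu⟩ := (hf.nondegenerate v hv).1
    have h := hfN _ ⟨g, hg, rfl⟩ u v
    simp only [hc, Matrix.smul_mulVec, Matrix.one_mulVec, Symp.smul_left hf, Symp.smul_right hf, ← mul_assoc] at h
    rcases mul_self_eq_one_iff.1 (mul_right_cancel₀ hu (h.trans (one_mul _).symm)) with h1 | h1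
    · exact Or.inl (by rw [hc, h1, one_smul])
    · exact Or.inr (by rw [hc, h1, neg_smul, one_smul])
  have hsq : ∀ g ∈ N, (g : Matrix ι ι F) * (g : Matrix ι ι F) = 1 ∨ (g : Matrix ι ι F) * (g : Matrix ι ι F) = -1 := by
    intro g hg
    have := hscal _ (N.mul_mem hg hg) (by rw [← sq]; exact hN.pow_mem g hg)
    rwa [Units.val_mul] at this
  -- a non-central involution
  obtain ⟨x, hx, hxs, hx2⟩ : ∃ x ∈ N, x ∉ scalars ι F ∧ (x : Matrix ι ι F) * (x : Matrix ι ι F) = 1 := by
    by_contra hno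
    push Not at hno
    obtain ⟨x, hx, hxs⟩ := hN.exists_nonscalar
    obtain ⟨y, hy, s, hs, -, -, he⟩ := hN.exists_comm hx hxs
    have hx2 : (x : Matrix ι ι F) * (x : Matrix ι ι F) = -1 := (hsq x hx).resolve_left (hno x hx hxs)
    have hc : ∀ z ∈ N, z * x = x * z → ∃ b d : Bool,
        (z : Matrix ι ι F) = (if b then 1 else -1) * (if d then 1 else (x : Matrix ι ι F)) := by
      intro z hz hzx
      by_cases hzs : z ∈ scalars ι F
      · rcases hscal z hz hzs with h | h
        · exact ⟨true, true, by simp [h]⟩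
        · exact ⟨false, true, by simp [h]⟩
      have hz2 := (hsq z hz).resolve_left (hno z hz hzs)
      have hzxv : (z : Matrix ι ι F) * (x : Matrix ι ι F) = (x : Matrix ι ι F) * (z : Matrix ι ι F) := by
        rw [← Units.val_mul, hzx, Units.val_mul]
      have hxz : ((x * z : GL ι F) : Matrix ι ι F) * ((x * z : GL ι F) : Matrix ι ι F) = 1 := by
        rw [Units.val_mul, Matrix.mul_assoc, ← Matrix.mul_assoc (z : Matrix ι ι F), hzxv, Matrix.mul_assoc,
          hz2, ← Matrix.mul_assoc, hx2, neg_mul_neg, one_mul]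
      have hxzs : x * z ∈ scalars ι F := by
        by_contra h
        exact hno _ (N.mul_mem hx hz) h hxz
      have key : (z : Matrix ι ι F) = -((x : Matrix ι ι F) * ((x * z : GL ι F) : Matrix ι ι F)) := by
        rw [Units.val_mul, ← Matrix.mul_assoc, hx2, Matrix.neg_mul, one_mul, neg_neg]
      rcases hscal _ (N.mul_mem hx hz) hxzs with h | h
      · exact ⟨false, false, by rw [key, h]; simp⟩
      · exact ⟨true, false, by rw [key, h]; simp⟩
    have hy' : (y : Matrix ι ι F) * (x : Matrix ι ι F) = -((x : Matrix ι ι F) * (y : Matrix ι ι F)) := by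
      have h1 := congrArg (fun M => M * (y : Matrix ι ι F)) he
      simp only [Units.val_mul, Matrix.mul_assoc] at h1
      rw [← Units.val_mul y⁻¹ y, inv_mul_cancel, Units.val_one, mul_one] at h1
      rw [h1, hs.eq_neg_one_of_two_right, neg_smul, one_smul, Matrix.neg_mul]
    have hall : ∀ z : N, ∃ b d w : Bool, ((z : GL ι F) : Matrix ι ι F) =
        (if b then 1 else -1) * (if d then 1 else (x : Matrix ι ι F)) * (if w then 1 else (y : Matrix ι ι F)) := by
      intro z
      obtain ⟨c, hcv⟩ := (mem_scalars_iff _).1 (hN.cls z z.2 x hx)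
      have hcase : ((z : GL ι F) : Matrix ι ι F) * (x : Matrix ι ι F) =
          (c : F) • ((x : Matrix ι ι F) * ((z : GL ι F) : Matrix ι ι F)) := by
        have h1 := congrArg (fun M => M * ((x * (z : GL ι F) : GL ι F) : Matrix ι ι F)) hcv
        rw [← Units.val_mul, show (z : GL ι F) * x * (z : GL ι F)⁻¹ * x⁻¹ * (x * (z : GL ι F)) = (z : GL ι F) * x by group,
          Units.val_mul, Units.val_mul, Matrix.smul_mul, one_mul] at h1
        exact h1
      have hc1 : (c : F) = 1 ∨ (c : F) = -1 := by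
        have h : ((c : F) • (1 : Matrix ι ι F)) = 1 ∨ ((c : F) • (1 : Matrix ι ι F)) = -1 := by
          rw [← hcv]
          exact hscal _ (mul_mem (mul_mem (mul_mem z.2 hx) (inv_mem z.2)) (inv_mem hx)) (hN.cls z z.2 x hx)
        have i : ι := Classical.arbitrary ι
        rcases h with h | h
        · exact Or.inl (by simpa using congrFun (congrFun h i) i)
        · exact Or.inr (by simpa using congrFun (congrFun h i) i)
      rcases hc1 with h1 | h1
      · obtain ⟨b, d, h⟩ := hc z z.2 (Units.ext (by rw [Units.val_mul, hcase, h1, one_smul, Units.val_mul]))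
        exact ⟨b, d, true, by simp [h]⟩
      · have hyy := (hsq y hy).resolve_left (hno y hy (fun hys => by
          have h0 : y * x = x * y := scalars_comm hys x
          have h1 : (2 : F) • ((x : Matrix ι ι F) * (y : Matrix ι ι F)) = 0 := by
            rw [two_smul]
            nth_rewrite 1 [← Units.val_mul, ← h0, Units.val_mul, hy']
            exact neg_add_cancel _
          exact (x * y).ne_zero ((Units.val_mul x y).trans ((smul_eq_zero.1 h1).resolve_left h2))))
        have hcomm : (z : GL ι F) * y * x = x * ((z : GL ι F) * y) := Units.ext (by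
          simp only [Units.val_mul, Matrix.mul_assoc, hy', Matrix.mul_neg]
          rw [← Matrix.mul_assoc, hcase, h1, neg_smul, one_smul, Matrix.neg_mul, neg_neg, Matrix.mul_assoc])
        obtain ⟨b, d, h⟩ := hc _ (N.mul_mem z.2 hy) hcomm
        refine ⟨!b, d, false, ?_⟩
        rw [Units.val_mul] at h
        have h' : ((z : GL ι F) : Matrix ι ι F) =
            -(((z : GL ι F) : Matrix ι ι F) * (y : Matrix ι ι F) * (y : Matrix ι ι F)) := by
          rw [Matrix.mul_assoc, hyy, Matrix.mul_neg, mul_one, neg_neg]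
        rw [h', h]
        cases b <;> cases d <;> simp
    choose b d w hbdw using hall
    have hinj : Function.Injective fun z : N => (b z, d z, w z) := fun z z' h => by
      simp only [Prod.mk.injEq] at h
      exact Subtype.ext (Units.ext (by rw [hbdw z, hbdw z', h.1, h.2.1, h.2.2]))
    have h8 := Nat.card_le_card_of_injective _ hinj
    rw [hN.card_eq, hcen] at h8
    simp at h8
  have hx2' : ∀ v, (x : Matrix ι ι F) *ᵥ ((x : Matrix ι ι F) *ᵥ v) = v := fun v => by
    rw [Matrix.mulVec_mulVec, hx2, Matrix.one_mulVec]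
  obtain ⟨u, hxu⟩ : ∃ u, (x : Matrix ι ι F) *ᵥ u ∉ Submodule.span F {u} := by
    by_contra h
    push Not at h
    let π := Fintype.equivFin ι
    obtain ⟨r, hr⟩ := scalar_of_all_eigen (B := Matrix.reindex π π (x : Matrix ι ι F)) fun y => by
      obtain ⟨r, hr⟩ := Submodule.mem_span_singleton.1 (h (y ∘ π))
      refine ⟨r, funext fun i => ?_⟩
      rw [Matrix.reindex_apply, Matrix.submatrix_mulVec_equiv]
      simp only [Equiv.symm_symm, Function.comp_apply, ← hr, Pi.smul_apply, Equiv.apply_symm_apply]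
    have hxv : (x : Matrix ι ι F) = r • 1 := by
      ext i j
      have := congrFun (hr (Pi.single (π j) 1)) (π i)
      simpa [Matrix.mulVec_single, Pi.single_apply, Matrix.one_apply] using this
    refine hxs ((mem_scalars_iff x).2 ⟨Units.mk0 r (fun h0 => x.ne_zero (by rw [hxv, h0, zero_smul])), hxv⟩)
  have horth : f ((x : Matrix ι ι F) *ᵥ u) u = 0 := by
    have h1 := hfN _ ⟨x, hx, rfl⟩ u ((x : Matrix ι ι F) *ᵥ u)
    rw [hx2'] at h1
    have h3 : (2 : F) * f ((x : Matrix ι ι F) *ᵥ u) u = 0 := by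
      rw [hf.skew u] at h1
      linear_combination h1
    exact (mul_eq_zero.1 h3).resolve_left h2
  exact hN.formTv_not_normalizes_orth (herm_symplectic hf) (hf.alternating u) one_ne_zero hx
    (fun a b => hfN _ ⟨x, hx, rfl⟩ a b) hxu horth (hle (hΩ u 1))

/-- A self-adjoint involution preserved up to sign gives an orthogonal decomposition into two planes. -/
theorem planes_of_involution (h2 : (2 : F) ≠ 0) (h4 : Fintype.card ι = 4) (hf : IsSymplecticForm f)
    {T : Matrix ι ι F} (hT : T * T = 1) (hsa : ∀ u v, f (T *ᵥ u) v = f u (T *ᵥ v)) (h1 : T ≠ 1) (h1' : T ≠ -1)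
    {H : Subgroup (GL ι F)} (hH : ∀ g ∈ H, T * (g : Matrix ι ι F) = (g : Matrix ι ι F) * T ∨
      T * (g : Matrix ι ι F) = -((g : Matrix ι ι F) * T)) :
    ∃ D : Fin 2 → Submodule F (ι → F), IsNondegenerateMDecomposition f 2 D ∧ H ≤ decompositionStabilizer D := by
  classical
  haveI : Nonempty ι := Fintype.card_pos_iff.1 (by omega)
  have hh := herm_symplectic hf
  let s : Fin 2 → F := ![1, -1]
  have hs : ∀ i, s i * s i = 1 := fun i => by fin_cases i <;> simp [s]
  let D : Fin 2 → Submodule F (ι → F) := fun i => LinearMap.ker (Matrix.toLin' T - s i • LinearMap.id)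
  have hmem : ∀ i v, v ∈ D i ↔ T *ᵥ v = s i • v := fun i v => by simp [D, sub_eq_zero]
  have hdec : ∀ v, ∃ a ∈ D 0, ∃ b ∈ D 1, a + b = v := fun v => by
    refine ⟨(2 : F)⁻¹ • (v + T *ᵥ v), (hmem 0 _).2 ?_, (2 : F)⁻¹ • (v - T *ᵥ v), (hmem 1 _).2 ?_, ?_⟩
    · simp [s, Matrix.mulVec_smul, Matrix.mulVec_add, Matrix.mulVec_mulVec, hT, add_comm]
    · simp [s, Matrix.mulVec_smul, Matrix.mulVec_sub, Matrix.mulVec_mulVec, hT, ← smul_neg]
    · rw [← smul_add, add_add_sub_cancel, ← two_smul F v, smul_smul, inv_mul_cancel₀ h2, one_smul]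
  have horth : ∀ i j, i ≠ j → AreOrthogonalFor f (D i) (D j) := by
    intro i j hij u hu v hv
    have h := hsa u v
    rw [(hmem i u).1 hu, (hmem j v).1 hv, Symp.smul_left hf, Symp.smul_right hf] at h
    have h3 : s i - s j ≠ 0 := by
      fin_cases i <;> fin_cases j <;> simp [s] at hij ⊢
      · rw [one_add_one_eq_two]; exact h2
      · rw [show (-1 : F) - 1 = -2 by ring]; exact neg_ne_zero.2 h2
    exact (mul_eq_zero.1 (show (s i - s j) * f u v = 0 by linear_combination h)).resolve_left h3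
  have htop : D 0 ⊔ D 1 = ⊤ := eq_top_iff.2 fun v _ => by
    obtain ⟨a, ha, b, hb, rfl⟩ := hdec v
    exact Submodule.add_mem_sup ha hb
  have hnd : ∀ i, IsNondegenerateOn f (D i) := by
    intro i u hu hu0
    obtain ⟨y, hy⟩ := (hf.nondegenerate u hu0).2
    obtain ⟨a, ha, b, hb, rfl⟩ := hdec y
    rw [Symp.add_right hf] at hy
    have key : ∃ v ∈ D i, f u v ≠ 0 := by
      fin_cases i
      · refine ⟨a, ha, fun h => hy ?_⟩
        rw [h, horth 0 1 (by decide) u hu b hb, add_zero]
      · refine ⟨b, hb, fun h => hy ?_⟩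
        rw [h, horth 1 0 (by decide) u hu a ha, zero_add]
    obtain ⟨v, hv, huv⟩ := key
    exact ⟨⟨v, hv, by rw [hf.skew]; exact neg_ne_zero.2 huv⟩, ⟨v, hv, huv⟩⟩
  have hdisj : D 0 ⊓ D 1 = ⊥ := by
    rw [Submodule.eq_bot_iff]
    rintro v ⟨hv, hv'⟩
    by_contra hv0
    obtain ⟨y, hy, hne⟩ := (hnd 0 v hv hv0).1
    exact hne (horth 0 1 (by decide) y hy v hv')
  have hne : ∀ i, D i ≠ ⊥ := by
    intro i hbot
    have key : ∀ c : F, (∀ v, T *ᵥ v = c • v) → T = c • 1 := fun c hc =>
      Matrix.ext_of_mulVec_single fun j => by rw [hc, Matrix.smul_mulVec, Matrix.one_mulVec]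
    fin_cases i
    · refine h1' ((key (-1) fun v => ?_).trans (neg_one_smul F 1))
      obtain ⟨a, ha, b, hb, rfl⟩ := hdec v
      have hbot' : D 0 = ⊥ := hbot
      rw [hbot', Submodule.mem_bot] at ha
      rw [ha, zero_add]
      exact (hmem 1 b).1 hb
    · refine h1 ((key 1 fun v => ?_).trans (one_smul F 1))
      obtain ⟨a, ha, b, hb, rfl⟩ := hdec v
      have hbot' : D 1 = ⊥ := hbot
      rw [hbot', Submodule.mem_bot] at hb
      rw [hb, add_zero]
      exact (hmem 0 a).1 ha
  have hdim := Submodule.finrank_sup_add_finrank_inf_eq (D 0) (D 1)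
  rw [htop, hdisj, finrank_top, finrank_bot, Module.finrank_fintype_fun_eq_card, h4] at hdim
  have h20 := fun i => two_dvd_finrank_of_nondegenerate hf (hnd i)
  have hpos := fun i => Submodule.one_le_finrank_iff.2 (hne i)
  have hrank : ∀ i, Module.finrank F (D i) = 2 := by
    intro i
    have a0 := h20 0
    have a1 := h20 1
    have b0 := hpos 0
    have b1 := hpos 1
    fin_cases i <;> simp only [Fin.zero_eta, Fin.mk_one] <;> omega
  have hsup : iSup D = ⊤ :=
    eq_top_iff.2 (htop ▸ sup_le (le_iSup D 0) (le_iSup D 1))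
  have hind : iSupIndep D := by
    rw [iSupIndep_def]
    intro k
    have hother : (⨆ j, ⨆ (_ : j ≠ k), D j) ≤ D (1 - k) := iSup₂_le fun j hj => by
      rw [(by decide : ∀ j k : Fin 2, j ≠ k → j = 1 - k) j k hj]
    refine Disjoint.mono_right hother (disjoint_iff.2 ?_)
    fin_cases k
    · exact hdisj
    · show D 1 ⊓ D 0 = ⊥
      rw [inf_comm, hdisj]
  have hD : IsMDecomposition 2 D := ⟨le_rfl, two_pos, hrank, hind, hsup⟩
  refine ⟨D, ⟨hD, hnd, horth⟩, fun g hg => Decomp.mem_stabilizer_of_image hD fun i => ?_⟩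
  rcases hH g hg with h | h
  · refine ⟨i, fun v hv => (hmem i _).2 ?_⟩
    rw [Matrix.mulVec_mulVec, h, ← Matrix.mulVec_mulVec, (hmem i v).1 hv, Matrix.mulVec_smul]
  · refine ⟨1 - i, fun v hv => (hmem _ _).2 ?_⟩
    rw [Matrix.mulVec_mulVec, h, Matrix.neg_mulVec, ← Matrix.mulVec_mulVec, (hmem i v).1 hv, Matrix.mulVec_smul,
      ← neg_smul]
    congr 1
    fin_cases i <;> simp [s]

/-- Over three elements a pair of totally singular planes gives an orthogonal pair of planes. -/
theorem ts_pair_planes (h3 : Fintype.card F = 3) (e : Fin 4 ≃ ι) (hf : IsSymplecticForm f)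
    {D : Fin 2 → Submodule F (ι → F)} (hD : IsMDecomposition 2 D) (hTS : ∀ i, IsTotallySingularFor f (D i))
    {H : Subgroup (GL ι F)} (hH : IsoGrp f H) (hHd : H ≤ specialLinear ι F) (hle : H ≤ decompositionStabilizer D) :
    ∃ D' : Fin 2 → Submodule F (ι → F), IsNondegenerateMDecomposition f 2 D' ∧ H ≤ decompositionStabilizer D' := by
  classical
  haveI : Nonempty ι := ⟨e 0⟩
  have h4 : Fintype.card ι = 4 := by rw [← Fintype.card_congr e, Fintype.card_fin]
  have h30 : (3 : F) = 0 := by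
    have h := FiniteField.cast_card_eq_zero F
    rw [h3] at h
    exact_mod_cast h
  have h2 : (2 : F) ≠ 0 := fun h => one_ne_zero (α := F) (by linear_combination h30 - h)
  have hts : ∀ i, ∀ x ∈ D i, ∀ y ∈ D i, f x y = 0 := fun i x hx y hy => hTS i x hx y hy
  let B0 := Module.finBasisOfFinrankEq F (D 0) (hD.finrank_eq 0)
  set a₁ : ι → F := (B0 0 : ι → F) with ha₁
  set a₂ : ι → F := (B0 1 : ι → F) with ha₂
  have hspan : ∀ x ∈ D 0, ∃ r s : F, x = r • a₁ + s • a₂ := fun x hx => by
    refine ⟨B0.repr ⟨x, hx⟩ 0, B0.repr ⟨x, hx⟩ 1, ?_⟩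
    have := congrArg Subtype.val (B0.sum_repr ⟨x, hx⟩)
    rw [Fin.sum_univ_two] at this
    exact this.symm
  have hall : ∀ z, (∀ x ∈ D 0, f z x = 0) → (∀ x ∈ D 1, f z x = 0) → z = 0 := by
    intro z h0 h1
    by_contra hz
    obtain ⟨y, hy⟩ := (hf.nondegenerate z hz).2
    apply hy
    have hyD : y ∈ iSup D := by rw [hD.iSup_eq_top]; trivial
    refine Submodule.iSup_induction D (motive := fun y => f z y = 0) hyD ?_ ((symplectic_isSesq hf).zero_right z) ?_
    · intro i x hx
      fin_cases i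
      · exact h0 x hx
      · exact h1 x hx
    · intro x x' hx hx'
      rw [Symp.add_right hf, hx, hx', add_zero]
  let T : D 1 → F × F := fun z => (f a₁ (z : ι → F), f a₂ (z : ι → F))
  have hTb : Function.Bijective T := by
    have hinj : Function.Injective T := by
      intro z z' h
      refine Subtype.ext (sub_eq_zero.1 (hall _ (fun x hx => ?_) fun x hx => ?_))
      · obtain ⟨r, s, rfl⟩ := hspan x hx
        obtain ⟨h1, h2⟩ := Prod.ext_iff.1 h
        simp only [T] at h1 h2
        rw [hf.skew, Symp.add_left hf, Symp.smul_left hf, Symp.smul_left hf, sub_eq_add_neg, Symp.add_right hf,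
          Symp.add_right hf, Symp.neg_right hf, Symp.neg_right hf, h1, h2]
        ring
      · exact hts 1 _ ((D 1).sub_mem z.2 z'.2) x hx
    refine hinj.bijective_of_nat_card_le ?_
    rw [Nat.card_prod, Module.natCard_eq_pow_finrank (K := F) (V := D 1), hD.finrank_eq 1, sq]
  obtain ⟨⟨b₁, hb₁⟩, hb₁'⟩ := hTb.2 (1, 0)
  obtain ⟨⟨b₂, hb₂⟩, hb₂'⟩ := hTb.2 (0, 1)
  obtain ⟨h11, h21⟩ := Prod.ext_iff.1 hb₁'
  obtain ⟨h12, h22⟩ := Prod.ext_iff.1 hb₂'
  simp only [T] at h11 h12 h21 h22
  let c : Fin 4 → (ι → F) := ![a₁, a₂, b₁, b₂]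
  let blk : Fin 4 → Fin 2 := ![0, 0, 1, 1]
  let Γ : Matrix (Fin 4) (Fin 4) F := !![0, 0, 1, 0; 0, 0, 0, 1; -1, 0, 0, 0; 0, -1, 0, 0]
  have hcm : ∀ i, c i ∈ D (blk i) := fun i => by fin_cases i <;> simp [c, blk, ha₁, ha₂, hb₁, hb₂]
  have hgram : ∀ i j, f (c i) (c j) = Γ i j := by
    have m1 : a₁ ∈ D 0 := (B0 0).2
    have m2 : a₂ ∈ D 0 := (B0 1).2
    intro i j
    fin_cases i <;> fin_cases j <;>
      simp [c, Γ, h11, h12, h21, h22, hf.skew b₁ a₁, hf.skew b₁ a₂, hf.skew b₂ a₁, hf.skew b₂ a₂,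
        hts 0 _ m1 _ m1, hts 0 _ m1 _ m2, hts 0 _ m2 _ m1, hts 0 _ m2 _ m2, hts 1 _ hb₁ _ hb₁, hts 1 _ hb₁ _ hb₂,
        hts 1 _ hb₂ _ hb₁, hts 1 _ hb₂ _ hb₂]
  let P₀ : Matrix ι ι F := Matrix.of fun r s => c (e.symm s) r
  have hPv : ∀ x : ι → F, P₀ *ᵥ x = ∑ s, x (e s) • c s := fun x => by
    funext r
    simp only [Finset.sum_apply, Pi.smul_apply, smul_eq_mul, P₀, Matrix.mulVec, dotProduct, Matrix.of_apply]
    exact (Fintype.sum_equiv e _ _ fun s => by simp [mul_comm]).symm
  let R : Matrix (Fin 4) (Fin 4) F ≃ₐ[F] Matrix ι ι F := Matrix.reindexAlgEquiv F F e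
  have hRv : ∀ (M : Matrix (Fin 4) (Fin 4) F) i (x : ι → F), (R M *ᵥ x) (e i) = ∑ j, M i j * x (e j) := fun M i x => by
    simp only [Matrix.mulVec, dotProduct, R, Matrix.reindexAlgEquiv_apply]
    exact (Fintype.sum_equiv e _ _ fun j => by simp).symm
  have hform : ∀ x y, f (P₀ *ᵥ x) (P₀ *ᵥ y) = x ⬝ᵥ R Γ *ᵥ y := fun x y => by
    rw [hPv, hPv, show x ⬝ᵥ R Γ *ᵥ y = ∑ i, x (e i) * (R Γ *ᵥ y) (e i) from
      (Equiv.sum_comp e fun i => x i * (R Γ *ᵥ y) i).symm]
    simp only [Fin.sum_univ_four, Symp.add_left hf, Symp.add_right hf, Symp.smul_left hf, Symp.smul_right hf, hgram,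
      hRv]
    ring
  have hΓΓ : Γ * Γ = -1 := by
    ext i j; fin_cases i <;> fin_cases j <;> simp [Γ, Matrix.mul_apply, Fin.sum_univ_four]
  have hP₀ : P₀.det ≠ 0 := by
    intro h
    obtain ⟨v, hv0, hv⟩ := Matrix.exists_mulVec_eq_zero_iff.2 h
    apply hv0
    have h1 : ∀ x : ι → F, x ⬝ᵥ R Γ *ᵥ v = 0 := fun x => by rw [← hform, hv, (symplectic_isSesq hf).zero_right]
    have h2 : R Γ *ᵥ v = 0 := funext fun r => by simpa using h1 (Pi.single r 1)
    have h4 := congrArg (R Γ *ᵥ ·) h2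
    simpa [Matrix.mulVec_mulVec, ← map_mul, hΓΓ, Matrix.neg_mulVec] using h4
  let P : GL ι F := Matrix.GeneralLinearGroup.mkOfDetNeZero P₀ hP₀
  let T₀ : Matrix ι ι F := (P : Matrix ι ι F) * R antiK * ((P⁻¹ : GL ι F) : Matrix ι ι F)
  have hT0 : ∀ x, T₀ *ᵥ (P₀ *ᵥ x) = P₀ *ᵥ (R antiK *ᵥ x) := fun x => by
    show ((P : Matrix ι ι F) * R antiK * ((P⁻¹ : GL ι F) : Matrix ι ι F)) *ᵥ ((P : Matrix ι ι F) *ᵥ x) = _
    rw [← Matrix.mulVec_mulVec, ← Matrix.mulVec_mulVec, gl_inv_mulVec_mulVec]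
    rfl
  refine planes_of_involution h2 h4 hf (T := T₀) ?_ ?_ ?_ ?_ ?_
  · show (P : Matrix ι ι F) * R antiK * ((P⁻¹ : GL ι F) : Matrix ι ι F) *
      ((P : Matrix ι ι F) * R antiK * ((P⁻¹ : GL ι F) : Matrix ι ι F)) = 1
    simp only [Matrix.mul_assoc]
    rw [← Matrix.mul_assoc ((P⁻¹ : GL ι F) : Matrix ι ι F), ← Units.val_mul, inv_mul_cancel, Units.val_one, one_mul,
      ← Matrix.mul_assoc (R antiK), ← map_mul, antiK_sq, map_one, one_mul, ← Units.val_mul, mul_inv_cancel,
      Units.val_one]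
  · intro u v
    obtain ⟨x, rfl⟩ : ∃ x, P₀ *ᵥ x = u := ⟨_, gl_mulVec_inv_mulVec P u⟩
    obtain ⟨y, rfl⟩ : ∃ y, P₀ *ᵥ y = v := ⟨_, gl_mulVec_inv_mulVec P v⟩
    rw [hT0, hT0, hform, hform, Matrix.mulVec_mulVec, ← map_mul, ← Matrix.vecMul_transpose, ← Matrix.dotProduct_mulVec,
      Matrix.mulVec_mulVec, show (R antiK)ᵀ = R antiKᵀ by ext i j; simp [R], ← map_mul,
      show antiKᵀ * Γ = Γ * antiK by
        ext i j; fin_cases i <;> fin_cases j <;> simp [Γ, antiK, Matrix.mul_apply, Fin.sum_univ_four]]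
  · intro h
    have h' : R antiK = 1 := P.isUnit.mul_left_cancel ((P⁻¹).isUnit.mul_right_cancel (by
      rw [mul_one, ← Units.val_mul P P⁻¹, mul_inv_cancel, Units.val_one]; exact h))
    rw [← map_one R] at h'
    simpa [antiK] using congrFun (congrFun (R.injective h') 0) 0
  · intro h
    have h' : R antiK = -1 := P.isUnit.mul_left_cancel ((P⁻¹).isUnit.mul_right_cancel (by
      rw [Matrix.mul_neg, mul_one, Matrix.neg_mul, ← Units.val_mul P P⁻¹, mul_inv_cancel, Units.val_one]; exact h))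
    rw [← map_one R, ← map_neg] at h'
    simpa [antiK] using congrFun (congrFun (R.injective h') 0) 0
  intro g hg
  set G : Matrix (Fin 4) (Fin 4) F := R.symm ((P⁻¹ * g * P : GL ι F) : Matrix ι ι F) with hGdef
  have hgP' : (g : Matrix ι ι F) * P₀ = P₀ * R G := by
    rw [hGdef, AlgEquiv.apply_symm_apply]
    show (g : Matrix ι ι F) * (P : Matrix ι ι F) = (P : Matrix ι ι F) * _
    rw [← Units.val_mul, ← Units.val_mul]
    congr 1
    group
  have hgP : ∀ j, (g : Matrix ι ι F) *ᵥ c j = ∑ i, G i j • c i := fun j => by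
    have hcol : c j = P₀ *ᵥ Pi.single (e j) 1 := by rw [hPv]; simp [Pi.single_apply, ite_smul]
    conv_lhs => rw [hcol, Matrix.mulVec_mulVec, hgP', ← Matrix.mulVec_mulVec, hPv]
    refine Finset.sum_congr rfl fun i _ => ?_
    rw [hRv]
    simp [Pi.single_apply]
  obtain ⟨τ, hτ⟩ := hle hg
  have hmem : ∀ j, (g : Matrix ι ι F) *ᵥ c j ∈ D (τ (blk j)) := fun j => by
    rw [← hτ]; exact ⟨_, hcm j, Matrix.toLin'_apply _ _⟩
  let ν : Fin 4 → Fin 4 := ![2, 3, 0, 1]
  have hzero : ∀ i j, blk (ν i) = τ (blk j) → G i j = 0 := fun i j h => by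
    have h1 := hts _ _ (hmem j) _ (by rw [← h]; exact hcm (ν i) : c (ν i) ∈ D (τ (blk j)))
    rw [hgP, Fin.sum_univ_four] at h1
    simp only [Symp.add_left hf, Symp.smul_left hf, hgram] at h1
    fin_cases i <;> simpa [Γ, ν] using h1
  have hiso : Gᵀ * Γ * G = Γ := by
    ext i j
    rw [← hgram i j, ← hH g hg (c i) (c j), hgP, hgP]
    simp only [Fin.sum_univ_four, Symp.add_left hf, Symp.add_right hf, Symp.smul_left hf, Symp.smul_right hf, hgram,
      Matrix.mul_apply, Matrix.transpose_apply]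
    ring
  have hGdet : G.det = 1 := by
    have h1 : Matrix.GeneralLinearGroup.det (P⁻¹ * g * P) = 1 := by
      rw [map_mul, map_mul, show Matrix.GeneralLinearGroup.det g = 1 from hHd hg, mul_one, ← map_mul,
        inv_mul_cancel, map_one]
    have h2 := congrArg Units.val h1
    rw [Matrix.GeneralLinearGroup.val_det_apply, Units.val_one] at h2
    rw [← h2, ← show R G = ((P⁻¹ * g * P : GL ι F) : Matrix ι ι F) from AlgEquiv.apply_symm_apply _ _]
    exact (Matrix.det_reindexAlgEquiv F F e G).symm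
  have hsq : ∀ d : F, d ≠ 0 → d * d = 1 := by
    intro d hd
    have := FiniteField.pow_card_sub_one_eq_one d hd
    rw [h3] at this
    rwa [sq] at this
  let S : Matrix (Fin 4) (Fin 4) F := !![0, 1, 0, 0; -1, 0, 0, 0; 0, 0, 0, 1; 0, 0, -1, 0]
  suffices hS : ∃ μ : F, μ * μ = 1 ∧ Gᵀ * (S * G) = μ • S by
    obtain ⟨μ, hμ, hS⟩ := hS
    have hSG : S = Γ * antiK ∨ S = -(Γ * antiK) := by
      first
        | (right; ext i j; fin_cases i <;> fin_cases j <;>
            simp [Γ, S, antiK, Matrix.mul_apply, Fin.sum_univ_four]; done)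
        | (left; ext i j; fin_cases i <;> fin_cases j <;>
            simp [Γ, S, antiK, Matrix.mul_apply, Fin.sum_univ_four])
    have hS' : Gᵀ * (Γ * antiK * G) = μ • (Γ * antiK) := by
      rcases hSG with h | h
      · rwa [h] at hS
      · rw [h] at hS
        simpa using congrArg Neg.neg hS
    have hGT : IsUnit Gᵀ := (Matrix.isUnit_iff_isUnit_det _).2 (by rw [Matrix.det_transpose, hGdet]; exact isUnit_one)
    have h5 : Γ * (antiK * G) = Γ * (μ • (G * antiK)) := hGT.mul_left_cancel (by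
      rw [Matrix.mul_smul Γ, Matrix.mul_smul, ← Matrix.mul_assoc Γ, hS']
      simp only [← Matrix.mul_assoc, hiso])
    have h6 : antiK * G = μ • (G * antiK) := by
      have := congrArg (Γ * ·) h5
      simpa [← Matrix.mul_assoc, hΓΓ] using this
    have hTP : T₀ * P₀ = P₀ * R antiK := by
      show (P : Matrix ι ι F) * R antiK * ((P⁻¹ : GL ι F) : Matrix ι ι F) * (P : Matrix ι ι F) = _
      rw [Matrix.mul_assoc _ ((P⁻¹ : GL ι F) : Matrix ι ι F), ← Units.val_mul, inv_mul_cancel, Units.val_one, mul_one]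
      rfl
    have hgen : T₀ * (g : Matrix ι ι F) = μ • ((g : Matrix ι ι F) * T₀) := P.isUnit.mul_right_cancel (by
      show T₀ * (g : Matrix ι ι F) * P₀ = μ • ((g : Matrix ι ι F) * T₀) * P₀
      rw [Matrix.mul_assoc T₀, hgP', ← Matrix.mul_assoc, hTP, Matrix.mul_assoc, ← map_mul, h6, map_smul,
        Matrix.smul_mul, Matrix.mul_assoc _ T₀, hTP, ← Matrix.mul_assoc, hgP', Matrix.mul_assoc, map_mul,
        Matrix.mul_smul])
    rcases mul_self_eq_one_iff.1 hμ with h | h
    · exact Or.inl (by rw [hgen, h, one_smul])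
    · exact Or.inr (by rw [hgen, h, neg_smul, one_smul])
  have h0 := hGdet
  rw [Matrix.det_succ_row_zero] at h0
  rcases (by decide : ∀ a : Fin 2, a = 0 ∨ a = 1) (τ 0) with ht | ht
  · have ht1 : τ 1 = 1 := by
      rcases (by decide : ∀ a : Fin 2, a = 0 ∨ a = 1) (τ 1) with h | h
      · exact absurd (τ.injective (ht.trans h.symm)) (by decide)
      · exact h
    have z02 := hzero 0 2 (by simp [blk, ν, ht1])
    have z03 := hzero 0 3 (by simp [blk, ν, ht1])
    have z12 := hzero 1 2 (by simp [blk, ν, ht1])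
    have z13 := hzero 1 3 (by simp [blk, ν, ht1])
    have z20 := hzero 2 0 (by simp [blk, ν, ht])
    have z21 := hzero 2 1 (by simp [blk, ν, ht])
    have z30 := hzero 3 0 (by simp [blk, ν, ht])
    have z31 := hzero 3 1 (by simp [blk, ν, ht])
    simp [Matrix.det_fin_three, Fin.sum_univ_succ, Fin.succAbove, z02, z03, z12, z13, z20, z21, z30, z31] at h0
    set d := G 0 0 * G 1 1 - G 0 1 * G 1 0 with hd
    set d' := G 2 2 * G 3 3 - G 2 3 * G 3 2 with hd'
    have hdd : d * d' = 1 := by rw [hd, hd']; linear_combination h0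
    have hd1 := hsq d' (right_ne_zero_of_mul_eq_one hdd)
    have hde : d = d' := by linear_combination d' * hdd - d * hd1
    refine ⟨d, by rw [hde, hd1], ?_⟩
    ext i j
    fin_cases i <;> fin_cases j <;>
      simp [S, Matrix.mul_apply, Matrix.vecMul, dotProduct, Fin.sum_univ_four, z02, z03, z12, z13, z20, z21, z30, z31] <;>
      first
        | ring1
        | (rw [hd]; ring1)
        | linear_combination hd' - hd + hde
        | linear_combination hd - hd' - hde
  · have ht1 : τ 1 = 0 := by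
      rcases (by decide : ∀ a : Fin 2, a = 0 ∨ a = 1) (τ 1) with h | h
      · exact h
      · exact absurd (τ.injective (ht.trans h.symm)) (by decide)
    have z00 := hzero 0 0 (by simp [blk, ν, ht])
    have z01 := hzero 0 1 (by simp [blk, ν, ht])
    have z10 := hzero 1 0 (by simp [blk, ν, ht])
    have z11 := hzero 1 1 (by simp [blk, ν, ht])
    have z22 := hzero 2 2 (by simp [blk, ν, ht1])
    have z23 := hzero 2 3 (by simp [blk, ν, ht1])
    have z32 := hzero 3 2 (by simp [blk, ν, ht1])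
    have z33 := hzero 3 3 (by simp [blk, ν, ht1])
    simp [Matrix.det_fin_three, Fin.sum_univ_succ, Fin.succAbove, z00, z01, z10, z11, z22, z23, z32, z33] at h0
    set d := G 2 0 * G 3 1 - G 2 1 * G 3 0 with hd
    set d' := G 0 2 * G 1 3 - G 0 3 * G 1 2 with hd'
    have hdd : d * d' = 1 := by rw [hd, hd']; linear_combination h0
    have hd1 := hsq d' (right_ne_zero_of_mul_eq_one hdd)
    have hde : d = d' := by linear_combination d' * hdd - d * hd1
    refine ⟨d, by rw [hde, hd1], ?_⟩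
    ext i j
    fin_cases i <;> fin_cases j <;>
      simp [S, Matrix.mul_apply, Matrix.vecMul, dotProduct, Fin.sum_univ_four, z00, z01, z10, z11, z22, z23, z32, z33] <;>
      first
        | ring1
        | (rw [hd]; ring1)
        | linear_combination hd' - hd + hde
        | linear_combination hd - hd' - hde

end CfsgLib.Geo.Asch
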