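import Mathlib

/-! Tables for a subgroup L2(11) of SU5(2): matrices over a table model of the field with four elements. -/

set_option autoImplicit false

namespace CfsgLib.Geo.Asch.SU5Tables

/-- Matrices over the table model. -/
abbrev Mat := Fin 5 → Fin 5 → Fin 4

/-- Addition table. -/
def add : Fin 4 → Fin 4 → Fin 4 := ![![0, 1, 2, 3], ![1, 0, 3, 2], ![2, 3, 0, 1], ![3, 2, 1, 0]]

/-- Multiplication table. -/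
def mul : Fin 4 → Fin 4 → Fin 4 := ![![0, 0, 0, 0], ![0, 1, 2, 3], ![0, 2, 3, 1], ![0, 3, 1, 2]]

/-- Conjugation table. -/
def cj : Fin 4 → Fin 4 := ![0, 1, 3, 2]

/-- Sum of five entries. -/
def sum5 (f : Fin 5 → Fin 4) : Fin 4 := add (f 0) (add (f 1) (add (f 2) (add (f 3) (f 4))))

/-- Matrix product. -/
def mmul (A B : Mat) : Mat := fun i j => sum5 fun k => mul (A i k) (B k j)

/-- Matrix times vector. -/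
def mvec (A : Mat) (v : Fin 5 → Fin 4) : Fin 5 → Fin 4 := fun i => sum5 fun k => mul (A i k) (v k)

/-- Scalar times vector. -/
def scl (c : Fin 4) (v : Fin 5 → Fin 4) : Fin 5 → Fin 4 := fun i => mul c (v i)

/-- The identity. -/
def one : Mat := fun i j => if i = j then 1 else 0

/-- Unitarity. -/
def IsUni (A : Mat) : Prop := ∀ i j, (sum5 fun k => mul (A k i) (cj (A k j))) = one i j

instance (A : Mat) : Decidable (IsUni A) := inferInstanceAs (Decidable (∀ i j, _ = _))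

/-- Trace. -/
def tr (A : Mat) : Fin 4 := sum5 fun i => A i i

def gX : Mat := ![![0, 0, 3, 3, 3], ![1, 3, 2, 3, 1], ![3, 2, 3, 2, 1], ![1, 0, 3, 0, 3], ![0, 2, 2, 0, 2]]

def gY : Mat := ![![0, 3, 1, 1, 0], ![3, 1, 0, 2, 0], ![3, 1, 2, 0, 0], ![3, 0, 2, 2, 0], ![0, 0, 0, 0, 1]]

def gZ : Mat := ![![0, 1, 2, 0, 1], ![1, 0, 2, 0, 1], ![3, 3, 1, 0, 0], ![0, 0, 0, 1, 0], ![1, 1, 0, 0, 1]]

def gW : Mat := ![![1, 0, 0, 0, 0], ![0, 1, 0, 0, 0], ![0, 0, 1, 0, 0], ![0, 0, 0, 0, 1], ![0, 0, 0, 1, 0]]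

/-- An orbit of the group on lines. -/
def lineSet : List (Fin 5 → Fin 4) :=
  [![0, 0, 0, 1, 0],
   ![0, 0, 1, 0, 0],
   ![0, 0, 1, 2, 2],
   ![0, 0, 1, 3, 1],
   ![0, 1, 0, 2, 1],
   ![0, 1, 0, 2, 2],
   ![0, 1, 2, 0, 1],
   ![0, 1, 2, 0, 3],
   ![0, 1, 2, 1, 0],
   ![0, 1, 3, 2, 0],
   ![1, 0, 0, 1, 2],
   ![1, 0, 0, 1, 3],
   ![1, 0, 0, 2, 3],
   ![1, 0, 0, 3, 2],
   ![1, 0, 0, 3, 3],
   ![1, 0, 1, 0, 2],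
   ![1, 0, 1, 0, 3],
   ![1, 0, 1, 3, 0],
   ![1, 0, 2, 0, 2],
   ![1, 0, 2, 2, 0],
   ![1, 0, 3, 0, 2],
   ![1, 0, 3, 0, 3],
   ![1, 1, 0, 1, 0],
   ![1, 1, 1, 1, 1],
   ![1, 1, 1, 1, 2],
   ![1, 1, 1, 2, 1],
   ![1, 1, 1, 2, 2],
   ![1, 1, 1, 3, 1],
   ![1, 1, 2, 1, 2],
   ![1, 1, 2, 3, 1],
   ![1, 1, 2, 3, 3],
   ![1, 1, 3, 0, 0],
   ![1, 1, 3, 1, 2],
   ![1, 1, 3, 1, 3],
   ![1, 1, 3, 2, 3],
   ![1, 1, 3, 3, 1],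
   ![1, 1, 3, 3, 3],
   ![1, 2, 0, 0, 1],
   ![1, 2, 0, 2, 0],
   ![1, 2, 1, 2, 3],
   ![1, 2, 1, 3, 1],
   ![1, 2, 1, 3, 2],
   ![1, 2, 2, 2, 2],
   ![1, 2, 2, 3, 2],
   ![1, 2, 3, 3, 2],
   ![1, 2, 3, 3, 3],
   ![1, 3, 0, 0, 1],
   ![1, 3, 1, 1, 2],
   ![1, 3, 1, 1, 3],
   ![1, 3, 1, 2, 3],
   ![1, 3, 1, 3, 1],
   ![1, 3, 1, 3, 3],
   ![1, 3, 2, 0, 0],
   ![1, 3, 2, 2, 3],
   ![1, 3, 2, 3, 2]]

/-- The powers of `gX`. -/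
def xPow : Fin 12 → Mat :=
  ![![![1, 0, 0, 0, 0], ![0, 1, 0, 0, 0], ![0, 0, 1, 0, 0], ![0, 0, 0, 1, 0], ![0, 0, 0, 0, 1]],
    ![![0, 0, 3, 3, 3], ![1, 3, 2, 3, 1], ![3, 2, 3, 2, 1], ![1, 0, 3, 0, 3], ![0, 2, 2, 0, 2]],
    ![![1, 0, 1, 1, 0], ![1, 3, 3, 2, 2], ![2, 2, 0, 2, 0], ![2, 0, 0, 2, 1], ![3, 1, 1, 2, 3]],
    ![![2, 2, 3, 1, 1], ![3, 0, 2, 0, 1], ![0, 1, 3, 0, 2], ![2, 2, 2, 1, 2], ![0, 0, 3, 3, 2]],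
    ![![1, 2, 1, 1, 1], ![1, 1, 1, 1, 2], ![3, 1, 3, 2, 1], ![2, 1, 3, 3, 1], ![1, 2, 3, 1, 2]],
    ![![0, 1, 2, 0, 1], ![3, 2, 2, 2, 3], ![1, 0, 1, 0, 3], ![0, 0, 1, 3, 3], ![1, 3, 2, 3, 2]],
    ![![0, 2, 1, 0, 1], ![1, 3, 0, 0, 2], ![3, 3, 1, 1, 3], ![0, 3, 0, 2, 2], ![1, 2, 2, 2, 3]],
    ![![1, 1, 2, 3, 1], ![3, 1, 1, 1, 3], ![1, 1, 2, 2, 2], ![1, 1, 3, 2, 1], ![1, 3, 1, 1, 3]],
    ![![3, 2, 0, 3, 0], ![3, 0, 1, 3, 0], ![2, 3, 2, 3, 2], ![1, 0, 0, 1, 2], ![1, 1, 3, 3, 3]],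
    ![![1, 1, 3, 3, 2], ![0, 2, 3, 0, 1], ![1, 2, 0, 0, 1], ![1, 3, 3, 3, 3], ![0, 3, 0, 1, 2]],
    ![![0, 1, 2, 1, 0], ![0, 2, 3, 0, 3], ![2, 3, 2, 2, 3], ![2, 2, 3, 0, 0], ![2, 1, 1, 2, 3]],
    ![![1, 0, 0, 0, 0], ![0, 1, 0, 0, 0], ![0, 0, 1, 0, 0], ![0, 0, 0, 1, 0], ![0, 0, 0, 0, 1]]]
/-- The square of `gY`. -/
def gY2 : Mat := ![![2, 2, 0, 3, 0], ![2, 3, 0, 2, 0], ![2, 1, 0, 1, 0], ![0, 0, 3, 0, 0], ![0, 0, 0, 0, 1]]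

/-- The fourth power of `gY`. -/
def gY4 : Mat := ![![0, 2, 2, 2, 0], ![2, 1, 1, 0, 0], ![1, 0, 3, 3, 0], ![1, 3, 0, 3, 0], ![0, 0, 0, 0, 1]]


theorem mul_spec : ∀ a b c : Fin 4, mul a (add b c) = add (mul a b) (mul a c) := by decide

theorem uni_gens : IsUni gX ∧ IsUni gY ∧ IsUni gZ ∧ IsUni gW := by decide +kernel

theorem xPow_zero : ∀ i j, xPow 0 i j = one i j := by decide +kernel

theorem xPow_last : ∀ i j, xPow 11 i j = one i j := by decide +kernel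

theorem xPow_succ : ∀ k : Fin 11, ∀ i j, mmul (xPow k.castSucc) gX i j = xPow k.succ i j := by decide +kernel

theorem gY_five : (∀ i j, mmul gY gY i j = gY2 i j) ∧ (∀ i j, mmul gY2 gY2 i j = gY4 i j) ∧
    ∀ i j, mmul gY4 gY i j = one i j := by decide +kernel

theorem gY_conj : ∀ i j, mmul gY gX i j = mmul (xPow 4) gY i j := by decide +kernel

theorem invol : (∀ i j, mmul gZ gZ i j = one i j) ∧ ∀ i j, mmul gW gW i j = one i j := by decide +kernel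

theorem gZ_not_normal : ∀ k : Fin 11, ∃ i j, mmul (mmul gZ gX) gZ i j ≠ xPow k.castSucc i j := by decide +kernel

theorem trace_class : ∀ k : Fin 11, tr (xPow k.castSucc) = tr gX → k = 1 ∨ k = 3 ∨ k = 4 ∨ k = 5 ∨ k = 9 := by
  decide +kernel

theorem gX_ne_one : ∃ i j, gX i j ≠ one i j := by decide +kernel

theorem lineSet_ne_zero : ∀ s ∈ lineSet, ∃ i, s i ≠ 0 := by decide +kernel

theorem lineSet_stable : ∀ s ∈ lineSet,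
    (∃ c : Fin 4, c ≠ 0 ∧ scl c (mvec gX s) ∈ lineSet) ∧ (∃ c : Fin 4, c ≠ 0 ∧ scl c (mvec gY s) ∈ lineSet) ∧
      ∃ c : Fin 4, c ≠ 0 ∧ scl c (mvec gZ s) ∈ lineSet := by decide +kernel

theorem lineSet_moved : ∃ s ∈ lineSet, ∀ c : Fin 4, c ≠ 0 → scl c (mvec gW s) ∉ lineSet := by decide +kernel

end CfsgLib.Geo.Asch.SU5Tables
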