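import Mathlib
import Cfsg.Prelude.Def_GeometricClasses
import Cfsg.Agent.Lib.Geo.AschUnitFiveTables
import Cfsg.Agent.Lib.Geo.AschPrimeIrred
import Cfsg.Agent.Lib.Geo.AschForms
import Cfsg.Agent.Lib.GeomClasses.UnitPow
import Cfsg.Agent.Lib.ClassicalGroups.HermGroup

/-! In SU5(2) the normaliser of an irreducible cyclic group lies in a subgroup L2(11). -/

set_option autoImplicit false

namespace CfsgLib.Geo.Asch.SU5Two

open Cfsg Cfsg.Geo Matrix CfsgLib.GeomClasses SU5Tables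
open scoped MatrixGroups

variable {F : Type*} [Field F] [Fintype F]

/-- The interpretation of the table model. -/
def phi (ω : F) : Fin 4 → F := ![0, 1, ω, ω + 1]

theorem exists_omega (hF : Fintype.card F = 4) : ∃ ω : F, ω ^ 2 + ω + 1 = 0 ∧ (2 : F) = 0 ∧ ω ≠ 0 ∧ ω ≠ 1 := by
  classical
  have h2 : (2 : F) = 0 := two_eq_zero_of_not_odd (by rw [hF]; decide)
  obtain ⟨x, -, hx⟩ := Finset.exists_mem_notMem_of_card_lt_card (s := ({0, 1} : Finset F)) (t := Finset.univ)
    (lt_of_le_of_lt Finset.card_le_two (by rw [Finset.card_univ, hF]; norm_num))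
  simp only [Finset.mem_insert, Finset.mem_singleton, not_or] at hx
  have h3 := FiniteField.pow_card_sub_one_eq_one x hx.1
  rw [hF] at h3
  refine ⟨x, ?_, h2, hx.1, hx.2⟩
  have h4 : (x - 1) * (x ^ 2 + x + 1) = 0 := by linear_combination h3
  exact (mul_eq_zero.1 h4).resolve_left (sub_ne_zero.2 hx.2)

section Phi

variable {ω : F} (hω : ω ^ 2 + ω + 1 = 0) (h2 : (2 : F) = 0)
include hω h2

omit [Fintype F] in
theorem phi_add (a b : Fin 4) : phi ω (SU5Tables.add a b) = phi ω a + phi ω b := by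
  fin_cases a <;> fin_cases b <;> simp [phi, SU5Tables.add] <;>
    first
      | (linear_combination -h2)
      | (linear_combination h2)
      | (linear_combination -ω * h2)
      | (linear_combination ω * h2)
      | (linear_combination -(ω + 1) * h2)
      | (linear_combination (ω + 1) * h2)
      | ring1

omit [Fintype F] in
theorem phi_mul (a b : Fin 4) : phi ω (SU5Tables.mul a b) = phi ω a * phi ω b := by
  fin_cases a <;> fin_cases b <;> simp [phi, SU5Tables.mul] <;>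
    first
      | (linear_combination -hω + h2)
      | (linear_combination -hω + (ω + 1) * h2)
      | (linear_combination -hω + ω * h2)
      | (linear_combination -hω)
      | (linear_combination hω - h2)
      | (linear_combination hω)
      | ring1

omit [Fintype F] in
theorem phi_cj (a : Fin 4) : phi ω (cj a) = phi ω a ^ 2 := by
  fin_cases a <;> simp [phi, cj] <;>
    first
      | (linear_combination -hω + h2)
      | (linear_combination -hω + (ω + 1) * h2)
      | (linear_combination -hω + ω * h2)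
      | (linear_combination -hω)
      | ring1

omit [Fintype F] in
theorem phi_injective : Function.Injective (phi ω) := by
  have h0 : ω ≠ 0 := fun h => by rw [h] at hω; simp at hω
  have h1 : ω ≠ 1 := fun h => by
    rw [h] at hω
    exact one_ne_zero (α := F) (by linear_combination hω - h2)
  have h3 : ω + 1 ≠ 0 := fun h => h1 (by linear_combination h - h2)
  intro a b
  fin_cases a <;> fin_cases b <;>
    simp [phi, h0, h1, h3, Ne.symm h0, Ne.symm h1, Ne.symm h3]

end Phi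

/-- A matrix of the table model over F. -/
def toMat (ω : F) (A : Mat) : Matrix (Fin 5) (Fin 5) F := Matrix.of fun i j => phi ω (A i j)

/-- A vector of the table model over F. -/
def toVec (ω : F) (v : Fin 5 → Fin 4) : Fin 5 → F := fun i => phi ω (v i)

theorem false_of_field (hF : Fintype.card F = 4) {H N : Subgroup (GL (Fin 5) F)}
    (hH : IsMaximalIn (Cfsg.GU 5 F 2 ⊓ specialLinear (Fin 5) F) H) (hNH : N ≤ H)
    (hinv : ∀ g ∈ H, ∀ x ∈ N, g * x * g⁻¹ ∈ N) (hns : ¬ N ≤ scalars (Fin 5) F)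
    (hirr : ActsIrreducibly (matrixSet N)) (hab : ∀ x ∈ N, ∀ y ∈ N, x * y = y * x) : False := by
  classical
  obtain ⟨ω, hω, h2, hω0, hω1⟩ := exists_omega hF
  set Ω := Cfsg.GU 5 F 2 ⊓ specialLinear (Fin 5) F with hΩ
  have hF' : Fintype.card F = 2 ^ 2 := by rw [hF]; norm_num
  have hinj := phi_injective (ω := ω) hω h2
  have hsurj : Function.Surjective (phi ω) :=
    ((Fintype.bijective_iff_injective_and_card _).2 ⟨hinj, by rw [Fintype.card_fin, hF]⟩).2
  have hphi0 : phi ω 0 = 0 := by simp [phi]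
  have hphi1 : phi ω 1 = 1 := by simp [phi]
  have hsum : ∀ g : Fin 5 → Fin 4, phi ω (sum5 g) = ∑ k, phi ω (g k) := by
    intro g
    simp only [sum5, phi_add hω h2, Fin.sum_univ_five]
    ring
  have hmul : ∀ A B : Mat, toMat ω (mmul A B) = toMat ω A * toMat ω B := fun A B => by
    ext i j
    simp [toMat, mmul, hsum, phi_mul hω h2, Matrix.mul_apply]
  have hvec : ∀ (A : Mat) v, toVec ω (mvec A v) = toMat ω A *ᵥ toVec ω v := fun A v => by
    funext i
    simp [toVec, toMat, mvec, hsum, phi_mul hω h2, Matrix.mulVec, dotProduct]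
  have hone : toMat ω SU5Tables.one = 1 := by
    ext i j
    by_cases h : i = j
    · subst h; simp [toMat, SU5Tables.one, hphi1]
    · simp [toMat, SU5Tables.one, h, hphi0]
  have hcongr : ∀ {A B : Mat}, (∀ i j, A i j = B i j) → toMat ω A = toMat ω B := fun h => by
    ext i j; simp [toMat, h i j]
  -- unitarity
  set σ := UnitPow.conj hF' with hσ
  have hσa : ∀ a, σ a = a ^ 2 := fun a => UnitPow.conj_apply hF' a
  have huni : ∀ (g : GL (Fin 5) F) (A : Mat), (g : Matrix (Fin 5) (Fin 5) F) = toMat ω A → IsUni A →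
      g ∈ Cfsg.GU 5 F 2 := by
    intro g A hg hA
    refine UnitPow.mem_GU.2 fun u v => ?_
    have h1 : (toMat ω A)ᵀ * (toMat ω A).map σ = 1 := by
      rw [← hone]
      ext i j
      rw [show toMat ω SU5Tables.one i j = phi ω (SU5Tables.one i j) from rfl, ← hA i j, hsum]
      simp [toMat, Matrix.mul_apply, phi_mul hω h2, phi_cj hω h2, hσa]
    have hherm : ∀ u v : Fin 5 → F, Cfsg.hermForm 5 F 2 u v = u ⬝ᵥ fun j => σ (v j) := fun u v => by
      simp [Cfsg.hermForm, dotProduct, hσa]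
    rw [hherm, hherm, hg]
    have h3 : (fun j => σ ((toMat ω A *ᵥ v) j)) = (toMat ω A).map σ *ᵥ fun j => σ (v j) := by
      funext j; simp [Matrix.mulVec, dotProduct, map_sum]
    rw [h3, ← Matrix.vecMul_transpose (toMat ω A) u, ← Matrix.dotProduct_mulVec, Matrix.mulVec_mulVec, h1,
      Matrix.one_mulVec]
  have hsl : ∀ (g : GL (Fin 5) F) (k : ℕ), Nat.gcd k 3 = 1 → g ^ k = 1 → g ∈ specialLinear (Fin 5) F := by
    intro g k hk hg
    show Matrix.GeneralLinearGroup.det g = 1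
    have h3 : (Matrix.GeneralLinearGroup.det g) ^ 3 = 1 := by
      have := pow_card_eq_one (x := Matrix.GeneralLinearGroup.det g)
      rwa [Fintype.card_units, hF] at this
    have h4 : (Matrix.GeneralLinearGroup.det g) ^ k = 1 := by rw [← map_pow, hg, map_one]
    have h5 := Nat.dvd_gcd (orderOf_dvd_of_pow_eq_one h4) (orderOf_dvd_of_pow_eq_one h3)
    rw [hk, Nat.dvd_one, orderOf_eq_one_iff] at h5
    exact h5
  -- the generators
  have hXinv : toMat ω (xPow 10) * toMat ω gX = 1 := by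
    have h : ∀ i j, mmul (xPow 10) gX i j = SU5Tables.one i j :=
      fun i j => (xPow_succ 10 i j).trans (xPow_last i j)
    rw [← hmul, hcongr h, hone]
  let x₀ : GL (Fin 5) F := ⟨toMat ω gX, toMat ω (xPow 10), mul_eq_one_comm.1 hXinv, hXinv⟩
  have hx0pow : ∀ k : Fin 12, ((x₀ ^ (k : ℕ) : GL (Fin 5) F) : Matrix (Fin 5) (Fin 5) F) = toMat ω (xPow k) := by
    intro k
    induction k using Fin.induction with
    | zero => rw [Fin.val_zero, pow_zero, Units.val_one, ← hone, hcongr xPow_zero]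
    | succ k ih =>
      rw [Fin.val_succ, pow_succ, Units.val_mul, ← Fin.val_castSucc, ih,
        show (x₀ : Matrix (Fin 5) (Fin 5) F) = toMat ω gX from rfl, ← hmul, hcongr (xPow_succ k)]
  have hx11 : x₀ ^ 11 = 1 := Units.ext (by
    rw [Units.val_one, ← hone, ← hcongr xPow_last, ← hx0pow]; rfl)
  have hY5 : toMat ω gY4 * toMat ω gY = 1 := by rw [← hmul, hcongr gY_five.2.2, hone]
  let y₀ : GL (Fin 5) F := ⟨toMat ω gY, toMat ω gY4, mul_eq_one_comm.1 hY5, hY5⟩
  have hy5 : y₀ ^ 5 = 1 := Units.ext (by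
    rw [show y₀ ^ 5 = (y₀ * y₀) * (y₀ * y₀) * y₀ by simp only [pow_succ, pow_zero, one_mul, mul_assoc], Units.val_mul, Units.val_mul, Units.val_mul, Units.val_one,
      show (y₀ : Matrix (Fin 5) (Fin 5) F) = toMat ω gY from rfl, ← hmul gY gY, hcongr gY_five.1, ← hmul gY2 gY2,
      hcongr gY_five.2.1, hY5])
  have hZ2 : toMat ω gZ * toMat ω gZ = 1 := by rw [← hmul, hcongr invol.1, hone]
  let z₀ : GL (Fin 5) F := ⟨toMat ω gZ, toMat ω gZ, hZ2, hZ2⟩
  have hz2 : z₀ ^ 2 = 1 := Units.ext (by rw [sq]; exact hZ2)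
  have hW2 : toMat ω gW * toMat ω gW = 1 := by rw [← hmul, hcongr invol.2, hone]
  let w₀ : GL (Fin 5) F := ⟨toMat ω gW, toMat ω gW, hW2, hW2⟩
  have hw2 : w₀ ^ 2 = 1 := Units.ext (by rw [sq]; exact hW2)
  have hxΩ : x₀ ∈ Ω := ⟨huni _ gX rfl uni_gens.1, hsl _ 11 rfl hx11⟩
  have hyΩ : y₀ ∈ Ω := ⟨huni _ gY rfl uni_gens.2.1, hsl _ 5 rfl hy5⟩
  have hzΩ : z₀ ∈ Ω := ⟨huni _ gZ rfl uni_gens.2.2.1, hsl _ 2 rfl hz2⟩
  have hwΩ : w₀ ∈ Ω := ⟨huni _ gW rfl uni_gens.2.2.2, hsl _ 2 rfl hw2⟩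
  set M := Subgroup.closure ({x₀, y₀, z₀} : Set (GL (Fin 5) F)) with hM
  have hxM : x₀ ∈ M := Subgroup.subset_closure (by simp)
  have hyM : y₀ ∈ M := Subgroup.subset_closure (by simp)
  have hzM : z₀ ∈ M := Subgroup.subset_closure (by simp)
  have hMΩ : M ≤ Ω := (Subgroup.closure_le Ω).2 (by
    rintro g (rfl | rfl | rfl) <;> assumption)
  -- M is proper
  have hwM : w₀ ∉ M := by
    intro hw
    rw [← Subgroup.mem_toSubmonoid, hM, Subgroup.closure_toSubmonoid_of_finite] at hw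
    have key : ∀ g ∈ Submonoid.closure ({x₀, y₀, z₀} : Set (GL (Fin 5) F)), ∀ s ∈ lineSet, ∃ t ∈ lineSet,
        ∃ d : F, d ≠ 0 ∧ (g : Matrix (Fin 5) (Fin 5) F) *ᵥ toVec ω s = d • toVec ω t := by
      have hgen : ∀ A : Mat, ∀ s, (∃ c : Fin 4, c ≠ 0 ∧ scl c (mvec A s) ∈ lineSet) → ∃ t ∈ lineSet,
          ∃ d : F, d ≠ 0 ∧ toMat ω A *ᵥ toVec ω s = d • toVec ω t := by
        rintro A s ⟨c, hc, hmem⟩
        have hc0 : phi ω c ≠ 0 := fun h => hc (hinj (h.trans hphi0.symm))
        refine ⟨_, hmem, (phi ω c)⁻¹, inv_ne_zero hc0, ?_⟩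
        rw [← hvec]
        funext i
        simp [toVec, scl, phi_mul hω h2, hc0]
      intro g hg
      induction hg using Submonoid.closure_induction with
      | mem g hg =>
        intro s hs
        rcases hg with rfl | rfl | rfl
        · exact hgen gX s (lineSet_stable s hs).1
        · exact hgen gY s (lineSet_stable s hs).2.1
        · exact hgen gZ s (lineSet_stable s hs).2.2
      | one => intro s hs; exact ⟨s, hs, 1, one_ne_zero, by simp⟩
      | mul a b _ _ ha hb =>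
        intro s hs
        obtain ⟨t, ht, d, hd, e1⟩ := hb s hs
        obtain ⟨u, hu, d', hd', e2⟩ := ha t ht
        exact ⟨u, hu, d * d', mul_ne_zero hd hd', by
          rw [Units.val_mul, ← Matrix.mulVec_mulVec, e1, Matrix.mulVec_smul, e2, smul_smul]⟩
    obtain ⟨s, hs, hmoved⟩ := lineSet_moved
    obtain ⟨t, ht, d, hd, e1⟩ := key w₀ hw s hs
    obtain ⟨e, he⟩ := hsurj d⁻¹
    have he0 : e ≠ 0 := fun h => inv_ne_zero hd (by rw [← he, h, hphi0])
    refine hmoved e he0 ?_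
    have : scl e (mvec gW s) = t := by
      funext i
      apply hinj
      have h4 := congrFun e1 i
      rw [show (w₀ : Matrix (Fin 5) (Fin 5) F) = toMat ω gW from rfl, ← hvec, Pi.smul_apply, smul_eq_mul] at h4
      show phi ω (SU5Tables.mul e (mvec gW s i)) = _
      rw [phi_mul hω h2, he, show phi ω (mvec gW s i) = d * toVec ω t i from h4, ← mul_assoc, inv_mul_cancel₀ hd,
        one_mul]
      rfl
    rwa [this]
  -- orders
  have hcardGU : Nat.card (Cfsg.GU 5 F 2) = 41057280 := by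
    rw [CfsgLib.ClassicalGroups.card_GU hF']
    simp [Finset.prod_range_succ, Nat.even_iff]
  have hcardΩ : Nat.card Ω ∣ 41057280 := hcardGU ▸ Subgroup.card_dvd_of_le inf_le_left
  have hK : IsFieldSubalgebra 5 (algOf N) := by simpa using isFieldSubalgebra_algOf hirr hab
  set K := algOf N with hKdef
  letI : Field K := FieldTransvection.fieldOf hK
  haveI : Finite K := Finite.of_injective Subtype.val Subtype.val_injective
  have hKcard : Nat.card K = 1024 := by
    rw [Module.natCard_eq_pow_finrank (K := F) (V := K), hK.finrank_eq, Nat.card_eq_fintype_card, hF]; norm_num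
  have hKpow : ∀ g ∈ Ω, (g : Matrix (Fin 5) (Fin 5) F) ∈ K → g ^ 11 = 1 := by
    intro g hg hgK
    letI : Fintype K := Fintype.ofFinite _
    let kg : K := ⟨_, hgK⟩
    have hkg0 : kg ≠ 0 := fun h => g.ne_zero (congrArg Subtype.val h)
    have h1023 : g ^ 1023 = 1 := Units.ext (by
      have h := congrArg Subtype.val (FiniteField.pow_card_sub_one_eq_one kg hkg0)
      rw [← Nat.card_eq_fintype_card, hKcard] at h
      simpa [SubmonoidClass.coe_pow] using h)
    have hd33 : orderOf g ∣ 33 := by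
      have h3 : orderOf g ∣ 41057280 := (Subgroup.orderOf_dvd_natCard Ω hg).trans hcardΩ
      have h4 := Nat.dvd_gcd (orderOf_dvd_of_pow_eq_one h1023) h3
      rwa [show Nat.gcd 1023 41057280 = 33 by norm_num] at h4
    set z := g ^ 11 with hz
    have hz3 : z ^ 3 = 1 := by rw [hz, ← pow_mul]; exact orderOf_dvd_iff_pow_eq_one.1 hd33
    let kz : K := kg ^ 11
    have hkz : (kz : Matrix (Fin 5) (Fin 5) F) = (z : Matrix (Fin 5) (Fin 5) F) := by
      rw [hz, Units.val_pow_eq_pow_val]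
      simp [kz, kg]
    have hkz3 : kz ^ 3 = 1 := Subtype.ext (by
      rw [SubmonoidClass.coe_pow, hkz, ← Units.val_pow_eq_pow_val, hz3]; rfl)
    have hscal : ∃ c : F, kz = algebraMap F K c := by
      set a := algebraMap F K ω with ha
      have ha2 : a ^ 2 + a + 1 = 0 := by rw [ha, ← map_pow, ← map_add, ← map_one (algebraMap F K), ← map_add, hω, map_zero]
      have ht : (2 : K) = 0 := by rw [← map_ofNat (algebraMap F K) 2, h2, map_zero]
      have hprod : (kz - 1) * ((kz - a) * (kz - (a + 1))) = 0 := by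
        linear_combination hkz3 + (kz - 1) * ha2 - kz * (kz - 1) * (a + 1) * ht - (kz - 1) * ht
      rcases mul_eq_zero.1 hprod with h | h
      · exact ⟨1, by rw [sub_eq_zero.1 h, map_one]⟩
      rcases mul_eq_zero.1 h with h | h
      · exact ⟨ω, by rw [sub_eq_zero.1 h]⟩
      · exact ⟨ω + 1, by rw [sub_eq_zero.1 h, map_add, map_one]⟩
    obtain ⟨c, hc⟩ := hscal
    have hzc : (z : Matrix (Fin 5) (Fin 5) F) = c • 1 := by
      rw [← hkz, hc]; exact Algebra.algebraMap_eq_smul_one c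
    have hzΩ' : z ∈ Ω := Ω.pow_mem hg 11
    have hc5 : c ^ 5 = 1 := by
      have h1 : Matrix.GeneralLinearGroup.det z = 1 := hzΩ'.2
      have h5 := congrArg Units.val h1
      rw [Matrix.GeneralLinearGroup.val_det_apply, hzc, Matrix.det_smul, Matrix.det_one, mul_one, Fintype.card_fin,
        Units.val_one] at h5
      exact h5
    have hc3 : c ^ 3 = 1 := by
      have h5 := congrArg (fun u : GL (Fin 5) F => (u : Matrix (Fin 5) (Fin 5) F) 0 0) hz3
      simpa [Units.val_pow_eq_pow_val, hzc, smul_pow] using h5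
    have hc1 : c = 1 := by
      calc c = c * c ^ 5 := by rw [hc5, mul_one]
        _ = (c ^ 3) ^ 2 := by ring
        _ = 1 := by rw [hc3, one_pow]
    exact Units.ext (by rw [hzc, hc1, one_smul, Units.val_one])
  haveI : Fact (Nat.Prime 11) := ⟨by norm_num⟩
  -- the conjugating element
  have hsyl : ∀ g ∈ N, g ≠ 1 → ∃ c ∈ Ω, c⁻¹ * x₀ * c ∈ Subgroup.zpowers g := by
    intro g hg hg1
    have hgΩ : g ∈ Ω := hH.1.le (hNH hg)
    have hg11 : g ^ 11 = 1 := hKpow g hgΩ (mem_algOf hg)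
    let gx : Ω := ⟨g, hgΩ⟩
    let gx₀ : Ω := ⟨x₀, hxΩ⟩
    have ho : ∀ u : Ω, u ^ 11 = 1 → u ≠ 1 → ∃ S : Sylow 11 Ω, (S : Subgroup Ω) = Subgroup.zpowers u := by
      intro u hu hu1
      have hcu : Nat.card (Subgroup.zpowers u) = 11 := by rw [Nat.card_zpowers, orderOf_eq_prime hu hu1]
      obtain ⟨S, hS⟩ := (IsPGroup.of_card (show Nat.card (Subgroup.zpowers u) = 11 ^ 1 by rw [hcu, pow_one])).exists_le_sylow
      refine ⟨S, (Subgroup.eq_of_le_of_card_ge hS ?_).symm⟩
      obtain ⟨k, hk⟩ := IsPGroup.iff_card.1 S.isPGroup'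
      rw [hcu, hk]
      have hd : 11 ^ k ∣ 41057280 := hk ▸ (Subgroup.card_subgroup_dvd_card _).trans hcardΩ
      rcases Nat.lt_or_ge k 2 with h | h
      · interval_cases k <;> norm_num
      · exact absurd ((pow_dvd_pow 11 h).trans hd) (by norm_num)
    obtain ⟨S, hS⟩ := ho gx (Subtype.ext hg11) (fun h => hg1 (congrArg Subtype.val h))
    obtain ⟨S₀, hS₀⟩ := ho gx₀ (Subtype.ext hx11) (fun h => by
      obtain ⟨i, j, hij⟩ := gX_ne_one
      have h1 : toMat ω gX = toMat ω SU5Tables.one := by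
        rw [hone]; exact congrArg (fun u : Ω => ((u : GL (Fin 5) F) : Matrix (Fin 5) (Fin 5) F)) h
      exact hij (hinj (congrFun (congrFun h1 i) j)))
    obtain ⟨c, hc⟩ := MulAction.exists_smul_eq Ω S S₀
    have hmem : gx₀ ∈ ((c • S : Sylow 11 Ω) : Subgroup Ω) := by rw [hc, hS₀]; exact Subgroup.mem_zpowers _
    rw [Sylow.coe_subgroup_smul, Subgroup.mem_pointwise_smul_iff_inv_smul_mem, hS] at hmem
    refine ⟨c, c.2, ?_⟩
    obtain ⟨i, hi⟩ := Subgroup.mem_zpowers_iff.1 hmem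
    refine Subgroup.mem_zpowers_iff.2 ⟨i, ?_⟩
    have h1 := congrArg Subtype.val hi
    simpa [gx, gx₀, MulAut.conj_apply, mul_assoc] using h1
  obtain ⟨g, hg, hg1⟩ : ∃ g ∈ N, g ≠ 1 := by
    by_contra h
    push Not at h
    exact hns fun x hx => by rw [h x hx]; exact one_mem _
  obtain ⟨c, hcΩ, hcg⟩ := hsyl g hg hg1
  set x' := c⁻¹ * x₀ * c with hx'
  have hx'N : x' ∈ N := (Subgroup.zpowers_le.2 hg) hcg
  have hx'11 : x' ^ 11 = 1 := by
    rw [hx', show c⁻¹ * x₀ * c = c⁻¹ * x₀ * (c⁻¹)⁻¹ by rw [inv_inv], conj_pow, hx11]; group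
  have hx'1 : x' ≠ 1 := fun h => by
    obtain ⟨i, j, hij⟩ := gX_ne_one
    have h0 : x₀ = 1 := by
      rw [show x₀ = c * x' * c⁻¹ by rw [hx']; group, h]; group
    have h1 : toMat ω gX = toMat ω SU5Tables.one := by
      rw [hone]; exact congrArg Units.val h0
    exact hij (hinj (congrFun (congrFun h1 i) j))
  let kx : K := ⟨_, mem_algOf hx'N⟩
  have hprim : IsPrimitiveRoot kx 11 := by
    have h11 : kx ^ 11 = 1 := Subtype.ext (by
      rw [SubmonoidClass.coe_pow, ← Units.val_pow_eq_pow_val, hx'11]; rfl)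
    rw [← orderOf_eq_prime h11 fun h => hx'1 (Units.ext (congrArg Subtype.val h))]
    exact IsPrimitiveRoot.orderOf _
  have hroots : ∀ u ∈ Ω, (u : Matrix (Fin 5) (Fin 5) F) ∈ K → ∃ i, i < 11 ∧ u = x' ^ i := by
    intro u hu huK
    obtain ⟨i, hi, hiu⟩ := hprim.eq_pow_of_pow_eq_one (ξ := ⟨_, huK⟩) (Subtype.ext (by
      rw [SubmonoidClass.coe_pow, ← Units.val_pow_eq_pow_val, hKpow u hu huK]; rfl))
    refine ⟨i, hi, Units.ext ?_⟩
    have h := congrArg Subtype.val hiu
    rw [Units.val_pow_eq_pow_val]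
    simpa [kx] using h.symm
  have hconj : ∀ i : ℕ, x₀ ^ i = c * x' ^ i * c⁻¹ := fun i => by
    rw [← conj_pow, show c * x' * c⁻¹ = x₀ by rw [hx']; group]
  -- the normaliser lies in M
  have hnorm : ∀ h ∈ H, c * h * c⁻¹ ∈ M := by
    intro h hh
    set k := c * h * c⁻¹ with hk
    obtain ⟨i, hi, hix⟩ := hroots _ (hH.1.le (hNH (hinv h hh x' hx'N))) (mem_algOf (hinv h hh x' hx'N))
    have hki : k * x₀ * k⁻¹ = x₀ ^ i := by
      rw [hconj, ← hix, hk, hx']; group
    have hpow : ((x₀ ^ i : GL (Fin 5) F) : Matrix (Fin 5) (Fin 5) F) = toMat ω (xPow ⟨i, by omega⟩) :=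
      hx0pow ⟨i, by omega⟩
    have htr : tr (xPow (Fin.castSucc ⟨i, hi⟩)) = tr gX := by
      apply hinj
      have h1 : Matrix.trace ((x₀ ^ i : GL (Fin 5) F) : Matrix (Fin 5) (Fin 5) F) = Matrix.trace (toMat ω gX) := by
        rw [← hki, Units.val_mul, Units.val_mul, Matrix.trace_units_conj]
      rw [hpow] at h1
      simpa [Matrix.trace, tr, hsum, toMat] using h1
    have hstep : ∀ j : ℕ, y₀ ^ j * x₀ * (y₀ ^ j)⁻¹ = x₀ ^ (4 ^ j) := by
      have h1 : y₀ * x₀ * y₀⁻¹ = x₀ ^ 4 := by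
        rw [mul_inv_eq_iff_eq_mul]
        refine Units.ext ?_
        rw [Units.val_mul, Units.val_mul, show ((x₀ ^ 4 : GL (Fin 5) F) : Matrix (Fin 5) (Fin 5) F) = toMat ω (xPow 4)
          from hx0pow 4]
        show toMat ω gY * toMat ω gX = _ * toMat ω gY
        rw [← hmul, ← hmul, hcongr gY_conj]
      intro j
      induction j with
      | zero => simp
      | succ j ih =>
        rw [pow_succ' (4 : ℕ) j, pow_mul, ← h1, conj_pow, ← ih]
        group
    have hcomm : ∃ j : ℕ, x₀ ^ (4 ^ j) = x₀ ^ i := by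
      have hmod : ∀ a : ℕ, x₀ ^ a = x₀ ^ (a % 11) := fun a => pow_eq_pow_mod a hx11
      rcases trace_class ⟨i, hi⟩ htr with h | h | h | h | h <;>
        (have h' := congrArg Fin.val h; simp at h'; subst h')
      · exact ⟨0, by norm_num⟩
      · exact ⟨4, by rw [hmod]; norm_num⟩
      · exact ⟨1, by norm_num⟩
      · exact ⟨2, by rw [hmod]; norm_num⟩
      · exact ⟨3, by rw [hmod]; norm_num⟩
    obtain ⟨j, hj⟩ := hcomm
    set u := (y₀ ^ j)⁻¹ * k with hu
    have hux : u * x₀ = x₀ * u := by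
      rw [← hj, ← hstep] at hki
      rw [hu, show (y₀ ^ j)⁻¹ * k * x₀ = (y₀ ^ j)⁻¹ * (k * x₀ * k⁻¹) * k by group, hki]
      group
    have huΩ : u ∈ Ω := Ω.mul_mem (Ω.inv_mem (Ω.pow_mem hyΩ j)) (Ω.mul_mem (Ω.mul_mem hcΩ (hH.1.le hh)) (Ω.inv_mem hcΩ))
    set u' := c⁻¹ * u * c with hu'
    have hu'Ω : u' ∈ Ω := Ω.mul_mem (Ω.mul_mem (Ω.inv_mem hcΩ) huΩ) hcΩ
    have hu'x : u' * x' = x' * u' := by
      rw [hu', hx', show c⁻¹ * u * c * (c⁻¹ * x₀ * c) = c⁻¹ * (u * x₀) * c by group, hux]; group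
    have hu'N : ∀ y ∈ N, u' * y = y * u' := by
      intro y hy
      obtain ⟨a, -, rfl⟩ := hroots y (hH.1.le (hNH hy)) (mem_algOf hy)
      exact (Commute.pow_right hu'x a).eq
    have hu'K : (u' : Matrix (Fin 5) (Fin 5) F) ∈ K := by
      have hc' : ∀ l ∈ K, (u' : Matrix (Fin 5) (Fin 5) F) * l = l * u' := fun l hl =>
        (commute_algOf (by
          rintro _ ⟨y, hy, rfl⟩
          show (u' : Matrix (Fin 5) (Fin 5) F) * y = y * u'
          rw [← Units.val_mul, hu'N y hy, Units.val_mul]) hl)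
      obtain ⟨v, hv⟩ := exists_ne (0 : Fin 5 → F)
      let E : K →ₗ[F] (Fin 5 → F) :=
        { toFun := fun l => (l : Matrix (Fin 5) (Fin 5) F) *ᵥ v
          map_add' := fun a b => by simp [Matrix.add_mulVec]
          map_smul' := fun e a => by simp [Matrix.smul_mulVec] }
      have hE : Function.Injective E := by
        rw [injective_iff_map_eq_zero]
        intro l hl
        by_contra hl0
        obtain ⟨y, hy, hly⟩ := hK.inv _ l.2 fun h => hl0 (Subtype.ext h)
        rw [hK.comm _ l.2 _ hy] at hly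
        apply hv
        rw [← Matrix.one_mulVec v, ← hly, ← Matrix.mulVec_mulVec, show (l : Matrix (Fin 5) (Fin 5) F) *ᵥ v = 0 from hl,
          Matrix.mulVec_zero]
      have hEs : Function.Surjective E :=
        (LinearMap.injective_iff_surjective_of_finrank_eq_finrank (by rw [hK.finrank_eq, Module.finrank_fin_fun])).1 hE
      obtain ⟨l, hl⟩ := hEs ((u' : Matrix (Fin 5) (Fin 5) F) *ᵥ v)
      suffices h : (u' : Matrix (Fin 5) (Fin 5) F) = l by rw [h]; exact l.2
      refine Matrix.ext_of_mulVec_single fun a => ?_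
      obtain ⟨w, hw⟩ := hEs (Pi.single a 1)
      rw [← hw]
      show _ *ᵥ ((w : Matrix (Fin 5) (Fin 5) F) *ᵥ v) = _ *ᵥ ((w : Matrix (Fin 5) (Fin 5) F) *ᵥ v)
      rw [Matrix.mulVec_mulVec, hc' _ w.2, ← Matrix.mulVec_mulVec,
        ← show (l : Matrix (Fin 5) (Fin 5) F) *ᵥ v = _ from hl, Matrix.mulVec_mulVec, Matrix.mulVec_mulVec,
        hK.comm _ w.2 _ l.2]
    obtain ⟨a, -, ha⟩ := hroots u' hu'Ω hu'K
    have hua : u = x₀ ^ a := by rw [hconj, ← ha, hu']; group
    have : k = y₀ ^ j * x₀ ^ a := by rw [← hua, hu]; group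
    rw [this]
    exact M.mul_mem (M.pow_mem hyM j) (M.pow_mem hxM a)
  -- conclusion
  let M' := M.map (MulAut.conj c⁻¹).toMonoidHom
  have hHM' : H ≤ M' := fun h hh => ⟨_, hnorm h hh, by simp [mul_assoc]⟩
  have hM'Ω : M' ≤ Ω := by
    rintro _ ⟨m, hm, rfl⟩
    exact Ω.mul_mem (Ω.mul_mem (Ω.inv_mem hcΩ) (hMΩ hm)) (Ω.inv_mem (Ω.inv_mem hcΩ))
  rcases hH.2 M' hHM' hM'Ω with h | h
  · have hz' : c⁻¹ * z₀ * c ∈ H := h ▸ ⟨z₀, hzM, by simp⟩
    obtain ⟨i, hi, hix⟩ := hroots _ (hH.1.le (hNH (hinv _ hz' x' hx'N))) (mem_algOf (hinv _ hz' x' hx'N))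
    have hzi : z₀ * x₀ * z₀ = x₀ ^ i := by
      rw [hconj, ← hix, hx']
      have : z₀⁻¹ = z₀ := inv_eq_of_mul_eq_one_left (by rw [← sq, hz2])
      conv_lhs => arg 2; rw [← this]
      group
    obtain ⟨a, b, hab'⟩ := gZ_not_normal ⟨i, hi⟩
    apply hab'
    apply hinj
    have h1 := congrArg (fun u : GL (Fin 5) F => (u : Matrix (Fin 5) (Fin 5) F) a b) hzi
    simp only [Units.val_mul] at h1
    rw [show (z₀ : Matrix (Fin 5) (Fin 5) F) = toMat ω gZ from rfl, show (x₀ : Matrix (Fin 5) (Fin 5) F) = toMat ω gX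
      from rfl, ← hmul, ← hmul, hx0pow ⟨i, by omega⟩] at h1
    exact h1
  · have hmem : c⁻¹ * w₀ * c ∈ M' := h ▸ Ω.mul_mem (Ω.mul_mem (Ω.inv_mem hcΩ) hwΩ) hcΩ
    obtain ⟨m, hm, hmw⟩ := hmem
    refine hwM ?_
    have : m = w₀ := by
      have h1 := congrArg (fun u => c * u * c⁻¹) hmw
      simpa [mul_assoc] using h1
    exact this ▸ hm

end CfsgLib.Geo.Asch.SU5Two
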