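import Mathlib
import Cfsg.Prelude.Def_GeometricClasses
import Cfsg.Agent.Lib.Geo.AschUnitPowerCases
import Cfsg.Agent.Lib.Geo.AschUnitSquare
import Cfsg.Agent.Lib.Geo.AschPrime
import Cfsg.Agent.Lib.Geo.AschPowerForm

/-! Tensor squares of three-dimensional unitary groups over four elements normalise a group of symplectic type. -/

set_option autoImplicit false
set_option linter.unusedSectionVars false

namespace CfsgLib.Geo.Asch

open Cfsg Cfsg.Geo Matrix CfsgLib.GeomClasses
open scoped MatrixGroups Kronecker commutatorElement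

variable {ι : Type} [Fintype ι] [DecidableEq ι] {F : Type*} [Field F] [Fintype F]
  {σ : F ≃+* F} {f : (ι → F) → (ι → F) → F}

namespace Nine

/-- The powers of an element indexed by three residues. -/
def pw (β : F) (i : Fin 3) : F := ![1, β, β * β] i

theorem pw_add {β : F} (hβ : β ^ 3 = 1) (i k : Fin 3) : pw β (i + k) = pw β i * pw β k := by
  fin_cases i <;> fin_cases k <;> simp [pw] <;>
    first | ring1 | linear_combination -hβ | linear_combination -β * hβ | linear_combination hβ | linear_combination β * hβ | (ring_nf; first | linear_combination -hβ | linear_combination hβ)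

theorem pw_mul (β γ : F) (i : Fin 3) : pw (β * γ) i = pw β i * pw γ i := by
  fin_cases i <;> simp [pw] <;> ring

theorem pw_cube {β : F} (hβ : β ^ 3 = 1) (i : Fin 3) : pw β i ^ 3 = 1 := by
  fin_cases i <;> simp [pw, hβ, mul_pow]

/-- Monomial matrices of the Heisenberg group of order 27. -/
def IsHeis (M : Matrix (Fin 3) (Fin 3) F) : Prop :=
  ∃ (k : Fin 3) (α β : F), α ^ 3 = 1 ∧ β ^ 3 = 1 ∧ ∀ i j, M i j = if j = i + k then α * pw β i else 0

theorem IsHeis.one : IsHeis (1 : Matrix (Fin 3) (Fin 3) F) :=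
  ⟨0, 1, 1, one_pow _, one_pow _, fun i j => by fin_cases i <;> fin_cases j <;> simp [pw]⟩

theorem mul_entries {k l : Fin 3} {α β γ δ : F} (hδ : δ ^ 3 = 1) {M M' : Matrix (Fin 3) (Fin 3) F}
    (h : ∀ i j, M i j = if j = i + k then α * pw β i else 0)
    (h' : ∀ i j, M' i j = if j = i + l then γ * pw δ i else 0) (i j : Fin 3) :
    (M * M') i j = if j = i + (k + l) then α * γ * pw δ k * pw (β * δ) i else 0 := by
  rw [Matrix.mul_apply, Finset.sum_eq_single (i + k) (fun b _ hb => by rw [h, if_neg hb, zero_mul]) (by simp),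
    h, if_pos rfl, h', add_assoc]
  split_ifs
  · rw [pw_add hδ, pw_mul]; ring
  · rw [mul_zero]

theorem IsHeis.mul {M M' : Matrix (Fin 3) (Fin 3) F} : IsHeis M → IsHeis M' → IsHeis (M * M') := by
  rintro ⟨k, α, β, hα, hβ, h⟩ ⟨l, γ, δ, hγ, hδ, h'⟩
  exact ⟨k + l, α * γ * pw δ k, β * δ, by rw [mul_pow, mul_pow, hα, hγ, pw_cube hδ, one_mul, one_mul],
    by rw [mul_pow, hβ, hδ, one_mul], mul_entries hδ h h'⟩

theorem IsHeis.comm {M M' : Matrix (Fin 3) (Fin 3) F} : IsHeis M → IsHeis M' →
    ∃ c : F, c ≠ 0 ∧ M * M' = c • (M' * M) := by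
  rintro ⟨k, α, β, hα, hβ, h⟩ ⟨l, γ, δ, hγ, hδ, h'⟩
  have hne : ∀ {x : F}, x ^ 3 = 1 → ∀ i, pw x i ≠ 0 := fun hx i h0 => by
    have := pw_cube hx i
    rw [h0] at this
    simp at this
  refine ⟨pw δ k / pw β l, div_ne_zero (hne hδ k) (hne hβ l), ?_⟩
  ext i j
  rw [Matrix.smul_apply, smul_eq_mul, mul_entries hδ h h', mul_entries hβ h' h, add_comm l k, mul_comm δ β]
  split_ifs
  · have := hne hβ l
    field_simp
  · rw [mul_zero]

theorem IsHeis.cube {M : Matrix (Fin 3) (Fin 3) F} : IsHeis M → M * M * M = 1 := by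
  rintro ⟨k, α, β, hα, hβ, h⟩
  ext i j
  rw [mul_entries hβ (mul_entries hβ h h) h]
  have hk : ∀ m : Fin 3, m + m + m = 0 := by decide
  rw [hk, add_zero, Matrix.one_apply]
  by_cases hij : i = j
  · subst hij
    rw [if_pos rfl, if_pos rfl]
    have e : ∀ m : Fin 3, pw β (m + m) = pw β m * pw β m := fun m => pw_add hβ m m
    calc α * α * pw β k * α * pw β (k + k) * pw (β * β * β) i = α ^ 3 * pw β k ^ 3 * pw (β ^ 3) i := by
          rw [e, show β * β * β = β ^ 3 by ring]; ring
      _ = 1 := by rw [hα, pw_cube hβ, hβ]; fin_cases i <;> simp [pw]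
  · rw [if_neg hij, if_neg (Ne.symm hij)]

/-- The Heisenberg group of order 27. -/
def heis (F : Type*) [Field F] [Fintype F] : Subgroup (GL (Fin 3) F) where
  carrier := {g | IsHeis (g : Matrix (Fin 3) (Fin 3) F)}
  one_mem' := by simpa using IsHeis.one
  mul_mem' := fun {g h} hg hh => by
    show IsHeis _
    rw [Units.val_mul]; exact IsHeis.mul hg hh
  inv_mem' := fun {g} hg => by
    have h3 : g⁻¹ = g * g := inv_eq_of_mul_eq_one_right (Units.ext (by
      rw [Units.val_mul, Units.val_mul, ← mul_assoc, Units.val_one]; exact IsHeis.cube hg))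
    show IsHeis _
    rw [h3, Units.val_mul]; exact IsHeis.mul hg hg

theorem mem_heis {g : GL (Fin 3) F} : g ∈ heis F ↔ IsHeis (g : Matrix (Fin 3) (Fin 3) F) := Iff.rfl

theorem heis_cube {g : GL (Fin 3) F} (hg : g ∈ heis F) : g ^ 3 = 1 := Units.ext (by
  rw [Units.val_pow_eq_pow_val, pow_three', Units.val_one]; exact IsHeis.cube hg)

/-- Unitary for the standard form. -/
def U (σ : F ≃+* F) (M : Matrix (Fin 3) (Fin 3) F) : Prop := Mᵀ * M.map σ = 1

theorem U.mul {M M' : Matrix (Fin 3) (Fin 3) F} (h : U σ M) (h' : U σ M') : U σ (M * M') := by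
  show (M * M')ᵀ * (M * M').map (σ : F →+* F) = 1
  rw [Matrix.map_mul, Matrix.transpose_mul, mul_assoc, ← mul_assoc Mᵀ, show Mᵀ * M.map (σ : F →+* F) = 1 from h, one_mul]
  exact h'

theorem U.inv {g : GL (Fin 3) F} (h : U σ (g : Matrix (Fin 3) (Fin 3) F)) :
    U σ ((g⁻¹ : GL (Fin 3) F) : Matrix (Fin 3) (Fin 3) F) := by
  set A := (g : Matrix (Fin 3) (Fin 3) F)
  set B := ((g⁻¹ : GL (Fin 3) F) : Matrix (Fin 3) (Fin 3) F)
  show Bᵀ * B.map (σ : F →+* F) = 1
  calc Bᵀ * B.map (σ : F →+* F) = Bᵀ * (Aᵀ * A.map (σ : F →+* F)) * B.map (σ : F →+* F) := by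
        rw [show Aᵀ * A.map (σ : F →+* F) = 1 from h, mul_one]
    _ = (A * B)ᵀ * (A * B).map (σ : F →+* F) := by rw [Matrix.transpose_mul, Matrix.map_mul]; simp only [mul_assoc]
    _ = 1 := by simp [A, B, ← Units.val_mul]

variable (h4 : Fintype.card F = 4) (hσ : ∀ x, σ x = x ^ 2)

include h4 in
theorem cube_eq_one {x : F} (hx : x ≠ 0) : x ^ 3 = 1 := by
  have := FiniteField.pow_card_sub_one_eq_one x hx
  rwa [h4] at this

include h4 hσ in
theorem IsHeis.unitary {M : Matrix (Fin 3) (Fin 3) F} : IsHeis M → U σ M := by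
  rintro ⟨k, α, β, hα, hβ, h⟩
  show Mᵀ * M.map σ = 1
  ext i j
  simp only [Matrix.mul_apply, Matrix.transpose_apply, Matrix.map_apply, h, hσ]
  rw [Finset.sum_eq_single (i - k) (fun b _ hb => by rw [if_neg (fun e => hb (by rw [e, add_sub_cancel_right])), zero_mul])
    (by simp), sub_add_cancel, if_pos rfl, Matrix.one_apply]
  by_cases hij : i = j
  · subst hij
    rw [if_pos rfl, if_pos rfl, ← pow_succ', mul_pow, hα, pw_cube hβ, one_mul]
  · rw [if_neg (Ne.symm hij), if_neg hij]; simp

include h4 in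
theorem exists_omega : ∃ w : F, w ^ 3 = 1 ∧ w ≠ 1 ∧ 1 + w + w * w = 0 := by
  classical
  obtain ⟨w, -, hw⟩ := Finset.exists_mem_notMem_of_card_lt_card (s := ({0, 1} : Finset F)) (t := Finset.univ) (by
    rw [Finset.card_univ, h4]; exact Finset.card_le_two.trans_lt (by norm_num))
  simp only [Finset.mem_insert, Finset.mem_singleton, not_or] at hw
  refine ⟨w, cube_eq_one h4 hw.1, hw.2, ?_⟩
  exact (mul_eq_zero.1 (show (w - 1) * (1 + w + w * w) = 0 by linear_combination cube_eq_one h4 hw.1)).resolve_left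
    (sub_ne_zero.2 hw.2)

theorem sum_pw {β : F} (hβ : β ^ 3 = 1) (hne : β ≠ 1) : ∑ i, pw β i = 0 := by
  rw [Fin.sum_univ_three]
  exact (mul_eq_zero.1 (show (β - 1) * (1 + β + β * β) = 0 by linear_combination hβ)).resolve_left
    (sub_ne_zero.2 hne)

theorem IsHeis.det_one {M : Matrix (Fin 3) (Fin 3) F} : IsHeis M → M.det = 1 := by
  rintro ⟨k, α, β, hα, hβ, h⟩
  rw [Matrix.det_fin_three]
  simp only [h]
  fin_cases k <;> simp [pw] <;> linear_combination β ^ 3 * hα + hβ

theorem IsHeis.scalar_or_trace {M : Matrix (Fin 3) (Fin 3) F} :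
    IsHeis M → (∃ c : F, M = c • 1) ∨ M.trace = 0 := by
  rintro ⟨k, α, β, hα, hβ, h⟩
  by_cases hk : k = 0
  · subst hk
    by_cases hb : β = 1
    · subst hb
      refine Or.inl ⟨α, ?_⟩
      ext i j
      rw [h, add_zero, Matrix.smul_apply, Matrix.one_apply]
      fin_cases i <;> fin_cases j <;> simp [pw]
    · refine Or.inr ?_
      rw [Matrix.trace, show (∑ i, M.diag i) = α * ∑ i, pw β i by
        rw [Finset.mul_sum]; exact Finset.sum_congr rfl fun i _ => by simp [Matrix.diag, h], sum_pw hβ hb, mul_zero]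
  · exact Or.inr (Finset.sum_eq_zero fun i _ => by simp [Matrix.diag, h, hk])

include h4 hσ in
/-- A unitary matrix of determinant one and trace zero is in the Heisenberg group. -/
theorem isHeis_of_trace {M : Matrix (Fin 3) (Fin 3) F} (hU : U σ M) (hdet : M.det = 1) (htr : M.trace = 0) :
    IsHeis M := by
  have h2 := UnitPow.four_two_zero h4
  have hadj : (M.map σ)ᵀ = M.adjugate := by
    have h1 : (M.map σ)ᵀ * M = 1 := by
      rw [← Matrix.transpose_inj, Matrix.transpose_mul, Matrix.transpose_transpose, Matrix.transpose_one]; exact hU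
    calc (M.map σ)ᵀ = (M.map σ)ᵀ * (M * M.adjugate) := by rw [Matrix.mul_adjugate, hdet, one_smul, mul_one]
      _ = M.adjugate := by rw [← mul_assoc, h1, one_mul]
  rw [Matrix.adjugate_fin_three] at hadj
  have hE : ∀ i j, (M j i) ^ 2 = (M.map σ)ᵀ i j := fun i j => by simp [hσ]
  have e00 := hE 0 0
  have e11 := hE 1 1
  have e22 := hE 2 2
  have e01 := hE 0 1
  have e02 := hE 0 2
  have e10 := hE 1 0
  have e12 := hE 1 2
  have e20 := hE 2 0
  have e21 := hE 2 1
  rw [hadj] at e00 e11 e22 e01 e02 e10 e12 e20 e21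
  simp at e00 e11 e22 e01 e02 e10 e12 e20 e21
  have hcol : ∀ j, M 0 j ^ 3 + M 1 j ^ 3 + M 2 j ^ 3 = 1 := fun j => by
    have h := congrFun (congrFun (show Mᵀ * M.map σ = 1 from hU) j) j
    simp [Matrix.mul_apply, Fin.sum_univ_three, hσ] at h
    linear_combination h
  rw [Matrix.trace_fin_three] at htr
  set a := M 0 0
  set b := M 0 1
  set c := M 0 2
  set d := M 1 0
  set e := M 1 1
  set v := M 1 2
  set g := M 2 0
  set u := M 2 1
  set k := M 2 2
  set p := a * a + a * e + e * e with hp
  have pbd : b * d = p := by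
    rw [hp]; linear_combination e22 - (k - a - e) * htr - (a * a + a * e + e * e) * h2
  have pcg : c * g = p := by
    rw [hp]; linear_combination e11 + a * htr - (a * a + a * e + e * e) * h2
  have pvu : v * u = p := by
    rw [hp]; linear_combination e00 + e * htr - (a * a + a * e + e * e) * h2
  have hd : d ^ 3 = p * k + c * d * u := by
    linear_combination (norm := ring_nf) d * e01 + k * pbd - (b * d * k) * h2
  have hg : g ^ 3 = b * v * g + p * e := by
    linear_combination (norm := ring_nf) g * e02 + e * pcg - (c * e * g) * h2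
  have hb : b ^ 3 = p * k + b * v * g := by
    linear_combination (norm := ring_nf) b * e10 + k * pbd - (b * d * k) * h2
  have hu : u ^ 3 = p * a + c * d * u := by
    linear_combination (norm := ring_nf) u * e12 + a * pvu - (a * v * u) * h2
  have hc : c ^ 3 = c * d * u + p * e := by
    linear_combination (norm := ring_nf) c * e20 + e * pcg - (c * e * g) * h2
  have hv : v ^ 3 = p * a + b * v * g := by
    linear_combination (norm := ring_nf) v * e21 + a * pvu - (a * v * u) * h2
  by_cases hp0 : p = 0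
  swap
  · exfalso
    have n1 : d ≠ 0 := fun h => hp0 (by rw [← pbd, h, mul_zero])
    have n2 : b ≠ 0 := fun h => hp0 (by rw [← pbd, h, zero_mul])
    have n3 : c ≠ 0 := fun h => hp0 (by rw [← pcg, h, zero_mul])
    have n4 : g ≠ 0 := fun h => hp0 (by rw [← pcg, h, mul_zero])
    have n5 : u ≠ 0 := fun h => hp0 (by rw [← pvu, h, mul_zero])
    rw [cube_eq_one h4 n1] at hd
    rw [cube_eq_one h4 n3] at hc
    rw [cube_eq_one h4 n5] at hu
    have hke : k = e := mul_left_cancel₀ hp0 (by linear_combination hc - hd)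
    have hae : a = e := mul_left_cancel₀ hp0 (by linear_combination hc - hu)
    have ha : a = 0 := by linear_combination htr - hke - e * h2
    have := hcol 0
    rw [show M 0 0 = a from rfl, show M 1 0 = d from rfl, show M 2 0 = g from rfl, ha, cube_eq_one h4 n1,
      cube_eq_one h4 n4] at this
    exact one_ne_zero (α := F) (by linear_combination h2 - this)
  rw [hp0] at pbd pcg pvu hd hg hb hu hc hv
  simp only [zero_mul, zero_add, add_zero] at hd hg hb hu hc hv
  have hCC : c * d * u * (b * v * g) = 0 := by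
    linear_combination (c * g) * (v * u) * pbd
  have h01 : ∀ {x : F}, x ^ 3 = 0 → x = 0 := fun h => (pow_eq_zero_iff (by norm_num)).1 h
  have c0 := hcol 0
  have c1 := hcol 1
  have c2 := hcol 2
  simp only [show M 0 0 = a from rfl, show M 1 0 = d from rfl, show M 2 0 = g from rfl, show M 0 1 = b from rfl,
    show M 1 1 = e from rfl, show M 2 1 = u from rfl, show M 0 2 = c from rfl, show M 1 2 = v from rfl,
    show M 2 2 = k from rfl] at c0 c1 c2
  rw [Matrix.det_fin_three] at hdet
  rcases mul_eq_zero.1 hCC with h | h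
  · rw [h] at hd hu hc
    have d0 := h01 hd
    have u0 := h01 hu
    have cz := h01 hc
    by_cases h' : b * v * g = 0
    · rw [h'] at hg hb hv
      have g0 := h01 hg
      have b0 := h01 hb
      have v0 := h01 hv
      rw [d0, g0] at c0
      rw [b0, u0] at c1
      have ha3 : a ^ 3 = 1 := by linear_combination c0
      have he3 : e ^ 3 = 1 := by linear_combination c1
      have haek : a * e * k = 1 := by
        simp only [show M 0 0 = a from rfl, show M 1 1 = e from rfl, show M 2 2 = k from rfl,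
          show M 1 2 = v from rfl, show M 0 1 = b from rfl, show M 0 2 = c from rfl, v0, b0, cz] at hdet
        linear_combination hdet
      refine ⟨0, a, e * (a * a), ha3, by rw [mul_pow, mul_pow, ha3, he3, one_mul, one_mul], fun i j => ?_⟩
      fin_cases i <;> fin_cases j <;> simp [pw] <;>
        first
          | assumption
          | rfl
          | (show e = _; linear_combination -e * ha3)
          | (show k = _; linear_combination a ^ 5 * e ^ 2 * haek - k * (a ^ 3 + 1) * e ^ 3 * ha3 - k * he3)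
    · have hb3 : b ^ 3 = 1 := cube_eq_one h4 fun h => h' (by rw [h]; ring)
      have hg3 : g ^ 3 = 1 := cube_eq_one h4 fun h => h' (by rw [h]; ring)
      have hv3 : v ^ 3 = 1 := cube_eq_one h4 fun h => h' (by rw [h]; ring)
      rw [d0] at c0
      rw [u0] at c1
      rw [cz] at c2
      have a0 : a = 0 := h01 (by linear_combination c0 - hg3)
      have e0 : e = 0 := h01 (by linear_combination c1 - hb3)
      have k0 : k = 0 := h01 (by linear_combination c2 - hv3)
      have hprod : b * v * g = 1 := by rw [← hb, hb3]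
      refine ⟨1, b, v * (b * b), hb3, by rw [mul_pow, mul_pow, hb3, hv3, one_mul, one_mul], fun i j => ?_⟩
      fin_cases i <;> fin_cases j <;> simp [pw] <;>
        first
          | assumption
          | rfl
          | (show v = _; linear_combination -v * hb3)
          | (show g = _; linear_combination b ^ 5 * v ^ 2 * hprod - g * (b ^ 3 + 1) * v ^ 3 * hb3 - g * hv3)
  · rw [h] at hg hb hv
    have g0 := h01 hg
    have b0 := h01 hb
    have v0 := h01 hv
    by_cases h' : c * d * u = 0
    · rw [h'] at hd hu hc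
      have d0 := h01 hd
      have u0 := h01 hu
      have cz := h01 hc
      rw [d0, g0] at c0
      rw [b0, u0] at c1
      have ha3 : a ^ 3 = 1 := by linear_combination c0
      have he3 : e ^ 3 = 1 := by linear_combination c1
      have haek : a * e * k = 1 := by
        simp only [show M 0 0 = a from rfl, show M 1 1 = e from rfl, show M 2 2 = k from rfl,
          show M 1 2 = v from rfl, show M 0 1 = b from rfl, show M 0 2 = c from rfl, v0, b0, cz] at hdet
        linear_combination hdet
      refine ⟨0, a, e * (a * a), ha3, by rw [mul_pow, mul_pow, ha3, he3, one_mul, one_mul], fun i j => ?_⟩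
      fin_cases i <;> fin_cases j <;> simp [pw] <;>
        first
          | assumption
          | rfl
          | (show e = _; linear_combination -e * ha3)
          | (show k = _; linear_combination a ^ 5 * e ^ 2 * haek - k * (a ^ 3 + 1) * e ^ 3 * ha3 - k * he3)
    · have hc3 : c ^ 3 = 1 := cube_eq_one h4 fun h => h' (by rw [h]; ring)
      have hd3 : d ^ 3 = 1 := cube_eq_one h4 fun h => h' (by rw [h]; ring)
      have hu3 : u ^ 3 = 1 := cube_eq_one h4 fun h => h' (by rw [h]; ring)
      rw [g0] at c0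
      rw [b0] at c1
      rw [v0] at c2
      have a0 : a = 0 := h01 (by linear_combination c0 - hd3)
      have e0 : e = 0 := h01 (by linear_combination c1 - hu3)
      have k0 : k = 0 := h01 (by linear_combination c2 - hc3)
      have hprod : c * d * u = 1 := by rw [← hc, hc3]
      refine ⟨2, c, d * (c * c), hc3, by rw [mul_pow, mul_pow, hc3, hd3, one_mul, one_mul], fun i j => ?_⟩
      fin_cases i <;> fin_cases j <;> simp [pw] <;>
        first
          | assumption
          | rfl
          | (show d = _; linear_combination -d * hc3)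
          | (show u = _; linear_combination c ^ 5 * d ^ 2 * hprod - u * (c ^ 3 + 1) * d ^ 3 * hc3 - u * hd3)

include h4 hσ in
theorem conj_mem_heis {A a : GL (Fin 3) F} (hA : U σ (A : Matrix (Fin 3) (Fin 3) F)) (ha : a ∈ heis F) :
    A * a * A⁻¹ ∈ heis F := by
  rcases IsHeis.scalar_or_trace (mem_heis.1 ha) with ⟨c, hc⟩ | htr
  · have : A * a * A⁻¹ = a := Units.ext (by rw [Units.val_mul, Units.val_mul, hc]; simp)
    rwa [this]
  · refine mem_heis.2 (isHeis_of_trace h4 hσ ?_ ?_ ?_)
    · rw [Units.val_mul, Units.val_mul]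
      exact (hA.mul (IsHeis.unitary h4 hσ ha)).mul hA.inv
    · rw [Units.val_mul, Units.val_mul, Matrix.det_units_conj]
      exact IsHeis.det_one ha
    · rw [Units.val_mul, Units.val_mul, Matrix.trace_units_conj, htr]

include h4 hσ in
/-- A non-scalar element has a unitary conjugate that does not commute with it. -/
theorem exists_noncommuting {a : GL (Fin 3) F} (ha : a ∈ heis F) (hns : ∀ c : F, (a : Matrix (Fin 3) (Fin 3) F) ≠ c • 1) :
    ∃ A : GL (Fin 3) F, U σ (A : Matrix (Fin 3) (Fin 3) F) ∧ (A * a * A⁻¹) * a ≠ a * (A * a * A⁻¹) := by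
  obtain ⟨w, hw3, hw1, hw⟩ := exists_omega h4
  have h2 := UnitPow.four_two_zero h4
  have hw0 : w ≠ 0 := fun h => by simp [h] at hw3
  have hw4 : w ^ 4 = w := by linear_combination w * hw3
  have hw5 : w ^ 5 = w ^ 2 := by linear_combination w ^ 2 * hw3
  have hw6 : w ^ 6 = 1 := by linear_combination (w ^ 3 + 1) * hw3
  obtain ⟨k, α, β, hα, hβ, h⟩ := ha
  have hα0 : α ≠ 0 := fun h => by simp [h] at hα
  have hβ0 : β ≠ 0 := fun h => by simp [h] at hβ
  by_cases hk : k = 0
  · subst hk
    have hb : β ≠ 1 := fun hb => hns α (by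
      ext i j
      rw [h, add_zero, Matrix.smul_apply, Matrix.one_apply]
      subst hb
      fin_cases i <;> fin_cases j <;> simp [pw])
    let A : GL (Fin 3) F :=
      ⟨!![1, 1, 1; 1, w, w * w; 1, w * w, w], !![1, 1, 1; 1, w * w, w; 1, w, w * w],
        by
          ext i j
          fin_cases i <;> fin_cases j <;> simp [Matrix.mul_apply, Fin.sum_univ_three] <;>
            (ring_nf; try simp only [hw3, hw4, hw5, hw6]; try ring_nf) <;>
            first | linear_combination hw | linear_combination h2 | skip,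
        by
          ext i j
          fin_cases i <;> fin_cases j <;> simp [Matrix.mul_apply, Fin.sum_univ_three] <;>
            (ring_nf; try simp only [hw3, hw4, hw5, hw6]; try ring_nf) <;>
            first | linear_combination hw | linear_combination h2 | skip⟩
    refine ⟨A, ?_, fun heq => ?_⟩
    · show _ * Matrix.map _ σ = 1
      ext i j
      fin_cases i <;> fin_cases j <;> simp [A, Matrix.mul_apply, Fin.sum_univ_three, hσ] <;>
            (ring_nf; try simp only [hw3, hw4, hw5, hw6]; try ring_nf) <;>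
            first | linear_combination hw | linear_combination h2 | skip
    · have hdist : ∀ i j : Fin 3, i ≠ j → α * pw β i ≠ α * pw β j := by
        intro i j hij he
        have he' := mul_left_cancel₀ hα0 he
        fin_cases i <;> fin_cases j <;> simp [pw] at hij he'
        all_goals first
          | exact hb he'
          | exact hb he'.symm
          | exact hb (by linear_combination hβ - β * he')
          | exact hb (by linear_combination hβ + β * he')
          | exact hb (mul_left_cancel₀ hβ0 (by linear_combination he'))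
          | exact hb (mul_left_cancel₀ hβ0 (by linear_combination -he'))
      set X := ((A * a * A⁻¹ : GL (Fin 3) F) : Matrix (Fin 3) (Fin 3) F) with hX
      have hd : (a : Matrix (Fin 3) (Fin 3) F) = Matrix.diagonal (fun i => α * pw β i) := by
        ext i j
        rw [h, add_zero, Matrix.diagonal_apply]
        simp [eq_comm]
      have hzero : X = 0 := by
        ext i j
        by_cases hij : i = j
        · subst hij
          have hs := sum_pw hβ hb
          rw [Fin.sum_univ_three] at hs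
          rw [hX, Units.val_mul, Units.val_mul, hd, Matrix.mul_apply]
          simp only [Matrix.mul_diagonal]
          fin_cases i <;> simp [A, Fin.sum_univ_three] <;>
            first
              | linear_combination α * hs
              | linear_combination α * hs + α * hw3 * (pw β 1 + pw β 2)
        · have h' := congrFun (congrFun (congrArg (fun g : GL (Fin 3) F => (g : Matrix (Fin 3) (Fin 3) F)) heq) i) j
          simp only [Units.val_mul] at h'
          rw [hd, Matrix.mul_diagonal, Matrix.diagonal_mul] at h'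
          rw [hX, Units.val_mul, Units.val_mul, hd, Matrix.zero_apply]
          by_contra hne
          exact hdist j i (Ne.symm hij) (mul_right_cancel₀ hne (by linear_combination h'))
      exact (A * a * A⁻¹).isUnit.ne_zero hzero
  · let A : GL (Fin 3) F :=
      ⟨Matrix.diagonal ![1, 1, w], Matrix.diagonal ![1, 1, w * w],
        by rw [Matrix.diagonal_mul_diagonal, ← Matrix.diagonal_one]; congr 1; funext i; fin_cases i <;> simp <;>
          linear_combination hw3,
        by rw [Matrix.diagonal_mul_diagonal, ← Matrix.diagonal_one]; congr 1; funext i; fin_cases i <;> simp <;>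
          linear_combination hw3⟩
    refine ⟨A, ?_, fun heq => ?_⟩
    · show (Matrix.diagonal ![1, 1, w])ᵀ * (Matrix.diagonal ![1, 1, w]).map σ = 1
      rw [Matrix.diagonal_transpose, Matrix.diagonal_map (map_zero σ), Matrix.diagonal_mul_diagonal, ← Matrix.diagonal_one]
      congr 1; funext i; fin_cases i <;> simp [hσ]
      linear_combination hw3
    · have h' := fun i j => congrFun (congrFun (congrArg (fun g : GL (Fin 3) F => (g : Matrix (Fin 3) (Fin 3) F)) heq) i) j
      have hAi : ((A⁻¹ : GL (Fin 3) F) : Matrix (Fin 3) (Fin 3) F) = Matrix.diagonal ![1, 1, w * w] := rfl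
      simp only [Units.val_mul, hAi] at h'
      simp only [A] at h'
      have h0 : ∀ i, α * pw β i ≠ 0 := fun i => mul_ne_zero hα0 fun e => by
        have := pw_cube hβ i; rw [e] at this; simp at this
      have key : ∀ i, (![1, 1, w] : Fin 3 → F) i * (![1, 1, w * w] : Fin 3 → F) (i + k) =
          (![1, 1, w] : Fin 3 → F) (i + k) * (![1, 1, w * w] : Fin 3 → F) (i + k + k) := by
        intro i
        have e := h' i (i + k + k)
        rw [Matrix.mul_apply, Matrix.mul_apply,
          Finset.sum_eq_single (i + k) (fun x _ hx => by simp [h, hx]) (by simp),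
          Finset.sum_eq_single (i + k) (fun x _ hx => by simp [h, hx]) (by simp)] at e
        simp only [Matrix.mul_diagonal, Matrix.diagonal_mul, h, if_pos] at e
        refine mul_right_cancel₀ (mul_ne_zero (h0 i) (h0 (i + k))) ?_
        linear_combination e
      have hww : ¬ w = 1 := hw1
      fin_cases k
      · exact hk rfl
      · have := key 1
        simp at this
        exact hww (mul_left_cancel₀ hw0 (by linear_combination this))
      · have := key 0
        simp at this
        exact hww (mul_left_cancel₀ hw0 (by linear_combination this))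

include h4 in
/-- Matrix units are sums of three elements of the Heisenberg group. -/
theorem single_eq_sum (i j : Fin 3) : ∃ g : Fin 3 → GL (Fin 3) F, (∀ s, g s ∈ heis F) ∧
    Matrix.single i j (1 : F) = ∑ s, (g s : Matrix (Fin 3) (Fin 3) F) := by
  obtain ⟨w, hw3, hw1, hw⟩ := exists_omega h4
  let M : Fin 3 → Matrix (Fin 3) (Fin 3) F := fun s =>
    Matrix.of fun a b => if b = a + (j - i) then pw (pw w s * pw w s) i * pw (pw w s) a else 0
  have hM : ∀ s, IsHeis (M s) := fun s => ⟨j - i, pw (pw w s * pw w s) i, pw w s,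
    pw_cube (by rw [mul_pow, pw_cube hw3, one_mul]) i, pw_cube hw3 s, fun a b => rfl⟩
  refine ⟨fun s => ⟨M s, M s * M s, by rw [← mul_assoc]; exact IsHeis.cube (hM s), IsHeis.cube (hM s)⟩, hM, ?_⟩
  ext a b
  rw [Matrix.sum_apply, Matrix.single_apply]
  simp only [M, Matrix.of_apply]
  by_cases hb : b = a + (j - i)
  · simp only [if_pos hb]
    by_cases hai : i = a
    · subst hai
      rw [if_pos ⟨rfl, by rw [hb, add_sub_cancel]⟩]
      have h3 : ∀ s, pw (pw w s * pw w s) i * pw (pw w s) i = 1 := fun s => by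
        rw [← pw_mul, show pw w s * pw w s * pw w s = pw w s ^ 3 by ring, pw_cube hw3]
        fin_cases i <;> simp [pw]
      simp only [h3]
      simp only [Finset.sum_const, Finset.card_univ, Fintype.card_fin, nsmul_eq_mul, mul_one]
      linear_combination -UnitPow.four_two_zero h4
    · rw [if_neg fun h => hai h.1, Fin.sum_univ_three]
      have hw4 : w ^ 4 = w := by linear_combination w * hw3
      have hw5 : w ^ 5 = w ^ 2 := by linear_combination w ^ 2 * hw3
      have hw6 : w ^ 6 = 1 := by linear_combination (w ^ 3 + 1) * hw3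
      have hw8 : w ^ 8 = w ^ 2 := by linear_combination (w ^ 5 + w ^ 2) * hw3
      have hw10 : w ^ 10 = w := by linear_combination (w ^ 7 + w ^ 4 + w) * hw3
      fin_cases i <;> fin_cases a <;> simp [pw] at hai ⊢ <;>
        (ring_nf; try simp only [hw3, hw4, hw5, hw6, hw8, hw10]; try ring_nf) <;> first | linear_combination hw | linear_combination -hw | skip
  · simp only [if_neg hb, Finset.sum_const_zero]
    rw [if_neg]
    rintro ⟨rfl, rfl⟩
    exact hb (by rw [add_sub_cancel])

/-- A pair of matrices acting on a tensor decomposition. -/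
noncomputable def pair (e : ι ≃ Fin 3 × Fin 3) (P : GL ι F) : GL (Fin 3) F × GL (Fin 3) F →* GL ι F :=
  ((MulAut.conj P).toMonoidHom.comp (glReindex e.symm).toMonoidHom).comp (Units.liftRight
    { toFun := fun x => (x.1 : Matrix (Fin 3) (Fin 3) F) ⊗ₖ (x.2 : Matrix (Fin 3) (Fin 3) F)
      map_one' := by simp
      map_mul' := fun x y => by simp [Matrix.mul_kronecker_mul] }
    (fun x => ⟨(x.1 : Matrix (Fin 3) (Fin 3) F) ⊗ₖ (x.2 : Matrix (Fin 3) (Fin 3) F),
      ((x.1⁻¹ : GL (Fin 3) F) : Matrix (Fin 3) (Fin 3) F) ⊗ₖ ((x.2⁻¹ : GL (Fin 3) F) : Matrix (Fin 3) (Fin 3) F),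
      by rw [← Matrix.mul_kronecker_mul]; simp, by rw [← Matrix.mul_kronecker_mul]; simp⟩) fun _ => rfl)

variable (e : ι ≃ Fin 3 × Fin 3) (P : GL ι F)

theorem pair_val (x : GL (Fin 3) F × GL (Fin 3) F) : (pair e P x : Matrix ι ι F) =
    conjHom P (Matrix.reindexAlgEquiv F F e.symm ((x.1 : Matrix (Fin 3) (Fin 3) F) ⊗ₖ (x.2 : Matrix (Fin 3) (Fin 3) F))) := by
  rw [conjHom_apply]; rfl

theorem pair_matrix {x y : GL (Fin 3) F × GL (Fin 3) F} (h : pair e P x = pair e P y) :
    (x.1 : Matrix (Fin 3) (Fin 3) F) ⊗ₖ (x.2 : Matrix (Fin 3) (Fin 3) F) =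
      (y.1 : Matrix (Fin 3) (Fin 3) F) ⊗ₖ (y.2 : Matrix (Fin 3) (Fin 3) F) := by
  have h1 := congrArg (fun g : GL ι F => (g : Matrix ι ι F)) h
  simp only [pair_val] at h1
  haveI : Nonempty ι := ⟨e.symm (0, 0)⟩
  exact (Matrix.reindexAlgEquiv F F e.symm).injective ((conjHom P).toRingHom.injective h1)

/-- The tensor product of two Heisenberg groups of order 27. -/
noncomputable def sqHeis : Subgroup (GL ι F) := ((heis F).prod (heis F)).map (pair e P)

variable {e P}

theorem pair_mem {a b : GL (Fin 3) F} (ha : a ∈ heis F) (hb : b ∈ heis F) : pair e P (a, b) ∈ sqHeis e P :=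
  ⟨(a, b), ⟨ha, hb⟩, rfl⟩

include h4 in
theorem typeR_sqHeis : TypeR 3 2 (sqHeis e P) := by
  have hcard : Fintype.card ι = 9 := by rw [Fintype.card_congr e]; rfl
  refine ⟨Nat.prime_three, hcard, by omega, ?_, ?_, ?_, ?_⟩
  · let Ψ : Matrix (Fin 3 × Fin 3) (Fin 3 × Fin 3) F →ₐ[F] Matrix ι ι F :=
      (conjHom P).comp (Matrix.reindexAlgEquiv F F e.symm).toAlgHom
    refine eq_top_iff.2 fun M _ => ?_
    obtain ⟨X, rfl⟩ : ∃ X, Ψ X = M := ⟨Matrix.reindexAlgEquiv F F e (conjHom P⁻¹ M), by
      simp only [Ψ, AlgHom.comp_apply]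
      rw [show (Matrix.reindexAlgEquiv F F e.symm).toAlgHom (Matrix.reindexAlgEquiv F F e (conjHom P⁻¹ M)) =
        conjHom P⁻¹ M from by
          show Matrix.reindexAlgEquiv F F e.symm _ = _
          ext; simp, ← conjHom_mul, mul_inv_cancel]
      simp [conjHom_apply]⟩
    rw [Matrix.matrix_eq_sum_single X, map_sum]
    refine Subalgebra.sum_mem _ fun p _ => ?_
    rw [map_sum]
    refine Subalgebra.sum_mem _ fun q _ => ?_
    rw [show Matrix.single p q (X p q) = X p q • Matrix.single p q (1 : F) by simp, map_smul]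
    refine Subalgebra.smul_mem _ ?_ _
    obtain ⟨g₁, hg₁, h1⟩ := single_eq_sum h4 p.1 q.1
    obtain ⟨g₂, hg₂, h2⟩ := single_eq_sum h4 p.2 q.2
    have hpq : Matrix.single p q (1 : F) = ∑ s, ∑ s', ((g₁ s : Matrix (Fin 3) (Fin 3) F) ⊗ₖ (g₂ s' : Matrix (Fin 3) (Fin 3) F)) := by
      ext x y
      rw [Matrix.sum_apply]
      simp only [Matrix.sum_apply, Matrix.kroneckerMap_apply, ← Finset.mul_sum, ← Finset.sum_mul]
      rw [← Matrix.sum_apply, ← Matrix.sum_apply, ← h1, ← h2, Matrix.single_apply, Matrix.single_apply,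
        Matrix.single_apply, ite_zero_mul_ite_zero, mul_one]
      exact if_congr (by simp only [Prod.ext_iff]; tauto) rfl rfl
    rw [hpq, map_sum]
    refine Subalgebra.sum_mem _ fun s _ => ?_
    rw [map_sum]
    refine Subalgebra.sum_mem _ fun s' _ => ?_
    have := mem_algOf (pair_mem (e := e) (P := P) (hg₁ s) (hg₂ s'))
    rwa [pair_val] at this
  · rintro _ ⟨⟨a, b⟩, ⟨ha, hb⟩, rfl⟩ _ ⟨⟨a', b'⟩, ⟨ha', hb'⟩, rfl⟩
    obtain ⟨c, hc, h1⟩ := IsHeis.comm ha ha'
    obtain ⟨c', hc', h2⟩ := IsHeis.comm hb hb'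
    refine (mem_scalars_iff _).2 ⟨Units.mk0 (c * c') (mul_ne_zero hc hc'), ?_⟩
    have h3 : ((pair e P (a, b) * pair e P (a', b') : GL ι F) : Matrix ι ι F) =
        (c * c') • ((pair e P (a', b') * pair e P (a, b) : GL ι F) : Matrix ι ι F) := by
      rw [← map_mul, ← map_mul, pair_val, pair_val, ← map_smul, ← map_smul]
      simp only [Prod.mk_mul_mk, Units.val_mul, h1, h2, Matrix.smul_kronecker, Matrix.kronecker_smul, smul_smul]
      rw [mul_comm c' c]
    rw [Units.val_mul, Units.val_mul, h3, Matrix.smul_mul,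
      Matrix.smul_mul, ← Units.val_mul, ← Units.val_mul]
    simp [mul_assoc]
  · rintro _ ⟨⟨a, b⟩, ⟨ha, hb⟩, rfl⟩
    rw [← map_pow, Prod.pow_mk, heis_cube ha, heis_cube hb, ← Prod.one_eq_mk, map_one]
    exact one_mem _
  · rintro _ ⟨⟨a, b⟩, ⟨ha, hb⟩, rfl⟩
    show pair e P (a, b) ^ 3 = 1
    rw [← map_pow, Prod.pow_mk, heis_cube ha, heis_cube hb, ← Prod.one_eq_mk, map_one]

include h4 hσ in
theorem sqHeis_normalized {A B : GL (Fin 3) F} (hA : U σ (A : Matrix (Fin 3) (Fin 3) F))
    (hB : U σ (B : Matrix (Fin 3) (Fin 3) F)) {x : GL ι F} (hx : x ∈ sqHeis e P) :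
    pair e P (A, B) * x * (pair e P (A, B))⁻¹ ∈ sqHeis e P := by
  obtain ⟨⟨a, b⟩, ⟨ha, hb⟩, rfl⟩ := hx
  rw [← map_inv, ← map_mul, ← map_mul]
  exact pair_mem (conj_mem_heis h4 hσ hA ha) (conj_mem_heis h4 hσ hB hb)

include h4 hσ in
theorem isSymplecticType_sqHeis : IsSymplecticTypeGroup 3 (sqHeis e P) := by
  have hN := typeR_sqHeis (e := e) (P := P) h4
  haveI := hN.nonempty
  refine ⟨Nat.prime_three, hN.isPGroup, fun A hA hAc => ?_, ?_⟩
  · have hle : A.map (sqHeis e P).subtype ≤ scalars ι F := by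
      rintro _ ⟨x, hx, rfl⟩
      obtain ⟨⟨a, b⟩, ⟨ha, hb⟩, hab⟩ := x.2
      have hone : U σ ((1 : GL (Fin 3) F) : Matrix (Fin 3) (Fin 3) F) := by
        show ((1 : GL (Fin 3) F) : Matrix (Fin 3) (Fin 3) F)ᵀ * _ = 1
        simp
      have key : ∀ C D : GL (Fin 3) F, U σ (C : Matrix (Fin 3) (Fin 3) F) → U σ (D : Matrix (Fin 3) (Fin 3) F) →
          pair e P (C * a * C⁻¹ * a, D * b * D⁻¹ * b) = pair e P (a * (C * a * C⁻¹), b * (D * b * D⁻¹)) := by
        intro C D hC hD
        set n := pair e P (C, D)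
        let φ : sqHeis e P ≃* sqHeis e P :=
          { toFun := fun y => ⟨n * y * n⁻¹, sqHeis_normalized h4 hσ hC hD y.2⟩
            invFun := fun y => ⟨n⁻¹ * y * n, by
              have := sqHeis_normalized h4 hσ (A := C⁻¹) (B := D⁻¹) hC.inv hD.inv y.2
              rw [show pair e P (C⁻¹, D⁻¹) = n⁻¹ from map_inv (pair e P) (C, D), inv_inv] at this
              exact this⟩
            left_inv := fun y => Subtype.ext (by simp [mul_assoc])
            right_inv := fun y => Subtype.ext (by simp [mul_assoc])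
            map_mul' := fun y z => Subtype.ext (by simp [mul_assoc]) }
        have hφ : φ x ∈ A := by
          have h1 := hA.fixed φ
          rw [← h1] at hx
          exact hx
        have hcomm : ((φ x * x : sqHeis e P) : GL ι F) = ((x * φ x : sqHeis e P) : GL ι F) :=
          congrArg (fun q : A => ((q : sqHeis e P) : GL ι F)) (hAc.is_comm.comm ⟨φ x, hφ⟩ ⟨x, hx⟩)
        have hφv : ((φ x : sqHeis e P) : GL ι F) = pair e P (C * a * C⁻¹, D * b * D⁻¹) := by
          show n * (x : GL ι F) * n⁻¹ = _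
          rw [← hab, ← map_inv, ← map_mul, ← map_mul]
          rfl
        rw [Subgroup.coe_mul, Subgroup.coe_mul, hφv, ← hab, ← map_mul, ← map_mul] at hcomm
        exact hcomm
      by_cases hsa : ∀ c : F, (a : Matrix (Fin 3) (Fin 3) F) ≠ c • 1
      · exfalso
        obtain ⟨C, hC, hne⟩ := exists_noncommuting h4 hσ ha hsa
        have h := pair_matrix e P (key C 1 hC hone)
        simp only [one_mul, inv_one, mul_one] at h
        apply hne
        refine Units.ext (Matrix.ext fun i j => ?_)
        obtain ⟨k, l, hkl⟩ : ∃ k l, ((b * b : GL (Fin 3) F) : Matrix (Fin 3) (Fin 3) F) k l ≠ 0 := by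
          by_contra hz
          push Not at hz
          exact (b * b).isUnit.ne_zero (Matrix.ext hz)
        exact mul_right_cancel₀ hkl (congrFun (congrFun h (i, k)) (j, l))
      by_cases hsb : ∀ c : F, (b : Matrix (Fin 3) (Fin 3) F) ≠ c • 1
      · exfalso
        obtain ⟨D, hD, hne⟩ := exists_noncommuting h4 hσ hb hsb
        have h := pair_matrix e P (key 1 D hone hD)
        simp only [one_mul, inv_one, mul_one] at h
        apply hne
        refine Units.ext (Matrix.ext fun i j => ?_)
        obtain ⟨k, l, hkl⟩ : ∃ k l, ((a * a : GL (Fin 3) F) : Matrix (Fin 3) (Fin 3) F) k l ≠ 0 := by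
          by_contra hz
          push Not at hz
          exact (a * a).isUnit.ne_zero (Matrix.ext hz)
        exact mul_left_cancel₀ hkl (congrFun (congrFun h (k, i)) (l, j))
      push Not at hsa hsb
      obtain ⟨c, hc⟩ := hsa
      obtain ⟨c', hc'⟩ := hsb
      have hval : ((x : GL ι F) : Matrix ι ι F) = (c * c') • 1 := by
        rw [← hab, pair_val, hc, hc', Matrix.smul_kronecker, Matrix.kronecker_smul, Matrix.one_kronecker_one, smul_smul,
          map_smul, map_smul, map_one, map_one]
      refine (mem_scalars_iff _).2 ⟨Units.mk0 (c * c') fun h0 => ?_, hval⟩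
      rw [h0, zero_smul] at hval
      exact (x : GL ι F).isUnit.ne_zero hval
    haveI : IsCyclic (A.map (sqHeis e P).subtype) := scalars_le_range_cyclic _ hle
    exact isCyclic_of_surjective
      (A.equivMapOfInjective (sqHeis e P).subtype (sqHeis e P).subtype_injective).symm.toMonoidHom (MulEquiv.surjective _)
  · show _ = 3
    refine ((Nat.dvd_prime Nat.prime_three).1
      (Monoid.exponent_dvd_of_forall_pow_eq_one fun x => Subtype.ext (by
        rw [Subgroup.coe_pow]; exact hN.exp x x.2))).resolve_left fun h1 => ?_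
    haveI := Monoid.exp_eq_one_iff.1 h1
    obtain ⟨x, hx, hxs⟩ := hN.exists_nonscalar
    have hx1 : x = 1 := congrArg Subtype.val (Subsingleton.elim (⟨x, hx⟩ : sqHeis e P) 1)
    exact hxs (hx1 ▸ Subgroup.one_mem _)

end Nine

open Nine in
/-- Over four elements a group of isometries inside the tensor square of three-dimensional forms normalises a
group of symplectic type. -/
theorem square_three_symplectic_type (h4 : Fintype.card F = 4) (hσ : ∀ x, σ x = x ^ 2) (e : ι ≃ Fin 3 × Fin 3)
    (P : GL ι F) (hT : IsTensorFormStructure (σ : F → F) f (stdHerm σ 3) (stdHerm σ 3) e P)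
    {H : Subgroup (GL ι F)} (hH : IsoGrp f H) (hle : H ≤ tensorProductSubgroup 3 3 e P) :
    ∃ R : Subgroup (GL ι F), IsSymplecticTypeGroup 3 R ∧ ActsAbsolutelyIrreducibly (matrixSet R) ∧
      R ≤ similarityGroup f ∧ Nat.card R = 3 ^ (1 + 2 * 2) ∧ Nat.card (Subgroup.center R) = 3 ∧
      H ≤ subgroupNormalizer R := by
  classical
  haveI : Nonempty ι := ⟨e.symm (0, 0)⟩
  have hN := typeR_sqHeis (e := e) (P := P) h4
  have hcen : Nat.card (Subgroup.center (sqHeis e P)) = 3 := hN.card_center.resolve_right fun h => by simp at h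
  obtain ⟨c, hc, hc'⟩ := hT
  have hdot : ∀ x y, f ((P : Matrix ι ι F) *ᵥ (x ∘ e)) ((P : Matrix ι ι F) *ᵥ (y ∘ e)) =
      c * (x ⬝ᵥ fun p => σ (y p)) := fun x y => by
    rw [hc', gramMatrix_formOfGram, Matrix.one_kronecker_one, formOfGram_eq_dot, Matrix.one_mulVec]
  have hpair : ∀ A B : GL (Fin 3) F, ∀ z, (pair e P (A, B) : Matrix ι ι F) *ᵥ ((P : Matrix ι ι F) *ᵥ (z ∘ e)) =
      (P : Matrix ι ι F) *ᵥ ((((A : Matrix (Fin 3) (Fin 3) F) ⊗ₖ (B : Matrix (Fin 3) (Fin 3) F)) *ᵥ z) ∘ e) :=
    fun A B z => glReindex_mulVec e P _ z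
  have hkmap : ∀ A B : Matrix (Fin 3) (Fin 3) F, (A ⊗ₖ B)ᵀ * (A ⊗ₖ B).map σ = (Aᵀ * A.map σ) ⊗ₖ (Bᵀ * B.map σ) := by
    intro A B
    rw [show (A ⊗ₖ B).map σ = A.map σ ⊗ₖ B.map σ by ext i j; simp, ← Matrix.kroneckerMap_transpose,
      ← Matrix.mul_kronecker_mul]
  refine ⟨sqHeis e P, isSymplecticType_sqHeis h4 hσ, absIrred_of_algOf_eq_top hN.span, ?_, ?_, hcen, ?_⟩
  · rintro _ ⟨⟨a, b⟩, ⟨ha, hb⟩, rfl⟩
    refine ⟨1, fun u v => ?_⟩
    rw [Units.val_one, one_mul]
    obtain ⟨x, rfl⟩ : ∃ x : Fin 3 × Fin 3 → F, (P : Matrix ι ι F) *ᵥ (x ∘ e) = u :=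
      ⟨(((P⁻¹ : GL ι F) : Matrix ι ι F) *ᵥ u) ∘ e.symm, by simp [Function.comp_assoc]⟩
    obtain ⟨y, rfl⟩ : ∃ y : Fin 3 × Fin 3 → F, (P : Matrix ι ι F) *ᵥ (y ∘ e) = v :=
      ⟨(((P⁻¹ : GL ι F) : Matrix ι ι F) *ᵥ v) ∘ e.symm, by simp [Function.comp_assoc]⟩
    rw [hpair, hpair, hdot, hdot]
    congr 1
    set K := (a : Matrix (Fin 3) (Fin 3) F) ⊗ₖ (b : Matrix (Fin 3) (Fin 3) F) with hK
    rw [show (fun p => σ ((K *ᵥ y) p)) = K.map σ *ᵥ (fun p => σ (y p)) from
      funext fun p => RingHom.map_mulVec (σ : F →+* F) K y p,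
      ← Matrix.vecMul_transpose, ← Matrix.dotProduct_mulVec, Matrix.mulVec_mulVec, hK, hkmap,
      show (a : Matrix (Fin 3) (Fin 3) F)ᵀ * _ = 1 from IsHeis.unitary h4 hσ ha,
      show (b : Matrix (Fin 3) (Fin 3) F)ᵀ * _ = 1 from IsHeis.unitary h4 hσ hb,
      Matrix.one_kronecker_one, Matrix.one_mulVec]
  · rw [hN.card_eq, hcen]
    norm_num
  · refine le_normalizer_of_normalized fun g hg x hx => ?_
    obtain ⟨_, ⟨k, ⟨A, B, hk⟩, rfl⟩, rfl⟩ := hle hg
    have hg' : (MulAut.conj P).toMonoidHom ((glReindex e.symm).toMonoidHom k) = pair e P (A, B) :=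
      congrArg (fun y => (MulAut.conj P).toMonoidHom ((glReindex e.symm).toMonoidHom y))
        (Units.ext hk : k = ⟨(A : Matrix (Fin 3) (Fin 3) F) ⊗ₖ (B : Matrix (Fin 3) (Fin 3) F), _, _, _⟩)
    rw [hg'] at hg ⊢
    have hkk : ((A : Matrix (Fin 3) (Fin 3) F) ⊗ₖ (B : Matrix (Fin 3) (Fin 3) F))ᵀ *
        ((A : Matrix (Fin 3) (Fin 3) F) ⊗ₖ (B : Matrix (Fin 3) (Fin 3) F)).map σ = 1 := by
      ext p r
      have h := hH _ hg ((P : Matrix ι ι F) *ᵥ ((Pi.single p (1 : F) : _ → F) ∘ e))
        ((P : Matrix ι ι F) *ᵥ ((Pi.single r (1 : F) : _ → F) ∘ e))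
      rw [hpair, hpair, hdot, hdot] at h
      have h' := mul_left_cancel₀ hc h
      rw [Matrix.mulVec_single_one, Matrix.mulVec_single_one, single_dotProduct, one_mul] at h'
      rw [Matrix.mul_apply]
      simp only [Matrix.transpose_apply, Matrix.map_apply]
      refine Eq.trans h' ?_
      simp [Pi.single_apply, apply_ite σ, Matrix.one_apply, eq_comm]
    rw [hkmap] at hkk
    set X := (A : Matrix (Fin 3) (Fin 3) F)ᵀ * (A : Matrix (Fin 3) (Fin 3) F).map σ
    set Y := (B : Matrix (Fin 3) (Fin 3) F)ᵀ * (B : Matrix (Fin 3) (Fin 3) F).map σ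
    have hXY : ∀ i j k l, X i k * Y j l = if i = k ∧ j = l then 1 else 0 := fun i j k l => by
      have := congrFun (congrFun hkk (i, j)) (k, l)
      simpa [Matrix.one_apply, Prod.ext_iff] using this
    have hsym : σ (X 0 0) = X 0 0 := by
      simp only [X, Matrix.mul_apply, Matrix.transpose_apply, Matrix.map_apply, map_sum, map_mul]
      refine Finset.sum_congr rfl fun i _ => ?_
      rw [hσ, hσ, ← pow_mul, show 2 * 2 = Fintype.card F from h4.symm, FiniteField.pow_card, mul_comm]
    have h00 : X 0 0 * Y 0 0 = 1 := by simpa using hXY 0 0 0 0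
    have hx1 : X 0 0 = 1 := UnitPow.four_fixed h4 _ (by rw [← hσ]; exact hsym) (left_ne_zero_of_mul_eq_one h00)
    have hY : Y = 1 := by
      ext j l
      have := hXY 0 j 0 l
      rw [hx1, one_mul] at this
      simpa [Matrix.one_apply] using this
    have hX : X = 1 := by
      ext i k
      have := hXY i 0 k 0
      rw [hY, Matrix.one_apply_eq, mul_one] at this
      simpa [Matrix.one_apply] using this
    exact sqHeis_normalized h4 hσ hX hY hx

open CfsgLib.Maximal.TensorPower in
/-- A perfect group generated by factors of a tensor power of three-dimensional unitary forms over four elements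
is trivial. -/
theorem no_perfect_power_three_four [Nonempty ι] (h4 : Fintype.card F = 4) (hσ : ∀ x, σ x = x ^ 2)
    (hne : σ ≠ RingEquiv.refl F) {t : ℕ} (ht : 0 < t) {e : ι ≃ (Fin t → Fin 3)} {P : GL ι F}
    {G : Matrix (Fin 3) (Fin 3) F} (hG : IsUnit G) (hsym : ∀ p q, G q p = σ (G p q)) {c : F} (hc : c ≠ 0)
    (hform : ∀ x y, f (CfsgLib.Maximal.TensorTools.coord e P x) (CfsgLib.Maximal.TensorTools.coord e P y) =
      c * formOfGram (σ : F → F) (pm fun _ => G) x y)
    {ψ : Fin t → (Matrix (Fin 3) (Fin 3) F →ₐ[F] Matrix ι ι F)}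
    (hemb : ∀ i X, ∃ Y, ψ i X = conjHom P (Matrix.reindexAlgEquiv F F e.symm (slot i Y)))
    {H N : Subgroup (GL ι F)} (hHf : IsoGrp f H) (hNH : N ≤ H) (hperf : ⁅N, N⁆ = N) (hns : ¬ N ≤ scalars ι F)
    (hinv : ∀ g ∈ H, ∀ x ∈ N, g * x * g⁻¹ ∈ N)
    (hmin : ∀ K : Subgroup (GL ι F), K ≤ N → (∀ g ∈ H, ∀ x ∈ K, g * x * g⁻¹ ∈ K) → ¬ K ≤ scalars ι F → K = N)
    (hgrp : ∀ i, ∃ K : Subgroup (GL ι F), K ≤ N ∧ algOf K = (ψ i).range)
    (hperm : ∀ g ∈ H, ∃ τ : Equiv.Perm (Fin t), ∀ i X, ∃ Y, conjHom g (ψ i X) = ψ (τ i) Y) : False := by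
  classical
  have hinvol : ∀ x, σ (σ x) = x := fun x => by
    rw [hσ, hσ, ← pow_mul, show 2 * 2 = Fintype.card F from h4.symm, FiniteField.pow_card]
  have h1 : Herm σ 1 (formOfGram (σ : F → F) G) :=
    herm_formOfGram hinvol hG fun p q => by rw [one_mul]; exact hsym p q
  obtain ⟨B, hB⟩ := exists_gram_one (q := 2) (by rw [h4]; rfl) hσ hne h1
  rw [gramMatrix_formOfGram] at hB
  let S : Set (GL ι F) := {x | x ∈ N ∧ ∃ i X X', ψ i X = (x : Matrix ι ι F) ∧ ψ i X' = ((x⁻¹ : GL ι F) : Matrix ι ι F)}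
  have hSN : Subgroup.closure S ≤ N := (Subgroup.closure_le N).2 fun x hx => hx.1
  have hclos : Subgroup.closure S = N := by
    refine hmin _ hSN (fun g hg x hx => ?_) fun hle => ?_
    · have hconj : ∀ y ∈ S, g * y * g⁻¹ ∈ S := by
        rintro y ⟨hy, i, X, X', hX, hX'⟩
        obtain ⟨τ, hτ⟩ := hperm g hg
        obtain ⟨Y, hY⟩ := hτ i X
        obtain ⟨Y', hY'⟩ := hτ i X'
        rw [hX, conjHom_apply, ← Units.val_mul, ← Units.val_mul] at hY
        rw [hX', conjHom_apply, ← Units.val_mul, ← Units.val_mul, show g * y⁻¹ * g⁻¹ = (g * y * g⁻¹)⁻¹ by group] at hY'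
        exact ⟨hinv g hg y hy, τ i, Y, Y', hY.symm, hY'.symm⟩
      have hle : (Subgroup.closure S).map (MulAut.conj g).toMonoidHom ≤ Subgroup.closure S := by
        rw [MonoidHom.map_closure]
        refine Subgroup.closure_mono ?_
        rintro _ ⟨y, hy, rfl⟩
        exact hconj y hy
      exact hle ⟨x, hx, rfl⟩
    · obtain ⟨K, hKN, hK⟩ := hgrp ⟨0, ht⟩
      have hKs : K ≤ scalars ι F := fun x hx => hle (Subgroup.subset_closure (by
        obtain ⟨X, hX⟩ : (x : Matrix ι ι F) ∈ (ψ ⟨0, ht⟩).range := hK ▸ mem_algOf hx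
        obtain ⟨X', hX'⟩ : ((x⁻¹ : GL ι F) : Matrix ι ι F) ∈ (ψ ⟨0, ht⟩).range := hK ▸ mem_algOf (inv_mem hx)
        exact ⟨hKN hx, _, X, X', hX, hX'⟩))
      have hbot : algOf K = ⊥ := eq_bot_iff.2 (Algebra.adjoin_le (by
        rintro _ ⟨x, hx, rfl⟩
        obtain ⟨c, hc⟩ := (mem_scalars_iff x).1 (hKs hx)
        show (x : Matrix ι ι F) ∈ (⊥ : Subalgebra F _)
        rw [hc]
        exact Subalgebra.smul_mem _ (one_mem _) _))
      obtain ⟨c, hc⟩ : ψ ⟨0, ht⟩ (Matrix.single (0 : Fin 3) (1 : Fin 3) (1 : F)) ∈ (⊥ : Subalgebra F (Matrix ι ι F)) := by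
        rw [← hbot, hK]; exact ⟨_, rfl⟩
      have h : Matrix.single (0 : Fin 3) (1 : Fin 3) (1 : F) = algebraMap F _ c := (ψ ⟨0, ht⟩).toRingHom.injective (by
        show ψ ⟨0, ht⟩ _ = ψ ⟨0, ht⟩ _
        rw [AlgHom.commutes, ← hc]; rfl)
      have := congrFun (congrFun h 0) 1
      simp [Matrix.algebraMap_matrix_apply] at this
  let conjB : GL (Fin 3) F →* GL (Fin 3) F := (MulAut.conj B).toMonoidHom
  let θ : (Fin t → Cfsg.GU 3 F 2) →* GL (Fin t → Fin 3) F := Units.liftRight
    { toFun := fun C => pm fun i => (conjB (C i) : Matrix (Fin 3) (Fin 3) F)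
      map_one' := by
        simp only [Pi.one_apply, Subgroup.coe_one, map_one, Units.val_one]
        exact pm_one
      map_mul' := fun C D => by rw [pm_mul]; simp only [Pi.mul_apply, Subgroup.coe_mul, map_mul, Units.val_mul] }
    (fun C => ⟨pm fun i => (conjB (C i) : Matrix (Fin 3) (Fin 3) F),
      pm fun i => ((conjB (C i))⁻¹ : GL (Fin 3) F).val,
      by rw [pm_mul]; simp only [← Units.val_mul, mul_inv_cancel, Units.val_one]; exact pm_one,
      by rw [pm_mul]; simp only [← Units.val_mul, inv_mul_cancel, Units.val_one]; exact pm_one⟩) fun _ => rfl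
  let Φ : (Fin t → Cfsg.GU 3 F 2) →* GL ι F :=
    ((MulAut.conj P).toMonoidHom.comp (glReindex e.symm).toMonoidHom).comp θ
  have hNΦ : N ≤ Φ.range := by
    rw [← hclos, Subgroup.closure_le]
    rintro x ⟨hx, i, X, X', hX, hX'⟩
    obtain ⟨A, hA⟩ := hemb i X
    obtain ⟨A', hA'⟩ := hemb i X'
    rw [hX] at hA
    rw [hX'] at hA'
    have hinj : Function.Injective fun A : Matrix (Fin 3) (Fin 3) F => slot (t := t) i A := by
      intro A A' h
      ext p q
      have h' := congrFun (congrFun h (fun _ => p)) (Function.update (fun _ => p) i q)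
      simp only [slot_apply, pm, ← Finset.mul_prod_erase Finset.univ _ (Finset.mem_univ i), Function.update_self] at h'
      rw [Finset.prod_eq_one (fun j hj => by simp [Function.update_of_ne (Finset.ne_of_mem_erase hj)]),
        Finset.prod_eq_one (fun j hj => by simp [Function.update_of_ne (Finset.ne_of_mem_erase hj)]),
        mul_one, mul_one] at h'
      exact h'
    have hAA : A * A' = 1 := hinj (by
      show slot i (A * A') = slot i 1
      rw [← slot_mul, slot_one]
      apply (Matrix.reindexAlgEquiv F F e.symm).injective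
      apply (conjHom P).toRingHom.injective
      show conjHom P _ = conjHom P _
      rw [map_mul, map_mul, ← hA, ← hA', map_one, map_one, Units.mul_inv])
    let A₁ : GL (Fin 3) F := ⟨A, A', hAA, mul_eq_one_comm.1 hAA⟩
    have hx' : ∀ z, (x : Matrix ι ι F) *ᵥ CfsgLib.Maximal.TensorTools.coord e P z =
        CfsgLib.Maximal.TensorTools.coord e P (slot i A *ᵥ z) := fun z => by rw [hA, powerEmb_mulVec]
    have hAG : Aᵀ * G * A.map σ = G := by
      have hMap : ∀ Z : Matrix (Fin 3) (Fin 3) F, (slot i Z).map σ = slot (t := t) i (Z.map σ) := slot_map i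
      have hmat : (slot i A)ᵀ * (pm fun _ => G) * (slot i A).map σ = pm fun _ => G := by
        ext p r
        have h := hHf x (hNH hx) (CfsgLib.Maximal.TensorTools.coord e P (Pi.single p 1))
          (CfsgLib.Maximal.TensorTools.coord e P (Pi.single r 1))
        rw [hx', hx', hform, hform] at h
        have h' := mul_left_cancel₀ hc h
        rw [formOfGram_single] at h'
        rw [← h', formOfGram_eq_dot, Matrix.mulVec_single_one, Matrix.mulVec_single_one, Matrix.mul_assoc, Matrix.mul_apply]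
        simp [dotProduct, Matrix.mulVec, Matrix.mul_apply, Matrix.map_apply]
      rw [slot_transpose, hMap, slot_apply, slot_apply, pm_mul, pm_mul] at hmat
      obtain ⟨p₀, q₀, hpq⟩ : ∃ p q, G p q ≠ 0 := by
        by_contra hz
        push Not at hz
        exact hG.ne_zero (Matrix.ext hz)
      ext p q
      have h' := congrFun (congrFun hmat (Function.update (fun _ => p₀) i p)) (Function.update (fun _ => q₀) i q)
      simp only [pm, ← Finset.mul_prod_erase Finset.univ _ (Finset.mem_univ i), Function.update_self] at h'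
      rw [Finset.prod_congr rfl (g := fun _ => G p₀ q₀) (fun j hj => by
          simp [Function.update_of_ne (Finset.ne_of_mem_erase hj)])] at h'
      have eR : ∏ x ∈ Finset.univ.erase i, G (Function.update (fun _ : Fin t => p₀) i p x)
          (Function.update (fun _ : Fin t => q₀) i q x) = ∏ x ∈ Finset.univ.erase i, G p₀ q₀ :=
        Finset.prod_congr rfl fun j hj => by simp [Function.update_of_ne (Finset.ne_of_mem_erase hj)]
      rw [eR] at h'
      exact mul_right_cancel₀ (Finset.prod_ne_zero_iff.2 fun _ _ => hpq) h'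
    let C : GL (Fin 3) F := B⁻¹ * A₁ * B
    have hC : (C : Matrix (Fin 3) (Fin 3) F)ᵀ * (C : Matrix (Fin 3) (Fin 3) F).map σ = 1 := by
      have hBC : (B : Matrix (Fin 3) (Fin 3) F) * (C : Matrix (Fin 3) (Fin 3) F) = A * (B : Matrix (Fin 3) (Fin 3) F) := by
        rw [← Units.val_mul, show B * C = A₁ * B by simp [C, mul_assoc], Units.val_mul]
      set Bm := (B : Matrix (Fin 3) (Fin 3) F)
      set Cm := (C : Matrix (Fin 3) (Fin 3) F)
      calc Cmᵀ * Cm.map (σ : F →+* F) = Cmᵀ * (Bmᵀ * G * Bm.map (σ : F →+* F)) * Cm.map (σ : F →+* F) := by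
            rw [show Bmᵀ * G * Bm.map (σ : F →+* F) = 1 from hB, mul_one]
        _ = (Bm * Cm)ᵀ * G * (Bm * Cm).map (σ : F →+* F) := by
            rw [Matrix.transpose_mul, Matrix.map_mul]; simp only [mul_assoc]
        _ = Bmᵀ * (Aᵀ * G * A.map (σ : F →+* F)) * Bm.map (σ : F →+* F) := by
            rw [hBC, Matrix.transpose_mul, Matrix.map_mul]; simp only [mul_assoc]
        _ = 1 := by rw [show Aᵀ * G * A.map (σ : F →+* F) = G from hAG]; exact hB
    have hCU : C ∈ Cfsg.GU 3 F 2 := by
      rw [UnitPow.mem_GU]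
      intro u v
      have hh : ∀ u v : Fin 3 → F, Cfsg.hermForm 3 F 2 u v = u ⬝ᵥ fun i => σ (v i) := fun u v => by
        simp [Cfsg.hermForm, dotProduct, hσ]
      rw [hh, hh, show (fun i => σ (((C : Matrix (Fin 3) (Fin 3) F) *ᵥ v) i)) =
        (C : Matrix (Fin 3) (Fin 3) F).map σ *ᵥ (fun i => σ (v i)) from
        funext fun i => RingHom.map_mulVec (σ : F →+* F) (C : Matrix (Fin 3) (Fin 3) F) v i,
        ← Matrix.vecMul_transpose, ← Matrix.dotProduct_mulVec, Matrix.mulVec_mulVec, hC, Matrix.one_mulVec]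
    refine ⟨Function.update 1 i ⟨C, hCU⟩, Units.ext ?_⟩
    rw [hA, conjHom_apply, slot_apply]
    show (P : Matrix ι ι F) * Matrix.reindexAlgEquiv F F e.symm
      (pm fun j => (conjB ((Function.update (1 : Fin t → Cfsg.GU 3 F 2) i ⟨C, hCU⟩) j) : Matrix (Fin 3) (Fin 3) F)) * _ = _
    congr 3
    refine congrArg pm (funext fun j => ?_)
    by_cases hj : j = i
    · subst hj
      rw [Function.update_self, Function.update_self]
      show ((B * C * B⁻¹ : GL (Fin 3) F) : Matrix (Fin 3) (Fin 3) F) = (A₁ : Matrix (Fin 3) (Fin 3) F)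
      congr 1
      simp [C, mul_assoc]
    · rw [Function.update_of_ne hj, Function.update_of_ne hj]
      simp [conjB]
  haveI : Group.IsSolvable (Fin t → Cfsg.GU 3 F 2) := Cfsg.Agent.S0144.result 2 3 (3 * t) (4 * t) Nat.prime_two
    Nat.prime_three (by
      rw [Nat.card_fun, Nat.card_fin, ClassicalGroups.card_GU (show Fintype.card F = 2 ^ 2 from h4) 3, pow_mul, pow_mul,
        ← mul_pow]
      congr 1)
  haveI : Group.IsSolvable Φ.range := Group.isSolvable_of_surjective (MonoidHom.rangeRestrict_surjective _)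
  haveI : Group.IsSolvable N :=
    Group.isSolvable_of_isSolvable_injective (f := Subgroup.inclusion hNΦ) (Subgroup.inclusion_injective hNΦ)
  have hNne : N ≠ ⊥ := fun h => hns (h ▸ bot_le)
  haveI : Nontrivial N := (Subgroup.nontrivial_iff_ne_bot N).2 hNne
  refine (Group.IsSolvable.commutator_lt_top_of_nontrivial N).ne ?_
  refine Subgroup.map_injective N.subtype_injective ?_
  rw [commutator_def, Subgroup.map_commutator, ← MonoidHom.range_eq_map, Subgroup.range_subtype, hperf]

end CfsgLib.Geo.Asch
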