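import Mathlib
import Cfsg.Prelude.Def_GeometricClasses
import Cfsg.Agent.Lib.Geo.AschUnitPowerArith
import Cfsg.Agent.Lib.Geo.AschUnitFour
import Cfsg.Agent.Lib.Geo.AschPowerForm
import Cfsg.Agent.Lib.Geo.AschUnitNine

/-! The structure theorem for subgroups of unitary groups. -/

set_option autoImplicit false
set_option linter.unusedSectionVars false

namespace CfsgLib.Geo.Asch

open Cfsg Cfsg.Geo Matrix CfsgLib.GeomClasses CfsgLib.Maximal.TensorPower
open scoped MatrixGroups commutatorElement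

variable {ι : Type} [Fintype ι] [DecidableEq ι] {F : Type*} [Field F] [Fintype F]
  {σ : F ≃+* F} {f : (ι → F) → (ι → F) → F}

/-- Class 6 of a unitary group, as a containment. -/
def UnitTypeR (f : (ι → F) → (ι → F) → F) (H : Subgroup (GL ι F)) : Prop :=
  ∃ (r : ℕ) (R : Subgroup (GL ι F)) (p e k : ℕ), IsSymplecticTypeGroup r R ∧
      ActsAbsolutelyIrreducibly (matrixSet R) ∧ R ≤ similarityGroup f ∧ r ≠ p ∧
      IsMinimalFieldFor (Nat.card (Subgroup.center R)) p e F ∧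
      ((Odd r ∧ Nat.card (Subgroup.center R) = r ∧ 1 ≤ k ∧ Nat.card R = r ^ (1 + 2 * k)) ∨
       (r = 2 ∧ e = 2 ∧ Nat.card (Subgroup.center R) = 4 ∧ Nat.card R = 2 ^ (2 + 2 * k))) ∧
      H ≤ subgroupNormalizer R

/-- Class 7 of a unitary group, as a containment. -/
def UnitPower (q : ℕ) (σ : F ≃+* F) (f : (ι → F) → (ι → F) → F) (H : Subgroup (GL ι F)) : Prop :=
  ∃ (k t : ℕ) (e : ι ≃ (Fin t → Fin k)) (P : GL ι F) (f₁ : (Fin k → F) → (Fin k → F) → F),
    3 ≤ k ∧ 2 ≤ t ∧ ¬ (q = 2 ∧ k = 3) ∧ IsUnitaryFormPow q f₁ ∧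
    IsTensorPowerFormStructure (σ : F → F) f f₁ e P ∧ H ≤ tensorWreathSubgroup k t e P

/-- Every group of unitary isometries lies in a geometric class or is residual. -/
theorem unitary_containment [Nonempty ι] {q : ℕ} (hF : Fintype.card F = q ^ 2) (hσq : ∀ x, σ x = x ^ q)
    (hf : IsUnitaryForm σ f) {H : Subgroup (GL ι F)} (hHf : IsoGrp f H) (hn : 3 ≤ Fintype.card ι) :
    (∃ W : Submodule F (ι → F), W ≠ ⊥ ∧ IsTotallySingularFor f W ∧ H ≤ subspaceStabilizer W) ∨
    (∃ W : Submodule F (ι → F), W ≠ ⊥ ∧ IsNondegenerateOn f W ∧ 2 * Module.finrank F W < Fintype.card ι ∧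
      H ≤ subspaceStabilizer W) ∨
    (∃ (t m : ℕ) (D : Fin t → Submodule F (ι → F)), IsNondegenerateMDecomposition f m D ∧
      H ≤ decompositionStabilizer D) ∨
    (∃ (m : ℕ) (D : Fin 2 → Submodule F (ι → F)), 2 * m = Fintype.card ι ∧ IsMDecomposition m D ∧
      (∀ i, IsTotallySingularFor f (D i)) ∧ H ≤ decompositionStabilizer D) ∨
    UnitSubfield q f H ∨ UnitTypeR f H ∨
    (∃ (s : ℕ) (K : Subalgebra F (Matrix ι ι F)), s.Prime ∧ Odd s ∧ IsFieldSubalgebra s K ∧
      IsAdjointClosedFor f K ∧ H ≤ subalgebraNormalizer K) ∨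
    (∃ (a b : ℕ) (e : ι ≃ Fin a × Fin b) (P : GL ι F) (f₁ : (Fin a → F) → (Fin a → F) → F)
      (f₂ : (Fin b → F) → (Fin b → F) → F), 2 ≤ a ∧ a < b ∧ IsUnitaryFormPow q f₁ ∧ IsUnitaryFormPow q f₂ ∧
      IsTensorFormStructure (σ : F → F) f f₁ f₂ e P ∧ H ≤ tensorProductSubgroup a b e P) ∨
    UnitPower q σ f H ∨ InUnitaryResidualClass H := by
  classical
  have hh := herm_unitary hf
  have hn2 : 2 ≤ Fintype.card ι := by omega
  by_cases hirr : ActsIrreducibly (matrixSet H)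
  swap
  · rcases reducible_cases hh hHf hirr with ⟨W, h1, h2, hW, hle⟩ | ⟨W, h1, h2, hW, hd, hle⟩ | ⟨m, D, hD, hle⟩
    · exact Or.inl ⟨W, h1, hW, hle⟩
    · exact Or.inr (Or.inl ⟨W, h1, hW, hd, hle⟩)
    · exact Or.inr (Or.inr (Or.inl ⟨2, m, D, hD, hle⟩))
  refine Or.inr (Or.inr ?_)
  rcases irreducible_cases hn2 hh hHf hirr with hg | ⟨N, hNH, hinv, hns, hspan, hmin, hcase⟩
  swap
  · have hfN : FixesForm (matrixSet N) f := by
      rintro _ ⟨g, hg, rfl⟩ u v
      exact hHf g (hNH hg) u v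
    rcases hcase with ⟨hcl, -⟩ | ⟨hperf, hcl⟩
    · obtain ⟨r, m, hm, hR⟩ := exists_typeR hn hinv hspan hcl hmin
      rcases hR.unitary_cases hF hσq hf hinv hfN with h | ⟨hfull, p, k, hrp, hminf, hk⟩
      · exact Or.inr (Or.inr (Or.inl h))
      refine Or.inr (Or.inr (Or.inr (Or.inl ⟨r, N, p, k, m, hR.isSymplecticTypeGroup hinv hmin,
        absIrred_of_algOf_eq_top hspan,
        fun g hg => ⟨1, fun u v => by rw [Units.val_one, one_mul]; exact hfN _ ⟨g, hg, rfl⟩ u v⟩,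
        hrp, hminf, ?_, le_normalizer_of_normalized hinv⟩)))
      rcases hR.prime.eq_two_or_odd' with rfl | ho
      · have h4 : Nat.card (Subgroup.center N) = 4 := hfull
        refine Or.inr ⟨rfl, ?_, h4, by rw [hR.card_eq, h4, add_comm 2, pow_add]; norm_num⟩
        rw [h4] at hminf
        obtain ⟨hqp, -⟩ := minimal_field_four hrp hF hminf
        have h1 := hminf.2.2.1
        rw [hF, hqp] at h1
        exact (Nat.pow_right_injective hminf.1.two_le h1).symm
      · have hr : Nat.card (Subgroup.center N) = r := by rw [hfull, Nat.coprime_two_left.2 ho, mul_one]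
        exact Or.inl ⟨ho, hr, hm, by rw [hR.card_eq, hr, ← pow_succ, add_comm]⟩
    rcases simple_or_family_groups hNH hinv hspan hcl hmin with
      hsimple | ⟨a, t, ψ, ha, ht, hcard, hcomm, hgrp, hperm⟩
    · rcases unitary_residual_cases hn2 hF hσq hf hHf hNH hinv hns hspan hperf hsimple with h | h | h | h
      · exact Or.inr (Or.inr (Or.inl (Or.inl h)))
      · exact Or.inr (Or.inr (Or.inl (Or.inr (Or.inl h))))
      · exact Or.inr (Or.inr (Or.inl (Or.inr (Or.inr h))))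
      · exact Or.inr (Or.inr (Or.inr (Or.inr (Or.inr (Or.inr (Or.inr h))))))
    obtain ⟨e, P, G, c, ε₁, hc, hG, hsym, hεσ, -, hform, hemb, hle⟩ :=
      exists_power_form_emb hh ha ht hcard hcomm hHf hNH hspan hinv hmin hgrp hperm
    by_cases ha2 : a = 2
    · subst ha2
      obtain ⟨F₀, h0, hr⟩ := realisable_of_wreath_two (show 0 < t by omega) e P hspan hperf (hNH.trans hle) hf hfN
      exact Or.inr (Or.inr (Or.inl (unitary_realisable_cases hn2 hF hσq hf hinv hspan hfN h0 hr)))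
    -- rescale the form on one factor
    have hε0 : ε₁ ≠ 0 := left_ne_zero_of_mul_eq_one hεσ
    obtain ⟨s, hs0, hs⟩ : ∃ s : F, s ≠ 0 ∧ σ s = ε₁ * s := by
      have hsol : ∀ x : F, σ (x + σ ε₁ * σ x) = ε₁ * (x + σ ε₁ * σ x) := fun x => by
        rw [map_add, map_mul, hf.involutive, hf.involutive]
        linear_combination -(σ x) * hεσ
      obtain ⟨l, hl⟩ := Unit.exists_moved hf.ne_refl
      by_cases h1 : (1 : F) + σ ε₁ * σ 1 = 0
      · refine ⟨l + σ ε₁ * σ l, fun h => hl ?_, hsol l⟩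
        rw [map_one, mul_one] at h1
        linear_combination σ l * h1 - h
      · exact ⟨_, h1, hsol 1⟩
    have hsG : ∀ p q, (s • G) q p = σ ((s • G) p q) := fun p q => by
      rw [Matrix.smul_apply, Matrix.smul_apply, smul_eq_mul, smul_eq_mul, map_mul, hs, hsym p q]
      ring
    have hsGu : IsUnit (s • G) := by
      obtain ⟨u, rfl⟩ := hG
      exact ⟨⟨s • (u : Matrix (Fin a) (Fin a) F), s⁻¹ • ((u⁻¹ : GL (Fin a) F) : Matrix (Fin a) (Fin a) F),
        by rw [Matrix.smul_mul, Matrix.mul_smul, smul_smul, mul_inv_cancel₀ hs0, Units.mul_inv, one_smul],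
        by rw [Matrix.smul_mul, Matrix.mul_smul, smul_smul, inv_mul_cancel₀ hs0, Units.inv_mul, one_smul]⟩, rfl⟩
    have hform' : ∀ x y, f (CfsgLib.Maximal.TensorTools.coord e P x) (CfsgLib.Maximal.TensorTools.coord e P y) =
        c / s ^ t * formOfGram (σ : F → F) (pm fun _ => s • G) x y := fun x y => by
      rw [hform, show (pm fun _ : Fin t => s • G) = s ^ t • pm fun _ : Fin t => G by
        ext u v; simp [pm, Finset.prod_mul_distrib]]
      simp only [formOfGram, Matrix.smul_apply, smul_eq_mul, Finset.mul_sum]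
      exact Finset.sum_congr rfl fun u _ => Finset.sum_congr rfl fun v _ => by field_simp
    have hc' : c / s ^ t ≠ 0 := div_ne_zero hc (pow_ne_zero _ hs0)
    by_cases hq3 : q = 2 ∧ a = 3
    · exfalso
      obtain ⟨rfl, rfl⟩ := hq3
      exact no_perfect_power_three_four hF hσq hf.ne_refl (show 0 < t by omega) hsGu hsG hc' hform' hemb hHf hNH hperf
        hns hinv hmin hgrp hperm
    exact Or.inr (Or.inr (Or.inr (Or.inr (Or.inr (Or.inr (Or.inl ⟨a, t, e, P, formOfGram (σ : F → F) (s • G), by omega,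
      ht, hq3, isUnitaryFormPow_of_herm hσq (herm_formOfGram hf.involutive hsGu fun p q => by rw [one_mul]; exact hsG p q),
      ⟨c / s ^ t, hc', fun x y => by rw [gramMatrix_formOfGram]; exact hform' x y⟩, hle⟩))))))
  rcases hg with ⟨t, m, D, hD, hle⟩ | ⟨m, D, hD, hTS, hle⟩ | ⟨s, K, hs, hK, hKa, hHK⟩ |
      ⟨a, b, e, P, ε₁, ε₂, f₁, f₂, ha, hb, h₁, h₂, hε, hε1, hT, hle⟩
  · exact Or.inl ⟨t, m, D, hD, hle⟩
  · exact Or.inr (Or.inl ⟨m, D, mdecomposition_card hD, hD, hTS, hle⟩)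
  · exact Or.inr (Or.inr (Or.inr (Or.inr (Or.inl ⟨s, K, hs,
      hs.eq_two_or_odd'.resolve_left (unitary_field_degree_ne_two hf hK hKa), hK, hKa, le_subalgebraNormalizer hHK⟩))))
  obtain rfl := hε1 hf.ne_refl
  obtain rfl : ε₂ = 1 := by rwa [one_mul] at hε
  by_cases heq : a = b
  · subst heq
    obtain ⟨P', hle', -, h3, h4'⟩ := exists_square_std hF hσq hf.ne_refl e P h₁ h₂ hT
    have hle2 := hle.trans hle'
    by_cases ha2 : a = 2
    · subst ha2
      exact Or.inr (Or.inr (Or.inl (square_subfield hF hσq hf e P' h3 hHf hle2)))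
    by_cases hq3 : q = 2 ∧ a = 3
    · obtain ⟨rfl, rfl⟩ := hq3
      obtain ⟨R, hR1, hR2, hR3, hR4, hR5, hR6⟩ := square_three_symplectic_type hF hσq e P' h3 hHf hle2
      haveI : CharP F 2 := CharTwo.of_one_ne_zero_of_two_eq_zero one_ne_zero (UnitPow.four_two_zero hF)
      refine Or.inr (Or.inr (Or.inr (Or.inl ⟨3, R, 2, 2, 2, hR1, hR2, hR3, by norm_num,
        ⟨Nat.prime_two, inferInstance, hF, by rw [hR5]; norm_num, fun d hd0 hd2 => ?_⟩,
        Or.inl ⟨⟨1, rfl⟩, hR5, by norm_num, hR4⟩, hR6⟩)))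
      obtain rfl : d = 1 := by omega
      rw [hR5]
      norm_num
    exact Or.inr (Or.inr (Or.inr (Or.inr (Or.inr (Or.inr (Or.inl ⟨a, 2, e.trans (finTwoArrowEquiv (Fin a)).symm, P',
      stdHerm σ a, by omega, le_rfl, hq3, isUnitaryFormPow_of_herm hσq (herm_stdHerm hf.involutive a), h4',
      hle2.trans (tensorProductSubgroup_le_wreath e P')⟩))))))
  rcases lt_or_gt_of_ne heq with h | h
  · exact Or.inr (Or.inr (Or.inr (Or.inr (Or.inr (Or.inl ⟨a, b, e, P, f₁, f₂, ha, h,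
      isUnitaryFormPow_of_herm hσq h₁, isUnitaryFormPow_of_herm hσq h₂, hT, hle⟩)))))
  · exact Or.inr (Or.inr (Or.inr (Or.inr (Or.inr (Or.inl ⟨b, a, e.trans (Equiv.prodComm _ _), P, f₂, f₁, hb, h,
      isUnitaryFormPow_of_herm hσq h₂, isUnitaryFormPow_of_herm hσq h₁, isTensorFormStructure_swap hT,
      tensorProductSubgroup_swap e P ▸ hle⟩)))))

end CfsgLib.Geo.Asch
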