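import Mathlib
import Cfsg.Prelude.Def_GeometricClasses
import Cfsg.Agent.Lib.Geo.AschUnitProper
import Cfsg.Agent.Lib.Geo.AschUnitFive
import Cfsg.Agent.Lib.Geo.AschOrth
import Cfsg.Agent.Lib.Geo.AschFormField
import Cfsg.Agent.Lib.Geo.FieldTransvection
import Cfsg.Agent.Lib.GeomClasses.UnitPow

/-! The two exceptional situations in SU6 over four elements: six orthogonal lines, and a cubic field. -/

set_option autoImplicit false
set_option linter.unusedSectionVars false

namespace CfsgLib.Geo.Asch.SU6Two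

open Cfsg Cfsg.Geo Matrix CfsgLib.GeomClasses SU5Tables SU5Two
open scoped MatrixGroups

/-- Sum of six entries. -/
def sum6 (x : Fin 6 → Fin 4) : Fin 4 :=
  SU5Tables.add (x 0) (SU5Tables.add (x 1) (SU5Tables.add (x 2) (SU5Tables.add (x 3) (SU5Tables.add (x 4) (x 5)))))

/-- Product of six entries. -/
def prod6 (x : Fin 6 → Fin 4) : Fin 4 :=
  SU5Tables.mul (x 0) (SU5Tables.mul (x 1) (SU5Tables.mul (x 2) (SU5Tables.mul (x 3) (SU5Tables.mul (x 4) (x 5)))))

/-- Number of non-zero entries. -/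
def cnt (x : Fin 6 → Fin 4) : ℕ :=
  (if x 0 = 0 then 0 else 1) + (if x 1 = 0 then 0 else 1) + (if x 2 = 0 then 0 else 1) +
    (if x 3 = 0 then 0 else 1) + (if x 4 = 0 then 0 else 1) + (if x 5 = 0 then 0 else 1)

/-- Membership in the set of 378 vectors. -/
def inS (x : Fin 6 → Fin 4) : Bool := cnt x == 2 || prod6 x == 1

/-- The transvection along the all-one vector. -/
def tAll (x : Fin 6 → Fin 4) : Fin 6 → Fin 4 := fun j => SU5Tables.add (x j) (sum6 x)

theorem tAll_table0 : ∀ b c d e g : Fin 4, inS ![0, b, c, d, e, g] → inS (tAll ![0, b, c, d, e, g]) := by decide +kernel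
theorem tAll_table1 : ∀ b c d e g : Fin 4, inS ![1, b, c, d, e, g] → inS (tAll ![1, b, c, d, e, g]) := by decide +kernel
theorem tAll_table2 : ∀ b c d e g : Fin 4, inS ![2, b, c, d, e, g] → inS (tAll ![2, b, c, d, e, g]) := by decide +kernel
theorem tAll_table3 : ∀ b c d e g : Fin 4, inS ![3, b, c, d, e, g] → inS (tAll ![3, b, c, d, e, g]) := by decide +kernel

theorem tAll_inS (x : Fin 6 → Fin 4) (h : inS x) : inS (tAll x) := by
  have hx : x = ![x 0, x 1, x 2, x 3, x 4, x 5] := by funext i; fin_cases i <;> rfl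
  rw [hx] at h ⊢
  match hm : x 0 with
  | 0 => rw [hm] at h; exact tAll_table0 _ _ _ _ _ h
  | 1 => rw [hm] at h; exact tAll_table1 _ _ _ _ _ h
  | 2 => rw [hm] at h; exact tAll_table2 _ _ _ _ _ h
  | 3 => rw [hm] at h; exact tAll_table3 _ _ _ _ _ h

variable {F : Type*} [Field F] [Fintype F] {σ : F ≃+* F} {f : (Fin 6 → F) → (Fin 6 → F) → F}

/-- The vectors of weight two, or of weight six and product one, in the coordinates given by `w`. -/
def InW (f : (Fin 6 → F) → (Fin 6 → F) → F) (w : Fin 6 → Fin 6 → F) (z : Fin 6 → F) : Prop :=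
  ({j | f z (w j) ≠ 0} : Set (Fin 6)).ncard = 2 ∨ ∏ j, f z (w j) = 1

theorem inW_iff {ω : F} (hω : ω ^ 2 + ω + 1 = 0) (h2 : (2 : F) = 0) {w : Fin 6 → Fin 6 → F} {z : Fin 6 → F}
    {x : Fin 6 → Fin 4} (hx : ∀ j, f z (w j) = phi ω (x j)) : InW f w z ↔ inS x := by
  classical
  have hinj := phi_injective (ω := ω) hω h2
  have h0 : phi ω 0 = 0 := by simp [phi]
  have h1 : phi ω 1 = 1 := by simp [phi]
  have hne : ∀ j, f z (w j) ≠ 0 ↔ x j ≠ 0 := fun j => by
    rw [hx]; exact ⟨fun h e => h (by rw [e, h0]), fun h e => h (hinj (e.trans h0.symm))⟩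
  have hc : ({j | f z (w j) ≠ 0} : Set (Fin 6)).ncard = cnt x := by
    rw [Set.ncard_eq_toFinset_card', Set.toFinset_ofPred]
    simp only [Finset.card_filter, hne, Fin.sum_univ_six, cnt, ite_not]
  have hp : ∏ j, f z (w j) = phi ω (prod6 x) := by
    simp only [Fin.prod_univ_six, hx, prod6, phi_mul hω h2]
    ring
  rw [InW, hc, hp]
  simp only [inS, Bool.or_eq_true, beq_iff_eq]
  exact or_congr Iff.rfl ⟨fun h => hinj (h.trans h1.symm), fun h => by rw [h, h1]⟩

/-- Six orthogonal lines over four elements: the stabiliser is not maximal. -/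
theorem frame_false (hF : Fintype.card F = 4) (hσ : ∀ a, σ a = a ^ 2) (hf : IsUnitaryForm σ f)
    {Ω H : Subgroup (GL (Fin 6) F)} (hΩf : IsoGrp f Ω) (hΩd : Ω ≤ specialLinear (Fin 6) F) (hΩ : HasUTv σ f Ω)
    (hH : IsMaximalIn Ω H) {D : Fin 6 → Submodule F (Fin 6 → F)} (hD : IsNondegenerateMDecomposition f 1 D)
    (hle : H ≤ decompositionStabilizer D) : False := by
  classical
  obtain ⟨ω, hω, h2, hω0, hω1⟩ := exists_omega hF
  have hinj := phi_injective (ω := ω) hω h2
  have hsurj : Function.Surjective (phi ω) :=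
    ((Fintype.bijective_iff_injective_and_card _).2 ⟨hinj, by rw [Fintype.card_fin, hF]⟩).2
  have h0 : phi ω 0 = 0 := by simp [phi]
  have h1 : phi ω 1 = 1 := by simp [phi]
  have hex : ∀ i, ∃ v, v ∈ D i ∧ f v v = 1 ∧ ∀ y ∈ D i, ∃ a : F, y = a • v := by
    intro i
    obtain ⟨v, hv0, hv⟩ := finrank_eq_one_iff'.1 (hD.decomp.finrank_eq i)
    have hv0' : (v : Fin 6 → F) ≠ 0 := fun h => hv0 (Subtype.ext h)
    obtain ⟨x, hx, hxv⟩ := (hD.nondegenerate i v v.2 hv0').1
    obtain ⟨a, ha⟩ := hv ⟨x, hx⟩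
    rw [← show a • (v : Fin 6 → F) = x from congrArg Subtype.val ha, Unit.smul_left hf] at hxv
    refine ⟨v, v.2, UnitPow.four_fixed hF _ (by rw [← hσ, Unit.self_fixed hf]) (right_ne_zero_of_mul hxv), ?_⟩
    intro y hy
    obtain ⟨b, hb⟩ := hv ⟨y, hy⟩
    exact ⟨b, (congrArg Subtype.val hb).symm⟩
  choose w hwD hw1 hwy using hex
  have ho : ∀ i j, i ≠ j → f (w i) (w j) = 0 := fun i j h => hD.orthogonal i j h _ (hwD i) _ (hwD j)
  have hww : ∀ i j, f (w i) (w j) = if i = j then 1 else 0 := fun i j => by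
    by_cases h : i = j
    · subst h; rw [if_pos rfl, hw1]
    · rw [if_neg h, ho i j h]
  have hsep : ∀ v, (∀ j, f v (w j) = 0) → v = 0 := by
    intro v hv
    by_contra hv0
    obtain ⟨y, hy⟩ := (hf.nondegenerate v hv0).2
    apply hy
    have hyD : y ∈ iSup D := by rw [hD.decomp.iSup_eq_top]; trivial
    refine Submodule.iSup_induction D (motive := fun y => f v y = 0) hyD ?_ (Unit.zero_right hf v) ?_
    · intro i x hx
      obtain ⟨a, rfl⟩ := hwy i x hx
      rw [Unit.smul_right hf, hv, mul_zero]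
    · intro x x' hx hx'
      rw [Unit.add_right hf, hx, hx', add_zero]
  -- coordinates
  let C : Matrix (Fin 6) (Fin 6) F := Matrix.of fun j => fVec f (w j)
  have hC : ∀ z j, (C *ᵥ z) j = f z (w j) := fun z j => by
    rw [← (Unit.sesq hf).fVec_dot (w j) z]; rfl
  have hCdet : C.det ≠ 0 := by
    intro h
    obtain ⟨v, hv0, hv⟩ := Matrix.exists_mulVec_eq_zero_iff.2 h
    exact hv0 (hsep v fun j => by rw [← hC, hv]; rfl)
  have hnorm : ∀ a : F, a ≠ 0 → a * σ a = 1 := fun a ha => by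
    rw [hσ, ← pow_succ', show (2 : ℕ) + 1 = Fintype.card F - 1 by rw [hF]]
    exact FiniteField.pow_card_sub_one_eq_one a ha
  -- the stabiliser of the set
  let S : Subgroup (GL (Fin 6) F) :=
    { carrier := {g | ∀ z, InW f w ((g : Matrix (Fin 6) (Fin 6) F) *ᵥ z) ↔ InW f w z}
      one_mem' := fun z => by simp
      mul_mem' := fun {a b} ha hb z => by rw [Units.val_mul, ← Matrix.mulVec_mulVec, ha, hb]
      inv_mem' := fun {a} ha z => by
        have := ha (((a⁻¹ : GL (Fin 6) F) : Matrix (Fin 6) (Fin 6) F) *ᵥ z)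
        rw [gl_mulVec_inv_mulVec] at this
        exact this.symm }
  have hHS : H ≤ S := by
    intro g hg z
    obtain ⟨τ, hτ⟩ := hle hg
    have hgw : ∀ j, ∃ l : F, (g : Matrix (Fin 6) (Fin 6) F) *ᵥ w j = l • w (τ j) := fun j =>
      hwy _ _ (by rw [← hτ j]; exact ⟨_, hwD j, Matrix.toLin'_apply _ _⟩)
    choose l hl using hgw
    have hiso := hΩf g (hH.1.le hg)
    have hl1 : ∀ j, l j * σ (l j) = 1 := fun j => by
      have h := hiso (w j) (w j)
      rwa [hl, Unit.smul_left hf, Unit.smul_right hf, hw1, hw1, mul_one] at h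
    have hco : ∀ z j, f ((g : Matrix (Fin 6) (Fin 6) F) *ᵥ z) (w (τ j)) = l j * f z (w j) := fun z j => by
      have h := hiso z (w j)
      rw [hl, Unit.smul_right hf] at h
      rw [← h, ← mul_assoc, hl1, one_mul]
    let M : Matrix (Fin 6) (Fin 6) F := (Matrix.diagonal l).submatrix τ.symm id
    have hMC : C * (g : Matrix (Fin 6) (Fin 6) F) = M * C := by
      refine Matrix.ext_of_mulVec_single fun k => ?_
      rw [← Matrix.mulVec_mulVec, ← Matrix.mulVec_mulVec]
      funext i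
      rw [hC]
      conv_lhs => rw [← τ.apply_symm_apply i, hco]
      simp [M, Matrix.mulVec, dotProduct, Matrix.diagonal_apply, hC, ← hC]
    have hprod : ∏ j, l j = 1 := by
      have hd := congrArg Matrix.det hMC
      have hg1 : (g : Matrix (Fin 6) (Fin 6) F).det = 1 := by
        have := congrArg Units.val (show Matrix.GeneralLinearGroup.det g = 1 from hΩd (hH.1.le hg))
        simpa using this
      rw [Matrix.det_mul, Matrix.det_mul, hg1, mul_one, Matrix.det_permute, Matrix.det_diagonal] at hd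
      have hs : ((Equiv.Perm.sign τ.symm : ℤˣ) : F) = 1 := by
        rcases Int.units_eq_one_or (Equiv.Perm.sign τ.symm) with h | h <;> rw [h] <;> push_cast
        · rfl
        · linear_combination -h2
      rw [hs, one_mul] at hd
      exact (mul_right_cancel₀ hCdet ((one_mul _).trans hd)).symm
    unfold InW
    have hp : ∏ j, f ((g : Matrix (Fin 6) (Fin 6) F) *ᵥ z) (w j) = ∏ j, f z (w j) := by
      rw [← Equiv.prod_comp τ, Finset.prod_congr rfl (fun j _ => hco z j), Finset.prod_mul_distrib, hprod, one_mul]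
    have hc : ({j | f ((g : Matrix (Fin 6) (Fin 6) F) *ᵥ z) (w j) ≠ 0} : Set (Fin 6)) =
        τ '' {j | f z (w j) ≠ 0} := by
      ext j
      obtain ⟨i, rfl⟩ := τ.surjective j
      simp only [Set.mem_ofPred_eq, hco, τ.injective.mem_set_image, mul_ne_zero_iff]
      exact ⟨fun h => h.2, fun h => ⟨fun h' => by simpa [h'] using hl1 i, h⟩⟩
    rw [hp, hc, Set.ncard_image_of_injective _ τ.injective]
  -- transvections
  set u := ∑ i, w i with hu
  have huw : ∀ j, f u (w j) = 1 := fun j => by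
    rw [← hC, hu, Matrix.mulVec_sum, Finset.sum_apply]
    simp [hC, hww]
  have hwu : ∀ z, f z u = ∑ j, f z (w j) := fun z => by
    simp [hu, Fin.sum_univ_six, Unit.add_right hf]
  have huu : f u u = 0 := by
    rw [hwu]; simp [huw]; linear_combination 3 * h2
  have hc1 : (1 : F) + σ 1 = 0 := by rw [map_one]; linear_combination h2
  set t := formTv f u 1 with ht
  have htΩ : t ∈ Ω := hΩ u 1 huu hc1
  have htz : ∀ z j, f ((t : Matrix (Fin 6) (Fin 6) F) *ᵥ z) (w j) = f z (w j) + ∑ i, f z (w i) := fun z j => by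
    rw [ht, Unit.formTv_mulVec hf huu, Unit.add_left hf, Unit.smul_left hf, huw, mul_one, one_mul, hwu]
  have htS : t ∈ S := by
    have himp : ∀ z, InW f w z → InW f w ((t : Matrix (Fin 6) (Fin 6) F) *ᵥ z) := by
      intro z hz
      choose x hx using fun j => hsurj (f z (w j))
      have hx' : ∀ j, f z (w j) = phi ω (x j) := fun j => (hx j).symm
      have h3 := tAll_inS x ((inW_iff hω h2 hx').1 hz)
      refine (inW_iff hω h2 fun j => ?_).2 h3
      rw [htz, tAll, phi_add hω h2, sum6]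
      simp only [phi_add hω h2, Fin.sum_univ_six, hx']
      ring
    intro z
    refine ⟨fun h => ?_, himp z⟩
    have h3 := himp _ h
    have htt : (t : Matrix (Fin 6) (Fin 6) F) *ᵥ ((t : Matrix (Fin 6) (Fin 6) F) *ᵥ z) = z := by
      rw [ht, Unit.formTv_mulVec hf huu, Unit.formTv_mulVec hf huu, Unit.add_left hf, Unit.smul_left hf, huu,
        mul_zero, add_zero, add_assoc, ← add_smul]
      rw [show (1 : F) * f z u + 1 * f z u = 0 by linear_combination (f z u) * h2, zero_smul, add_zero]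
    rwa [htt] at h3
  have htH : t ∉ H := by
    intro h
    obtain ⟨τ, hτ⟩ := hle h
    obtain ⟨a, ha⟩ := hwy (τ 0) ((t : Matrix (Fin 6) (Fin 6) F) *ᵥ w 0)
      (by rw [← hτ 0]; exact ⟨_, hwD 0, Matrix.toLin'_apply _ _⟩)
    obtain ⟨j, hj0, hjτ⟩ : ∃ j : Fin 6, j ≠ 0 ∧ j ≠ τ 0 :=
      (by decide : ∀ k : Fin 6, ∃ j : Fin 6, j ≠ 0 ∧ j ≠ k) (τ 0)
    have h3 := htz (w 0) j
    rw [ha, Unit.smul_left hf, ho _ _ (Ne.symm hjτ), mul_zero, ho _ _ (Ne.symm hj0), zero_add] at h3
    simp [hww] at h3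
  rcases hH.2 (S ⊓ Ω) (le_inf hHS hH.1.le) inf_le_right with h | h
  · exact htH (h ▸ ⟨htS, htΩ⟩)
  -- a second transvection
  set v := w 0 + w 1 + w 2 + w 3 with hv
  have hvw : ∀ j, f v (w j) = if j.val < 4 then 1 else 0 := fun j => by
    simp only [hv, Unit.add_left hf, hww]
    fin_cases j <;> simp
  have hvv : f v v = 0 := by
    conv_lhs => arg 2; rw [hv]
    simp only [Unit.add_right hf, hvw]
    simp; linear_combination 2 * h2
  have htv : formTv f v 1 ∈ S := (h.symm ▸ hΩ v 1 hvv hc1 : formTv f v 1 ∈ S ⊓ Ω).1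
  set z := w 0 + ω • w 1 with hz
  have hzx : ∀ j, f z (w j) = phi ω ((![1, 2, 0, 0, 0, 0] : Fin 6 → Fin 4) j) := fun j => by
    simp only [hz, Unit.add_left hf, Unit.smul_left hf, hww]
    fin_cases j <;> simp [phi]
  have hzv : f z v = 1 + ω := by
    simp only [hv, hz, Unit.add_left hf, Unit.add_right hf, Unit.smul_left hf, hww]
    simp
  have himg : ∀ j, f ((formTv f v 1 : Matrix (Fin 6) (Fin 6) F) *ᵥ z) (w j) =
      phi ω ((![2, 1, 3, 3, 0, 0] : Fin 6 → Fin 4) j) := fun j => by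
    rw [Unit.formTv_mulVec hf hvv, Unit.add_left hf, Unit.smul_left hf, one_mul, hzv, hvw, hzx]
    fin_cases j <;> simp [phi] <;>
      first
        | (linear_combination h2)
        | (linear_combination ω * h2)
        | ring1
  have h3 := (inW_iff hω h2 himg).1 ((htv z).2 ((inW_iff hω h2 hzx).2 (by decide)))
  exact absurd h3 (by decide)

end CfsgLib.Geo.Asch.SU6Two
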