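import Mathlib
import Cfsg.Prelude.Def_GeometricClasses
import Cfsg.Agent.Lib.Geo.AschUnitProper
import Cfsg.Agent.Lib.Geo.AschUnitFive
import Cfsg.Agent.Lib.Geo.AschOrth
import Cfsg.Agent.Lib.Geo.AschFormField
import Cfsg.Agent.Lib.Geo.FieldTransvection
import Cfsg.Agent.Lib.GeomClasses.UnitPow

/-! A cubic field in SU6 over four elements lies in a symplectic subfield group. -/

set_option autoImplicit false
set_option maxHeartbeats 1600000
set_option linter.unusedSectionVars false

namespace CfsgLib.Geo.Asch.SU6Two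

open Cfsg Cfsg.Geo Matrix CfsgLib.GeomClasses SU5Two
open scoped MatrixGroups

variable {F : Type*} [Field F] [Fintype F] {σ : F ≃+* F} {f : (Fin 6 → F) → (Fin 6 → F) → F}

theorem field_subfield (hF : Fintype.card F = 4) (hσ : ∀ a, σ a = a ^ 2) (hf : IsUnitaryForm σ f)
    {H : Subgroup (GL (Fin 6) F)} (hHf : IsoGrp f H) (hHd : H ≤ specialLinear (Fin 6) F)
    {K : Subalgebra F (Matrix (Fin 6) (Fin 6) F)} (hK : IsFieldSubalgebra 3 K) (hKa : IsAdjointClosedFor f K)
    (hHK : H ≤ subalgebraNormalizer K) :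
    ∃ (F₀ : Subfield F) (P : GL (Fin 6) F), Fintype.card F = Nat.card F₀ ^ 2 ∧ IsFormRationalStructure f F₀ 1 P ∧
      (∀ u : Fin 6 → F, (∀ i, u i ∈ F₀) →
        f ((P : Matrix (Fin 6) (Fin 6) F) *ᵥ u) ((P : Matrix (Fin 6) (Fin 6) F) *ᵥ u) = 0) ∧
      H ≤ subfieldSubgroup F₀ P := by
  classical
  obtain ⟨ω, hω, h2, hω0, hω1⟩ := exists_omega hF
  letI : Field K := FieldTransvection.fieldOf hK
  haveI : Finite K := Finite.of_injective Subtype.val Subtype.val_injective
  letI : Fintype K := Fintype.ofFinite _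
  have hKc : Fintype.card K = 64 := by
    rw [← Nat.card_eq_fintype_card, Module.natCard_eq_pow_finrank (K := F) (V := K), hK.finrank_eq,
      Nat.card_eq_fintype_card, hF]
    norm_num
  have hF3 : ∀ a : F, a ≠ 0 → a ^ 3 = 1 := fun a ha => by
    have := FiniteField.pow_card_sub_one_eq_one a ha
    rwa [hF] at this
  let am : F → K := algebraMap F K
  have h2K : (2 : K) = 0 := by rw [← map_ofNat (algebraMap F K) 2, h2, map_zero]
  have hcK : ∀ x y : K, x + y = 0 → x = y := fun x y h => by linear_combination h - y * h2K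
  have hss : ∀ a : K, a + a = 0 := fun a => by linear_combination a * h2K
  let act : K → (Fin 6 → F) → (Fin 6 → F) := fun k v => (k : Matrix (Fin 6) (Fin 6) F) *ᵥ v
  have act_mul : ∀ k l v, act (k * l) v = act k (act l v) := fun k l v => by
    simp [act, Matrix.mulVec_mulVec]
  have act_add : ∀ k l v, act (k + l) v = act k v + act l v := fun k l v => Matrix.add_mulVec _ _ _
  have act_vadd : ∀ k v w, act k (v + w) = act k v + act k w := fun k v w => Matrix.mulVec_add _ _ _
  have act_zero : ∀ v, act 0 v = 0 := fun v => Matrix.zero_mulVec v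
  have act_one : ∀ v, act 1 v = v := fun v => Matrix.one_mulVec v
  have act_am : ∀ a v, act (am a) v = a • v := fun a v => by
    show (algebraMap F (Matrix (Fin 6) (Fin 6) F) a) *ᵥ v = _
    rw [Algebra.algebraMap_eq_smul_one, Matrix.smul_mulVec, Matrix.one_mulVec]
  -- the adjoint
  choose st₀ hst₀m hst₀ using hKa
  let st : K → K := fun k => ⟨st₀ k k.2, hst₀m k k.2⟩
  have hst : ∀ k u v, f (act k u) v = f u (act (st k) v) := fun k u v => hst₀ k k.2 u v
  have huniq : ∀ a b : K, (∀ u v, f u (act a v) = f u (act b v)) → a = b := by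
    intro a b h
    apply Subtype.ext
    refine Matrix.ext_of_mulVec_single fun i => ?_
    by_contra hne
    obtain ⟨y, hy⟩ := (hf.nondegenerate _ (sub_ne_zero.2 hne)).1
    rw [Unit.sub_right hf] at hy
    exact hy (sub_eq_zero.2 (h y (Pi.single i 1)))
  have st_st : ∀ k, st (st k) = k := fun k => huniq _ _ fun u v => by
    rw [← hst (st k) u v, hf.herm (act (st k) u) v, ← hst k v u, Unit.conj_form hf]
  have st_add : ∀ k l, st (k + l) = st k + st l := fun k l => huniq _ _ fun u v => by
    rw [← hst, act_add, Unit.add_left hf, hst, hst, ← Unit.add_right hf, ← act_add]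
  have st_mul : ∀ k l, st (k * l) = st k * st l := fun k l => huniq _ _ fun u v => by
    rw [← hst, act_mul, hst, hst, ← act_mul, mul_comm]
  have st_am : ∀ a, st (am a) = am (σ a) := fun a => huniq _ _ fun u v => by
    rw [← hst, act_am, act_am, Unit.smul_left hf, Unit.smul_right hf, hf.involutive]
  have st_one : st 1 = 1 := by
    have := st_am 1
    rwa [map_one, show am 1 = 1 from map_one _] at this
  have st_zero : st 0 = 0 := by
    have := st_am 0
    rwa [map_zero, show am 0 = 0 from map_zero _] at this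
  have hpair : ∀ k l u v, f (act k u) (act l v) = f (act (st l * k) u) v := fun k l u v => by
    rw [act_mul, hst (st l), st_st]
  -- the adjoint is the eighth power
  set a := am ω with ha
  have ha2 : a ^ 2 + a + 1 = 0 := by
    rw [ha]
    show (algebraMap F K ω) ^ 2 + algebraMap F K ω + 1 = 0
    rw [← map_pow, ← map_add, ← map_one (algebraMap F K), ← map_add, hω, map_zero]
  have hsta : st a = a ^ 2 := by rw [ha, st_am, hσ]; exact map_pow _ _ _
  have st_pow : ∀ x : K, st x = x ^ 8 := by
    let S : Set K := {x | st x = x}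
    let Φ : S × S → K := fun p => (p.1 : K) + a * p.2
    have hΦ : Function.Bijective Φ := by
      constructor
      · rintro ⟨⟨x, hx⟩, ⟨y, hy⟩⟩ ⟨⟨x', hx'⟩, ⟨y', hy'⟩⟩ h
        have h' : x + a * y = x' + a * y' := h
        have h'' := congrArg st h'
        rw [st_add, st_add, st_mul, st_mul, hsta, (hx : st x = x), (hy : st y = y), (hx' : st x' = x'),
          (hy' : st y' = y')] at h''
        have hyy : y = y' := by linear_combination h'' - h' - (y - y') * ha2 + a * (y - y') * h2K + (y - y') * h2K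
        subst hyy
        simp only [add_left_inj] at h'
        subst h'
        rfl
      · intro x
        refine ⟨(⟨x + a * (x + st x), ?_⟩, ⟨x + st x, ?_⟩), ?_⟩
        · show st _ = _
          rw [st_add, st_mul, st_add, st_st, hsta]
          linear_combination (x + st x) * ha2 - (a * (x + st x) + x) * h2K
        · show st _ = _
          rw [st_add, st_st, add_comm]
        · show x + a * (x + st x) + a * (x + st x) = x
          linear_combination a * (x + st x) * h2K
    have hS : Nat.card S = 8 := by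
      have := Nat.card_eq_of_bijective Φ hΦ
      rw [Nat.card_prod, Nat.card_eq_fintype_card (α := K), hKc] at this
      nlinarith
    haveI : CharP K 2 := CharTwo.of_one_ne_zero_of_two_eq_zero one_ne_zero h2K
    let T : Subfield K :=
      { carrier := S
        one_mem' := st_one
        zero_mem' := st_zero
        mul_mem' := fun {x y} hx hy => by show st _ = _; rw [st_mul, (hx : st x = x), (hy : st y = y)]
        add_mem' := fun {x y} hx hy => by show st _ = _; rw [st_add, (hx : st x = x), (hy : st y = y)]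
        neg_mem' := fun {x} hx => by
          show st (-x) = -x
          rw [show -x = x by linear_combination (-x) * h2K]
          exact hx
        inv_mem' := fun x hx => by
          show st x⁻¹ = x⁻¹
          by_cases h : x = 0
          · rw [h, _root_.inv_zero]; exact st_zero
          · refine eq_inv_of_mul_eq_one_left ?_
            calc st x⁻¹ * x = st (x⁻¹ * x) := by rw [st_mul, (hx : st x = x)]
              _ = 1 := by rw [inv_mul_cancel₀ h, st_one] }
    have hT : ∀ x : K, st x = x → x ^ 8 = x := by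
      intro x hx
      haveI : Fintype T := Fintype.ofFinite _
      have h := congrArg Subtype.val (FiniteField.pow_card (⟨x, hx⟩ : T))
      rw [SubmonoidClass.coe_pow, ← Nat.card_eq_fintype_card, show Nat.card T = 8 from hS] at h
      exact h
    intro x
    obtain ⟨⟨⟨y, hy⟩, ⟨z, hz⟩⟩, rfl⟩ := hΦ.2 x
    show st (y + a * z) = (y + a * z) ^ 8
    rw [st_add, st_mul, hsta, (hy : st y = y), (hz : st z = z), show (8 : ℕ) = 2 ^ 3 from rfl, add_pow_char_pow,
      mul_pow, show (2 : ℕ) ^ 3 = 8 from rfl, hT y hy, hT z hz]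
    linear_combination (- z * (a ^ 2) * (a - 1) * (a ^ 3 + 1)) * ha2
  have hsqrt : ∀ b : K, ∃ x, x ^ 2 = b := fun b => ⟨b ^ 32, by
    rw [← pow_mul, show 32 * 2 = Fintype.card K by rw [hKc]]; exact FiniteField.pow_card b⟩
  -- an orthogonal basis over K
  have htop : IsNondegenerateOn f (⊤ : Submodule F (Fin 6 → F)) := fun u _ hu =>
    ⟨by obtain ⟨y, hy⟩ := (hf.nondegenerate u hu).1; exact ⟨y, trivial, hy⟩,
     by obtain ⟨y, hy⟩ := (hf.nondegenerate u hu).2; exact ⟨y, trivial, hy⟩⟩
  obtain ⟨e₁, -, he₁⟩ := UnitPow.exists_nonisotropic hf htop (w := Pi.single 0 1) trivial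
    (fun h => one_ne_zero (α := F) (by simpa using congrFun h 0))
  have he₁0 : e₁ ≠ 0 := fun h => he₁ (by rw [h, Unit.zero_left hf])
  let ℓ : K →ₗ[F] F :=
    { toFun := fun k => f (act k e₁) e₁
      map_add' := fun x y => by rw [act_add, Unit.add_left hf]
      map_smul' := fun c x => by
        rw [RingHom.id_apply, smul_eq_mul, ← Unit.smul_left hf]
        congr 1
        show ((c • x : K) : Matrix (Fin 6) (Fin 6) F) *ᵥ e₁ = _
        rw [SetLike.val_smul, Matrix.smul_mulVec] }
  have hℓdef : ∀ k, ℓ k = f (act k e₁) e₁ := fun k => rfl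
  have hℓ : ∀ x : K, (∀ k, ℓ (k * x) = 0) → x = 0 := by
    intro x hx
    by_contra hx0
    have h := hx x⁻¹
    rw [inv_mul_cancel₀ hx0, hℓdef, act_one] at h
    exact he₁ h
  have hσℓ : ∀ k, σ (ℓ k) = ℓ (st k) := fun k => by
    rw [hℓdef, hℓdef, Unit.conj_form hf, hst (st k), st_st]
  let T₁ : K →ₗ[F] (Fin 6 → F) :=
    { toFun := fun k => act k e₁
      map_add' := fun x y => act_add x y e₁
      map_smul' := fun c x => by
        show ((c • x : K) : Matrix (Fin 6) (Fin 6) F) *ᵥ e₁ = _
        rw [SetLike.val_smul, Matrix.smul_mulVec]; rfl }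
  have hT₁i : Function.Injective T₁ := by
    rw [injective_iff_map_eq_zero]
    intro x hx
    refine hℓ x fun k => ?_
    rw [hℓdef, act_mul, show act x e₁ = 0 from hx]
    show f ((k : Matrix (Fin 6) (Fin 6) F) *ᵥ 0) e₁ = 0
    rw [Matrix.mulVec_zero, Unit.zero_left hf]
  set W := LinearMap.range T₁ with hW
  have hWd : IsNondegenerateOn f W := by
    rintro _ ⟨x, rfl⟩ hx0
    have hx : x ≠ 0 := fun h => hx0 (by rw [h, map_zero])
    obtain ⟨k, hk⟩ : ∃ k, ℓ (k * x) ≠ 0 := by
      by_contra h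
      push Not at h
      exact hx (hℓ x h)
    have hfk : f (T₁ x) (T₁ (st k)) ≠ 0 := by
      show f (act x e₁) (act (st k) e₁) ≠ 0
      rw [hpair, st_st, ← hℓdef]
      exact hk
    exact ⟨⟨_, ⟨_, rfl⟩, Unit.ne_zero_comm hf hfk⟩, ⟨_, ⟨_, rfl⟩, hfk⟩⟩
  have hWr : Module.finrank F W = 3 := by rw [hW, LinearMap.finrank_range_of_inj hT₁i, hK.finrank_eq]
  have hcompl := Unit.isCompl_perp hf hWd
  have hperpd : IsNondegenerateOn f (Unit.perp hf W) := by
    intro u hu hu0
    have hkey : ∃ x ∈ Unit.perp hf W, f u x ≠ 0 := by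
      by_contra h
      push Not at h
      have : u ∈ Unit.perp hf (Unit.perp hf W) := (Unit.mem_perp hf).2 h
      rw [Unit.perp_perp hf] at this
      exact hu0 ((Submodule.disjoint_def.1 hcompl.1) u this hu)
    obtain ⟨x, hx, hxu⟩ := hkey
    exact ⟨⟨x, hx, Unit.ne_zero_comm hf hxu⟩, ⟨x, hx, hxu⟩⟩
  obtain ⟨u₀, hu₀, hu₀0⟩ : ∃ u ∈ Unit.perp hf W, u ≠ 0 := by
    refine (Submodule.ne_bot_iff _).1 fun h => ?_
    have := Unit.finrank_perp hf W
    rw [h, finrank_bot, hWr, Fintype.card_fin] at this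
    omega
  obtain ⟨e', he'W, he'⟩ := UnitPow.exists_nonisotropic hf hperpd hu₀ hu₀0
  let ℓ₂ : K →ₗ[F] F :=
    { toFun := fun k => f (act k e') e'
      map_add' := fun x y => by rw [act_add, Unit.add_left hf]
      map_smul' := fun c x => by
        rw [RingHom.id_apply, smul_eq_mul, ← Unit.smul_left hf]
        congr 1
        show ((c • x : K) : Matrix (Fin 6) (Fin 6) F) *ᵥ e' = _
        rw [SetLike.val_smul, Matrix.smul_mulVec] }
  let Θ : K →ₗ[F] (K →ₗ[F] F) :=
    { toFun := fun b => ℓ.comp (LinearMap.mulRight F b)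
      map_add' := fun x y => LinearMap.ext fun k => by simp [mul_add]
      map_smul' := fun c x => LinearMap.ext fun k => by simp }
  have hΘ : Function.Surjective Θ :=
    (LinearMap.injective_iff_surjective_of_finrank_eq_finrank (by rw [Module.finrank_linearMap, Module.finrank_self,
      mul_one])).1 ((injective_iff_map_eq_zero Θ).2 fun b hb => hℓ b fun k => LinearMap.congr_fun hb k)
  obtain ⟨b, hb⟩ := hΘ ℓ₂
  have hb' : ∀ k, ℓ (k * b) = f (act k e') e' := fun k => LinearMap.congr_fun hb k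
  have hbfix : st b = b := by
    rw [← sub_eq_zero]
    refine hℓ _ fun k => ?_
    have h1 : ℓ (k * st b) = σ (ℓ (st k * b)) := by rw [hσℓ, st_mul, st_st]
    rw [mul_sub, map_sub, h1, hb', hb', Unit.conj_form hf, ← hst k, sub_self]
  have hb0 : b ≠ 0 := by
    intro h
    have := hb' 1
    rw [h, mul_zero, map_zero, act_one] at this
    exact he' this.symm
  obtain ⟨x, hx⟩ := hsqrt b
  have hx0 : x ≠ 0 := fun h => hb0 (by rw [← hx, h]; ring)
  have hxfix : st x = x := by
    apply hcK
    have h : (st x + x) ^ 2 = 0 := by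
      have h1 : st x ^ 2 = b := by rw [sq, ← st_mul, ← sq, hx, hbfix]
      linear_combination h1 + hx + (st x * x + b) * h2K
    exact pow_eq_zero_iff two_ne_zero |>.1 h
  set e₂ := act x⁻¹ e' with he₂
  have hxinv : st x⁻¹ = x⁻¹ := by
    refine eq_inv_of_mul_eq_one_left ?_
    calc st x⁻¹ * x = st (x⁻¹ * x) := by rw [st_mul, hxfix]
      _ = 1 := by rw [inv_mul_cancel₀ hx0, st_one]
  have he22 : ∀ k, f (act k e₂) e₂ = ℓ k := fun k => by
    rw [he₂, ← act_mul, hpair, hxinv, ← hb']
    congr 1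
    field_simp
    rw [← hx]; ring
  have he21 : ∀ k, f (act k e₂) e₁ = 0 := fun k => by
    rw [he₂, ← act_mul, hst]
    exact (Unit.mem_perp hf).1 he'W _ ⟨_, rfl⟩
  have he12 : ∀ k, f (act k e₁) e₂ = 0 := fun k => by
    rw [hst]; exact Unit.eq_zero_comm hf (he21 _)
  -- coordinates
  let φ : K × K →ₗ[F] (Fin 6 → F) :=
    { toFun := fun p => act p.1 e₁ + act p.2 e₂
      map_add' := fun p r => by simp only [Prod.fst_add, Prod.snd_add, act_add]; abel
      map_smul' := fun c p => by
        show ((c • p.1 : K) : Matrix (Fin 6) (Fin 6) F) *ᵥ e₁ + ((c • p.2 : K) : Matrix (Fin 6) (Fin 6) F) *ᵥ e₂ = _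
        rw [SetLike.val_smul, SetLike.val_smul, Matrix.smul_mulVec, Matrix.smul_mulVec, ← smul_add]; rfl }
  have hφdef : ∀ p, φ p = act p.1 e₁ + act p.2 e₂ := fun p => rfl
  have hφf : ∀ p r : K × K, f (φ p) (φ r) = ℓ (p.1 * st r.1 + p.2 * st r.2) := fun p r => by
    simp only [hφdef, Unit.add_left hf, Unit.add_right hf, hpair, he22, he21, he12]
    rw [map_add, hℓdef (p.1 * st r.1), mul_comm p.1, mul_comm p.2]
    ring
  have hφi : Function.Injective φ := by
    rw [injective_iff_map_eq_zero]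
    intro p hp
    have h : ∀ r, f (φ p) (φ r) = 0 := fun r => by rw [hp, Unit.zero_left hf]
    refine Prod.ext (hℓ _ fun k => ?_) (hℓ _ fun k => ?_)
    · have := h (st k, 0); rwa [hφf, st_zero, mul_zero, add_zero, st_st, mul_comm] at this
    · have := h (0, st k); rwa [hφf, st_zero, mul_zero, zero_add, st_st, mul_comm] at this
  have hφs : Function.Surjective φ := (LinearMap.injective_iff_surjective_of_finrank_eq_finrank (by
    rw [Module.finrank_prod, hK.finrank_eq, Module.finrank_fin_fun])).1 hφi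
  obtain ⟨J, hJ⟩ : ∃ J : (Fin 6 → F) → (Fin 6 → F), ∀ p, J (φ p) = φ (st p.2, st p.1) := by
    let e := LinearEquiv.ofBijective φ ⟨hφi, hφs⟩
    refine ⟨fun v => φ (st (e.symm v).2, st (e.symm v).1), fun p => ?_⟩
    show φ (st (e.symm (e p)).2, st (e.symm (e p)).1) = _
    rw [e.symm_apply_apply]
  have hφsmul : ∀ (k : K) p, act k (φ p) = φ (k * p.1, k * p.2) := fun k p => by
    simp only [hφdef, act_vadd, act_mul]
  have hJadd : ∀ v w, J (v + w) = J v + J w := by
    intro v w
    obtain ⟨p, rfl⟩ := hφs v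
    obtain ⟨r, rfl⟩ := hφs w
    rw [← map_add, hJ, hJ, hJ, ← map_add]
    simp [st_add]
  have hJsmul : ∀ (c : F) v, J (c • v) = σ c • J v := by
    intro c v
    obtain ⟨p, rfl⟩ := hφs v
    rw [← act_am, hφsmul, hJ, hJ, ← act_am, hφsmul]
    simp [st_mul, st_am]
  have hJJ : ∀ v, J (J v) = v := by
    intro v
    obtain ⟨p, rfl⟩ := hφs v
    simp only [hJ, st_st]
  -- the rational structure
  have hspanJ : Submodule.span F {v | J v = v} = ⊤ := by
    rw [eq_top_iff]
    intro v _
    have h1 : v + J v ∈ Submodule.span F {v | J v = v} := Submodule.subset_span (show J _ = _ by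
      rw [hJadd, hJJ, add_comm])
    have h3 : ω • v + J (ω • v) ∈ Submodule.span F {v | J v = v} := Submodule.subset_span (show J _ = _ by
      rw [hJadd, hJJ, add_comm])
    have h4 := Submodule.add_mem _ (Submodule.smul_mem _ (ω ^ 2) h1) h3
    rw [hJsmul, hσ] at h4
    convert h4 using 1
    funext i
    simp only [Pi.add_apply, Pi.smul_apply, smul_eq_mul]
    linear_combination -(v i) * hω + (v i) * h2 - (ω ^ 2 * J v i) * h2
  obtain ⟨c₀, hc₀, hc₀span, hc₀i⟩ := Submodule.exists_fun_fin_finrank_span_eq F {v | J v = v}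
  have h6 : Module.finrank F (Submodule.span F {v | J v = v}) = 6 := by
    rw [hspanJ, finrank_top, Module.finrank_fin_fun]
  let c : Fin 6 → (Fin 6 → F) := fun i => c₀ (Fin.cast h6.symm i)
  have hcJ : ∀ i, J (c i) = c i := fun i => hc₀ _
  have hci : LinearIndependent F c := hc₀i.comp _ (Fin.cast_injective _)
  let P₀ : Matrix (Fin 6) (Fin 6) F := (Matrix.of c)ᵀ
  have hP₀ : P₀.det ≠ 0 := by
    rw [Matrix.det_transpose]
    exact ((Matrix.isUnit_iff_isUnit_det _).1 (Matrix.linearIndependent_rows_iff_isUnit.1 hci)).ne_zero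
  let P : GL (Fin 6) F := Matrix.GeneralLinearGroup.mkOfDetNeZero P₀ hP₀
  have hPv : ∀ x : Fin 6 → F, (P : Matrix (Fin 6) (Fin 6) F) *ᵥ x = ∑ i, x i • c i := fun x => by
    show P₀ *ᵥ x = _
    rw [Matrix.mulVec_eq_sum]
    simp [P₀]
    rfl
  have hJP : ∀ x, J ((P : Matrix (Fin 6) (Fin 6) F) *ᵥ x) = (P : Matrix (Fin 6) (Fin 6) F) *ᵥ fun i => σ (x i) := by
    intro x
    rw [hPv, hPv]
    simp only [Fin.sum_univ_six, hJadd, hJsmul, hcJ]
  let F₀ : Subfield F := RingHom.eqLocusField (σ : F →+* F) (RingHom.id F)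
  have hmem : ∀ y, y ∈ F₀ ↔ σ y = y := fun y => Iff.rfl
  have hcard : Nat.card F₀ = 2 := by
    have : (F₀ : Set F) = {0, 1} := by
      ext y
      simp only [SetLike.mem_coe, hmem, Set.mem_insert_iff, Set.mem_singleton_iff]
      refine ⟨fun h => or_iff_not_imp_left.2 (UnitPow.four_fixed hF y (by rw [← hσ]; exact h)), ?_⟩
      rintro (rfl | rfl) <;> simp
    show Nat.card (F₀ : Set F) = 2
    rw [Nat.card_coe_set_eq, this, Set.ncard_pair zero_ne_one]
  refine ⟨F₀, P, by rw [hcard, hF]; norm_num, ?_, ?_, ?_⟩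
  · intro u v hu hv
    rw [one_mul, hmem]
    obtain ⟨p, hp⟩ := hφs ((P : Matrix (Fin 6) (Fin 6) F) *ᵥ u)
    obtain ⟨r, hr⟩ := hφs ((P : Matrix (Fin 6) (Fin 6) F) *ᵥ v)
    have hp' : J (φ p) = φ p := by rw [hp, hJP]; simp only [(hmem _).1 (hu _)]
    have hr' : J (φ r) = φ r := by rw [hr, hJP]; simp only [(hmem _).1 (hv _)]
    rw [hJ] at hp' hr'
    rw [← hp, ← hr, hφf, hσℓ, st_add, st_mul, st_mul, st_st, st_st]
    have hp2 := congrArg Prod.fst (hφi hp')
    have hr2 := congrArg Prod.fst (hφi hr')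
    have hp1 := congrArg Prod.snd (hφi hp')
    have hr1 := congrArg Prod.snd (hφi hr')
    simp only at hp2 hr2 hp1 hr1
    rw [← hp1, ← hr1, st_st, st_st]
    congr 1
    ring
  · intro u hu
    obtain ⟨p, hp⟩ := hφs ((P : Matrix (Fin 6) (Fin 6) F) *ᵥ u)
    have hp' : J (φ p) = φ p := by rw [hp, hJP]; simp only [(hmem _).1 (hu _)]
    rw [hJ] at hp'
    have hp2 : st p.2 = p.1 := congrArg Prod.fst (hφi hp')
    rw [← hp, hφf, ← hp2, st_st, mul_comm (st p.2), hss, map_zero]
  -- the group
  intro g hg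
  have hNK := hHK hg
  let γ : K → K := fun k => ⟨_, (hNK k).1 k.2⟩
  have hγ : ∀ k v, (g : Matrix (Fin 6) (Fin 6) F) *ᵥ act k v = act (γ k) ((g : Matrix (Fin 6) (Fin 6) F) *ᵥ v) :=
    fun k v => by simp [act, γ, Matrix.mulVec_mulVec, Matrix.mul_assoc, ← Units.val_mul]
  have hγs : Function.Surjective γ := by
    have hinj : Function.Injective γ := fun k l h => Subtype.ext
      (g.isUnit.mul_left_cancel ((g⁻¹).isUnit.mul_right_cancel (congrArg Subtype.val h)))
    exact Finite.surjective_of_injective hinj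
  have hiso := hHf g hg
  have hγst : ∀ k, γ (st k) = st (γ k) := fun k => huniq _ _ fun u v => by
    obtain ⟨u, rfl⟩ : ∃ u', (g : Matrix (Fin 6) (Fin 6) F) *ᵥ u' = u := ⟨_, gl_mulVec_inv_mulVec g u⟩
    obtain ⟨v, rfl⟩ : ∃ v', (g : Matrix (Fin 6) (Fin 6) F) *ᵥ v' = v := ⟨_, gl_mulVec_inv_mulVec g v⟩
    rw [← hγ, hiso, ← hst, ← hiso, hγ, hst]
  obtain ⟨⟨A₁, A₂⟩, hA⟩ := hφs ((g : Matrix (Fin 6) (Fin 6) F) *ᵥ e₁)
  obtain ⟨⟨C₁, C₂⟩, hC⟩ := hφs ((g : Matrix (Fin 6) (Fin 6) F) *ᵥ e₂)
  set NA := A₁ * st A₁ + A₂ * st A₂ with hNA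
  set NC := C₁ * st C₁ + C₂ * st C₂ with hNC
  have hfA : ∀ k, ℓ (γ k * NA) = ℓ k := fun k => by
    have h := hiso (act k e₁) e₁
    rw [hγ, ← hA, hφsmul, hφf] at h
    rw [← hℓdef] at h
    rw [← h, hNA]
    congr 1
    ring
  have hfC : ∀ k, ℓ (γ k * NC) = ℓ k := fun k => by
    have h := hiso (act k e₂) e₂
    rw [hγ, ← hC, hφsmul, hφf, he22] at h
    rw [← h, hNC]
    congr 1
    ring
  have hfAC : A₁ * st C₁ + A₂ * st C₂ = 0 := by
    refine hℓ _ fun k => ?_
    obtain ⟨k, rfl⟩ := hγs k
    have h := hiso (act k e₁) e₂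
    rw [hγ, ← hA, ← hC, hφsmul, hφf, he12] at h
    rw [← h]
    congr 1
    ring
  have hNAC : NC = NA := by
    rw [← sub_eq_zero]
    refine hℓ _ fun k => ?_
    obtain ⟨k, rfl⟩ := hγs k
    rw [mul_sub, map_sub, hfA, hfC, sub_self]
  have hNA0 : NA ≠ 0 := by
    intro h
    have := hfA 1
    rw [h, mul_zero, map_zero, hℓdef, act_one] at this
    exact he₁ this.symm
  have hfCA : st A₁ * C₁ + st A₂ * C₂ = 0 := by
    have h := congrArg st hfAC
    rwa [st_add, st_mul, st_mul, st_st, st_st, st_zero] at h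
  set δ := (A₁ * C₂ + A₂ * C₁) / NA with hδ
  have hC1 : C₁ = δ * st A₂ := by
    rw [hδ, div_mul_eq_mul_div, eq_div_iff hNA0, hNA]
    linear_combination (A₁) * hfCA - A₁ * st A₂ * C₂ * h2K
  have hC2 : C₂ = δ * st A₁ := by
    rw [hδ, div_mul_eq_mul_div, eq_div_iff hNA0, hNA]
    linear_combination (A₂) * hfCA - A₂ * st A₁ * C₁ * h2K
  have hδδ : δ * st δ = 1 := by
    apply mul_right_cancel₀ hNA0
    rw [one_mul]
    conv_rhs => rw [← hNAC, hNC, hC1, hC2, st_mul, st_mul, st_st, st_st]
    rw [hNA]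
    ring
  have hgJ : ∀ v, (g : Matrix (Fin 6) (Fin 6) F) *ᵥ J v = act δ (J ((g : Matrix (Fin 6) (Fin 6) F) *ᵥ v)) := by
    intro v
    obtain ⟨⟨p, r⟩, rfl⟩ := hφs v
    rw [hJ]
    conv_lhs => rw [hφdef, Matrix.mulVec_add, hγ, hγ, ← hA, ← hC, hφsmul, hφsmul, ← map_add]
    conv_rhs => rw [hφdef, Matrix.mulVec_add, hγ, hγ, ← hA, ← hC, hφsmul, hφsmul, ← map_add, hJ, hφsmul]
    congr 1
    simp only [Prod.mk_add_mk, st_add, st_mul, hγst, hC1, hC2, st_st, Prod.mk.injEq]
    constructor
    · linear_combination (-(st (γ r) * A₁)) * hδδ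
    · linear_combination (-(st (γ r) * A₂)) * hδδ
  -- determinants
  set G : Matrix (Fin 6) (Fin 6) F := ((P⁻¹ * g * P : GL (Fin 6) F) : Matrix (Fin 6) (Fin 6) F) with hG
  have hPG : (P : Matrix (Fin 6) (Fin 6) F) * G = (g : Matrix (Fin 6) (Fin 6) F) * P := by
    rw [hG, ← Units.val_mul, ← Units.val_mul, show P * (P⁻¹ * g * P) = g * P by group]
  have hgP : (g : Matrix (Fin 6) (Fin 6) F) * P =
      (δ : Matrix (Fin 6) (Fin 6) F) * ((P : Matrix (Fin 6) (Fin 6) F) * G.map σ) := by
    refine Matrix.ext_of_mulVec_single fun k => ?_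
    have h := hgJ ((P : Matrix (Fin 6) (Fin 6) F) *ᵥ Pi.single k 1)
    rw [hJP, show (fun i => σ ((Pi.single k 1 : Fin 6 → F) i)) = Pi.single k 1 from funext fun i => by
      by_cases hik : i = k <;> simp [Pi.single_apply, hik]] at h
    conv_rhs at h => rw [Matrix.mulVec_mulVec, ← hPG, ← Matrix.mulVec_mulVec, hJP]
    simp only [← Matrix.mulVec_mulVec]
    rw [h]
    show _ = (δ : Matrix (Fin 6) (Fin 6) F) *ᵥ ((P : Matrix (Fin 6) (Fin 6) F) *ᵥ (G.map σ *ᵥ Pi.single k 1))
    congr 2
    funext i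
    simp [Matrix.mulVec_single_one]
  have hgdet : (g : Matrix (Fin 6) (Fin 6) F).det = 1 := by
    have := congrArg Units.val (show Matrix.GeneralLinearGroup.det g = 1 from hHd hg)
    simpa using this
  have hGdet : G.det = 1 := by
    have := congrArg Matrix.det hPG
    rw [Matrix.det_mul, Matrix.det_mul, hgdet, one_mul] at this
    exact mul_left_cancel₀ hP₀ (by rw [mul_one]; exact this)
  have hδdet : (δ : Matrix (Fin 6) (Fin 6) F).det = 1 := by
    have := congrArg Matrix.det hgP
    rw [Matrix.det_mul, Matrix.det_mul, Matrix.det_mul, hgdet, one_mul,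
      show G.map σ = (σ : F →+* F).mapMatrix G from rfl, ← RingHom.map_det, hGdet, map_one, mul_one] at this
    exact mul_right_cancel₀ (show (P : Matrix (Fin 6) (Fin 6) F).det ≠ 0 from hP₀) (by rw [one_mul]; exact this.symm)
  have hδ9 : (δ ^ 3) ^ 3 = 1 := by rw [← hδδ, st_pow]; ring
  have hroot : ∀ z : K, z ^ 3 = 1 → ∃ r, r ≠ 0 ∧ z = am r := by
    intro z hz
    have hprod : (z - 1) * ((z - a) * (z - (a + 1))) = 0 := by
      linear_combination hz + (z - 1) * ha2 - z * (z - 1) * (a + 1) * h2K - (z - 1) * h2K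
    rcases mul_eq_zero.1 hprod with h | h
    · exact ⟨1, one_ne_zero, by rw [sub_eq_zero.1 h]; exact (map_one _).symm⟩
    rcases mul_eq_zero.1 h with h | h
    · exact ⟨ω, hω0, by rw [sub_eq_zero.1 h]⟩
    · refine ⟨ω + 1, fun h0 => hω1 (by linear_combination h0 - h2), ?_⟩
      rw [sub_eq_zero.1 h, ha]
      exact ((map_add (algebraMap F K) ω 1).trans (by rw [map_one])).symm
  obtain ⟨d, hd0, hd⟩ : ∃ d : F, d ≠ 0 ∧ δ = am d := by
    by_cases h1 : δ ^ 3 = 1
    · exact hroot δ h1
    exfalso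
    obtain ⟨η, hη0, hη⟩ := hroot _ hδ9
    have hη1 : η ≠ 1 := fun h => h1 (by rw [hη, h]; exact map_one _)
    have hnotF : ∀ p r : F, δ = am p * 1 + am r → False := fun p r h => h1 (by
      have hpr : δ = am (p + r) := by rw [h, mul_one]; exact (map_add _ _ _).symm
      have hpr0 : p + r ≠ 0 := fun h0 => by
        rw [h0, show am 0 = 0 from map_zero _] at hpr
        exact zero_ne_one (α := K) (by rw [← hδδ, hpr, zero_mul])
      rw [hpr]
      show (algebraMap F K (p + r)) ^ 3 = 1
      rw [← map_pow, hF3 _ hpr0, map_one])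
    have hind : ∀ p r s : F, am p * δ ^ 2 + am r * δ + am s = 0 → p = 0 ∧ r = 0 ∧ s = 0 := by
      intro p r s h
      by_cases hp : p = 0
      · subst hp
        rw [show am 0 = 0 from map_zero _, zero_mul, zero_add] at h
        by_cases hr : r = 0
        · subst hr
          rw [show am 0 = 0 from map_zero _, zero_mul, zero_add] at h
          exact ⟨rfl, rfl, (algebraMap F K).injective (h.trans (map_zero _).symm)⟩
        exfalso
        refine hnotF 0 (-s / r) ?_
        have hr' : am r ≠ 0 := fun h0 => hr ((algebraMap F K).injective (h0.trans (map_zero _).symm))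
        rw [show am 0 = 0 from map_zero _, zero_mul, zero_add, show am (-s / r) = -am s / am r from
          by simp [am, map_div₀], eq_div_iff hr']
        linear_combination h
      exfalso
      have hp' : am p ≠ 0 := fun h0 => hp ((algebraMap F K).injective (h0.trans (map_zero _).symm))
      set u := -r / p with hu
      set w := -s / p with hw
      have hsq : δ ^ 2 = am u * δ + am w := by
        rw [show am u = -am r / am p by simp [am, hu, map_div₀], show am w = -am s / am p by simp [am, hw, map_div₀]]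
        field_simp
        linear_combination h
      have hlin : am (u ^ 2 + w) * δ + am (u * w) = am η := by
        rw [← hη, show am (u ^ 2 + w) = am u ^ 2 + am w by simp [am], show am (u * w) = am u * am w by simp [am]]
        linear_combination (-(δ + am u)) * hsq
      by_cases huw : u ^ 2 + w = 0
      · rw [huw, show am 0 = 0 from map_zero _, zero_mul, zero_add] at hlin
        have huη : u * w = η := (algebraMap F K).injective hlin
        have hu0 : u ≠ 0 := fun h0 => hη0 (by rw [← huη, h0, zero_mul])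
        exact hη1 (by linear_combination -huη + u * huw + (-(u ^ 3)) * h2 + hF3 u hu0)
      · refine hnotF 0 ((η - u * w) / (u ^ 2 + w)) ?_
        have h0 : am (u ^ 2 + w) ≠ 0 := fun h0 => huw ((algebraMap F K).injective (h0.trans (map_zero _).symm))
        rw [show am 0 = 0 from map_zero _, zero_mul, zero_add,
          show am ((η - u * w) / (u ^ 2 + w)) = (am η - am (u * w)) / am (u ^ 2 + w) by simp [am, map_div₀],
          eq_div_iff h0]
        linear_combination hlin
    let L : (Fin 6 → F) → K × K := fun x =>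
      (am (x 2) * δ ^ 2 + am (x 1) * δ + am (x 0), am (x 5) * δ ^ 2 + am (x 4) * δ + am (x 3))
    let Q : (Fin 6 → F) →ₗ[F] (Fin 6 → F) :=
      { toFun := fun x => φ (L x)
        map_add' := fun x y => by
          rw [← map_add]; congr 1
          simp only [L, Pi.add_apply, Prod.mk_add_mk, am, map_add, Prod.mk.injEq]
          constructor <;> ring
        map_smul' := fun t x => by
          rw [RingHom.id_apply, ← map_smul]; congr 1
          simp only [L, Pi.smul_apply, smul_eq_mul, Prod.smul_mk, am, map_mul, Prod.mk.injEq]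
          constructor <;> rw [Algebra.smul_def] <;> ring }
    have hQi : Function.Injective Q := by
      rw [injective_iff_map_eq_zero]
      intro x hx
      have h0 := hφi ((show φ (L x) = 0 from hx).trans (map_zero φ).symm)
      obtain ⟨a2, a1, a0⟩ := hind _ _ _ (congrArg Prod.fst h0)
      obtain ⟨a5, a4, a3⟩ := hind _ _ _ (congrArg Prod.snd h0)
      funext i
      fin_cases i <;> assumption
    set Qm := LinearMap.toMatrix' Q with hQm
    have hQdet : Qm.det ≠ 0 := by
      rw [hQm, LinearMap.det_toMatrix']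
      exact (LinearMap.isUnit_det Q ((LinearMap.isUnit_iff_ker_eq_bot Q).2 (LinearMap.ker_eq_bot.2 hQi))).ne_zero
    let π : Equiv.Perm (Fin 6) :=
      ⟨![2, 0, 1, 5, 3, 4], ![1, 2, 0, 4, 5, 3], by decide, by decide⟩
    let Cm : Matrix (Fin 6) (Fin 6) F := (Matrix.diagonal ![1, 1, η, 1, 1, η]).submatrix π id
    have hcomp : (δ : Matrix (Fin 6) (Fin 6) F) * Qm = Qm * Cm := by
      refine Matrix.ext_of_mulVec_single fun k => ?_
      rw [← Matrix.mulVec_mulVec, ← Matrix.mulVec_mulVec, hQm, LinearMap.toMatrix'_mulVec,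
        LinearMap.toMatrix'_mulVec]
      show act δ (φ (L _)) = φ (L _)
      rw [hφsmul]
      congr 1
      generalize (Pi.single k 1 : Fin 6 → F) = x
      have hC : ∀ i, (Cm *ᵥ x) i = ![1, 1, η, 1, 1, η] (π i) * x (π i) := fun i => by
        simp [Cm, Matrix.mulVec, dotProduct, Matrix.diagonal_apply]
      simp only [L, hC]
      simp [π, am, Prod.ext_iff]
      rw [← show δ ^ 3 = algebraMap F K η from hη]
      constructor <;> ring
    have hdet := congrArg Matrix.det hcomp
    rw [Matrix.det_mul, Matrix.det_mul, hδdet, one_mul, Matrix.det_permute, Matrix.det_diagonal] at hdet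
    simp [Fin.prod_univ_six] at hdet
    have hs : ((Equiv.Perm.sign π : ℤˣ) : F) = 1 := by
      rcases Int.units_eq_one_or (Equiv.Perm.sign π) with h | h <;> rw [h] <;> push_cast
      · rfl
      · linear_combination -h2
    rw [hs, one_mul] at hdet
    have hηη : η * η = 1 := mul_left_cancel₀ hQdet (by rw [mul_one]; exact hdet.symm)
    exact hη1 (by linear_combination hF3 η hη0 - η * hηη)
  have hd3 : d ^ 3 = 1 := hF3 d hd0
  have hGσ : ∀ i j, G i j = d * σ (G i j) := by
    have h : (P : Matrix (Fin 6) (Fin 6) F) * G = (P : Matrix (Fin 6) (Fin 6) F) * (d • G.map σ) := by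
      rw [hPG, hgP, hd]
      show (algebraMap F (Matrix (Fin 6) (Fin 6) F) d) * _ = _
      rw [Algebra.algebraMap_eq_smul_one, Matrix.smul_mul, one_mul, Matrix.mul_smul]
    intro i j
    exact congrFun (congrFun (P.isUnit.mul_left_cancel h) i) j
  let s : GL (Fin 6) F := Units.map (algebraMap F (Matrix (Fin 6) (Fin 6) F)).toMonoidHom (Units.mk0 d hd0)
  have hsv : (s : Matrix (Fin 6) (Fin 6) F) = algebraMap F _ d := rfl
  have hsmem : s ∈ subfieldSubgroup F₀ P := by
    refine ⟨s, Subgroup.mem_sup_right ((mem_scalars_iff s).2 ⟨Units.mk0 d hd0,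
      Algebra.algebraMap_eq_smul_one d⟩), ?_⟩
    refine Units.ext ?_
    show ((P * s * P⁻¹ : GL (Fin 6) F) : Matrix (Fin 6) (Fin 6) F) = s
    rw [Units.val_mul, Units.val_mul, hsv, ← Algebra.commutes, Matrix.mul_assoc, ← Units.val_mul, mul_inv_cancel,
      Units.val_one, mul_one]
  have hsg : s * g ∈ subfieldSubgroup F₀ P := by
    refine mem_subfieldSubgroup_of_entries fun i j => ?_
    have hv : ((P⁻¹ * (s * g) * P : GL (Fin 6) F) : Matrix (Fin 6) (Fin 6) F) = d • G := by
      rw [hG]
      simp only [Units.val_mul, hsv, Algebra.algebraMap_eq_smul_one, Matrix.smul_mul, Matrix.mul_smul, one_mul,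
        Matrix.mul_assoc]
    rw [hv, Matrix.smul_apply, smul_eq_mul, hmem, map_mul, hσ d]
    linear_combination (-d) * hGσ i j
  have := mul_mem (inv_mem hsmem) hsg
  rwa [← mul_assoc, inv_mul_cancel, one_mul] at this

end CfsgLib.Geo.Asch.SU6Two
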