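import Mathlib
import Cfsg.Prelude.Def_GeometricClasses

/-! Primitive irreducible linear groups over finite fields: normal abelian subgroups act without fixed points. -/

set_option autoImplicit false

namespace CfsgLib.Geo.Primitive

open Cfsg Cfsg.Geo Matrix

variable {F : Type*} [Field F] {n : ℕ}


/-- `G` normalises `X`, element-wise. -/
def Inv {H : Type*} [Group H] (G X : Subgroup H) : Prop := ∀ g ∈ G, ∀ x ∈ X, g * x * g⁻¹ ∈ X

theorem inv_inf {H : Type*} [Group H] {G X Y : Subgroup H} (hX : Inv G X) (hY : Inv G Y) : Inv G (X ⊓ Y) :=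
  fun g hg x hx => ⟨hX g hg x hx.1, hY g hg x hx.2⟩

theorem inv_self {H : Type*} [Group H] (G : Subgroup H) : Inv G G :=
  fun _ hg _ hx => G.mul_mem (G.mul_mem hg hx) (G.inv_mem hg)

theorem inv_centralizer {H : Type*} [Group H] {G X : Subgroup H} (hX : Inv G X) :
    Inv G (Subgroup.centralizer (X : Set H)) := by
  intro g hg c hc
  rw [Subgroup.mem_centralizer_iff] at hc ⊢
  intro x hx
  have h := hc _ (hX g⁻¹ (inv_mem hg) x hx)
  rw [inv_inv] at h
  calc x * (g * c * g⁻¹) = g * (g⁻¹ * x * g * c) * g⁻¹ := by group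
    _ = g * (c * (g⁻¹ * x * g)) * g⁻¹ := by rw [h]
    _ = g * c * g⁻¹ * x := by group

theorem inv_sup {H : Type*} [Group H] {G X Y : Subgroup H} (hX : Inv G X) (hY : Inv G Y) : Inv G (X ⊔ Y) := by
  intro g hg x hx
  have h : (X ⊔ Y).map (MulAut.conj g).toMonoidHom ≤ X ⊔ Y := by
    rw [Subgroup.map_sup]
    apply sup_le_sup
    · rintro _ ⟨a, ha, rfl⟩; exact hX g hg a ha
    · rintro _ ⟨a, ha, rfl⟩; exact hY g hg a ha
  exact h ⟨x, hx, rfl⟩

theorem inv_commutator {H : Type*} [Group H] {G X Y : Subgroup H} (hX : Inv G X) (hY : Inv G Y) :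
    Inv G ⁅X, Y⁆ := by
  intro g hg x hx
  have h : (⁅X, Y⁆).map (MulAut.conj g).toMonoidHom ≤ ⁅X, Y⁆ := by
    rw [Subgroup.map_commutator]
    apply Subgroup.commutator_mono
    · rintro _ ⟨a, ha, rfl⟩; exact hX g hg a ha
    · rintro _ ⟨a, ha, rfl⟩; exact hY g hg a ha
  exact h ⟨x, hx, rfl⟩

theorem mem_fix {g : (Matrix.GeneralLinearGroup (Fin n) F)} {v : (Fin n → F)} :
    v ∈ Module.End.eigenspace (Matrix.toLin' (g : (Matrix (Fin n) (Fin n) F))) 1 ↔ (g : (Matrix (Fin n) (Fin n) F)) *ᵥ v = v := by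
  rw [Module.End.mem_eigenspace_iff, Matrix.toLin'_apply, one_smul]

theorem exists_pow_idem {M : Type*} [Monoid M] [Finite M] (x : M) : ∃ k, 0 < k ∧ x ^ k * x ^ k = x ^ k := by
  obtain ⟨i, j, hij, h⟩ := Finite.exists_ne_map_eq_of_infinite (fun m : ℕ => x ^ m)
  have key : ∀ i j : ℕ, i < j → x ^ i = x ^ j → ∃ k, 0 < k ∧ x ^ k * x ^ k = x ^ k := by
    intro i j hlt he
    obtain ⟨d, rfl⟩ : ∃ d, j = i + d := ⟨j - i, by omega⟩
    have hper : ∀ k, i ≤ k → ∀ m, x ^ (k + d * m) = x ^ k := by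
      intro k hk m
      induction m with
      | zero => simp
      | succ m ih =>
        rw [show k + d * (m + 1) = (i + d) + (k - i + d * m) by rw [Nat.mul_succ]; omega, pow_add, ← he, ← pow_add,
          show i + (k - i + d * m) = k + d * m by omega, ih]
    refine ⟨d * (i + 1), Nat.mul_pos (by omega) (Nat.succ_pos i), ?_⟩
    rw [← pow_add]
    exact hper _ (le_trans (Nat.le_succ i) (Nat.le_mul_of_pos_left _ (by omega))) _
  rcases Nat.lt_or_gt_of_ne hij with h' | h'
  · exact key i j h' h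
  · exact key j i h' h.symm

variable [Fintype F] (G : Subgroup (Matrix.GeneralLinearGroup (Fin n) F))
  (hirr : ActsIrreducibly (matrixSet G))
  (hprim : ∀ (m t : ℕ) (D : Fin t → Submodule F (Fin n → F)), 2 ≤ t → IsMDecomposition m D → ¬ G ≤ decompositionStabilizer D)

/-- Conjugation of matrices by a unit, as an algebra map. -/
noncomputable def conjHom (g : (Matrix.GeneralLinearGroup (Fin n) F)) : (Matrix (Fin n) (Fin n) F) →ₐ[F] (Matrix (Fin n) (Fin n) F) :=
  AlgHom.ofLinearMap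
    { toFun := fun a => (g : (Matrix (Fin n) (Fin n) F)) * a * ((g⁻¹ : (Matrix.GeneralLinearGroup (Fin n) F)) : (Matrix (Fin n) (Fin n) F))
      map_add' := fun a b => by rw [mul_add, add_mul]
      map_smul' := fun c a => by rw [RingHom.id_apply, Matrix.mul_smul, Matrix.smul_mul] }
    (by simp)
    (fun a b => by simp [mul_assoc])

theorem conjHom_apply (g : (Matrix.GeneralLinearGroup (Fin n) F)) (a : (Matrix (Fin n) (Fin n) F)) : conjHom g a = (g : (Matrix (Fin n) (Fin n) F)) * a * ((g⁻¹ : (Matrix.GeneralLinearGroup (Fin n) F)) : (Matrix (Fin n) (Fin n) F)) := rfl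

theorem invariant_eq_top_of_ne_bot {G : Subgroup (Matrix.GeneralLinearGroup (Fin n) F)} (hirr : ActsIrreducibly (matrixSet G)) (W : Submodule F (Fin n → F))
    (h : ∀ g ∈ G, W.map (Matrix.toLin' (g : (Matrix (Fin n) (Fin n) F))) ≤ W) (hW : W ≠ ⊥) : W = ⊤ := by
  refine (hirr W ?_).resolve_left hW
  rintro _ ⟨g, hg, rfl⟩
  exact h g hg

include hirr in
/-- Nilpotent elements of a commutative subalgebra normalised by an irreducible group vanish. -/
theorem eq_zero_of_isNilpotent (R : Subalgebra F (Matrix (Fin n) (Fin n) F)) (hc : ∀ x ∈ R, ∀ y ∈ R, x * y = y * x)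
    (hR : ∀ g ∈ G, ∀ x ∈ R, conjHom g x ∈ R) (x : (Matrix (Fin n) (Fin n) F)) (hx : x ∈ R) (hnil : IsNilpotent x) : x = 0 := by
  classical
  by_cases hn : n = 0
  · subst hn; exact Subsingleton.elim _ _
  haveI : Nonempty (Fin n) := ⟨⟨0, Nat.pos_of_ne_zero hn⟩⟩
  let W : Submodule F (Fin n → F) := ⨅ (y : (Matrix (Fin n) (Fin n) F)) (_ : y ∈ R ∧ IsNilpotent y), LinearMap.ker (Matrix.toLin' y)
  have hmem : ∀ v, v ∈ W ↔ ∀ y ∈ R, IsNilpotent y → y *ᵥ v = 0 := by
    intro v; simp [W, Submodule.mem_iInf, Matrix.toLin'_apply]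
  have hex : ∀ T : Finset (Matrix (Fin n) (Fin n) F), ∃ v : (Fin n → F), v ≠ 0 ∧ ∀ y ∈ T, y ∈ R → IsNilpotent y → y *ᵥ v = 0 := by
    intro T
    induction T using Finset.induction with
    | empty => obtain ⟨v, hv⟩ := exists_ne (0 : (Fin n → F)); exact ⟨v, hv, by simp⟩
    | insert y T hy ih =>
      obtain ⟨v, hv, hT⟩ := ih
      by_cases hy' : y ∈ R ∧ IsNilpotent y
      · obtain ⟨hyR, k, hk⟩ := hy'
        have hP : ∃ j, (y ^ j) *ᵥ v = 0 := ⟨k, by rw [hk, Matrix.zero_mulVec]⟩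
        obtain ⟨j, hj⟩ : ∃ j, Nat.find hP = j + 1 := by
          rcases h : Nat.find hP with _ | j
          · have := Nat.find_spec hP; rw [h, pow_zero, Matrix.one_mulVec] at this; exact absurd this hv
          · exact ⟨j, rfl⟩
        refine ⟨(y ^ j) *ᵥ v, Nat.find_min hP (by omega), fun z hz hzR hzn => ?_⟩
        rcases Finset.mem_insert.1 hz with rfl | hz
        · rw [Matrix.mulVec_mulVec, ← pow_succ', ← hj]; exact Nat.find_spec hP
        · rw [Matrix.mulVec_mulVec, hc z hzR _ (pow_mem hyR j), ← Matrix.mulVec_mulVec, hT z hz hzR hzn,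
            Matrix.mulVec_zero]
      · refine ⟨v, hv, fun z hz hzR hzn => ?_⟩
        rcases Finset.mem_insert.1 hz with rfl | hz
        · exact absurd ⟨hzR, hzn⟩ hy'
        · exact hT z hz hzR hzn
  have hW : W ≠ ⊥ := by
    obtain ⟨v, hv, h⟩ := hex Finset.univ
    exact fun hb => hv ((Submodule.eq_bot_iff W).1 hb v ((hmem v).2 fun y hy hn' => h y (Finset.mem_univ _) hy hn'))
  have htop := invariant_eq_top_of_ne_bot hirr W (fun g hg => by
    rintro _ ⟨w, hw, rfl⟩
    rw [hmem]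
    intro y hy hn'
    have h1 := (hmem w).1 hw (conjHom g⁻¹ y) (hR _ (inv_mem hg) y hy) (hn'.map (conjHom g⁻¹))
    rw [conjHom_apply, inv_inv, ← Matrix.mulVec_mulVec, ← Matrix.mulVec_mulVec] at h1
    have h2 := congrArg (fun u => (g : (Matrix (Fin n) (Fin n) F)) *ᵥ u) h1
    simpa [Matrix.mulVec_mulVec, ← mul_assoc, Matrix.toLin'_apply] using h2) hW
  refine Matrix.ext_of_mulVec_single fun i => ?_
  rw [Matrix.zero_mulVec]
  exact (hmem _).1 (htop ▸ Submodule.mem_top) x hx hnil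

include hirr hprim in
/-- A commutative subalgebra normalised by a primitive irreducible group has no idempotent but 0 and 1. -/
theorem idem_eq (R : Subalgebra F (Matrix (Fin n) (Fin n) F)) (hc : ∀ x ∈ R, ∀ y ∈ R, x * y = y * x)
    (hR : ∀ g ∈ G, ∀ x ∈ R, conjHom g x ∈ R) (f : (Matrix (Fin n) (Fin n) F)) (hf : f ∈ R) (hff : f * f = f) : f = 0 ∨ f = 1 := by
  classical
  by_contra h0
  push Not at h0
  let rk : (Matrix (Fin n) (Fin n) F) → ℕ := fun e => Module.finrank F (LinearMap.range (Matrix.toLin' e))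
  let S : Finset (Matrix (Fin n) (Fin n) F) := Finset.univ.filter (fun e => e ∈ R ∧ e * e = e ∧ e ≠ 0)
  have hfS : f ∈ S := by simp [S, hf, hff, h0.1]
  obtain ⟨e, he, hmin⟩ := S.exists_min_image rk ⟨f, hfS⟩
  simp only [S, Finset.mem_filter, Finset.mem_univ, true_and] at he
  obtain ⟨heR, hee, he0⟩ := he
  have hatom : ∀ y ∈ R, y * y = y → e * y = 0 ∨ e * y = e := by
    intro y hy hyy
    by_cases h : e * y = 0
    · exact Or.inl h
    refine Or.inr ?_
    have hidem : (e * y) * (e * y) = e * y := by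
      calc (e * y) * (e * y) = e * (y * e) * y := by simp [mul_assoc]
        _ = e * (e * y) * y := by rw [hc y hy e heR]
        _ = (e * e) * (y * y) := by simp [mul_assoc]
        _ = e * y := by rw [hee, hyy]
    have hle : LinearMap.range (Matrix.toLin' (e * y)) ≤ LinearMap.range (Matrix.toLin' e) := by
      rw [Matrix.toLin'_mul]; exact LinearMap.range_comp_le_range _ _
    have heq := Submodule.eq_of_le_of_finrank_le hle (hmin _ (by simp [S, mul_mem heR hy, hidem, h]))
    refine Matrix.ext_of_mulVec_single fun i => ?_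
    have : e *ᵥ Pi.single i 1 ∈ LinearMap.range (Matrix.toLin' (e * y)) := heq ▸ ⟨Pi.single i 1, by rw [Matrix.toLin'_apply]⟩
    obtain ⟨w, hw⟩ := this
    rw [Matrix.toLin'_apply] at hw
    have h2 := congrArg (fun u => y *ᵥ u) hw
    simp only [Matrix.mulVec_mulVec] at h2
    rw [show y * (e * y) = e * y by rw [← mul_assoc, hc y hy e heR, mul_assoc, hyy], hw, hc y hy e heR] at h2
    exact h2.symm
  let O : Finset (Matrix (Fin n) (Fin n) F) := Finset.univ.filter (fun e' => ∃ g ∈ G, conjHom g e = e')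
  have hO : ∀ e' ∈ O, ∃ g ∈ G, conjHom g e = e' := fun e' h => (Finset.mem_filter.1 h).2
  have hOR : ∀ e' ∈ O, e' ∈ R ∧ e' * e' = e' := by
    intro e' h
    obtain ⟨g, hg, rfl⟩ := hO e' h
    exact ⟨hR g hg e heR, by rw [← map_mul, hee]⟩
  have hatom' : ∀ e' ∈ O, ∀ y ∈ R, y * y = y → e' * y = 0 ∨ e' * y = e' := by
    intro e' h y hy hyy
    obtain ⟨g, hg, rfl⟩ := hO e' h
    have hy' : conjHom g (conjHom g⁻¹ y) = y := by simp [conjHom_apply, mul_assoc]
    rcases hatom (conjHom g⁻¹ y) (hR _ (inv_mem hg) y hy) (by rw [← map_mul, hyy]) with h | h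
    · left; have := congrArg (conjHom g) h; rwa [map_mul, hy', map_zero] at this
    · right; have := congrArg (conjHom g) h; rwa [map_mul, hy'] at this
  have horth : ∀ a ∈ O, ∀ b ∈ O, a ≠ b → a * b = 0 := by
    intro a ha b hb hne
    rcases hatom' a ha b (hOR b hb).1 (hOR b hb).2 with h | h
    · exact h
    rcases hatom' b hb a (hOR a ha).1 (hOR a ha).2 with h' | h'
    · rwa [← hc a (hOR a ha).1 b (hOR b hb).1] at h'
    · exact absurd (h.symm.trans ((hc a (hOR a ha).1 b (hOR b hb).1).trans h')) hne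
  let t := O.card
  let enum : Fin t ≃ O := O.equivFin.symm
  let D : Fin t → Submodule F (Fin n → F) := fun i => LinearMap.range (Matrix.toLin' (enum i : (Matrix (Fin n) (Fin n) F)))
  have hfixD : ∀ i, ∀ v ∈ D i, (enum i : (Matrix (Fin n) (Fin n) F)) *ᵥ v = v := by
    rintro i _ ⟨w, rfl⟩
    rw [Matrix.toLin'_apply, Matrix.mulVec_mulVec, (hOR _ (enum i).2).2]
  have hmap : ∀ g ∈ G, ∀ e' : (Matrix (Fin n) (Fin n) F), (LinearMap.range (Matrix.toLin' e')).map (Matrix.toLin' (g : (Matrix (Fin n) (Fin n) F))) =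
      LinearMap.range (Matrix.toLin' (conjHom g e')) := by
    intro g hg e'
    apply le_antisymm
    · rintro _ ⟨_, ⟨w, rfl⟩, rfl⟩
      exact ⟨(g : (Matrix (Fin n) (Fin n) F)) *ᵥ w, by simp [conjHom_apply, Matrix.toLin'_apply, Matrix.mulVec_mulVec, mul_assoc]⟩
    · rintro _ ⟨w, rfl⟩
      exact ⟨_, ⟨((g⁻¹ : (Matrix.GeneralLinearGroup (Fin n) F)) : (Matrix (Fin n) (Fin n) F)) *ᵥ w, rfl⟩, by simp [conjHom_apply, Matrix.toLin'_apply, Matrix.mulVec_mulVec, mul_assoc]⟩
  have hconjO : ∀ g ∈ G, ∀ e' ∈ O, conjHom g e' ∈ O := by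
    intro g hg e' h
    obtain ⟨k, hk, rfl⟩ := hO e' h
    exact Finset.mem_filter.2 ⟨Finset.mem_univ _, g * k, mul_mem hg hk, by simp [conjHom_apply, mul_assoc]⟩
  have heO : e ∈ O := Finset.mem_filter.2 ⟨Finset.mem_univ _, 1, one_mem _, by simp [conjHom_apply]⟩
  have hind : iSupIndep D := by
    rw [iSupIndep_def]
    intro i
    rw [Submodule.disjoint_def]
    intro v hv hv'
    have hk : (⨆ j, ⨆ (_ : j ≠ i), D j) ≤ LinearMap.ker (Matrix.toLin' (enum i : (Matrix (Fin n) (Fin n) F))) := by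
      refine iSup₂_le fun j hj => ?_
      rintro _ ⟨w, rfl⟩
      rw [LinearMap.mem_ker, Matrix.toLin'_apply, Matrix.toLin'_apply, Matrix.mulVec_mulVec,
        horth _ (enum i).2 _ (enum j).2 (fun h => hj (enum.injective (Subtype.ext h.symm))), Matrix.zero_mulVec]
    have := hk hv'
    rw [LinearMap.mem_ker, Matrix.toLin'_apply, hfixD i v hv] at this
    exact this
  have hge : ∀ g ∈ G, ∀ i, ∃ j, (enum j : (Matrix (Fin n) (Fin n) F)) = conjHom g (enum i : (Matrix (Fin n) (Fin n) F)) := fun g hg i =>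
    ⟨enum.symm ⟨_, hconjO g hg _ (enum i).2⟩, by rw [Equiv.apply_symm_apply]⟩
  have hne0 : ∃ v, e *ᵥ v ≠ 0 := by
    by_contra hall
    push Not at hall
    exact he0 (Matrix.ext_of_mulVec_single fun i => by rw [hall, Matrix.zero_mulVec])
  have htop : iSup D = ⊤ := by
    refine invariant_eq_top_of_ne_bot hirr _ (fun g hg => ?_) ?_
    · rw [Submodule.map_iSup]
      refine iSup_le fun i => ?_
      obtain ⟨j, hj⟩ := hge g hg i
      rw [show (D i).map (Matrix.toLin' (g : (Matrix (Fin n) (Fin n) F))) = D j by show _ = LinearMap.range _; rw [hj]; exact hmap g hg _]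
      exact le_iSup D j
    · obtain ⟨v, hv⟩ := hne0
      intro hb
      have : e *ᵥ v ∈ iSup D := by
        refine Submodule.mem_iSup_of_mem (enum.symm ⟨e, heO⟩) ?_
        show _ ∈ LinearMap.range _
        rw [Equiv.apply_symm_apply]
        exact ⟨v, Matrix.toLin'_apply e v⟩
      rw [hb, Submodule.mem_bot] at this
      exact hv this
  have hrk : ∀ i, Module.finrank F (D i) = rk e := by
    intro i
    obtain ⟨g, hg, hge'⟩ := hO _ (enum i).2
    show Module.finrank F (LinearMap.range (Matrix.toLin' (enum i : (Matrix (Fin n) (Fin n) F)))) = _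
    rw [← hge', ← hmap g hg e]
    refine (LinearEquiv.finrank_eq (Submodule.equivMapOfInjective _ ?_ _)).symm
    intro a b hab
    simp only [Matrix.toLin'_apply] at hab
    have := congrArg (fun u => ((g⁻¹ : (Matrix.GeneralLinearGroup (Fin n) F)) : (Matrix (Fin n) (Fin n) F)) *ᵥ u) hab
    simpa [Matrix.mulVec_mulVec] using this
  by_cases ht : 2 ≤ t
  · refine hprim (rk e) t D ht ⟨ht, ?_, hrk, hind, htop⟩ (fun g hg => ?_)
    · obtain ⟨v, hv⟩ := hne0
      refine Module.finrank_pos_iff_exists_ne_zero.2 ⟨⟨e *ᵥ v, v, Matrix.toLin'_apply e v⟩, ?_⟩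
      exact fun h => hv (congrArg Subtype.val h)
    · let σ : Fin t → Fin t := fun i => (hge g hg i).choose
      have hσ : ∀ i, (enum (σ i) : (Matrix (Fin n) (Fin n) F)) = conjHom g (enum i : (Matrix (Fin n) (Fin n) F)) := fun i => (hge g hg i).choose_spec
      have hinj : Function.Injective σ := by
        intro a b hab
        have h := (hσ a).symm.trans ((congrArg (fun z => (enum z : (Matrix (Fin n) (Fin n) F))) hab).trans (hσ b))
        have h2 := congrArg (conjHom g⁻¹) h
        apply enum.injective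
        apply Subtype.ext
        simpa [conjHom_apply, mul_assoc] using h2
      refine ⟨Equiv.ofBijective σ ⟨hinj, Finite.injective_iff_surjective.1 hinj⟩, fun i => ?_⟩
      show _ = LinearMap.range (Matrix.toLin' (enum (σ i) : (Matrix (Fin n) (Fin n) F)))
      rw [hσ i]
      exact hmap g hg _
  · have ht1 : ∀ i, (enum i : (Matrix (Fin n) (Fin n) F)) = e := fun i => by
      have h := Finset.card_le_one.1 (show O.card ≤ 1 by omega) _ (enum i).2 _ heO
      exact h
    have hr : LinearMap.range (Matrix.toLin' e) = ⊤ := by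
      refine top_le_iff.1 (htop ▸ iSup_le fun i => ?_)
      show LinearMap.range _ ≤ _
      rw [ht1 i]
    have hrkf := hmin f hfS
    simp only [rk] at hrkf
    rw [hr, finrank_top] at hrkf
    have : LinearMap.range (Matrix.toLin' f) = ⊤ := Submodule.eq_top_of_finrank_eq (le_antisymm (Submodule.finrank_le _) hrkf)
    apply h0.2
    refine Matrix.ext_of_mulVec_single fun i => ?_
    obtain ⟨w, hw⟩ : Pi.single i 1 ∈ LinearMap.range (Matrix.toLin' f) := this ▸ Submodule.mem_top
    rw [Matrix.toLin'_apply] at hw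
    rw [Matrix.one_mulVec, ← hw, Matrix.mulVec_mulVec, hff]

include hirr hprim in
/-- A non-identity element of an abelian subgroup normalised by a primitive irreducible group fixes only 0. -/
theorem fix_eq_bot (A : Subgroup (Matrix.GeneralLinearGroup (Fin n) F)) (hA : Inv G A) (hcomm : ∀ a ∈ A, ∀ b ∈ A, a * b = b * a)
    (a : (Matrix.GeneralLinearGroup (Fin n) F)) (ha : a ∈ A) (ha1 : a ≠ 1) :
    Module.End.eigenspace (Matrix.toLin' (a : (Matrix (Fin n) (Fin n) F))) 1 = ⊥ := by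
  set R : Subalgebra F (Matrix (Fin n) (Fin n) F) := Algebra.adjoin F (matrixSet A) with hRdef
  have hmemA : ∀ b ∈ A, (b : (Matrix (Fin n) (Fin n) F)) ∈ R := fun b hb => Algebra.subset_adjoin ⟨b, hb, rfl⟩
  have hc : ∀ x ∈ R, ∀ y ∈ R, x * y = y * x := by
    letI := Algebra.adjoinCommRingOfComm F (s := matrixSet A) (by
      rintro _ ⟨b, hb, rfl⟩ _ ⟨c, hc, rfl⟩
      show (b : (Matrix (Fin n) (Fin n) F)) * c = c * b
      rw [← Units.val_mul, hcomm b hb c hc, Units.val_mul])
    intro x hx y hy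
    exact congrArg Subtype.val (mul_comm (⟨x, hx⟩ : R) ⟨y, hy⟩)
  have hR : ∀ g ∈ G, ∀ x ∈ R, conjHom g x ∈ R := by
    intro g hg
    have : R.map (conjHom g) ≤ R := by
      rw [hRdef, AlgHom.map_adjoin]
      refine Algebra.adjoin_mono ?_
      rintro _ ⟨_, ⟨b, hb, rfl⟩, rfl⟩
      exact ⟨g * b * g⁻¹, hA g hg b hb, by simp [conjHom_apply]⟩
    intro x hx
    exact this ⟨x, hx, rfl⟩
  set x : (Matrix (Fin n) (Fin n) F) := (a : (Matrix (Fin n) (Fin n) F)) - 1 with hxdef
  have hx : x ∈ R := sub_mem (hmemA a ha) (one_mem R)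
  obtain ⟨k, hk, hkk⟩ := exists_pow_idem x
  rcases idem_eq G hirr hprim R hc hR (x ^ k) (pow_mem hx k) hkk with h | h
  · exfalso
    have h0 := eq_zero_of_isNilpotent G hirr R hc hR x hx ⟨k, h⟩
    exact ha1 (Units.ext (sub_eq_zero.1 h0))
  · rw [Submodule.eq_bot_iff]
    intro v hv
    rw [mem_fix] at hv
    have hxv : x *ᵥ v = 0 := by rw [hxdef, Matrix.sub_mulVec, hv, Matrix.one_mulVec, sub_self]
    rw [← Matrix.one_mulVec v, ← h, ← Nat.succ_pred_eq_of_pos hk, pow_succ, ← Matrix.mulVec_mulVec, hxv,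
      Matrix.mulVec_zero]

/-- The commutator bound for fixed spaces. -/
theorem two_fix_le (g x : (Matrix.GeneralLinearGroup (Fin n) F)) :
    2 * Module.finrank F (Module.End.eigenspace (Matrix.toLin' (g : (Matrix (Fin n) (Fin n) F))) 1) ≤
      n + Module.finrank F (Module.End.eigenspace (Matrix.toLin' ((g * x * g⁻¹ * x⁻¹ : (Matrix.GeneralLinearGroup (Fin n) F)) : (Matrix (Fin n) (Fin n) F))) 1) := by
  set E := Module.End.eigenspace (Matrix.toLin' (g : (Matrix (Fin n) (Fin n) F))) 1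
  set E' := E.map (Matrix.toLin' (x : (Matrix (Fin n) (Fin n) F)))
  have hdim : Module.finrank F E' = Module.finrank F E := by
    refine (LinearEquiv.finrank_eq (Submodule.equivMapOfInjective _ ?_ _)).symm
    intro a b hab
    simp only [Matrix.toLin'_apply] at hab
    have := congrArg (fun u => ((x⁻¹ : (Matrix.GeneralLinearGroup (Fin n) F)) : (Matrix (Fin n) (Fin n) F)) *ᵥ u) hab
    simpa [Matrix.mulVec_mulVec] using this
  have hle : E ⊓ E' ≤ Module.End.eigenspace (Matrix.toLin' ((g * x * g⁻¹ * x⁻¹ : (Matrix.GeneralLinearGroup (Fin n) F)) : (Matrix (Fin n) (Fin n) F))) 1 := by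
    rintro v ⟨hv, u, hu, huv⟩
    rw [mem_fix]
    have hv' := mem_fix.1 hv
    have hu' := mem_fix.1 hu
    rw [Matrix.toLin'_apply] at huv
    have h1 : ((g⁻¹ : (Matrix.GeneralLinearGroup (Fin n) F)) : (Matrix (Fin n) (Fin n) F)) *ᵥ u = u := by
      conv_lhs => rw [← hu']
      rw [Matrix.mulVec_mulVec, Units.inv_mul, Matrix.one_mulVec]
    subst huv
    rw [Units.val_mul, Units.val_mul, Units.val_mul, ← Matrix.mulVec_mulVec,
      show ((x⁻¹ : (Matrix.GeneralLinearGroup (Fin n) F)) : (Matrix (Fin n) (Fin n) F)) *ᵥ ((x : (Matrix (Fin n) (Fin n) F)) *ᵥ u) = u by rw [Matrix.mulVec_mulVec, Units.inv_mul, Matrix.one_mulVec],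
      ← Matrix.mulVec_mulVec, h1, ← Matrix.mulVec_mulVec, hv']
  have h1 := Submodule.finrank_sup_add_finrank_inf_eq E E'
  have h2 := Submodule.finrank_mono hle
  have h3 := Submodule.finrank_le (E ⊔ E')
  rw [Module.finrank_fin_fun] at h3
  omega

end CfsgLib.Geo.Primitive
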